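import Groth.Agent.Lib.helper4.G5.Defs

/-!
# Genus one classification on 5 indices: generated case analysis, part 0 (helper4)
-/

set_option autoImplicit false
set_option maxHeartbeats 1000000
set_option linter.unusedVariables false

namespace Groth.Agent.Lib.helper4.G5

open Groth.Agent.Lib.helper4

theorem nd_9 (T : Models.NumericalType 5)
    (hG : NTGood T)
    (hmax : ∀ j, T.m j ≤ T.m 0)
    (e_0_1 : T.picMatrix 0 1 = 1)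
    (e_0_2 : T.picMatrix 0 2 = 1)
    (e_1_0 : T.picMatrix 1 0 = 1)
    (e_1_2 : T.picMatrix 1 2 = 0)
    (e_2_0 : T.picMatrix 2 0 = 1)
    (e_2_1 : T.picMatrix 2 1 = 0)
    (cl : ∀ a b : Fin 5, a.val < 2 → 3 ≤ b.val → T.picMatrix a b = 0) :
    Goal T := by
  obtain ⟨hg0, hdA, hdP, hnn, hrow, hsym, hpair⟩ := ntgood_data T (by norm_num) hG
  have hm_0 := T.m_pos 0
  have hw_0 := T.w_pos 0
  have hm_1 := T.m_pos 1
  have hw_1 := T.w_pos 1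
  have hm_2 := T.m_pos 2
  have hw_2 := T.w_pos 2
  have hx_1 := hmax 1
  have hx_2 := hmax 2
  have Z_0_3 := cl 0 3 (by decide) (by decide)
  have Z_0_4 := cl 0 4 (by decide) (by decide)
  have Z_1_3 := cl 1 3 (by decide) (by decide)
  have Z_1_4 := cl 1 4 (by decide) (by decide)
  have N_2_3 := mul_nonneg (hnn 2 3 (by decide)) (T.m_pos 3).le
  have N_2_4 := mul_nonneg (hnn 2 4 (by decide)) (T.m_pos 4).le
  have R_0 := hrow 0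
  rw [Fin.sum_univ_five, hdP 0, e_0_1, e_0_2, Z_0_3, Z_0_4] at R_0
  have R_1 := hrow 1
  rw [Fin.sum_univ_five, hdP 1, e_1_0, e_1_2, Z_1_3, Z_1_4] at R_1
  have R_2 := hrow 2
  rw [Fin.sum_univ_five, hdP 2, e_2_0, e_2_1] at R_2
  have S_0_1 := hsym 0 1
  rw [e_0_1, e_1_0] at S_0_1
  have S_0_2 := hsym 0 2
  rw [e_0_2, e_2_0] at S_0_2
  have S_1_2 := hsym 1 2
  rw [e_1_2, e_2_1] at S_1_2
  exfalso
  omega

theorem nd_13 (T : Models.NumericalType 5)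
    (hG : NTGood T)
    (hmax : ∀ j, T.m j ≤ T.m 0)
    (e_0_1 : T.picMatrix 0 1 = 1)
    (e_0_2 : T.picMatrix 0 2 = 1)
    (e_0_3 : T.picMatrix 0 3 = 0)
    (e_1_0 : T.picMatrix 1 0 = 1)
    (e_1_2 : T.picMatrix 1 2 = 0)
    (e_1_3 : T.picMatrix 1 3 = 1)
    (e_2_0 : T.picMatrix 2 0 = 1)
    (e_2_1 : T.picMatrix 2 1 = 0)
    (e_2_3 : T.picMatrix 2 3 = 0)
    (e_3_0 : T.picMatrix 3 0 = 0)
    (e_3_1 : T.picMatrix 3 1 = 1)
    (e_3_2 : T.picMatrix 3 2 = 0)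
    (cl : ∀ a b : Fin 5, a.val < 3 → 4 ≤ b.val → T.picMatrix a b = 0) :
    Goal T := by
  obtain ⟨hg0, hdA, hdP, hnn, hrow, hsym, hpair⟩ := ntgood_data T (by norm_num) hG
  have hm_0 := T.m_pos 0
  have hw_0 := T.w_pos 0
  have hm_1 := T.m_pos 1
  have hw_1 := T.w_pos 1
  have hm_2 := T.m_pos 2
  have hw_2 := T.w_pos 2
  have hm_3 := T.m_pos 3
  have hw_3 := T.w_pos 3
  have hx_1 := hmax 1
  have hx_2 := hmax 2
  have hx_3 := hmax 3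
  have Z_0_4 := cl 0 4 (by decide) (by decide)
  have Z_1_4 := cl 1 4 (by decide) (by decide)
  have Z_2_4 := cl 2 4 (by decide) (by decide)
  have N_3_4 := mul_nonneg (hnn 3 4 (by decide)) (T.m_pos 4).le
  have R_0 := hrow 0
  rw [Fin.sum_univ_five, hdP 0, e_0_1, e_0_2, e_0_3, Z_0_4] at R_0
  have R_1 := hrow 1
  rw [Fin.sum_univ_five, hdP 1, e_1_0, e_1_2, e_1_3, Z_1_4] at R_1
  have R_2 := hrow 2
  rw [Fin.sum_univ_five, hdP 2, e_2_0, e_2_1, e_2_3, Z_2_4] at R_2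
  have R_3 := hrow 3
  rw [Fin.sum_univ_five, hdP 3, e_3_0, e_3_1, e_3_2] at R_3
  have S_0_1 := hsym 0 1
  rw [e_0_1, e_1_0] at S_0_1
  have S_0_2 := hsym 0 2
  rw [e_0_2, e_2_0] at S_0_2
  have S_0_3 := hsym 0 3
  rw [e_0_3, e_3_0] at S_0_3
  have S_1_2 := hsym 1 2
  rw [e_1_2, e_2_1] at S_1_2
  have S_1_3 := hsym 1 3
  rw [e_1_3, e_3_1] at S_1_3
  have S_2_3 := hsym 2 3
  rw [e_2_3, e_3_2] at S_2_3
  exfalso
  omega

theorem nd_15 (T : Models.NumericalType 5)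
    (hG : NTGood T)
    (hmax : ∀ j, T.m j ≤ T.m 0)
    (e_0_1 : T.picMatrix 0 1 = 1)
    (e_0_2 : T.picMatrix 0 2 = 1)
    (e_0_3 : T.picMatrix 0 3 = 0)
    (e_0_4 : T.picMatrix 0 4 = 0)
    (e_1_0 : T.picMatrix 1 0 = 1)
    (e_1_2 : T.picMatrix 1 2 = 0)
    (e_1_3 : T.picMatrix 1 3 = 1)
    (e_1_4 : T.picMatrix 1 4 = 0)
    (e_2_0 : T.picMatrix 2 0 = 1)
    (e_2_1 : T.picMatrix 2 1 = 0)
    (e_2_3 : T.picMatrix 2 3 = 0)
    (e_2_4 : T.picMatrix 2 4 = 1)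
    (e_3_0 : T.picMatrix 3 0 = 0)
    (e_3_1 : T.picMatrix 3 1 = 1)
    (e_3_2 : T.picMatrix 3 2 = 0)
    (e_3_4 : T.picMatrix 3 4 = 1)
    (e_4_0 : T.picMatrix 4 0 = 0)
    (e_4_1 : T.picMatrix 4 1 = 0)
    (e_4_2 : T.picMatrix 4 2 = 1)
    (e_4_3 : T.picMatrix 4 3 = 1)
    (cl : ∀ a b : Fin 5, a.val < 2 → 5 ≤ b.val → T.picMatrix a b = 0) :
    Goal T := by
  obtain ⟨hg0, hdA, hdP, hnn, hrow, hsym, hpair⟩ := ntgood_data T (by norm_num) hG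
  have hm_0 := T.m_pos 0
  have hw_0 := T.w_pos 0
  have hm_1 := T.m_pos 1
  have hw_1 := T.w_pos 1
  have hm_2 := T.m_pos 2
  have hw_2 := T.w_pos 2
  have hm_3 := T.m_pos 3
  have hw_3 := T.w_pos 3
  have hm_4 := T.m_pos 4
  have hw_4 := T.w_pos 4
  have hx_1 := hmax 1
  have hx_2 := hmax 2
  have hx_3 := hmax 3
  have hx_4 := hmax 4
  have R_0 := hrow 0
  rw [Fin.sum_univ_five, hdP 0, e_0_1, e_0_2, e_0_3, e_0_4] at R_0
  have R_1 := hrow 1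
  rw [Fin.sum_univ_five, hdP 1, e_1_0, e_1_2, e_1_3, e_1_4] at R_1
  have R_2 := hrow 2
  rw [Fin.sum_univ_five, hdP 2, e_2_0, e_2_1, e_2_3, e_2_4] at R_2
  have R_3 := hrow 3
  rw [Fin.sum_univ_five, hdP 3, e_3_0, e_3_1, e_3_2, e_3_4] at R_3
  have R_4 := hrow 4
  rw [Fin.sum_univ_five, hdP 4, e_4_0, e_4_1, e_4_2, e_4_3] at R_4
  have S_0_1 := hsym 0 1
  rw [e_0_1, e_1_0] at S_0_1
  have S_0_2 := hsym 0 2
  rw [e_0_2, e_2_0] at S_0_2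
  have S_0_3 := hsym 0 3
  rw [e_0_3, e_3_0] at S_0_3
  have S_0_4 := hsym 0 4
  rw [e_0_4, e_4_0] at S_0_4
  have S_1_2 := hsym 1 2
  rw [e_1_2, e_2_1] at S_1_2
  have S_1_3 := hsym 1 3
  rw [e_1_3, e_3_1] at S_1_3
  have S_1_4 := hsym 1 4
  rw [e_1_4, e_4_1] at S_1_4
  have S_2_3 := hsym 2 3
  rw [e_2_3, e_3_2] at S_2_3
  have S_2_4 := hsym 2 4
  rw [e_2_4, e_4_2] at S_2_4
  have S_3_4 := hsym 3 4
  rw [e_3_4, e_4_3] at S_3_4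
  have D_0 := hdA 0
  have A_0_1 := nt_a_eq T 0 1
  rw [e_0_1] at A_0_1
  have A_0_2 := nt_a_eq T 0 2
  rw [e_0_2] at A_0_2
  have A_0_3 := nt_a_eq T 0 3
  rw [e_0_3] at A_0_3
  have A_0_4 := nt_a_eq T 0 4
  rw [e_0_4] at A_0_4
  have D_1 := hdA 1
  have A_1_0 := nt_a_eq T 1 0
  rw [e_1_0] at A_1_0
  have A_1_2 := nt_a_eq T 1 2
  rw [e_1_2] at A_1_2
  have A_1_3 := nt_a_eq T 1 3
  rw [e_1_3] at A_1_3
  have A_1_4 := nt_a_eq T 1 4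
  rw [e_1_4] at A_1_4
  have D_2 := hdA 2
  have A_2_0 := nt_a_eq T 2 0
  rw [e_2_0] at A_2_0
  have A_2_1 := nt_a_eq T 2 1
  rw [e_2_1] at A_2_1
  have A_2_3 := nt_a_eq T 2 3
  rw [e_2_3] at A_2_3
  have A_2_4 := nt_a_eq T 2 4
  rw [e_2_4] at A_2_4
  have D_3 := hdA 3
  have A_3_0 := nt_a_eq T 3 0
  rw [e_3_0] at A_3_0
  have A_3_1 := nt_a_eq T 3 1
  rw [e_3_1] at A_3_1
  have A_3_2 := nt_a_eq T 3 2
  rw [e_3_2] at A_3_2
  have A_3_4 := nt_a_eq T 3 4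
  rw [e_3_4] at A_3_4
  have D_4 := hdA 4
  have A_4_0 := nt_a_eq T 4 0
  rw [e_4_0] at A_4_0
  have A_4_1 := nt_a_eq T 4 1
  rw [e_4_1] at A_4_1
  have A_4_2 := nt_a_eq T 4 2
  rw [e_4_2] at A_4_2
  have A_4_3 := nt_a_eq T 4 3
  rw [e_4_3] at A_4_3
  refine goal_of_indices T hg0 0 1 3 4 2 (by decide) (T.m 0) (T.w 0) ?_
  unfold Goali
  exact Or.inl ⟨by omega, by omega, by omega, by omega, by omega, by omega, by omega, by omega, by omega, by omega, by omega, by omega, by omega, by omega, by omega, by omega, by omega, by omega, by omega, by omega, by omega, by omega, by omega, by omega, by omega⟩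

theorem ex_14 (T : Models.NumericalType 5)
    (hG : NTGood T)
    (hmax : ∀ j, T.m j ≤ T.m 0)
    (e_0_1 : T.picMatrix 0 1 = 1)
    (e_0_2 : T.picMatrix 0 2 = 1)
    (e_0_3 : T.picMatrix 0 3 = 0)
    (e_1_0 : T.picMatrix 1 0 = 1)
    (e_1_2 : T.picMatrix 1 2 = 0)
    (e_1_3 : T.picMatrix 1 3 = 1)
    (e_2_0 : T.picMatrix 2 0 = 1)
    (e_2_1 : T.picMatrix 2 1 = 0)
    (e_2_3 : T.picMatrix 2 3 = 0)
    (e_3_0 : T.picMatrix 3 0 = 0)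
    (e_3_1 : T.picMatrix 3 1 = 1)
    (e_3_2 : T.picMatrix 3 2 = 0)
    (cl : ∀ a b : Fin 5, a.val < 2 → 5 ≤ b.val → T.picMatrix a b = 0)
    (z : ∀ a : Fin 5, a.val < 2 → T.picMatrix a 4 = 0)
    (hne : T.picMatrix 2 4 ≠ 0) :
    Goal T := by
  have e_0_4 : T.picMatrix 0 4 = 0 := z 0 (by decide)
  have e_4_0 : T.picMatrix 4 0 = 0 := nt_pic_zero_symm T 0 4 e_0_4
  have e_1_4 : T.picMatrix 1 4 = 0 := z 1 (by decide)
  have e_4_1 : T.picMatrix 4 1 = 0 := nt_pic_zero_symm T 1 4 e_1_4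
  obtain ⟨hg0, hdA, hdP, hnn, hrow, hsym, hpair⟩ := ntgood_data T (by norm_num) hG
  have hm_0 := T.m_pos 0
  have hw_0 := T.w_pos 0
  have hm_1 := T.m_pos 1
  have hw_1 := T.w_pos 1
  have hm_2 := T.m_pos 2
  have hw_2 := T.w_pos 2
  have hm_3 := T.m_pos 3
  have hw_3 := T.w_pos 3
  have hm_4 := T.m_pos 4
  have hw_4 := T.w_pos 4
  have hx_1 := hmax 1
  have hx_2 := hmax 2
  have hx_3 := hmax 3
  have hx_4 := hmax 4
  have N_2_4 := mul_nonneg (hnn 2 4 (by decide)) (T.m_pos 4).le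
  have N_4_2 := mul_nonneg (hnn 4 2 (by decide)) (T.m_pos 2).le
  have N_3_4 := mul_nonneg (hnn 3 4 (by decide)) (T.m_pos 4).le
  have N_4_3 := mul_nonneg (hnn 4 3 (by decide)) (T.m_pos 3).le
  have R_0 := hrow 0
  rw [Fin.sum_univ_five, hdP 0, e_0_1, e_0_2, e_0_3, e_0_4] at R_0
  have R_1 := hrow 1
  rw [Fin.sum_univ_five, hdP 1, e_1_0, e_1_2, e_1_3, e_1_4] at R_1
  have R_2 := hrow 2
  rw [Fin.sum_univ_five, hdP 2, e_2_0, e_2_1, e_2_3] at R_2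
  have R_3 := hrow 3
  rw [Fin.sum_univ_five, hdP 3, e_3_0, e_3_1, e_3_2] at R_3
  have R_4 := hrow 4
  rw [Fin.sum_univ_five, hdP 4, e_4_0, e_4_1] at R_4
  have S_0_1 := hsym 0 1
  rw [e_0_1, e_1_0] at S_0_1
  have S_0_2 := hsym 0 2
  rw [e_0_2, e_2_0] at S_0_2
  have S_0_3 := hsym 0 3
  rw [e_0_3, e_3_0] at S_0_3
  have S_0_4 := hsym 0 4
  rw [e_0_4, e_4_0] at S_0_4
  have S_1_2 := hsym 1 2
  rw [e_1_2, e_2_1] at S_1_2
  have S_1_3 := hsym 1 3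
  rw [e_1_3, e_3_1] at S_1_3
  have S_1_4 := hsym 1 4
  rw [e_1_4, e_4_1] at S_1_4
  have S_2_3 := hsym 2 3
  rw [e_2_3, e_3_2] at S_2_3
  have S_2_4 := hsym 2 4
  have S_3_4 := hsym 3 4
  have Q_2 := hpair 2 4 (by decide)
  have Q_3 := hpair 3 4 (by decide)
  generalize e_2_4 : T.picMatrix 2 4 = x_2 at *
  generalize e_4_2 : T.picMatrix 4 2 = y_2 at *
  generalize e_3_4 : T.picMatrix 3 4 = x_3 at *
  generalize e_4_3 : T.picMatrix 4 3 = y_3 at *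
  rcases Q_2 with ⟨rfl, rfl⟩ | ⟨rfl, rfl⟩ | ⟨rfl, rfl⟩ | ⟨rfl, rfl⟩ | ⟨rfl, rfl⟩ | ⟨rfl, rfl⟩ | ⟨rfl, rfl⟩ | ⟨rfl, rfl⟩ | ⟨rfl, rfl⟩
  · exact absurd rfl hne
  · -- (2,4) = (1,1)
    rcases Q_3 with ⟨rfl, rfl⟩ | ⟨rfl, rfl⟩ | ⟨rfl, rfl⟩ | ⟨rfl, rfl⟩ | ⟨rfl, rfl⟩ | ⟨rfl, rfl⟩ | ⟨rfl, rfl⟩ | ⟨rfl, rfl⟩ | ⟨rfl, rfl⟩
    · -- (3,4) = (0,0)
      omega
    · -- (3,4) = (1,1)
      exact nd_15 T hG hmax e_0_1 e_0_2 e_0_3 e_0_4 e_1_0 e_1_2 e_1_3 e_1_4 e_2_0 e_2_1 e_2_3 e_2_4 e_3_0 e_3_1 e_3_2 e_3_4 e_4_0 e_4_1 e_4_2 e_4_3 cl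
    · -- (3,4) = (1,2)
      omega
    · -- (3,4) = (2,1)
      omega
    · -- (3,4) = (1,3)
      omega
    · -- (3,4) = (3,1)
      omega
    · -- (3,4) = (1,4)
      omega
    · -- (3,4) = (4,1)
      omega
    · -- (3,4) = (2,2)
      omega
  · -- (2,4) = (1,2)
    rcases Q_3 with ⟨rfl, rfl⟩ | ⟨rfl, rfl⟩ | ⟨rfl, rfl⟩ | ⟨rfl, rfl⟩ | ⟨rfl, rfl⟩ | ⟨rfl, rfl⟩ | ⟨rfl, rfl⟩ | ⟨rfl, rfl⟩ | ⟨rfl, rfl⟩
    · -- (3,4) = (0,0)
      omega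
    · -- (3,4) = (1,1)
      omega
    · -- (3,4) = (1,2)
      omega
    · -- (3,4) = (2,1)
      omega
    · -- (3,4) = (1,3)
      omega
    · -- (3,4) = (3,1)
      omega
    · -- (3,4) = (1,4)
      omega
    · -- (3,4) = (4,1)
      omega
    · -- (3,4) = (2,2)
      omega
  · -- (2,4) = (2,1)
    rcases Q_3 with ⟨rfl, rfl⟩ | ⟨rfl, rfl⟩ | ⟨rfl, rfl⟩ | ⟨rfl, rfl⟩ | ⟨rfl, rfl⟩ | ⟨rfl, rfl⟩ | ⟨rfl, rfl⟩ | ⟨rfl, rfl⟩ | ⟨rfl, rfl⟩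
    · -- (3,4) = (0,0)
      omega
    · -- (3,4) = (1,1)
      omega
    · -- (3,4) = (1,2)
      omega
    · -- (3,4) = (2,1)
      omega
    · -- (3,4) = (1,3)
      omega
    · -- (3,4) = (3,1)
      omega
    · -- (3,4) = (1,4)
      omega
    · -- (3,4) = (4,1)
      omega
    · -- (3,4) = (2,2)
      omega
  · omega
  · omega
  · omega
  · omega
  · omega

theorem nd_12 (T : Models.NumericalType 5)
    (hG : NTGood T)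
    (hmax : ∀ j, T.m j ≤ T.m 0)
    (e_0_1 : T.picMatrix 0 1 = 1)
    (e_0_2 : T.picMatrix 0 2 = 1)
    (e_0_3 : T.picMatrix 0 3 = 0)
    (e_1_0 : T.picMatrix 1 0 = 1)
    (e_1_2 : T.picMatrix 1 2 = 0)
    (e_1_3 : T.picMatrix 1 3 = 1)
    (e_2_0 : T.picMatrix 2 0 = 1)
    (e_2_1 : T.picMatrix 2 1 = 0)
    (e_2_3 : T.picMatrix 2 3 = 0)
    (e_3_0 : T.picMatrix 3 0 = 0)
    (e_3_1 : T.picMatrix 3 1 = 1)
    (e_3_2 : T.picMatrix 3 2 = 0)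
    (cl : ∀ a b : Fin 5, a.val < 2 → 4 ≤ b.val → T.picMatrix a b = 0) :
    Goal T := by
  by_cases hc : ∀ b : Fin 5, 4 ≤ b.val → T.picMatrix 2 b = 0
  · exact nd_13 T hG hmax e_0_1 e_0_2 e_0_3 e_1_0 e_1_2 e_1_3 e_2_0 e_2_1 e_2_3 e_3_0 e_3_1 e_3_2 (nt_cl_succ T 4 2 2 rfl cl hc)
  · obtain ⟨τ, hfix, cl', z, hne⟩ := nt_wlog_step T 4 (by norm_num) 2 (by norm_num) 2 (by decide) cl hc
    apply goal_relabel T τ
    refine ex_14 (ntRelabel T τ) (hG.relabel τ) ?_ ?_ ?_ ?_ ?_ ?_ ?_ ?_ ?_ ?_ ?_ ?_ ?_ cl' z hne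
    · intro j
      show T.m (τ j) ≤ T.m (τ 0)
      rw [hfix 0 (by decide)]
      exact hmax _
    · show T.picMatrix (τ 0) (τ 1) = 1
      rw [hfix 0 (by decide), hfix 1 (by decide)]
      exact e_0_1
    · show T.picMatrix (τ 0) (τ 2) = 1
      rw [hfix 0 (by decide), hfix 2 (by decide)]
      exact e_0_2
    · show T.picMatrix (τ 0) (τ 3) = 0
      rw [hfix 0 (by decide), hfix 3 (by decide)]
      exact e_0_3
    · show T.picMatrix (τ 1) (τ 0) = 1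
      rw [hfix 1 (by decide), hfix 0 (by decide)]
      exact e_1_0
    · show T.picMatrix (τ 1) (τ 2) = 0
      rw [hfix 1 (by decide), hfix 2 (by decide)]
      exact e_1_2
    · show T.picMatrix (τ 1) (τ 3) = 1
      rw [hfix 1 (by decide), hfix 3 (by decide)]
      exact e_1_3
    · show T.picMatrix (τ 2) (τ 0) = 1
      rw [hfix 2 (by decide), hfix 0 (by decide)]
      exact e_2_0
    · show T.picMatrix (τ 2) (τ 1) = 0
      rw [hfix 2 (by decide), hfix 1 (by decide)]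
      exact e_2_1
    · show T.picMatrix (τ 2) (τ 3) = 0
      rw [hfix 2 (by decide), hfix 3 (by decide)]
      exact e_2_3
    · show T.picMatrix (τ 3) (τ 0) = 0
      rw [hfix 3 (by decide), hfix 0 (by decide)]
      exact e_3_0
    · show T.picMatrix (τ 3) (τ 1) = 1
      rw [hfix 3 (by decide), hfix 1 (by decide)]
      exact e_3_1
    · show T.picMatrix (τ 3) (τ 2) = 0
      rw [hfix 3 (by decide), hfix 2 (by decide)]
      exact e_3_2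

theorem ex_16 (T : Models.NumericalType 5)
    (hG : NTGood T)
    (hmax : ∀ j, T.m j ≤ T.m 0)
    (e_0_1 : T.picMatrix 0 1 = 1)
    (e_0_2 : T.picMatrix 0 2 = 1)
    (e_0_3 : T.picMatrix 0 3 = 0)
    (e_1_0 : T.picMatrix 1 0 = 1)
    (e_1_2 : T.picMatrix 1 2 = 0)
    (e_1_3 : T.picMatrix 1 3 = 1)
    (e_2_0 : T.picMatrix 2 0 = 1)
    (e_2_1 : T.picMatrix 2 1 = 0)
    (e_2_3 : T.picMatrix 2 3 = 0)
    (e_3_0 : T.picMatrix 3 0 = 0)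
    (e_3_1 : T.picMatrix 3 1 = 1)
    (e_3_2 : T.picMatrix 3 2 = 0)
    (cl : ∀ a b : Fin 5, a.val < 1 → 5 ≤ b.val → T.picMatrix a b = 0)
    (z : ∀ a : Fin 5, a.val < 1 → T.picMatrix a 4 = 0)
    (hne : T.picMatrix 1 4 ≠ 0) :
    Goal T := by
  have e_0_4 : T.picMatrix 0 4 = 0 := z 0 (by decide)
  have e_4_0 : T.picMatrix 4 0 = 0 := nt_pic_zero_symm T 0 4 e_0_4
  obtain ⟨hg0, hdA, hdP, hnn, hrow, hsym, hpair⟩ := ntgood_data T (by norm_num) hG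
  have hm_0 := T.m_pos 0
  have hw_0 := T.w_pos 0
  have hm_1 := T.m_pos 1
  have hw_1 := T.w_pos 1
  have hm_2 := T.m_pos 2
  have hw_2 := T.w_pos 2
  have hm_3 := T.m_pos 3
  have hw_3 := T.w_pos 3
  have hm_4 := T.m_pos 4
  have hw_4 := T.w_pos 4
  have hx_1 := hmax 1
  have hx_2 := hmax 2
  have hx_3 := hmax 3
  have hx_4 := hmax 4
  have N_1_4 := mul_nonneg (hnn 1 4 (by decide)) (T.m_pos 4).le
  have N_4_1 := mul_nonneg (hnn 4 1 (by decide)) (T.m_pos 1).le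
  have N_2_4 := mul_nonneg (hnn 2 4 (by decide)) (T.m_pos 4).le
  have N_4_2 := mul_nonneg (hnn 4 2 (by decide)) (T.m_pos 2).le
  have N_3_4 := mul_nonneg (hnn 3 4 (by decide)) (T.m_pos 4).le
  have N_4_3 := mul_nonneg (hnn 4 3 (by decide)) (T.m_pos 3).le
  have R_0 := hrow 0
  rw [Fin.sum_univ_five, hdP 0, e_0_1, e_0_2, e_0_3, e_0_4] at R_0
  have R_1 := hrow 1
  rw [Fin.sum_univ_five, hdP 1, e_1_0, e_1_2, e_1_3] at R_1
  have R_2 := hrow 2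
  rw [Fin.sum_univ_five, hdP 2, e_2_0, e_2_1, e_2_3] at R_2
  have R_3 := hrow 3
  rw [Fin.sum_univ_five, hdP 3, e_3_0, e_3_1, e_3_2] at R_3
  have R_4 := hrow 4
  rw [Fin.sum_univ_five, hdP 4, e_4_0] at R_4
  have S_0_1 := hsym 0 1
  rw [e_0_1, e_1_0] at S_0_1
  have S_0_2 := hsym 0 2
  rw [e_0_2, e_2_0] at S_0_2
  have S_0_3 := hsym 0 3
  rw [e_0_3, e_3_0] at S_0_3
  have S_0_4 := hsym 0 4
  rw [e_0_4, e_4_0] at S_0_4
  have S_1_2 := hsym 1 2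
  rw [e_1_2, e_2_1] at S_1_2
  have S_1_3 := hsym 1 3
  rw [e_1_3, e_3_1] at S_1_3
  have S_1_4 := hsym 1 4
  have S_2_3 := hsym 2 3
  rw [e_2_3, e_3_2] at S_2_3
  have S_2_4 := hsym 2 4
  have S_3_4 := hsym 3 4
  have Q_1 := hpair 1 4 (by decide)
  have Q_2 := hpair 2 4 (by decide)
  have Q_3 := hpair 3 4 (by decide)
  generalize e_1_4 : T.picMatrix 1 4 = x_1 at *
  generalize e_4_1 : T.picMatrix 4 1 = y_1 at *
  generalize e_2_4 : T.picMatrix 2 4 = x_2 at *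
  generalize e_4_2 : T.picMatrix 4 2 = y_2 at *
  generalize e_3_4 : T.picMatrix 3 4 = x_3 at *
  generalize e_4_3 : T.picMatrix 4 3 = y_3 at *
  rcases Q_1 with ⟨rfl, rfl⟩ | ⟨rfl, rfl⟩ | ⟨rfl, rfl⟩ | ⟨rfl, rfl⟩ | ⟨rfl, rfl⟩ | ⟨rfl, rfl⟩ | ⟨rfl, rfl⟩ | ⟨rfl, rfl⟩ | ⟨rfl, rfl⟩
  · exact absurd rfl hne
  · -- (1,4) = (1,1)
    rcases Q_2 with ⟨rfl, rfl⟩ | ⟨rfl, rfl⟩ | ⟨rfl, rfl⟩ | ⟨rfl, rfl⟩ | ⟨rfl, rfl⟩ | ⟨rfl, rfl⟩ | ⟨rfl, rfl⟩ | ⟨rfl, rfl⟩ | ⟨rfl, rfl⟩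
    · omega
    · omega
    · omega
    · omega
    · omega
    · omega
    · omega
    · omega
    · omega
  · omega
  · omega
  · omega
  · omega
  · omega
  · omega
  · omega

theorem nd_11 (T : Models.NumericalType 5)
    (hG : NTGood T)
    (hmax : ∀ j, T.m j ≤ T.m 0)
    (e_0_1 : T.picMatrix 0 1 = 1)
    (e_0_2 : T.picMatrix 0 2 = 1)
    (e_0_3 : T.picMatrix 0 3 = 0)
    (e_1_0 : T.picMatrix 1 0 = 1)
    (e_1_2 : T.picMatrix 1 2 = 0)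
    (e_1_3 : T.picMatrix 1 3 = 1)
    (e_2_0 : T.picMatrix 2 0 = 1)
    (e_2_1 : T.picMatrix 2 1 = 0)
    (e_2_3 : T.picMatrix 2 3 = 0)
    (e_3_0 : T.picMatrix 3 0 = 0)
    (e_3_1 : T.picMatrix 3 1 = 1)
    (e_3_2 : T.picMatrix 3 2 = 0)
    (cl : ∀ a b : Fin 5, a.val < 1 → 4 ≤ b.val → T.picMatrix a b = 0) :
    Goal T := by
  by_cases hc : ∀ b : Fin 5, 4 ≤ b.val → T.picMatrix 1 b = 0
  · exact nd_12 T hG hmax e_0_1 e_0_2 e_0_3 e_1_0 e_1_2 e_1_3 e_2_0 e_2_1 e_2_3 e_3_0 e_3_1 e_3_2 (nt_cl_succ T 4 1 1 rfl cl hc)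
  · obtain ⟨τ, hfix, cl', z, hne⟩ := nt_wlog_step T 4 (by norm_num) 1 (by norm_num) 1 (by decide) cl hc
    apply goal_relabel T τ
    refine ex_16 (ntRelabel T τ) (hG.relabel τ) ?_ ?_ ?_ ?_ ?_ ?_ ?_ ?_ ?_ ?_ ?_ ?_ ?_ cl' z hne
    · intro j
      show T.m (τ j) ≤ T.m (τ 0)
      rw [hfix 0 (by decide)]
      exact hmax _
    · show T.picMatrix (τ 0) (τ 1) = 1
      rw [hfix 0 (by decide), hfix 1 (by decide)]
      exact e_0_1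
    · show T.picMatrix (τ 0) (τ 2) = 1
      rw [hfix 0 (by decide), hfix 2 (by decide)]
      exact e_0_2
    · show T.picMatrix (τ 0) (τ 3) = 0
      rw [hfix 0 (by decide), hfix 3 (by decide)]
      exact e_0_3
    · show T.picMatrix (τ 1) (τ 0) = 1
      rw [hfix 1 (by decide), hfix 0 (by decide)]
      exact e_1_0
    · show T.picMatrix (τ 1) (τ 2) = 0
      rw [hfix 1 (by decide), hfix 2 (by decide)]
      exact e_1_2
    · show T.picMatrix (τ 1) (τ 3) = 1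
      rw [hfix 1 (by decide), hfix 3 (by decide)]
      exact e_1_3
    · show T.picMatrix (τ 2) (τ 0) = 1
      rw [hfix 2 (by decide), hfix 0 (by decide)]
      exact e_2_0
    · show T.picMatrix (τ 2) (τ 1) = 0
      rw [hfix 2 (by decide), hfix 1 (by decide)]
      exact e_2_1
    · show T.picMatrix (τ 2) (τ 3) = 0
      rw [hfix 2 (by decide), hfix 3 (by decide)]
      exact e_2_3
    · show T.picMatrix (τ 3) (τ 0) = 0
      rw [hfix 3 (by decide), hfix 0 (by decide)]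
      exact e_3_0
    · show T.picMatrix (τ 3) (τ 1) = 1
      rw [hfix 3 (by decide), hfix 1 (by decide)]
      exact e_3_1
    · show T.picMatrix (τ 3) (τ 2) = 0
      rw [hfix 3 (by decide), hfix 2 (by decide)]
      exact e_3_2

theorem nd_20 (T : Models.NumericalType 5)
    (hG : NTGood T)
    (hmax : ∀ j, T.m j ≤ T.m 0)
    (e_0_1 : T.picMatrix 0 1 = 1)
    (e_0_2 : T.picMatrix 0 2 = 1)
    (e_0_3 : T.picMatrix 0 3 = 0)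
    (e_1_0 : T.picMatrix 1 0 = 1)
    (e_1_2 : T.picMatrix 1 2 = 0)
    (e_1_3 : T.picMatrix 1 3 = 1)
    (e_2_0 : T.picMatrix 2 0 = 1)
    (e_2_1 : T.picMatrix 2 1 = 0)
    (e_2_3 : T.picMatrix 2 3 = 1)
    (e_3_0 : T.picMatrix 3 0 = 0)
    (e_3_1 : T.picMatrix 3 1 = 1)
    (e_3_2 : T.picMatrix 3 2 = 1)
    (cl : ∀ a b : Fin 5, a.val < 4 → 4 ≤ b.val → T.picMatrix a b = 0) :
    Goal T := by
  exact (nt_closed_false T 4 (by norm_num) (by norm_num) cl).elim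

theorem ex_21 (T : Models.NumericalType 5)
    (hG : NTGood T)
    (hmax : ∀ j, T.m j ≤ T.m 0)
    (e_0_1 : T.picMatrix 0 1 = 1)
    (e_0_2 : T.picMatrix 0 2 = 1)
    (e_0_3 : T.picMatrix 0 3 = 0)
    (e_1_0 : T.picMatrix 1 0 = 1)
    (e_1_2 : T.picMatrix 1 2 = 0)
    (e_1_3 : T.picMatrix 1 3 = 1)
    (e_2_0 : T.picMatrix 2 0 = 1)
    (e_2_1 : T.picMatrix 2 1 = 0)
    (e_2_3 : T.picMatrix 2 3 = 1)
    (e_3_0 : T.picMatrix 3 0 = 0)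
    (e_3_1 : T.picMatrix 3 1 = 1)
    (e_3_2 : T.picMatrix 3 2 = 1)
    (cl : ∀ a b : Fin 5, a.val < 3 → 5 ≤ b.val → T.picMatrix a b = 0)
    (z : ∀ a : Fin 5, a.val < 3 → T.picMatrix a 4 = 0)
    (hne : T.picMatrix 3 4 ≠ 0) :
    Goal T := by
  have e_0_4 : T.picMatrix 0 4 = 0 := z 0 (by decide)
  have e_4_0 : T.picMatrix 4 0 = 0 := nt_pic_zero_symm T 0 4 e_0_4
  have e_1_4 : T.picMatrix 1 4 = 0 := z 1 (by decide)
  have e_4_1 : T.picMatrix 4 1 = 0 := nt_pic_zero_symm T 1 4 e_1_4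
  have e_2_4 : T.picMatrix 2 4 = 0 := z 2 (by decide)
  have e_4_2 : T.picMatrix 4 2 = 0 := nt_pic_zero_symm T 2 4 e_2_4
  obtain ⟨hg0, hdA, hdP, hnn, hrow, hsym, hpair⟩ := ntgood_data T (by norm_num) hG
  have hm_0 := T.m_pos 0
  have hw_0 := T.w_pos 0
  have hm_1 := T.m_pos 1
  have hw_1 := T.w_pos 1
  have hm_2 := T.m_pos 2
  have hw_2 := T.w_pos 2
  have hm_3 := T.m_pos 3
  have hw_3 := T.w_pos 3
  have hm_4 := T.m_pos 4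
  have hw_4 := T.w_pos 4
  have hx_1 := hmax 1
  have hx_2 := hmax 2
  have hx_3 := hmax 3
  have hx_4 := hmax 4
  have N_3_4 := mul_nonneg (hnn 3 4 (by decide)) (T.m_pos 4).le
  have N_4_3 := mul_nonneg (hnn 4 3 (by decide)) (T.m_pos 3).le
  have R_0 := hrow 0
  rw [Fin.sum_univ_five, hdP 0, e_0_1, e_0_2, e_0_3, e_0_4] at R_0
  have R_1 := hrow 1
  rw [Fin.sum_univ_five, hdP 1, e_1_0, e_1_2, e_1_3, e_1_4] at R_1
  have R_2 := hrow 2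
  rw [Fin.sum_univ_five, hdP 2, e_2_0, e_2_1, e_2_3, e_2_4] at R_2
  have R_3 := hrow 3
  rw [Fin.sum_univ_five, hdP 3, e_3_0, e_3_1, e_3_2] at R_3
  have R_4 := hrow 4
  rw [Fin.sum_univ_five, hdP 4, e_4_0, e_4_1, e_4_2] at R_4
  have S_0_1 := hsym 0 1
  rw [e_0_1, e_1_0] at S_0_1
  have S_0_2 := hsym 0 2
  rw [e_0_2, e_2_0] at S_0_2
  have S_0_3 := hsym 0 3
  rw [e_0_3, e_3_0] at S_0_3
  have S_0_4 := hsym 0 4
  rw [e_0_4, e_4_0] at S_0_4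
  have S_1_2 := hsym 1 2
  rw [e_1_2, e_2_1] at S_1_2
  have S_1_3 := hsym 1 3
  rw [e_1_3, e_3_1] at S_1_3
  have S_1_4 := hsym 1 4
  rw [e_1_4, e_4_1] at S_1_4
  have S_2_3 := hsym 2 3
  rw [e_2_3, e_3_2] at S_2_3
  have S_2_4 := hsym 2 4
  rw [e_2_4, e_4_2] at S_2_4
  have S_3_4 := hsym 3 4
  have Q_3 := hpair 3 4 (by decide)
  generalize e_3_4 : T.picMatrix 3 4 = x_3 at *
  generalize e_4_3 : T.picMatrix 4 3 = y_3 at *
  rcases Q_3 with ⟨rfl, rfl⟩ | ⟨rfl, rfl⟩ | ⟨rfl, rfl⟩ | ⟨rfl, rfl⟩ | ⟨rfl, rfl⟩ | ⟨rfl, rfl⟩ | ⟨rfl, rfl⟩ | ⟨rfl, rfl⟩ | ⟨rfl, rfl⟩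
  · exact absurd rfl hne
  · -- (3,4) = (1,1)
    omega
  · -- (3,4) = (1,2)
    omega
  · -- (3,4) = (2,1)
    omega
  · -- (3,4) = (1,3)
    omega
  · -- (3,4) = (3,1)
    omega
  · -- (3,4) = (1,4)
    omega
  · -- (3,4) = (4,1)
    omega
  · -- (3,4) = (2,2)
    omega

theorem nd_19 (T : Models.NumericalType 5)
    (hG : NTGood T)
    (hmax : ∀ j, T.m j ≤ T.m 0)
    (e_0_1 : T.picMatrix 0 1 = 1)
    (e_0_2 : T.picMatrix 0 2 = 1)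
    (e_0_3 : T.picMatrix 0 3 = 0)
    (e_1_0 : T.picMatrix 1 0 = 1)
    (e_1_2 : T.picMatrix 1 2 = 0)
    (e_1_3 : T.picMatrix 1 3 = 1)
    (e_2_0 : T.picMatrix 2 0 = 1)
    (e_2_1 : T.picMatrix 2 1 = 0)
    (e_2_3 : T.picMatrix 2 3 = 1)
    (e_3_0 : T.picMatrix 3 0 = 0)
    (e_3_1 : T.picMatrix 3 1 = 1)
    (e_3_2 : T.picMatrix 3 2 = 1)
    (cl : ∀ a b : Fin 5, a.val < 3 → 4 ≤ b.val → T.picMatrix a b = 0) :
    Goal T := by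
  by_cases hc : ∀ b : Fin 5, 4 ≤ b.val → T.picMatrix 3 b = 0
  · exact nd_20 T hG hmax e_0_1 e_0_2 e_0_3 e_1_0 e_1_2 e_1_3 e_2_0 e_2_1 e_2_3 e_3_0 e_3_1 e_3_2 (nt_cl_succ T 4 3 3 rfl cl hc)
  · obtain ⟨τ, hfix, cl', z, hne⟩ := nt_wlog_step T 4 (by norm_num) 3 (by norm_num) 3 (by decide) cl hc
    apply goal_relabel T τ
    refine ex_21 (ntRelabel T τ) (hG.relabel τ) ?_ ?_ ?_ ?_ ?_ ?_ ?_ ?_ ?_ ?_ ?_ ?_ ?_ cl' z hne
    · intro j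
      show T.m (τ j) ≤ T.m (τ 0)
      rw [hfix 0 (by decide)]
      exact hmax _
    · show T.picMatrix (τ 0) (τ 1) = 1
      rw [hfix 0 (by decide), hfix 1 (by decide)]
      exact e_0_1
    · show T.picMatrix (τ 0) (τ 2) = 1
      rw [hfix 0 (by decide), hfix 2 (by decide)]
      exact e_0_2
    · show T.picMatrix (τ 0) (τ 3) = 0
      rw [hfix 0 (by decide), hfix 3 (by decide)]
      exact e_0_3
    · show T.picMatrix (τ 1) (τ 0) = 1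
      rw [hfix 1 (by decide), hfix 0 (by decide)]
      exact e_1_0
    · show T.picMatrix (τ 1) (τ 2) = 0
      rw [hfix 1 (by decide), hfix 2 (by decide)]
      exact e_1_2
    · show T.picMatrix (τ 1) (τ 3) = 1
      rw [hfix 1 (by decide), hfix 3 (by decide)]
      exact e_1_3
    · show T.picMatrix (τ 2) (τ 0) = 1
      rw [hfix 2 (by decide), hfix 0 (by decide)]
      exact e_2_0
    · show T.picMatrix (τ 2) (τ 1) = 0
      rw [hfix 2 (by decide), hfix 1 (by decide)]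
      exact e_2_1
    · show T.picMatrix (τ 2) (τ 3) = 1
      rw [hfix 2 (by decide), hfix 3 (by decide)]
      exact e_2_3
    · show T.picMatrix (τ 3) (τ 0) = 0
      rw [hfix 3 (by decide), hfix 0 (by decide)]
      exact e_3_0
    · show T.picMatrix (τ 3) (τ 1) = 1
      rw [hfix 3 (by decide), hfix 1 (by decide)]
      exact e_3_1
    · show T.picMatrix (τ 3) (τ 2) = 1
      rw [hfix 3 (by decide), hfix 2 (by decide)]
      exact e_3_2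

theorem ex_22 (T : Models.NumericalType 5)
    (hG : NTGood T)
    (hmax : ∀ j, T.m j ≤ T.m 0)
    (e_0_1 : T.picMatrix 0 1 = 1)
    (e_0_2 : T.picMatrix 0 2 = 1)
    (e_0_3 : T.picMatrix 0 3 = 0)
    (e_1_0 : T.picMatrix 1 0 = 1)
    (e_1_2 : T.picMatrix 1 2 = 0)
    (e_1_3 : T.picMatrix 1 3 = 1)
    (e_2_0 : T.picMatrix 2 0 = 1)
    (e_2_1 : T.picMatrix 2 1 = 0)
    (e_2_3 : T.picMatrix 2 3 = 1)
    (e_3_0 : T.picMatrix 3 0 = 0)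
    (e_3_1 : T.picMatrix 3 1 = 1)
    (e_3_2 : T.picMatrix 3 2 = 1)
    (cl : ∀ a b : Fin 5, a.val < 2 → 5 ≤ b.val → T.picMatrix a b = 0)
    (z : ∀ a : Fin 5, a.val < 2 → T.picMatrix a 4 = 0)
    (hne : T.picMatrix 2 4 ≠ 0) :
    Goal T := by
  have e_0_4 : T.picMatrix 0 4 = 0 := z 0 (by decide)
  have e_4_0 : T.picMatrix 4 0 = 0 := nt_pic_zero_symm T 0 4 e_0_4
  have e_1_4 : T.picMatrix 1 4 = 0 := z 1 (by decide)
  have e_4_1 : T.picMatrix 4 1 = 0 := nt_pic_zero_symm T 1 4 e_1_4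
  obtain ⟨hg0, hdA, hdP, hnn, hrow, hsym, hpair⟩ := ntgood_data T (by norm_num) hG
  have hm_0 := T.m_pos 0
  have hw_0 := T.w_pos 0
  have hm_1 := T.m_pos 1
  have hw_1 := T.w_pos 1
  have hm_2 := T.m_pos 2
  have hw_2 := T.w_pos 2
  have hm_3 := T.m_pos 3
  have hw_3 := T.w_pos 3
  have hm_4 := T.m_pos 4
  have hw_4 := T.w_pos 4
  have hx_1 := hmax 1
  have hx_2 := hmax 2
  have hx_3 := hmax 3
  have hx_4 := hmax 4
  have N_2_4 := mul_nonneg (hnn 2 4 (by decide)) (T.m_pos 4).le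
  have N_4_2 := mul_nonneg (hnn 4 2 (by decide)) (T.m_pos 2).le
  have N_3_4 := mul_nonneg (hnn 3 4 (by decide)) (T.m_pos 4).le
  have N_4_3 := mul_nonneg (hnn 4 3 (by decide)) (T.m_pos 3).le
  have R_0 := hrow 0
  rw [Fin.sum_univ_five, hdP 0, e_0_1, e_0_2, e_0_3, e_0_4] at R_0
  have R_1 := hrow 1
  rw [Fin.sum_univ_five, hdP 1, e_1_0, e_1_2, e_1_3, e_1_4] at R_1
  have R_2 := hrow 2
  rw [Fin.sum_univ_five, hdP 2, e_2_0, e_2_1, e_2_3] at R_2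
  have R_3 := hrow 3
  rw [Fin.sum_univ_five, hdP 3, e_3_0, e_3_1, e_3_2] at R_3
  have R_4 := hrow 4
  rw [Fin.sum_univ_five, hdP 4, e_4_0, e_4_1] at R_4
  have S_0_1 := hsym 0 1
  rw [e_0_1, e_1_0] at S_0_1
  have S_0_2 := hsym 0 2
  rw [e_0_2, e_2_0] at S_0_2
  have S_0_3 := hsym 0 3
  rw [e_0_3, e_3_0] at S_0_3
  have S_0_4 := hsym 0 4
  rw [e_0_4, e_4_0] at S_0_4
  have S_1_2 := hsym 1 2
  rw [e_1_2, e_2_1] at S_1_2
  have S_1_3 := hsym 1 3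
  rw [e_1_3, e_3_1] at S_1_3
  have S_1_4 := hsym 1 4
  rw [e_1_4, e_4_1] at S_1_4
  have S_2_3 := hsym 2 3
  rw [e_2_3, e_3_2] at S_2_3
  have S_2_4 := hsym 2 4
  have S_3_4 := hsym 3 4
  have Q_2 := hpair 2 4 (by decide)
  have Q_3 := hpair 3 4 (by decide)
  generalize e_2_4 : T.picMatrix 2 4 = x_2 at *
  generalize e_4_2 : T.picMatrix 4 2 = y_2 at *
  generalize e_3_4 : T.picMatrix 3 4 = x_3 at *
  generalize e_4_3 : T.picMatrix 4 3 = y_3 at *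
  rcases Q_2 with ⟨rfl, rfl⟩ | ⟨rfl, rfl⟩ | ⟨rfl, rfl⟩ | ⟨rfl, rfl⟩ | ⟨rfl, rfl⟩ | ⟨rfl, rfl⟩ | ⟨rfl, rfl⟩ | ⟨rfl, rfl⟩ | ⟨rfl, rfl⟩
  · exact absurd rfl hne
  · omega
  · omega
  · omega
  · omega
  · omega
  · omega
  · omega
  · omega

theorem nd_18 (T : Models.NumericalType 5)
    (hG : NTGood T)
    (hmax : ∀ j, T.m j ≤ T.m 0)
    (e_0_1 : T.picMatrix 0 1 = 1)
    (e_0_2 : T.picMatrix 0 2 = 1)
    (e_0_3 : T.picMatrix 0 3 = 0)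
    (e_1_0 : T.picMatrix 1 0 = 1)
    (e_1_2 : T.picMatrix 1 2 = 0)
    (e_1_3 : T.picMatrix 1 3 = 1)
    (e_2_0 : T.picMatrix 2 0 = 1)
    (e_2_1 : T.picMatrix 2 1 = 0)
    (e_2_3 : T.picMatrix 2 3 = 1)
    (e_3_0 : T.picMatrix 3 0 = 0)
    (e_3_1 : T.picMatrix 3 1 = 1)
    (e_3_2 : T.picMatrix 3 2 = 1)
    (cl : ∀ a b : Fin 5, a.val < 2 → 4 ≤ b.val → T.picMatrix a b = 0) :
    Goal T := by
  by_cases hc : ∀ b : Fin 5, 4 ≤ b.val → T.picMatrix 2 b = 0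
  · exact nd_19 T hG hmax e_0_1 e_0_2 e_0_3 e_1_0 e_1_2 e_1_3 e_2_0 e_2_1 e_2_3 e_3_0 e_3_1 e_3_2 (nt_cl_succ T 4 2 2 rfl cl hc)
  · obtain ⟨τ, hfix, cl', z, hne⟩ := nt_wlog_step T 4 (by norm_num) 2 (by norm_num) 2 (by decide) cl hc
    apply goal_relabel T τ
    refine ex_22 (ntRelabel T τ) (hG.relabel τ) ?_ ?_ ?_ ?_ ?_ ?_ ?_ ?_ ?_ ?_ ?_ ?_ ?_ cl' z hne
    · intro j
      show T.m (τ j) ≤ T.m (τ 0)
      rw [hfix 0 (by decide)]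
      exact hmax _
    · show T.picMatrix (τ 0) (τ 1) = 1
      rw [hfix 0 (by decide), hfix 1 (by decide)]
      exact e_0_1
    · show T.picMatrix (τ 0) (τ 2) = 1
      rw [hfix 0 (by decide), hfix 2 (by decide)]
      exact e_0_2
    · show T.picMatrix (τ 0) (τ 3) = 0
      rw [hfix 0 (by decide), hfix 3 (by decide)]
      exact e_0_3
    · show T.picMatrix (τ 1) (τ 0) = 1
      rw [hfix 1 (by decide), hfix 0 (by decide)]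
      exact e_1_0
    · show T.picMatrix (τ 1) (τ 2) = 0
      rw [hfix 1 (by decide), hfix 2 (by decide)]
      exact e_1_2
    · show T.picMatrix (τ 1) (τ 3) = 1
      rw [hfix 1 (by decide), hfix 3 (by decide)]
      exact e_1_3
    · show T.picMatrix (τ 2) (τ 0) = 1
      rw [hfix 2 (by decide), hfix 0 (by decide)]
      exact e_2_0
    · show T.picMatrix (τ 2) (τ 1) = 0
      rw [hfix 2 (by decide), hfix 1 (by decide)]
      exact e_2_1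
    · show T.picMatrix (τ 2) (τ 3) = 1
      rw [hfix 2 (by decide), hfix 3 (by decide)]
      exact e_2_3
    · show T.picMatrix (τ 3) (τ 0) = 0
      rw [hfix 3 (by decide), hfix 0 (by decide)]
      exact e_3_0
    · show T.picMatrix (τ 3) (τ 1) = 1
      rw [hfix 3 (by decide), hfix 1 (by decide)]
      exact e_3_1
    · show T.picMatrix (τ 3) (τ 2) = 1
      rw [hfix 3 (by decide), hfix 2 (by decide)]
      exact e_3_2

theorem ex_23 (T : Models.NumericalType 5)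
    (hG : NTGood T)
    (hmax : ∀ j, T.m j ≤ T.m 0)
    (e_0_1 : T.picMatrix 0 1 = 1)
    (e_0_2 : T.picMatrix 0 2 = 1)
    (e_0_3 : T.picMatrix 0 3 = 0)
    (e_1_0 : T.picMatrix 1 0 = 1)
    (e_1_2 : T.picMatrix 1 2 = 0)
    (e_1_3 : T.picMatrix 1 3 = 1)
    (e_2_0 : T.picMatrix 2 0 = 1)
    (e_2_1 : T.picMatrix 2 1 = 0)
    (e_2_3 : T.picMatrix 2 3 = 1)
    (e_3_0 : T.picMatrix 3 0 = 0)
    (e_3_1 : T.picMatrix 3 1 = 1)
    (e_3_2 : T.picMatrix 3 2 = 1)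
    (cl : ∀ a b : Fin 5, a.val < 1 → 5 ≤ b.val → T.picMatrix a b = 0)
    (z : ∀ a : Fin 5, a.val < 1 → T.picMatrix a 4 = 0)
    (hne : T.picMatrix 1 4 ≠ 0) :
    Goal T := by
  have e_0_4 : T.picMatrix 0 4 = 0 := z 0 (by decide)
  have e_4_0 : T.picMatrix 4 0 = 0 := nt_pic_zero_symm T 0 4 e_0_4
  obtain ⟨hg0, hdA, hdP, hnn, hrow, hsym, hpair⟩ := ntgood_data T (by norm_num) hG
  have hm_0 := T.m_pos 0
  have hw_0 := T.w_pos 0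
  have hm_1 := T.m_pos 1
  have hw_1 := T.w_pos 1
  have hm_2 := T.m_pos 2
  have hw_2 := T.w_pos 2
  have hm_3 := T.m_pos 3
  have hw_3 := T.w_pos 3
  have hm_4 := T.m_pos 4
  have hw_4 := T.w_pos 4
  have hx_1 := hmax 1
  have hx_2 := hmax 2
  have hx_3 := hmax 3
  have hx_4 := hmax 4
  have N_1_4 := mul_nonneg (hnn 1 4 (by decide)) (T.m_pos 4).le
  have N_4_1 := mul_nonneg (hnn 4 1 (by decide)) (T.m_pos 1).le
  have N_2_4 := mul_nonneg (hnn 2 4 (by decide)) (T.m_pos 4).le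
  have N_4_2 := mul_nonneg (hnn 4 2 (by decide)) (T.m_pos 2).le
  have N_3_4 := mul_nonneg (hnn 3 4 (by decide)) (T.m_pos 4).le
  have N_4_3 := mul_nonneg (hnn 4 3 (by decide)) (T.m_pos 3).le
  have R_0 := hrow 0
  rw [Fin.sum_univ_five, hdP 0, e_0_1, e_0_2, e_0_3, e_0_4] at R_0
  have R_1 := hrow 1
  rw [Fin.sum_univ_five, hdP 1, e_1_0, e_1_2, e_1_3] at R_1
  have R_2 := hrow 2
  rw [Fin.sum_univ_five, hdP 2, e_2_0, e_2_1, e_2_3] at R_2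
  have R_3 := hrow 3
  rw [Fin.sum_univ_five, hdP 3, e_3_0, e_3_1, e_3_2] at R_3
  have R_4 := hrow 4
  rw [Fin.sum_univ_five, hdP 4, e_4_0] at R_4
  have S_0_1 := hsym 0 1
  rw [e_0_1, e_1_0] at S_0_1
  have S_0_2 := hsym 0 2
  rw [e_0_2, e_2_0] at S_0_2
  have S_0_3 := hsym 0 3
  rw [e_0_3, e_3_0] at S_0_3
  have S_0_4 := hsym 0 4
  rw [e_0_4, e_4_0] at S_0_4
  have S_1_2 := hsym 1 2
  rw [e_1_2, e_2_1] at S_1_2
  have S_1_3 := hsym 1 3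
  rw [e_1_3, e_3_1] at S_1_3
  have S_1_4 := hsym 1 4
  have S_2_3 := hsym 2 3
  rw [e_2_3, e_3_2] at S_2_3
  have S_2_4 := hsym 2 4
  have S_3_4 := hsym 3 4
  have Q_1 := hpair 1 4 (by decide)
  have Q_2 := hpair 2 4 (by decide)
  have Q_3 := hpair 3 4 (by decide)
  generalize e_1_4 : T.picMatrix 1 4 = x_1 at *
  generalize e_4_1 : T.picMatrix 4 1 = y_1 at *
  generalize e_2_4 : T.picMatrix 2 4 = x_2 at *
  generalize e_4_2 : T.picMatrix 4 2 = y_2 at *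
  generalize e_3_4 : T.picMatrix 3 4 = x_3 at *
  generalize e_4_3 : T.picMatrix 4 3 = y_3 at *
  rcases Q_1 with ⟨rfl, rfl⟩ | ⟨rfl, rfl⟩ | ⟨rfl, rfl⟩ | ⟨rfl, rfl⟩ | ⟨rfl, rfl⟩ | ⟨rfl, rfl⟩ | ⟨rfl, rfl⟩ | ⟨rfl, rfl⟩ | ⟨rfl, rfl⟩
  · exact absurd rfl hne
  · omega
  · omega
  · omega
  · omega
  · omega
  · omega
  · omega
  · omega

theorem nd_17 (T : Models.NumericalType 5)
    (hG : NTGood T)
    (hmax : ∀ j, T.m j ≤ T.m 0)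
    (e_0_1 : T.picMatrix 0 1 = 1)
    (e_0_2 : T.picMatrix 0 2 = 1)
    (e_0_3 : T.picMatrix 0 3 = 0)
    (e_1_0 : T.picMatrix 1 0 = 1)
    (e_1_2 : T.picMatrix 1 2 = 0)
    (e_1_3 : T.picMatrix 1 3 = 1)
    (e_2_0 : T.picMatrix 2 0 = 1)
    (e_2_1 : T.picMatrix 2 1 = 0)
    (e_2_3 : T.picMatrix 2 3 = 1)
    (e_3_0 : T.picMatrix 3 0 = 0)
    (e_3_1 : T.picMatrix 3 1 = 1)
    (e_3_2 : T.picMatrix 3 2 = 1)
    (cl : ∀ a b : Fin 5, a.val < 1 → 4 ≤ b.val → T.picMatrix a b = 0) :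
    Goal T := by
  by_cases hc : ∀ b : Fin 5, 4 ≤ b.val → T.picMatrix 1 b = 0
  · exact nd_18 T hG hmax e_0_1 e_0_2 e_0_3 e_1_0 e_1_2 e_1_3 e_2_0 e_2_1 e_2_3 e_3_0 e_3_1 e_3_2 (nt_cl_succ T 4 1 1 rfl cl hc)
  · obtain ⟨τ, hfix, cl', z, hne⟩ := nt_wlog_step T 4 (by norm_num) 1 (by norm_num) 1 (by decide) cl hc
    apply goal_relabel T τ
    refine ex_23 (ntRelabel T τ) (hG.relabel τ) ?_ ?_ ?_ ?_ ?_ ?_ ?_ ?_ ?_ ?_ ?_ ?_ ?_ cl' z hne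
    · intro j
      show T.m (τ j) ≤ T.m (τ 0)
      rw [hfix 0 (by decide)]
      exact hmax _
    · show T.picMatrix (τ 0) (τ 1) = 1
      rw [hfix 0 (by decide), hfix 1 (by decide)]
      exact e_0_1
    · show T.picMatrix (τ 0) (τ 2) = 1
      rw [hfix 0 (by decide), hfix 2 (by decide)]
      exact e_0_2
    · show T.picMatrix (τ 0) (τ 3) = 0
      rw [hfix 0 (by decide), hfix 3 (by decide)]
      exact e_0_3
    · show T.picMatrix (τ 1) (τ 0) = 1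
      rw [hfix 1 (by decide), hfix 0 (by decide)]
      exact e_1_0
    · show T.picMatrix (τ 1) (τ 2) = 0
      rw [hfix 1 (by decide), hfix 2 (by decide)]
      exact e_1_2
    · show T.picMatrix (τ 1) (τ 3) = 1
      rw [hfix 1 (by decide), hfix 3 (by decide)]
      exact e_1_3
    · show T.picMatrix (τ 2) (τ 0) = 1
      rw [hfix 2 (by decide), hfix 0 (by decide)]
      exact e_2_0
    · show T.picMatrix (τ 2) (τ 1) = 0
      rw [hfix 2 (by decide), hfix 1 (by decide)]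
      exact e_2_1
    · show T.picMatrix (τ 2) (τ 3) = 1
      rw [hfix 2 (by decide), hfix 3 (by decide)]
      exact e_2_3
    · show T.picMatrix (τ 3) (τ 0) = 0
      rw [hfix 3 (by decide), hfix 0 (by decide)]
      exact e_3_0
    · show T.picMatrix (τ 3) (τ 1) = 1
      rw [hfix 3 (by decide), hfix 1 (by decide)]
      exact e_3_1
    · show T.picMatrix (τ 3) (τ 2) = 1
      rw [hfix 3 (by decide), hfix 2 (by decide)]
      exact e_3_2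

theorem nd_26 (T : Models.NumericalType 5)
    (hG : NTGood T)
    (hmax : ∀ j, T.m j ≤ T.m 0)
    (e_0_1 : T.picMatrix 0 1 = 1)
    (e_0_2 : T.picMatrix 0 2 = 1)
    (e_0_3 : T.picMatrix 0 3 = 0)
    (e_1_0 : T.picMatrix 1 0 = 1)
    (e_1_2 : T.picMatrix 1 2 = 0)
    (e_1_3 : T.picMatrix 1 3 = 1)
    (e_2_0 : T.picMatrix 2 0 = 1)
    (e_2_1 : T.picMatrix 2 1 = 0)
    (e_2_3 : T.picMatrix 2 3 = 0)
    (e_3_0 : T.picMatrix 3 0 = 0)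
    (e_3_1 : T.picMatrix 3 1 = 2)
    (e_3_2 : T.picMatrix 3 2 = 0)
    (cl : ∀ a b : Fin 5, a.val < 3 → 4 ≤ b.val → T.picMatrix a b = 0) :
    Goal T := by
  obtain ⟨hg0, hdA, hdP, hnn, hrow, hsym, hpair⟩ := ntgood_data T (by norm_num) hG
  have hm_0 := T.m_pos 0
  have hw_0 := T.w_pos 0
  have hm_1 := T.m_pos 1
  have hw_1 := T.w_pos 1
  have hm_2 := T.m_pos 2
  have hw_2 := T.w_pos 2
  have hm_3 := T.m_pos 3
  have hw_3 := T.w_pos 3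
  have hx_1 := hmax 1
  have hx_2 := hmax 2
  have hx_3 := hmax 3
  have Z_0_4 := cl 0 4 (by decide) (by decide)
  have Z_1_4 := cl 1 4 (by decide) (by decide)
  have Z_2_4 := cl 2 4 (by decide) (by decide)
  have N_3_4 := mul_nonneg (hnn 3 4 (by decide)) (T.m_pos 4).le
  have R_0 := hrow 0
  rw [Fin.sum_univ_five, hdP 0, e_0_1, e_0_2, e_0_3, Z_0_4] at R_0
  have R_1 := hrow 1
  rw [Fin.sum_univ_five, hdP 1, e_1_0, e_1_2, e_1_3, Z_1_4] at R_1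
  have R_2 := hrow 2
  rw [Fin.sum_univ_five, hdP 2, e_2_0, e_2_1, e_2_3, Z_2_4] at R_2
  have R_3 := hrow 3
  rw [Fin.sum_univ_five, hdP 3, e_3_0, e_3_1, e_3_2] at R_3
  have S_0_1 := hsym 0 1
  rw [e_0_1, e_1_0] at S_0_1
  have S_0_2 := hsym 0 2
  rw [e_0_2, e_2_0] at S_0_2
  have S_0_3 := hsym 0 3
  rw [e_0_3, e_3_0] at S_0_3
  have S_1_2 := hsym 1 2
  rw [e_1_2, e_2_1] at S_1_2
  have S_1_3 := hsym 1 3
  rw [e_1_3, e_3_1] at S_1_3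
  have S_2_3 := hsym 2 3
  rw [e_2_3, e_3_2] at S_2_3
  exfalso
  omega

theorem nd_28 (T : Models.NumericalType 5)
    (hG : NTGood T)
    (hmax : ∀ j, T.m j ≤ T.m 0)
    (e_0_1 : T.picMatrix 0 1 = 1)
    (e_0_2 : T.picMatrix 0 2 = 1)
    (e_0_3 : T.picMatrix 0 3 = 0)
    (e_0_4 : T.picMatrix 0 4 = 0)
    (e_1_0 : T.picMatrix 1 0 = 1)
    (e_1_2 : T.picMatrix 1 2 = 0)
    (e_1_3 : T.picMatrix 1 3 = 1)
    (e_1_4 : T.picMatrix 1 4 = 0)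
    (e_2_0 : T.picMatrix 2 0 = 1)
    (e_2_1 : T.picMatrix 2 1 = 0)
    (e_2_3 : T.picMatrix 2 3 = 0)
    (e_2_4 : T.picMatrix 2 4 = 1)
    (e_3_0 : T.picMatrix 3 0 = 0)
    (e_3_1 : T.picMatrix 3 1 = 2)
    (e_3_2 : T.picMatrix 3 2 = 0)
    (e_3_4 : T.picMatrix 3 4 = 0)
    (e_4_0 : T.picMatrix 4 0 = 0)
    (e_4_1 : T.picMatrix 4 1 = 0)
    (e_4_2 : T.picMatrix 4 2 = 2)
    (e_4_3 : T.picMatrix 4 3 = 0)
    (cl : ∀ a b : Fin 5, a.val < 2 → 5 ≤ b.val → T.picMatrix a b = 0) :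
    Goal T := by
  obtain ⟨hg0, hdA, hdP, hnn, hrow, hsym, hpair⟩ := ntgood_data T (by norm_num) hG
  have hm_0 := T.m_pos 0
  have hw_0 := T.w_pos 0
  have hm_1 := T.m_pos 1
  have hw_1 := T.w_pos 1
  have hm_2 := T.m_pos 2
  have hw_2 := T.w_pos 2
  have hm_3 := T.m_pos 3
  have hw_3 := T.w_pos 3
  have hm_4 := T.m_pos 4
  have hw_4 := T.w_pos 4
  have hx_1 := hmax 1
  have hx_2 := hmax 2
  have hx_3 := hmax 3
  have hx_4 := hmax 4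
  have R_0 := hrow 0
  rw [Fin.sum_univ_five, hdP 0, e_0_1, e_0_2, e_0_3, e_0_4] at R_0
  have R_1 := hrow 1
  rw [Fin.sum_univ_five, hdP 1, e_1_0, e_1_2, e_1_3, e_1_4] at R_1
  have R_2 := hrow 2
  rw [Fin.sum_univ_five, hdP 2, e_2_0, e_2_1, e_2_3, e_2_4] at R_2
  have R_3 := hrow 3
  rw [Fin.sum_univ_five, hdP 3, e_3_0, e_3_1, e_3_2, e_3_4] at R_3
  have R_4 := hrow 4
  rw [Fin.sum_univ_five, hdP 4, e_4_0, e_4_1, e_4_2, e_4_3] at R_4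
  have S_0_1 := hsym 0 1
  rw [e_0_1, e_1_0] at S_0_1
  have S_0_2 := hsym 0 2
  rw [e_0_2, e_2_0] at S_0_2
  have S_0_3 := hsym 0 3
  rw [e_0_3, e_3_0] at S_0_3
  have S_0_4 := hsym 0 4
  rw [e_0_4, e_4_0] at S_0_4
  have S_1_2 := hsym 1 2
  rw [e_1_2, e_2_1] at S_1_2
  have S_1_3 := hsym 1 3
  rw [e_1_3, e_3_1] at S_1_3
  have S_1_4 := hsym 1 4
  rw [e_1_4, e_4_1] at S_1_4
  have S_2_3 := hsym 2 3
  rw [e_2_3, e_3_2] at S_2_3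
  have S_2_4 := hsym 2 4
  rw [e_2_4, e_4_2] at S_2_4
  have S_3_4 := hsym 3 4
  rw [e_3_4, e_4_3] at S_3_4
  have D_0 := hdA 0
  have A_0_1 := nt_a_eq T 0 1
  rw [e_0_1] at A_0_1
  have A_0_2 := nt_a_eq T 0 2
  rw [e_0_2] at A_0_2
  have A_0_3 := nt_a_eq T 0 3
  rw [e_0_3] at A_0_3
  have A_0_4 := nt_a_eq T 0 4
  rw [e_0_4] at A_0_4
  have D_1 := hdA 1
  have A_1_0 := nt_a_eq T 1 0
  rw [e_1_0] at A_1_0
  have A_1_2 := nt_a_eq T 1 2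
  rw [e_1_2] at A_1_2
  have A_1_3 := nt_a_eq T 1 3
  rw [e_1_3] at A_1_3
  have A_1_4 := nt_a_eq T 1 4
  rw [e_1_4] at A_1_4
  have D_2 := hdA 2
  have A_2_0 := nt_a_eq T 2 0
  rw [e_2_0] at A_2_0
  have A_2_1 := nt_a_eq T 2 1
  rw [e_2_1] at A_2_1
  have A_2_3 := nt_a_eq T 2 3
  rw [e_2_3] at A_2_3
  have A_2_4 := nt_a_eq T 2 4
  rw [e_2_4] at A_2_4
  have D_3 := hdA 3
  have A_3_0 := nt_a_eq T 3 0
  rw [e_3_0] at A_3_0
  have A_3_1 := nt_a_eq T 3 1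
  rw [e_3_1] at A_3_1
  have A_3_2 := nt_a_eq T 3 2
  rw [e_3_2] at A_3_2
  have A_3_4 := nt_a_eq T 3 4
  rw [e_3_4] at A_3_4
  have D_4 := hdA 4
  have A_4_0 := nt_a_eq T 4 0
  rw [e_4_0] at A_4_0
  have A_4_1 := nt_a_eq T 4 1
  rw [e_4_1] at A_4_1
  have A_4_2 := nt_a_eq T 4 2
  rw [e_4_2] at A_4_2
  have A_4_3 := nt_a_eq T 4 3
  rw [e_4_3] at A_4_3
  refine goal_of_indices T hg0 3 1 0 2 4 (by decide) (T.m 3) (T.w 3) ?_
  unfold Goali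
  exact Or.inr (Or.inr (Or.inr (Or.inr (Or.inl ⟨by omega, by omega, by omega, by omega, by omega, by omega, by omega, by omega, by omega, by omega, by omega, by omega, by omega, by omega, by omega, by omega, by omega, by omega, by omega, by omega, by omega, by omega, by omega, by omega, by omega⟩))))

theorem nd_29 (T : Models.NumericalType 5)
    (hG : NTGood T)
    (hmax : ∀ j, T.m j ≤ T.m 0)
    (e_0_1 : T.picMatrix 0 1 = 1)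
    (e_0_2 : T.picMatrix 0 2 = 1)
    (e_0_3 : T.picMatrix 0 3 = 0)
    (e_0_4 : T.picMatrix 0 4 = 0)
    (e_1_0 : T.picMatrix 1 0 = 1)
    (e_1_2 : T.picMatrix 1 2 = 0)
    (e_1_3 : T.picMatrix 1 3 = 1)
    (e_1_4 : T.picMatrix 1 4 = 0)
    (e_2_0 : T.picMatrix 2 0 = 1)
    (e_2_1 : T.picMatrix 2 1 = 0)
    (e_2_3 : T.picMatrix 2 3 = 0)
    (e_2_4 : T.picMatrix 2 4 = 2)
    (e_3_0 : T.picMatrix 3 0 = 0)
    (e_3_1 : T.picMatrix 3 1 = 2)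
    (e_3_2 : T.picMatrix 3 2 = 0)
    (e_3_4 : T.picMatrix 3 4 = 0)
    (e_4_0 : T.picMatrix 4 0 = 0)
    (e_4_1 : T.picMatrix 4 1 = 0)
    (e_4_2 : T.picMatrix 4 2 = 1)
    (e_4_3 : T.picMatrix 4 3 = 0)
    (cl : ∀ a b : Fin 5, a.val < 2 → 5 ≤ b.val → T.picMatrix a b = 0) :
    Goal T := by
  obtain ⟨hg0, hdA, hdP, hnn, hrow, hsym, hpair⟩ := ntgood_data T (by norm_num) hG
  have hm_0 := T.m_pos 0
  have hw_0 := T.w_pos 0
  have hm_1 := T.m_pos 1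
  have hw_1 := T.w_pos 1
  have hm_2 := T.m_pos 2
  have hw_2 := T.w_pos 2
  have hm_3 := T.m_pos 3
  have hw_3 := T.w_pos 3
  have hm_4 := T.m_pos 4
  have hw_4 := T.w_pos 4
  have hx_1 := hmax 1
  have hx_2 := hmax 2
  have hx_3 := hmax 3
  have hx_4 := hmax 4
  have R_0 := hrow 0
  rw [Fin.sum_univ_five, hdP 0, e_0_1, e_0_2, e_0_3, e_0_4] at R_0
  have R_1 := hrow 1
  rw [Fin.sum_univ_five, hdP 1, e_1_0, e_1_2, e_1_3, e_1_4] at R_1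
  have R_2 := hrow 2
  rw [Fin.sum_univ_five, hdP 2, e_2_0, e_2_1, e_2_3, e_2_4] at R_2
  have R_3 := hrow 3
  rw [Fin.sum_univ_five, hdP 3, e_3_0, e_3_1, e_3_2, e_3_4] at R_3
  have R_4 := hrow 4
  rw [Fin.sum_univ_five, hdP 4, e_4_0, e_4_1, e_4_2, e_4_3] at R_4
  have S_0_1 := hsym 0 1
  rw [e_0_1, e_1_0] at S_0_1
  have S_0_2 := hsym 0 2
  rw [e_0_2, e_2_0] at S_0_2
  have S_0_3 := hsym 0 3
  rw [e_0_3, e_3_0] at S_0_3
  have S_0_4 := hsym 0 4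
  rw [e_0_4, e_4_0] at S_0_4
  have S_1_2 := hsym 1 2
  rw [e_1_2, e_2_1] at S_1_2
  have S_1_3 := hsym 1 3
  rw [e_1_3, e_3_1] at S_1_3
  have S_1_4 := hsym 1 4
  rw [e_1_4, e_4_1] at S_1_4
  have S_2_3 := hsym 2 3
  rw [e_2_3, e_3_2] at S_2_3
  have S_2_4 := hsym 2 4
  rw [e_2_4, e_4_2] at S_2_4
  have S_3_4 := hsym 3 4
  rw [e_3_4, e_4_3] at S_3_4
  have D_0 := hdA 0
  have A_0_1 := nt_a_eq T 0 1
  rw [e_0_1] at A_0_1
  have A_0_2 := nt_a_eq T 0 2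
  rw [e_0_2] at A_0_2
  have A_0_3 := nt_a_eq T 0 3
  rw [e_0_3] at A_0_3
  have A_0_4 := nt_a_eq T 0 4
  rw [e_0_4] at A_0_4
  have D_1 := hdA 1
  have A_1_0 := nt_a_eq T 1 0
  rw [e_1_0] at A_1_0
  have A_1_2 := nt_a_eq T 1 2
  rw [e_1_2] at A_1_2
  have A_1_3 := nt_a_eq T 1 3
  rw [e_1_3] at A_1_3
  have A_1_4 := nt_a_eq T 1 4
  rw [e_1_4] at A_1_4
  have D_2 := hdA 2
  have A_2_0 := nt_a_eq T 2 0
  rw [e_2_0] at A_2_0
  have A_2_1 := nt_a_eq T 2 1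
  rw [e_2_1] at A_2_1
  have A_2_3 := nt_a_eq T 2 3
  rw [e_2_3] at A_2_3
  have A_2_4 := nt_a_eq T 2 4
  rw [e_2_4] at A_2_4
  have D_3 := hdA 3
  have A_3_0 := nt_a_eq T 3 0
  rw [e_3_0] at A_3_0
  have A_3_1 := nt_a_eq T 3 1
  rw [e_3_1] at A_3_1
  have A_3_2 := nt_a_eq T 3 2
  rw [e_3_2] at A_3_2
  have A_3_4 := nt_a_eq T 3 4
  rw [e_3_4] at A_3_4
  have D_4 := hdA 4
  have A_4_0 := nt_a_eq T 4 0
  rw [e_4_0] at A_4_0
  have A_4_1 := nt_a_eq T 4 1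
  rw [e_4_1] at A_4_1
  have A_4_2 := nt_a_eq T 4 2
  rw [e_4_2] at A_4_2
  have A_4_3 := nt_a_eq T 4 3
  rw [e_4_3] at A_4_3
  refine goal_of_indices T hg0 3 1 0 2 4 (by decide) (T.m 4) (T.w 3) ?_
  unfold Goali
  exact Or.inr (Or.inr (Or.inr (Or.inl ⟨by omega, by omega, by omega, by omega, by omega, by omega, by omega, by omega, by omega, by omega, by omega, by omega, by omega, by omega, by omega, by omega, by omega, by omega, by omega, by omega, by omega, by omega, by omega, by omega, by omega⟩)))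

theorem ex_27 (T : Models.NumericalType 5)
    (hG : NTGood T)
    (hmax : ∀ j, T.m j ≤ T.m 0)
    (e_0_1 : T.picMatrix 0 1 = 1)
    (e_0_2 : T.picMatrix 0 2 = 1)
    (e_0_3 : T.picMatrix 0 3 = 0)
    (e_1_0 : T.picMatrix 1 0 = 1)
    (e_1_2 : T.picMatrix 1 2 = 0)
    (e_1_3 : T.picMatrix 1 3 = 1)
    (e_2_0 : T.picMatrix 2 0 = 1)
    (e_2_1 : T.picMatrix 2 1 = 0)
    (e_2_3 : T.picMatrix 2 3 = 0)
    (e_3_0 : T.picMatrix 3 0 = 0)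
    (e_3_1 : T.picMatrix 3 1 = 2)
    (e_3_2 : T.picMatrix 3 2 = 0)
    (cl : ∀ a b : Fin 5, a.val < 2 → 5 ≤ b.val → T.picMatrix a b = 0)
    (z : ∀ a : Fin 5, a.val < 2 → T.picMatrix a 4 = 0)
    (hne : T.picMatrix 2 4 ≠ 0) :
    Goal T := by
  have e_0_4 : T.picMatrix 0 4 = 0 := z 0 (by decide)
  have e_4_0 : T.picMatrix 4 0 = 0 := nt_pic_zero_symm T 0 4 e_0_4
  have e_1_4 : T.picMatrix 1 4 = 0 := z 1 (by decide)
  have e_4_1 : T.picMatrix 4 1 = 0 := nt_pic_zero_symm T 1 4 e_1_4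
  obtain ⟨hg0, hdA, hdP, hnn, hrow, hsym, hpair⟩ := ntgood_data T (by norm_num) hG
  have hm_0 := T.m_pos 0
  have hw_0 := T.w_pos 0
  have hm_1 := T.m_pos 1
  have hw_1 := T.w_pos 1
  have hm_2 := T.m_pos 2
  have hw_2 := T.w_pos 2
  have hm_3 := T.m_pos 3
  have hw_3 := T.w_pos 3
  have hm_4 := T.m_pos 4
  have hw_4 := T.w_pos 4
  have hx_1 := hmax 1
  have hx_2 := hmax 2
  have hx_3 := hmax 3
  have hx_4 := hmax 4
  have N_2_4 := mul_nonneg (hnn 2 4 (by decide)) (T.m_pos 4).le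
  have N_4_2 := mul_nonneg (hnn 4 2 (by decide)) (T.m_pos 2).le
  have N_3_4 := mul_nonneg (hnn 3 4 (by decide)) (T.m_pos 4).le
  have N_4_3 := mul_nonneg (hnn 4 3 (by decide)) (T.m_pos 3).le
  have R_0 := hrow 0
  rw [Fin.sum_univ_five, hdP 0, e_0_1, e_0_2, e_0_3, e_0_4] at R_0
  have R_1 := hrow 1
  rw [Fin.sum_univ_five, hdP 1, e_1_0, e_1_2, e_1_3, e_1_4] at R_1
  have R_2 := hrow 2
  rw [Fin.sum_univ_five, hdP 2, e_2_0, e_2_1, e_2_3] at R_2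
  have R_3 := hrow 3
  rw [Fin.sum_univ_five, hdP 3, e_3_0, e_3_1, e_3_2] at R_3
  have R_4 := hrow 4
  rw [Fin.sum_univ_five, hdP 4, e_4_0, e_4_1] at R_4
  have S_0_1 := hsym 0 1
  rw [e_0_1, e_1_0] at S_0_1
  have S_0_2 := hsym 0 2
  rw [e_0_2, e_2_0] at S_0_2
  have S_0_3 := hsym 0 3
  rw [e_0_3, e_3_0] at S_0_3
  have S_0_4 := hsym 0 4
  rw [e_0_4, e_4_0] at S_0_4
  have S_1_2 := hsym 1 2
  rw [e_1_2, e_2_1] at S_1_2
  have S_1_3 := hsym 1 3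
  rw [e_1_3, e_3_1] at S_1_3
  have S_1_4 := hsym 1 4
  rw [e_1_4, e_4_1] at S_1_4
  have S_2_3 := hsym 2 3
  rw [e_2_3, e_3_2] at S_2_3
  have S_2_4 := hsym 2 4
  have S_3_4 := hsym 3 4
  have Q_2 := hpair 2 4 (by decide)
  have Q_3 := hpair 3 4 (by decide)
  generalize e_2_4 : T.picMatrix 2 4 = x_2 at *
  generalize e_4_2 : T.picMatrix 4 2 = y_2 at *
  generalize e_3_4 : T.picMatrix 3 4 = x_3 at *
  generalize e_4_3 : T.picMatrix 4 3 = y_3 at *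
  rcases Q_2 with ⟨rfl, rfl⟩ | ⟨rfl, rfl⟩ | ⟨rfl, rfl⟩ | ⟨rfl, rfl⟩ | ⟨rfl, rfl⟩ | ⟨rfl, rfl⟩ | ⟨rfl, rfl⟩ | ⟨rfl, rfl⟩ | ⟨rfl, rfl⟩
  · exact absurd rfl hne
  · -- (2,4) = (1,1)
    rcases Q_3 with ⟨rfl, rfl⟩ | ⟨rfl, rfl⟩ | ⟨rfl, rfl⟩ | ⟨rfl, rfl⟩ | ⟨rfl, rfl⟩ | ⟨rfl, rfl⟩ | ⟨rfl, rfl⟩ | ⟨rfl, rfl⟩ | ⟨rfl, rfl⟩
    · -- (3,4) = (0,0)
      omega
    · -- (3,4) = (1,1)
      omega
    · -- (3,4) = (1,2)
      omega
    · -- (3,4) = (2,1)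
      omega
    · -- (3,4) = (1,3)
      omega
    · -- (3,4) = (3,1)
      omega
    · -- (3,4) = (1,4)
      omega
    · -- (3,4) = (4,1)
      omega
    · -- (3,4) = (2,2)
      omega
  · -- (2,4) = (1,2)
    rcases Q_3 with ⟨rfl, rfl⟩ | ⟨rfl, rfl⟩ | ⟨rfl, rfl⟩ | ⟨rfl, rfl⟩ | ⟨rfl, rfl⟩ | ⟨rfl, rfl⟩ | ⟨rfl, rfl⟩ | ⟨rfl, rfl⟩ | ⟨rfl, rfl⟩
    · -- (3,4) = (0,0)
      exact nd_28 T hG hmax e_0_1 e_0_2 e_0_3 e_0_4 e_1_0 e_1_2 e_1_3 e_1_4 e_2_0 e_2_1 e_2_3 e_2_4 e_3_0 e_3_1 e_3_2 e_3_4 e_4_0 e_4_1 e_4_2 e_4_3 cl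
    · -- (3,4) = (1,1)
      omega
    · -- (3,4) = (1,2)
      omega
    · -- (3,4) = (2,1)
      omega
    · -- (3,4) = (1,3)
      omega
    · -- (3,4) = (3,1)
      omega
    · -- (3,4) = (1,4)
      omega
    · -- (3,4) = (4,1)
      omega
    · -- (3,4) = (2,2)
      omega
  · -- (2,4) = (2,1)
    rcases Q_3 with ⟨rfl, rfl⟩ | ⟨rfl, rfl⟩ | ⟨rfl, rfl⟩ | ⟨rfl, rfl⟩ | ⟨rfl, rfl⟩ | ⟨rfl, rfl⟩ | ⟨rfl, rfl⟩ | ⟨rfl, rfl⟩ | ⟨rfl, rfl⟩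
    · -- (3,4) = (0,0)
      exact nd_29 T hG hmax e_0_1 e_0_2 e_0_3 e_0_4 e_1_0 e_1_2 e_1_3 e_1_4 e_2_0 e_2_1 e_2_3 e_2_4 e_3_0 e_3_1 e_3_2 e_3_4 e_4_0 e_4_1 e_4_2 e_4_3 cl
    · -- (3,4) = (1,1)
      omega
    · -- (3,4) = (1,2)
      omega
    · -- (3,4) = (2,1)
      omega
    · -- (3,4) = (1,3)
      omega
    · -- (3,4) = (3,1)
      omega
    · -- (3,4) = (1,4)
      omega
    · -- (3,4) = (4,1)
      omega
    · -- (3,4) = (2,2)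
      omega
  · omega
  · omega
  · omega
  · omega
  · omega

theorem nd_25 (T : Models.NumericalType 5)
    (hG : NTGood T)
    (hmax : ∀ j, T.m j ≤ T.m 0)
    (e_0_1 : T.picMatrix 0 1 = 1)
    (e_0_2 : T.picMatrix 0 2 = 1)
    (e_0_3 : T.picMatrix 0 3 = 0)
    (e_1_0 : T.picMatrix 1 0 = 1)
    (e_1_2 : T.picMatrix 1 2 = 0)
    (e_1_3 : T.picMatrix 1 3 = 1)
    (e_2_0 : T.picMatrix 2 0 = 1)
    (e_2_1 : T.picMatrix 2 1 = 0)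
    (e_2_3 : T.picMatrix 2 3 = 0)
    (e_3_0 : T.picMatrix 3 0 = 0)
    (e_3_1 : T.picMatrix 3 1 = 2)
    (e_3_2 : T.picMatrix 3 2 = 0)
    (cl : ∀ a b : Fin 5, a.val < 2 → 4 ≤ b.val → T.picMatrix a b = 0) :
    Goal T := by
  by_cases hc : ∀ b : Fin 5, 4 ≤ b.val → T.picMatrix 2 b = 0
  · exact nd_26 T hG hmax e_0_1 e_0_2 e_0_3 e_1_0 e_1_2 e_1_3 e_2_0 e_2_1 e_2_3 e_3_0 e_3_1 e_3_2 (nt_cl_succ T 4 2 2 rfl cl hc)
  · obtain ⟨τ, hfix, cl', z, hne⟩ := nt_wlog_step T 4 (by norm_num) 2 (by norm_num) 2 (by decide) cl hc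
    apply goal_relabel T τ
    refine ex_27 (ntRelabel T τ) (hG.relabel τ) ?_ ?_ ?_ ?_ ?_ ?_ ?_ ?_ ?_ ?_ ?_ ?_ ?_ cl' z hne
    · intro j
      show T.m (τ j) ≤ T.m (τ 0)
      rw [hfix 0 (by decide)]
      exact hmax _
    · show T.picMatrix (τ 0) (τ 1) = 1
      rw [hfix 0 (by decide), hfix 1 (by decide)]
      exact e_0_1
    · show T.picMatrix (τ 0) (τ 2) = 1
      rw [hfix 0 (by decide), hfix 2 (by decide)]
      exact e_0_2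
    · show T.picMatrix (τ 0) (τ 3) = 0
      rw [hfix 0 (by decide), hfix 3 (by decide)]
      exact e_0_3
    · show T.picMatrix (τ 1) (τ 0) = 1
      rw [hfix 1 (by decide), hfix 0 (by decide)]
      exact e_1_0
    · show T.picMatrix (τ 1) (τ 2) = 0
      rw [hfix 1 (by decide), hfix 2 (by decide)]
      exact e_1_2
    · show T.picMatrix (τ 1) (τ 3) = 1
      rw [hfix 1 (by decide), hfix 3 (by decide)]
      exact e_1_3
    · show T.picMatrix (τ 2) (τ 0) = 1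
      rw [hfix 2 (by decide), hfix 0 (by decide)]
      exact e_2_0
    · show T.picMatrix (τ 2) (τ 1) = 0
      rw [hfix 2 (by decide), hfix 1 (by decide)]
      exact e_2_1
    · show T.picMatrix (τ 2) (τ 3) = 0
      rw [hfix 2 (by decide), hfix 3 (by decide)]
      exact e_2_3
    · show T.picMatrix (τ 3) (τ 0) = 0
      rw [hfix 3 (by decide), hfix 0 (by decide)]
      exact e_3_0
    · show T.picMatrix (τ 3) (τ 1) = 2
      rw [hfix 3 (by decide), hfix 1 (by decide)]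
      exact e_3_1
    · show T.picMatrix (τ 3) (τ 2) = 0
      rw [hfix 3 (by decide), hfix 2 (by decide)]
      exact e_3_2

theorem ex_30 (T : Models.NumericalType 5)
    (hG : NTGood T)
    (hmax : ∀ j, T.m j ≤ T.m 0)
    (e_0_1 : T.picMatrix 0 1 = 1)
    (e_0_2 : T.picMatrix 0 2 = 1)
    (e_0_3 : T.picMatrix 0 3 = 0)
    (e_1_0 : T.picMatrix 1 0 = 1)
    (e_1_2 : T.picMatrix 1 2 = 0)
    (e_1_3 : T.picMatrix 1 3 = 1)
    (e_2_0 : T.picMatrix 2 0 = 1)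
    (e_2_1 : T.picMatrix 2 1 = 0)
    (e_2_3 : T.picMatrix 2 3 = 0)
    (e_3_0 : T.picMatrix 3 0 = 0)
    (e_3_1 : T.picMatrix 3 1 = 2)
    (e_3_2 : T.picMatrix 3 2 = 0)
    (cl : ∀ a b : Fin 5, a.val < 1 → 5 ≤ b.val → T.picMatrix a b = 0)
    (z : ∀ a : Fin 5, a.val < 1 → T.picMatrix a 4 = 0)
    (hne : T.picMatrix 1 4 ≠ 0) :
    Goal T := by
  have e_0_4 : T.picMatrix 0 4 = 0 := z 0 (by decide)
  have e_4_0 : T.picMatrix 4 0 = 0 := nt_pic_zero_symm T 0 4 e_0_4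
  obtain ⟨hg0, hdA, hdP, hnn, hrow, hsym, hpair⟩ := ntgood_data T (by norm_num) hG
  have hm_0 := T.m_pos 0
  have hw_0 := T.w_pos 0
  have hm_1 := T.m_pos 1
  have hw_1 := T.w_pos 1
  have hm_2 := T.m_pos 2
  have hw_2 := T.w_pos 2
  have hm_3 := T.m_pos 3
  have hw_3 := T.w_pos 3
  have hm_4 := T.m_pos 4
  have hw_4 := T.w_pos 4
  have hx_1 := hmax 1
  have hx_2 := hmax 2
  have hx_3 := hmax 3
  have hx_4 := hmax 4
  have N_1_4 := mul_nonneg (hnn 1 4 (by decide)) (T.m_pos 4).le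
  have N_4_1 := mul_nonneg (hnn 4 1 (by decide)) (T.m_pos 1).le
  have N_2_4 := mul_nonneg (hnn 2 4 (by decide)) (T.m_pos 4).le
  have N_4_2 := mul_nonneg (hnn 4 2 (by decide)) (T.m_pos 2).le
  have N_3_4 := mul_nonneg (hnn 3 4 (by decide)) (T.m_pos 4).le
  have N_4_3 := mul_nonneg (hnn 4 3 (by decide)) (T.m_pos 3).le
  have R_0 := hrow 0
  rw [Fin.sum_univ_five, hdP 0, e_0_1, e_0_2, e_0_3, e_0_4] at R_0
  have R_1 := hrow 1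
  rw [Fin.sum_univ_five, hdP 1, e_1_0, e_1_2, e_1_3] at R_1
  have R_2 := hrow 2
  rw [Fin.sum_univ_five, hdP 2, e_2_0, e_2_1, e_2_3] at R_2
  have R_3 := hrow 3
  rw [Fin.sum_univ_five, hdP 3, e_3_0, e_3_1, e_3_2] at R_3
  have R_4 := hrow 4
  rw [Fin.sum_univ_five, hdP 4, e_4_0] at R_4
  have S_0_1 := hsym 0 1
  rw [e_0_1, e_1_0] at S_0_1
  have S_0_2 := hsym 0 2
  rw [e_0_2, e_2_0] at S_0_2
  have S_0_3 := hsym 0 3
  rw [e_0_3, e_3_0] at S_0_3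
  have S_0_4 := hsym 0 4
  rw [e_0_4, e_4_0] at S_0_4
  have S_1_2 := hsym 1 2
  rw [e_1_2, e_2_1] at S_1_2
  have S_1_3 := hsym 1 3
  rw [e_1_3, e_3_1] at S_1_3
  have S_1_4 := hsym 1 4
  have S_2_3 := hsym 2 3
  rw [e_2_3, e_3_2] at S_2_3
  have S_2_4 := hsym 2 4
  have S_3_4 := hsym 3 4
  have Q_1 := hpair 1 4 (by decide)
  have Q_2 := hpair 2 4 (by decide)
  have Q_3 := hpair 3 4 (by decide)
  generalize e_1_4 : T.picMatrix 1 4 = x_1 at *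
  generalize e_4_1 : T.picMatrix 4 1 = y_1 at *
  generalize e_2_4 : T.picMatrix 2 4 = x_2 at *
  generalize e_4_2 : T.picMatrix 4 2 = y_2 at *
  generalize e_3_4 : T.picMatrix 3 4 = x_3 at *
  generalize e_4_3 : T.picMatrix 4 3 = y_3 at *
  rcases Q_1 with ⟨rfl, rfl⟩ | ⟨rfl, rfl⟩ | ⟨rfl, rfl⟩ | ⟨rfl, rfl⟩ | ⟨rfl, rfl⟩ | ⟨rfl, rfl⟩ | ⟨rfl, rfl⟩ | ⟨rfl, rfl⟩ | ⟨rfl, rfl⟩
  · exact absurd rfl hne
  · omega
  · omega
  · omega
  · omega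
  · omega
  · omega
  · omega
  · omega

theorem nd_24 (T : Models.NumericalType 5)
    (hG : NTGood T)
    (hmax : ∀ j, T.m j ≤ T.m 0)
    (e_0_1 : T.picMatrix 0 1 = 1)
    (e_0_2 : T.picMatrix 0 2 = 1)
    (e_0_3 : T.picMatrix 0 3 = 0)
    (e_1_0 : T.picMatrix 1 0 = 1)
    (e_1_2 : T.picMatrix 1 2 = 0)
    (e_1_3 : T.picMatrix 1 3 = 1)
    (e_2_0 : T.picMatrix 2 0 = 1)
    (e_2_1 : T.picMatrix 2 1 = 0)
    (e_2_3 : T.picMatrix 2 3 = 0)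
    (e_3_0 : T.picMatrix 3 0 = 0)
    (e_3_1 : T.picMatrix 3 1 = 2)
    (e_3_2 : T.picMatrix 3 2 = 0)
    (cl : ∀ a b : Fin 5, a.val < 1 → 4 ≤ b.val → T.picMatrix a b = 0) :
    Goal T := by
  by_cases hc : ∀ b : Fin 5, 4 ≤ b.val → T.picMatrix 1 b = 0
  · exact nd_25 T hG hmax e_0_1 e_0_2 e_0_3 e_1_0 e_1_2 e_1_3 e_2_0 e_2_1 e_2_3 e_3_0 e_3_1 e_3_2 (nt_cl_succ T 4 1 1 rfl cl hc)
  · obtain ⟨τ, hfix, cl', z, hne⟩ := nt_wlog_step T 4 (by norm_num) 1 (by norm_num) 1 (by decide) cl hc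
    apply goal_relabel T τ
    refine ex_30 (ntRelabel T τ) (hG.relabel τ) ?_ ?_ ?_ ?_ ?_ ?_ ?_ ?_ ?_ ?_ ?_ ?_ ?_ cl' z hne
    · intro j
      show T.m (τ j) ≤ T.m (τ 0)
      rw [hfix 0 (by decide)]
      exact hmax _
    · show T.picMatrix (τ 0) (τ 1) = 1
      rw [hfix 0 (by decide), hfix 1 (by decide)]
      exact e_0_1
    · show T.picMatrix (τ 0) (τ 2) = 1
      rw [hfix 0 (by decide), hfix 2 (by decide)]
      exact e_0_2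
    · show T.picMatrix (τ 0) (τ 3) = 0
      rw [hfix 0 (by decide), hfix 3 (by decide)]
      exact e_0_3
    · show T.picMatrix (τ 1) (τ 0) = 1
      rw [hfix 1 (by decide), hfix 0 (by decide)]
      exact e_1_0
    · show T.picMatrix (τ 1) (τ 2) = 0
      rw [hfix 1 (by decide), hfix 2 (by decide)]
      exact e_1_2
    · show T.picMatrix (τ 1) (τ 3) = 1
      rw [hfix 1 (by decide), hfix 3 (by decide)]
      exact e_1_3
    · show T.picMatrix (τ 2) (τ 0) = 1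
      rw [hfix 2 (by decide), hfix 0 (by decide)]
      exact e_2_0
    · show T.picMatrix (τ 2) (τ 1) = 0
      rw [hfix 2 (by decide), hfix 1 (by decide)]
      exact e_2_1
    · show T.picMatrix (τ 2) (τ 3) = 0
      rw [hfix 2 (by decide), hfix 3 (by decide)]
      exact e_2_3
    · show T.picMatrix (τ 3) (τ 0) = 0
      rw [hfix 3 (by decide), hfix 0 (by decide)]
      exact e_3_0
    · show T.picMatrix (τ 3) (τ 1) = 2
      rw [hfix 3 (by decide), hfix 1 (by decide)]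
      exact e_3_1
    · show T.picMatrix (τ 3) (τ 2) = 0
      rw [hfix 3 (by decide), hfix 2 (by decide)]
      exact e_3_2

theorem nd_33 (T : Models.NumericalType 5)
    (hG : NTGood T)
    (hmax : ∀ j, T.m j ≤ T.m 0)
    (e_0_1 : T.picMatrix 0 1 = 1)
    (e_0_2 : T.picMatrix 0 2 = 1)
    (e_0_3 : T.picMatrix 0 3 = 0)
    (e_1_0 : T.picMatrix 1 0 = 1)
    (e_1_2 : T.picMatrix 1 2 = 0)
    (e_1_3 : T.picMatrix 1 3 = 2)
    (e_2_0 : T.picMatrix 2 0 = 1)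
    (e_2_1 : T.picMatrix 2 1 = 0)
    (e_2_3 : T.picMatrix 2 3 = 0)
    (e_3_0 : T.picMatrix 3 0 = 0)
    (e_3_1 : T.picMatrix 3 1 = 1)
    (e_3_2 : T.picMatrix 3 2 = 0)
    (cl : ∀ a b : Fin 5, a.val < 3 → 4 ≤ b.val → T.picMatrix a b = 0) :
    Goal T := by
  obtain ⟨hg0, hdA, hdP, hnn, hrow, hsym, hpair⟩ := ntgood_data T (by norm_num) hG
  have hm_0 := T.m_pos 0
  have hw_0 := T.w_pos 0
  have hm_1 := T.m_pos 1
  have hw_1 := T.w_pos 1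
  have hm_2 := T.m_pos 2
  have hw_2 := T.w_pos 2
  have hm_3 := T.m_pos 3
  have hw_3 := T.w_pos 3
  have hx_1 := hmax 1
  have hx_2 := hmax 2
  have hx_3 := hmax 3
  have Z_0_4 := cl 0 4 (by decide) (by decide)
  have Z_1_4 := cl 1 4 (by decide) (by decide)
  have Z_2_4 := cl 2 4 (by decide) (by decide)
  have N_3_4 := mul_nonneg (hnn 3 4 (by decide)) (T.m_pos 4).le
  have R_0 := hrow 0
  rw [Fin.sum_univ_five, hdP 0, e_0_1, e_0_2, e_0_3, Z_0_4] at R_0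
  have R_1 := hrow 1
  rw [Fin.sum_univ_five, hdP 1, e_1_0, e_1_2, e_1_3, Z_1_4] at R_1
  have R_2 := hrow 2
  rw [Fin.sum_univ_five, hdP 2, e_2_0, e_2_1, e_2_3, Z_2_4] at R_2
  have R_3 := hrow 3
  rw [Fin.sum_univ_five, hdP 3, e_3_0, e_3_1, e_3_2] at R_3
  have S_0_1 := hsym 0 1
  rw [e_0_1, e_1_0] at S_0_1
  have S_0_2 := hsym 0 2
  rw [e_0_2, e_2_0] at S_0_2
  have S_0_3 := hsym 0 3
  rw [e_0_3, e_3_0] at S_0_3
  have S_1_2 := hsym 1 2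
  rw [e_1_2, e_2_1] at S_1_2
  have S_1_3 := hsym 1 3
  rw [e_1_3, e_3_1] at S_1_3
  have S_2_3 := hsym 2 3
  rw [e_2_3, e_3_2] at S_2_3
  exfalso
  omega

theorem nd_35 (T : Models.NumericalType 5)
    (hG : NTGood T)
    (hmax : ∀ j, T.m j ≤ T.m 0)
    (e_0_1 : T.picMatrix 0 1 = 1)
    (e_0_2 : T.picMatrix 0 2 = 1)
    (e_0_3 : T.picMatrix 0 3 = 0)
    (e_0_4 : T.picMatrix 0 4 = 0)
    (e_1_0 : T.picMatrix 1 0 = 1)
    (e_1_2 : T.picMatrix 1 2 = 0)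
    (e_1_3 : T.picMatrix 1 3 = 2)
    (e_1_4 : T.picMatrix 1 4 = 0)
    (e_2_0 : T.picMatrix 2 0 = 1)
    (e_2_1 : T.picMatrix 2 1 = 0)
    (e_2_3 : T.picMatrix 2 3 = 0)
    (e_2_4 : T.picMatrix 2 4 = 1)
    (e_3_0 : T.picMatrix 3 0 = 0)
    (e_3_1 : T.picMatrix 3 1 = 1)
    (e_3_2 : T.picMatrix 3 2 = 0)
    (e_3_4 : T.picMatrix 3 4 = 0)
    (e_4_0 : T.picMatrix 4 0 = 0)
    (e_4_1 : T.picMatrix 4 1 = 0)
    (e_4_2 : T.picMatrix 4 2 = 2)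
    (e_4_3 : T.picMatrix 4 3 = 0)
    (cl : ∀ a b : Fin 5, a.val < 2 → 5 ≤ b.val → T.picMatrix a b = 0) :
    Goal T := by
  obtain ⟨hg0, hdA, hdP, hnn, hrow, hsym, hpair⟩ := ntgood_data T (by norm_num) hG
  have hm_0 := T.m_pos 0
  have hw_0 := T.w_pos 0
  have hm_1 := T.m_pos 1
  have hw_1 := T.w_pos 1
  have hm_2 := T.m_pos 2
  have hw_2 := T.w_pos 2
  have hm_3 := T.m_pos 3
  have hw_3 := T.w_pos 3
  have hm_4 := T.m_pos 4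
  have hw_4 := T.w_pos 4
  have hx_1 := hmax 1
  have hx_2 := hmax 2
  have hx_3 := hmax 3
  have hx_4 := hmax 4
  have R_0 := hrow 0
  rw [Fin.sum_univ_five, hdP 0, e_0_1, e_0_2, e_0_3, e_0_4] at R_0
  have R_1 := hrow 1
  rw [Fin.sum_univ_five, hdP 1, e_1_0, e_1_2, e_1_3, e_1_4] at R_1
  have R_2 := hrow 2
  rw [Fin.sum_univ_five, hdP 2, e_2_0, e_2_1, e_2_3, e_2_4] at R_2
  have R_3 := hrow 3
  rw [Fin.sum_univ_five, hdP 3, e_3_0, e_3_1, e_3_2, e_3_4] at R_3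
  have R_4 := hrow 4
  rw [Fin.sum_univ_five, hdP 4, e_4_0, e_4_1, e_4_2, e_4_3] at R_4
  have S_0_1 := hsym 0 1
  rw [e_0_1, e_1_0] at S_0_1
  have S_0_2 := hsym 0 2
  rw [e_0_2, e_2_0] at S_0_2
  have S_0_3 := hsym 0 3
  rw [e_0_3, e_3_0] at S_0_3
  have S_0_4 := hsym 0 4
  rw [e_0_4, e_4_0] at S_0_4
  have S_1_2 := hsym 1 2
  rw [e_1_2, e_2_1] at S_1_2
  have S_1_3 := hsym 1 3
  rw [e_1_3, e_3_1] at S_1_3
  have S_1_4 := hsym 1 4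
  rw [e_1_4, e_4_1] at S_1_4
  have S_2_3 := hsym 2 3
  rw [e_2_3, e_3_2] at S_2_3
  have S_2_4 := hsym 2 4
  rw [e_2_4, e_4_2] at S_2_4
  have S_3_4 := hsym 3 4
  rw [e_3_4, e_4_3] at S_3_4
  have D_0 := hdA 0
  have A_0_1 := nt_a_eq T 0 1
  rw [e_0_1] at A_0_1
  have A_0_2 := nt_a_eq T 0 2
  rw [e_0_2] at A_0_2
  have A_0_3 := nt_a_eq T 0 3
  rw [e_0_3] at A_0_3
  have A_0_4 := nt_a_eq T 0 4
  rw [e_0_4] at A_0_4
  have D_1 := hdA 1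
  have A_1_0 := nt_a_eq T 1 0
  rw [e_1_0] at A_1_0
  have A_1_2 := nt_a_eq T 1 2
  rw [e_1_2] at A_1_2
  have A_1_3 := nt_a_eq T 1 3
  rw [e_1_3] at A_1_3
  have A_1_4 := nt_a_eq T 1 4
  rw [e_1_4] at A_1_4
  have D_2 := hdA 2
  have A_2_0 := nt_a_eq T 2 0
  rw [e_2_0] at A_2_0
  have A_2_1 := nt_a_eq T 2 1
  rw [e_2_1] at A_2_1
  have A_2_3 := nt_a_eq T 2 3
  rw [e_2_3] at A_2_3
  have A_2_4 := nt_a_eq T 2 4
  rw [e_2_4] at A_2_4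
  have D_3 := hdA 3
  have A_3_0 := nt_a_eq T 3 0
  rw [e_3_0] at A_3_0
  have A_3_1 := nt_a_eq T 3 1
  rw [e_3_1] at A_3_1
  have A_3_2 := nt_a_eq T 3 2
  rw [e_3_2] at A_3_2
  have A_3_4 := nt_a_eq T 3 4
  rw [e_3_4] at A_3_4
  have D_4 := hdA 4
  have A_4_0 := nt_a_eq T 4 0
  rw [e_4_0] at A_4_0
  have A_4_1 := nt_a_eq T 4 1
  rw [e_4_1] at A_4_1
  have A_4_2 := nt_a_eq T 4 2
  rw [e_4_2] at A_4_2
  have A_4_3 := nt_a_eq T 4 3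
  rw [e_4_3] at A_4_3
  refine goal_of_indices T hg0 4 2 0 1 3 (by decide) (T.m 3) (T.w 4) ?_
  unfold Goali
  exact Or.inr (Or.inr (Or.inr (Or.inl ⟨by omega, by omega, by omega, by omega, by omega, by omega, by omega, by omega, by omega, by omega, by omega, by omega, by omega, by omega, by omega, by omega, by omega, by omega, by omega, by omega, by omega, by omega, by omega, by omega, by omega⟩)))

theorem nd_36 (T : Models.NumericalType 5)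
    (hG : NTGood T)
    (hmax : ∀ j, T.m j ≤ T.m 0)
    (e_0_1 : T.picMatrix 0 1 = 1)
    (e_0_2 : T.picMatrix 0 2 = 1)
    (e_0_3 : T.picMatrix 0 3 = 0)
    (e_0_4 : T.picMatrix 0 4 = 0)
    (e_1_0 : T.picMatrix 1 0 = 1)
    (e_1_2 : T.picMatrix 1 2 = 0)
    (e_1_3 : T.picMatrix 1 3 = 2)
    (e_1_4 : T.picMatrix 1 4 = 0)
    (e_2_0 : T.picMatrix 2 0 = 1)
    (e_2_1 : T.picMatrix 2 1 = 0)
    (e_2_3 : T.picMatrix 2 3 = 0)
    (e_2_4 : T.picMatrix 2 4 = 2)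
    (e_3_0 : T.picMatrix 3 0 = 0)
    (e_3_1 : T.picMatrix 3 1 = 1)
    (e_3_2 : T.picMatrix 3 2 = 0)
    (e_3_4 : T.picMatrix 3 4 = 0)
    (e_4_0 : T.picMatrix 4 0 = 0)
    (e_4_1 : T.picMatrix 4 1 = 0)
    (e_4_2 : T.picMatrix 4 2 = 1)
    (e_4_3 : T.picMatrix 4 3 = 0)
    (cl : ∀ a b : Fin 5, a.val < 2 → 5 ≤ b.val → T.picMatrix a b = 0) :
    Goal T := by
  obtain ⟨hg0, hdA, hdP, hnn, hrow, hsym, hpair⟩ := ntgood_data T (by norm_num) hG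
  have hm_0 := T.m_pos 0
  have hw_0 := T.w_pos 0
  have hm_1 := T.m_pos 1
  have hw_1 := T.w_pos 1
  have hm_2 := T.m_pos 2
  have hw_2 := T.w_pos 2
  have hm_3 := T.m_pos 3
  have hw_3 := T.w_pos 3
  have hm_4 := T.m_pos 4
  have hw_4 := T.w_pos 4
  have hx_1 := hmax 1
  have hx_2 := hmax 2
  have hx_3 := hmax 3
  have hx_4 := hmax 4
  have R_0 := hrow 0
  rw [Fin.sum_univ_five, hdP 0, e_0_1, e_0_2, e_0_3, e_0_4] at R_0
  have R_1 := hrow 1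
  rw [Fin.sum_univ_five, hdP 1, e_1_0, e_1_2, e_1_3, e_1_4] at R_1
  have R_2 := hrow 2
  rw [Fin.sum_univ_five, hdP 2, e_2_0, e_2_1, e_2_3, e_2_4] at R_2
  have R_3 := hrow 3
  rw [Fin.sum_univ_five, hdP 3, e_3_0, e_3_1, e_3_2, e_3_4] at R_3
  have R_4 := hrow 4
  rw [Fin.sum_univ_five, hdP 4, e_4_0, e_4_1, e_4_2, e_4_3] at R_4
  have S_0_1 := hsym 0 1
  rw [e_0_1, e_1_0] at S_0_1
  have S_0_2 := hsym 0 2
  rw [e_0_2, e_2_0] at S_0_2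
  have S_0_3 := hsym 0 3
  rw [e_0_3, e_3_0] at S_0_3
  have S_0_4 := hsym 0 4
  rw [e_0_4, e_4_0] at S_0_4
  have S_1_2 := hsym 1 2
  rw [e_1_2, e_2_1] at S_1_2
  have S_1_3 := hsym 1 3
  rw [e_1_3, e_3_1] at S_1_3
  have S_1_4 := hsym 1 4
  rw [e_1_4, e_4_1] at S_1_4
  have S_2_3 := hsym 2 3
  rw [e_2_3, e_3_2] at S_2_3
  have S_2_4 := hsym 2 4
  rw [e_2_4, e_4_2] at S_2_4
  have S_3_4 := hsym 3 4
  rw [e_3_4, e_4_3] at S_3_4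
  have D_0 := hdA 0
  have A_0_1 := nt_a_eq T 0 1
  rw [e_0_1] at A_0_1
  have A_0_2 := nt_a_eq T 0 2
  rw [e_0_2] at A_0_2
  have A_0_3 := nt_a_eq T 0 3
  rw [e_0_3] at A_0_3
  have A_0_4 := nt_a_eq T 0 4
  rw [e_0_4] at A_0_4
  have D_1 := hdA 1
  have A_1_0 := nt_a_eq T 1 0
  rw [e_1_0] at A_1_0
  have A_1_2 := nt_a_eq T 1 2
  rw [e_1_2] at A_1_2
  have A_1_3 := nt_a_eq T 1 3
  rw [e_1_3] at A_1_3
  have A_1_4 := nt_a_eq T 1 4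
  rw [e_1_4] at A_1_4
  have D_2 := hdA 2
  have A_2_0 := nt_a_eq T 2 0
  rw [e_2_0] at A_2_0
  have A_2_1 := nt_a_eq T 2 1
  rw [e_2_1] at A_2_1
  have A_2_3 := nt_a_eq T 2 3
  rw [e_2_3] at A_2_3
  have A_2_4 := nt_a_eq T 2 4
  rw [e_2_4] at A_2_4
  have D_3 := hdA 3
  have A_3_0 := nt_a_eq T 3 0
  rw [e_3_0] at A_3_0
  have A_3_1 := nt_a_eq T 3 1
  rw [e_3_1] at A_3_1
  have A_3_2 := nt_a_eq T 3 2
  rw [e_3_2] at A_3_2
  have A_3_4 := nt_a_eq T 3 4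
  rw [e_3_4] at A_3_4
  have D_4 := hdA 4
  have A_4_0 := nt_a_eq T 4 0
  rw [e_4_0] at A_4_0
  have A_4_1 := nt_a_eq T 4 1
  rw [e_4_1] at A_4_1
  have A_4_2 := nt_a_eq T 4 2
  rw [e_4_2] at A_4_2
  have A_4_3 := nt_a_eq T 4 3
  rw [e_4_3] at A_4_3
  refine goal_of_indices T hg0 3 1 0 2 4 (by decide) (T.m 3) (T.w 1) ?_
  unfold Goali
  exact Or.inr (Or.inr (Or.inr (Or.inr (Or.inr (Or.inl ⟨by omega, by omega, by omega, by omega, by omega, by omega, by omega, by omega, by omega, by omega, by omega, by omega, by omega, by omega, by omega, by omega, by omega, by omega, by omega, by omega, by omega, by omega, by omega, by omega, by omega⟩)))))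

theorem ex_34 (T : Models.NumericalType 5)
    (hG : NTGood T)
    (hmax : ∀ j, T.m j ≤ T.m 0)
    (e_0_1 : T.picMatrix 0 1 = 1)
    (e_0_2 : T.picMatrix 0 2 = 1)
    (e_0_3 : T.picMatrix 0 3 = 0)
    (e_1_0 : T.picMatrix 1 0 = 1)
    (e_1_2 : T.picMatrix 1 2 = 0)
    (e_1_3 : T.picMatrix 1 3 = 2)
    (e_2_0 : T.picMatrix 2 0 = 1)
    (e_2_1 : T.picMatrix 2 1 = 0)
    (e_2_3 : T.picMatrix 2 3 = 0)
    (e_3_0 : T.picMatrix 3 0 = 0)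
    (e_3_1 : T.picMatrix 3 1 = 1)
    (e_3_2 : T.picMatrix 3 2 = 0)
    (cl : ∀ a b : Fin 5, a.val < 2 → 5 ≤ b.val → T.picMatrix a b = 0)
    (z : ∀ a : Fin 5, a.val < 2 → T.picMatrix a 4 = 0)
    (hne : T.picMatrix 2 4 ≠ 0) :
    Goal T := by
  have e_0_4 : T.picMatrix 0 4 = 0 := z 0 (by decide)
  have e_4_0 : T.picMatrix 4 0 = 0 := nt_pic_zero_symm T 0 4 e_0_4
  have e_1_4 : T.picMatrix 1 4 = 0 := z 1 (by decide)
  have e_4_1 : T.picMatrix 4 1 = 0 := nt_pic_zero_symm T 1 4 e_1_4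
  obtain ⟨hg0, hdA, hdP, hnn, hrow, hsym, hpair⟩ := ntgood_data T (by norm_num) hG
  have hm_0 := T.m_pos 0
  have hw_0 := T.w_pos 0
  have hm_1 := T.m_pos 1
  have hw_1 := T.w_pos 1
  have hm_2 := T.m_pos 2
  have hw_2 := T.w_pos 2
  have hm_3 := T.m_pos 3
  have hw_3 := T.w_pos 3
  have hm_4 := T.m_pos 4
  have hw_4 := T.w_pos 4
  have hx_1 := hmax 1
  have hx_2 := hmax 2
  have hx_3 := hmax 3
  have hx_4 := hmax 4
  have N_2_4 := mul_nonneg (hnn 2 4 (by decide)) (T.m_pos 4).le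
  have N_4_2 := mul_nonneg (hnn 4 2 (by decide)) (T.m_pos 2).le
  have N_3_4 := mul_nonneg (hnn 3 4 (by decide)) (T.m_pos 4).le
  have N_4_3 := mul_nonneg (hnn 4 3 (by decide)) (T.m_pos 3).le
  have R_0 := hrow 0
  rw [Fin.sum_univ_five, hdP 0, e_0_1, e_0_2, e_0_3, e_0_4] at R_0
  have R_1 := hrow 1
  rw [Fin.sum_univ_five, hdP 1, e_1_0, e_1_2, e_1_3, e_1_4] at R_1
  have R_2 := hrow 2
  rw [Fin.sum_univ_five, hdP 2, e_2_0, e_2_1, e_2_3] at R_2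
  have R_3 := hrow 3
  rw [Fin.sum_univ_five, hdP 3, e_3_0, e_3_1, e_3_2] at R_3
  have R_4 := hrow 4
  rw [Fin.sum_univ_five, hdP 4, e_4_0, e_4_1] at R_4
  have S_0_1 := hsym 0 1
  rw [e_0_1, e_1_0] at S_0_1
  have S_0_2 := hsym 0 2
  rw [e_0_2, e_2_0] at S_0_2
  have S_0_3 := hsym 0 3
  rw [e_0_3, e_3_0] at S_0_3
  have S_0_4 := hsym 0 4
  rw [e_0_4, e_4_0] at S_0_4
  have S_1_2 := hsym 1 2
  rw [e_1_2, e_2_1] at S_1_2
  have S_1_3 := hsym 1 3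
  rw [e_1_3, e_3_1] at S_1_3
  have S_1_4 := hsym 1 4
  rw [e_1_4, e_4_1] at S_1_4
  have S_2_3 := hsym 2 3
  rw [e_2_3, e_3_2] at S_2_3
  have S_2_4 := hsym 2 4
  have S_3_4 := hsym 3 4
  have Q_2 := hpair 2 4 (by decide)
  have Q_3 := hpair 3 4 (by decide)
  generalize e_2_4 : T.picMatrix 2 4 = x_2 at *
  generalize e_4_2 : T.picMatrix 4 2 = y_2 at *
  generalize e_3_4 : T.picMatrix 3 4 = x_3 at *
  generalize e_4_3 : T.picMatrix 4 3 = y_3 at *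
  rcases Q_2 with ⟨rfl, rfl⟩ | ⟨rfl, rfl⟩ | ⟨rfl, rfl⟩ | ⟨rfl, rfl⟩ | ⟨rfl, rfl⟩ | ⟨rfl, rfl⟩ | ⟨rfl, rfl⟩ | ⟨rfl, rfl⟩ | ⟨rfl, rfl⟩
  · exact absurd rfl hne
  · -- (2,4) = (1,1)
    rcases Q_3 with ⟨rfl, rfl⟩ | ⟨rfl, rfl⟩ | ⟨rfl, rfl⟩ | ⟨rfl, rfl⟩ | ⟨rfl, rfl⟩ | ⟨rfl, rfl⟩ | ⟨rfl, rfl⟩ | ⟨rfl, rfl⟩ | ⟨rfl, rfl⟩
    · -- (3,4) = (0,0)
      omega
    · -- (3,4) = (1,1)
      omega
    · -- (3,4) = (1,2)
      omega
    · -- (3,4) = (2,1)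
      omega
    · -- (3,4) = (1,3)
      omega
    · -- (3,4) = (3,1)
      omega
    · -- (3,4) = (1,4)
      omega
    · -- (3,4) = (4,1)
      omega
    · -- (3,4) = (2,2)
      omega
  · -- (2,4) = (1,2)
    rcases Q_3 with ⟨rfl, rfl⟩ | ⟨rfl, rfl⟩ | ⟨rfl, rfl⟩ | ⟨rfl, rfl⟩ | ⟨rfl, rfl⟩ | ⟨rfl, rfl⟩ | ⟨rfl, rfl⟩ | ⟨rfl, rfl⟩ | ⟨rfl, rfl⟩
    · -- (3,4) = (0,0)
      exact nd_35 T hG hmax e_0_1 e_0_2 e_0_3 e_0_4 e_1_0 e_1_2 e_1_3 e_1_4 e_2_0 e_2_1 e_2_3 e_2_4 e_3_0 e_3_1 e_3_2 e_3_4 e_4_0 e_4_1 e_4_2 e_4_3 cl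
    · -- (3,4) = (1,1)
      omega
    · -- (3,4) = (1,2)
      omega
    · -- (3,4) = (2,1)
      omega
    · -- (3,4) = (1,3)
      omega
    · -- (3,4) = (3,1)
      omega
    · -- (3,4) = (1,4)
      omega
    · -- (3,4) = (4,1)
      omega
    · -- (3,4) = (2,2)
      omega
  · -- (2,4) = (2,1)
    rcases Q_3 with ⟨rfl, rfl⟩ | ⟨rfl, rfl⟩ | ⟨rfl, rfl⟩ | ⟨rfl, rfl⟩ | ⟨rfl, rfl⟩ | ⟨rfl, rfl⟩ | ⟨rfl, rfl⟩ | ⟨rfl, rfl⟩ | ⟨rfl, rfl⟩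
    · -- (3,4) = (0,0)
      exact nd_36 T hG hmax e_0_1 e_0_2 e_0_3 e_0_4 e_1_0 e_1_2 e_1_3 e_1_4 e_2_0 e_2_1 e_2_3 e_2_4 e_3_0 e_3_1 e_3_2 e_3_4 e_4_0 e_4_1 e_4_2 e_4_3 cl
    · -- (3,4) = (1,1)
      omega
    · -- (3,4) = (1,2)
      omega
    · -- (3,4) = (2,1)
      omega
    · -- (3,4) = (1,3)
      omega
    · -- (3,4) = (3,1)
      omega
    · -- (3,4) = (1,4)
      omega
    · -- (3,4) = (4,1)
      omega
    · -- (3,4) = (2,2)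
      omega
  · omega
  · omega
  · omega
  · omega
  · omega

theorem nd_32 (T : Models.NumericalType 5)
    (hG : NTGood T)
    (hmax : ∀ j, T.m j ≤ T.m 0)
    (e_0_1 : T.picMatrix 0 1 = 1)
    (e_0_2 : T.picMatrix 0 2 = 1)
    (e_0_3 : T.picMatrix 0 3 = 0)
    (e_1_0 : T.picMatrix 1 0 = 1)
    (e_1_2 : T.picMatrix 1 2 = 0)
    (e_1_3 : T.picMatrix 1 3 = 2)
    (e_2_0 : T.picMatrix 2 0 = 1)
    (e_2_1 : T.picMatrix 2 1 = 0)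
    (e_2_3 : T.picMatrix 2 3 = 0)
    (e_3_0 : T.picMatrix 3 0 = 0)
    (e_3_1 : T.picMatrix 3 1 = 1)
    (e_3_2 : T.picMatrix 3 2 = 0)
    (cl : ∀ a b : Fin 5, a.val < 2 → 4 ≤ b.val → T.picMatrix a b = 0) :
    Goal T := by
  by_cases hc : ∀ b : Fin 5, 4 ≤ b.val → T.picMatrix 2 b = 0
  · exact nd_33 T hG hmax e_0_1 e_0_2 e_0_3 e_1_0 e_1_2 e_1_3 e_2_0 e_2_1 e_2_3 e_3_0 e_3_1 e_3_2 (nt_cl_succ T 4 2 2 rfl cl hc)
  · obtain ⟨τ, hfix, cl', z, hne⟩ := nt_wlog_step T 4 (by norm_num) 2 (by norm_num) 2 (by decide) cl hc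
    apply goal_relabel T τ
    refine ex_34 (ntRelabel T τ) (hG.relabel τ) ?_ ?_ ?_ ?_ ?_ ?_ ?_ ?_ ?_ ?_ ?_ ?_ ?_ cl' z hne
    · intro j
      show T.m (τ j) ≤ T.m (τ 0)
      rw [hfix 0 (by decide)]
      exact hmax _
    · show T.picMatrix (τ 0) (τ 1) = 1
      rw [hfix 0 (by decide), hfix 1 (by decide)]
      exact e_0_1
    · show T.picMatrix (τ 0) (τ 2) = 1
      rw [hfix 0 (by decide), hfix 2 (by decide)]
      exact e_0_2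
    · show T.picMatrix (τ 0) (τ 3) = 0
      rw [hfix 0 (by decide), hfix 3 (by decide)]
      exact e_0_3
    · show T.picMatrix (τ 1) (τ 0) = 1
      rw [hfix 1 (by decide), hfix 0 (by decide)]
      exact e_1_0
    · show T.picMatrix (τ 1) (τ 2) = 0
      rw [hfix 1 (by decide), hfix 2 (by decide)]
      exact e_1_2
    · show T.picMatrix (τ 1) (τ 3) = 2
      rw [hfix 1 (by decide), hfix 3 (by decide)]
      exact e_1_3
    · show T.picMatrix (τ 2) (τ 0) = 1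
      rw [hfix 2 (by decide), hfix 0 (by decide)]
      exact e_2_0
    · show T.picMatrix (τ 2) (τ 1) = 0
      rw [hfix 2 (by decide), hfix 1 (by decide)]
      exact e_2_1
    · show T.picMatrix (τ 2) (τ 3) = 0
      rw [hfix 2 (by decide), hfix 3 (by decide)]
      exact e_2_3
    · show T.picMatrix (τ 3) (τ 0) = 0
      rw [hfix 3 (by decide), hfix 0 (by decide)]
      exact e_3_0
    · show T.picMatrix (τ 3) (τ 1) = 1
      rw [hfix 3 (by decide), hfix 1 (by decide)]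
      exact e_3_1
    · show T.picMatrix (τ 3) (τ 2) = 0
      rw [hfix 3 (by decide), hfix 2 (by decide)]
      exact e_3_2

theorem ex_37 (T : Models.NumericalType 5)
    (hG : NTGood T)
    (hmax : ∀ j, T.m j ≤ T.m 0)
    (e_0_1 : T.picMatrix 0 1 = 1)
    (e_0_2 : T.picMatrix 0 2 = 1)
    (e_0_3 : T.picMatrix 0 3 = 0)
    (e_1_0 : T.picMatrix 1 0 = 1)
    (e_1_2 : T.picMatrix 1 2 = 0)
    (e_1_3 : T.picMatrix 1 3 = 2)
    (e_2_0 : T.picMatrix 2 0 = 1)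
    (e_2_1 : T.picMatrix 2 1 = 0)
    (e_2_3 : T.picMatrix 2 3 = 0)
    (e_3_0 : T.picMatrix 3 0 = 0)
    (e_3_1 : T.picMatrix 3 1 = 1)
    (e_3_2 : T.picMatrix 3 2 = 0)
    (cl : ∀ a b : Fin 5, a.val < 1 → 5 ≤ b.val → T.picMatrix a b = 0)
    (z : ∀ a : Fin 5, a.val < 1 → T.picMatrix a 4 = 0)
    (hne : T.picMatrix 1 4 ≠ 0) :
    Goal T := by
  have e_0_4 : T.picMatrix 0 4 = 0 := z 0 (by decide)
  have e_4_0 : T.picMatrix 4 0 = 0 := nt_pic_zero_symm T 0 4 e_0_4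
  obtain ⟨hg0, hdA, hdP, hnn, hrow, hsym, hpair⟩ := ntgood_data T (by norm_num) hG
  have hm_0 := T.m_pos 0
  have hw_0 := T.w_pos 0
  have hm_1 := T.m_pos 1
  have hw_1 := T.w_pos 1
  have hm_2 := T.m_pos 2
  have hw_2 := T.w_pos 2
  have hm_3 := T.m_pos 3
  have hw_3 := T.w_pos 3
  have hm_4 := T.m_pos 4
  have hw_4 := T.w_pos 4
  have hx_1 := hmax 1
  have hx_2 := hmax 2
  have hx_3 := hmax 3
  have hx_4 := hmax 4
  have N_1_4 := mul_nonneg (hnn 1 4 (by decide)) (T.m_pos 4).le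
  have N_4_1 := mul_nonneg (hnn 4 1 (by decide)) (T.m_pos 1).le
  have N_2_4 := mul_nonneg (hnn 2 4 (by decide)) (T.m_pos 4).le
  have N_4_2 := mul_nonneg (hnn 4 2 (by decide)) (T.m_pos 2).le
  have N_3_4 := mul_nonneg (hnn 3 4 (by decide)) (T.m_pos 4).le
  have N_4_3 := mul_nonneg (hnn 4 3 (by decide)) (T.m_pos 3).le
  have R_0 := hrow 0
  rw [Fin.sum_univ_five, hdP 0, e_0_1, e_0_2, e_0_3, e_0_4] at R_0
  have R_1 := hrow 1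
  rw [Fin.sum_univ_five, hdP 1, e_1_0, e_1_2, e_1_3] at R_1
  have R_2 := hrow 2
  rw [Fin.sum_univ_five, hdP 2, e_2_0, e_2_1, e_2_3] at R_2
  have R_3 := hrow 3
  rw [Fin.sum_univ_five, hdP 3, e_3_0, e_3_1, e_3_2] at R_3
  have R_4 := hrow 4
  rw [Fin.sum_univ_five, hdP 4, e_4_0] at R_4
  have S_0_1 := hsym 0 1
  rw [e_0_1, e_1_0] at S_0_1
  have S_0_2 := hsym 0 2
  rw [e_0_2, e_2_0] at S_0_2
  have S_0_3 := hsym 0 3
  rw [e_0_3, e_3_0] at S_0_3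
  have S_0_4 := hsym 0 4
  rw [e_0_4, e_4_0] at S_0_4
  have S_1_2 := hsym 1 2
  rw [e_1_2, e_2_1] at S_1_2
  have S_1_3 := hsym 1 3
  rw [e_1_3, e_3_1] at S_1_3
  have S_1_4 := hsym 1 4
  have S_2_3 := hsym 2 3
  rw [e_2_3, e_3_2] at S_2_3
  have S_2_4 := hsym 2 4
  have S_3_4 := hsym 3 4
  have Q_1 := hpair 1 4 (by decide)
  have Q_2 := hpair 2 4 (by decide)
  have Q_3 := hpair 3 4 (by decide)
  generalize e_1_4 : T.picMatrix 1 4 = x_1 at *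
  generalize e_4_1 : T.picMatrix 4 1 = y_1 at *
  generalize e_2_4 : T.picMatrix 2 4 = x_2 at *
  generalize e_4_2 : T.picMatrix 4 2 = y_2 at *
  generalize e_3_4 : T.picMatrix 3 4 = x_3 at *
  generalize e_4_3 : T.picMatrix 4 3 = y_3 at *
  rcases Q_1 with ⟨rfl, rfl⟩ | ⟨rfl, rfl⟩ | ⟨rfl, rfl⟩ | ⟨rfl, rfl⟩ | ⟨rfl, rfl⟩ | ⟨rfl, rfl⟩ | ⟨rfl, rfl⟩ | ⟨rfl, rfl⟩ | ⟨rfl, rfl⟩
  · exact absurd rfl hne
  · omega
  · omega
  · omega
  · omega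
  · omega
  · omega
  · omega
  · omega

theorem nd_31 (T : Models.NumericalType 5)
    (hG : NTGood T)
    (hmax : ∀ j, T.m j ≤ T.m 0)
    (e_0_1 : T.picMatrix 0 1 = 1)
    (e_0_2 : T.picMatrix 0 2 = 1)
    (e_0_3 : T.picMatrix 0 3 = 0)
    (e_1_0 : T.picMatrix 1 0 = 1)
    (e_1_2 : T.picMatrix 1 2 = 0)
    (e_1_3 : T.picMatrix 1 3 = 2)
    (e_2_0 : T.picMatrix 2 0 = 1)
    (e_2_1 : T.picMatrix 2 1 = 0)
    (e_2_3 : T.picMatrix 2 3 = 0)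
    (e_3_0 : T.picMatrix 3 0 = 0)
    (e_3_1 : T.picMatrix 3 1 = 1)
    (e_3_2 : T.picMatrix 3 2 = 0)
    (cl : ∀ a b : Fin 5, a.val < 1 → 4 ≤ b.val → T.picMatrix a b = 0) :
    Goal T := by
  by_cases hc : ∀ b : Fin 5, 4 ≤ b.val → T.picMatrix 1 b = 0
  · exact nd_32 T hG hmax e_0_1 e_0_2 e_0_3 e_1_0 e_1_2 e_1_3 e_2_0 e_2_1 e_2_3 e_3_0 e_3_1 e_3_2 (nt_cl_succ T 4 1 1 rfl cl hc)
  · obtain ⟨τ, hfix, cl', z, hne⟩ := nt_wlog_step T 4 (by norm_num) 1 (by norm_num) 1 (by decide) cl hc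
    apply goal_relabel T τ
    refine ex_37 (ntRelabel T τ) (hG.relabel τ) ?_ ?_ ?_ ?_ ?_ ?_ ?_ ?_ ?_ ?_ ?_ ?_ ?_ cl' z hne
    · intro j
      show T.m (τ j) ≤ T.m (τ 0)
      rw [hfix 0 (by decide)]
      exact hmax _
    · show T.picMatrix (τ 0) (τ 1) = 1
      rw [hfix 0 (by decide), hfix 1 (by decide)]
      exact e_0_1
    · show T.picMatrix (τ 0) (τ 2) = 1
      rw [hfix 0 (by decide), hfix 2 (by decide)]
      exact e_0_2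
    · show T.picMatrix (τ 0) (τ 3) = 0
      rw [hfix 0 (by decide), hfix 3 (by decide)]
      exact e_0_3
    · show T.picMatrix (τ 1) (τ 0) = 1
      rw [hfix 1 (by decide), hfix 0 (by decide)]
      exact e_1_0
    · show T.picMatrix (τ 1) (τ 2) = 0
      rw [hfix 1 (by decide), hfix 2 (by decide)]
      exact e_1_2
    · show T.picMatrix (τ 1) (τ 3) = 2
      rw [hfix 1 (by decide), hfix 3 (by decide)]
      exact e_1_3
    · show T.picMatrix (τ 2) (τ 0) = 1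
      rw [hfix 2 (by decide), hfix 0 (by decide)]
      exact e_2_0
    · show T.picMatrix (τ 2) (τ 1) = 0
      rw [hfix 2 (by decide), hfix 1 (by decide)]
      exact e_2_1
    · show T.picMatrix (τ 2) (τ 3) = 0
      rw [hfix 2 (by decide), hfix 3 (by decide)]
      exact e_2_3
    · show T.picMatrix (τ 3) (τ 0) = 0
      rw [hfix 3 (by decide), hfix 0 (by decide)]
      exact e_3_0
    · show T.picMatrix (τ 3) (τ 1) = 1
      rw [hfix 3 (by decide), hfix 1 (by decide)]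
      exact e_3_1
    · show T.picMatrix (τ 3) (τ 2) = 0
      rw [hfix 3 (by decide), hfix 2 (by decide)]
      exact e_3_2

theorem ex_10 (T : Models.NumericalType 5)
    (hG : NTGood T)
    (hmax : ∀ j, T.m j ≤ T.m 0)
    (e_0_1 : T.picMatrix 0 1 = 1)
    (e_0_2 : T.picMatrix 0 2 = 1)
    (e_1_0 : T.picMatrix 1 0 = 1)
    (e_1_2 : T.picMatrix 1 2 = 0)
    (e_2_0 : T.picMatrix 2 0 = 1)
    (e_2_1 : T.picMatrix 2 1 = 0)
    (cl : ∀ a b : Fin 5, a.val < 1 → 4 ≤ b.val → T.picMatrix a b = 0)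
    (z : ∀ a : Fin 5, a.val < 1 → T.picMatrix a 3 = 0)
    (hne : T.picMatrix 1 3 ≠ 0) :
    Goal T := by
  have e_0_3 : T.picMatrix 0 3 = 0 := z 0 (by decide)
  have e_3_0 : T.picMatrix 3 0 = 0 := nt_pic_zero_symm T 0 3 e_0_3
  obtain ⟨hg0, hdA, hdP, hnn, hrow, hsym, hpair⟩ := ntgood_data T (by norm_num) hG
  have hm_0 := T.m_pos 0
  have hw_0 := T.w_pos 0
  have hm_1 := T.m_pos 1
  have hw_1 := T.w_pos 1
  have hm_2 := T.m_pos 2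
  have hw_2 := T.w_pos 2
  have hm_3 := T.m_pos 3
  have hw_3 := T.w_pos 3
  have hx_1 := hmax 1
  have hx_2 := hmax 2
  have hx_3 := hmax 3
  have Z_0_4 := cl 0 4 (by decide) (by decide)
  have N_1_4 := mul_nonneg (hnn 1 4 (by decide)) (T.m_pos 4).le
  have N_2_4 := mul_nonneg (hnn 2 4 (by decide)) (T.m_pos 4).le
  have N_3_4 := mul_nonneg (hnn 3 4 (by decide)) (T.m_pos 4).le
  have N_1_3 := mul_nonneg (hnn 1 3 (by decide)) (T.m_pos 3).le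
  have N_3_1 := mul_nonneg (hnn 3 1 (by decide)) (T.m_pos 1).le
  have N_2_3 := mul_nonneg (hnn 2 3 (by decide)) (T.m_pos 3).le
  have N_3_2 := mul_nonneg (hnn 3 2 (by decide)) (T.m_pos 2).le
  have R_0 := hrow 0
  rw [Fin.sum_univ_five, hdP 0, e_0_1, e_0_2, e_0_3, Z_0_4] at R_0
  have R_1 := hrow 1
  rw [Fin.sum_univ_five, hdP 1, e_1_0, e_1_2] at R_1
  have R_2 := hrow 2
  rw [Fin.sum_univ_five, hdP 2, e_2_0, e_2_1] at R_2
  have R_3 := hrow 3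
  rw [Fin.sum_univ_five, hdP 3, e_3_0] at R_3
  have S_0_1 := hsym 0 1
  rw [e_0_1, e_1_0] at S_0_1
  have S_0_2 := hsym 0 2
  rw [e_0_2, e_2_0] at S_0_2
  have S_0_3 := hsym 0 3
  rw [e_0_3, e_3_0] at S_0_3
  have S_1_2 := hsym 1 2
  rw [e_1_2, e_2_1] at S_1_2
  have S_1_3 := hsym 1 3
  have S_2_3 := hsym 2 3
  have Q_1 := hpair 1 3 (by decide)
  have Q_2 := hpair 2 3 (by decide)
  generalize e_1_3 : T.picMatrix 1 3 = x_1 at *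
  generalize e_3_1 : T.picMatrix 3 1 = y_1 at *
  generalize e_2_3 : T.picMatrix 2 3 = x_2 at *
  generalize e_3_2 : T.picMatrix 3 2 = y_2 at *
  rcases Q_1 with ⟨rfl, rfl⟩ | ⟨rfl, rfl⟩ | ⟨rfl, rfl⟩ | ⟨rfl, rfl⟩ | ⟨rfl, rfl⟩ | ⟨rfl, rfl⟩ | ⟨rfl, rfl⟩ | ⟨rfl, rfl⟩ | ⟨rfl, rfl⟩
  · exact absurd rfl hne
  · -- (1,3) = (1,1)
    rcases Q_2 with ⟨rfl, rfl⟩ | ⟨rfl, rfl⟩ | ⟨rfl, rfl⟩ | ⟨rfl, rfl⟩ | ⟨rfl, rfl⟩ | ⟨rfl, rfl⟩ | ⟨rfl, rfl⟩ | ⟨rfl, rfl⟩ | ⟨rfl, rfl⟩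
    · -- (2,3) = (0,0)
      exact nd_11 T hG hmax e_0_1 e_0_2 e_0_3 e_1_0 e_1_2 e_1_3 e_2_0 e_2_1 e_2_3 e_3_0 e_3_1 e_3_2 cl
    · -- (2,3) = (1,1)
      exact nd_17 T hG hmax e_0_1 e_0_2 e_0_3 e_1_0 e_1_2 e_1_3 e_2_0 e_2_1 e_2_3 e_3_0 e_3_1 e_3_2 cl
    · -- (2,3) = (1,2)
      omega
    · -- (2,3) = (2,1)
      omega
    · -- (2,3) = (1,3)
      omega
    · -- (2,3) = (3,1)
      omega
    · -- (2,3) = (1,4)
      omega
    · -- (2,3) = (4,1)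
      omega
    · -- (2,3) = (2,2)
      omega
  · -- (1,3) = (1,2)
    rcases Q_2 with ⟨rfl, rfl⟩ | ⟨rfl, rfl⟩ | ⟨rfl, rfl⟩ | ⟨rfl, rfl⟩ | ⟨rfl, rfl⟩ | ⟨rfl, rfl⟩ | ⟨rfl, rfl⟩ | ⟨rfl, rfl⟩ | ⟨rfl, rfl⟩
    · -- (2,3) = (0,0)
      exact nd_24 T hG hmax e_0_1 e_0_2 e_0_3 e_1_0 e_1_2 e_1_3 e_2_0 e_2_1 e_2_3 e_3_0 e_3_1 e_3_2 cl
    · -- (2,3) = (1,1)
      omega
    · -- (2,3) = (1,2)
      omega
    · -- (2,3) = (2,1)
      omega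
    · -- (2,3) = (1,3)
      omega
    · -- (2,3) = (3,1)
      omega
    · -- (2,3) = (1,4)
      omega
    · -- (2,3) = (4,1)
      omega
    · -- (2,3) = (2,2)
      omega
  · -- (1,3) = (2,1)
    rcases Q_2 with ⟨rfl, rfl⟩ | ⟨rfl, rfl⟩ | ⟨rfl, rfl⟩ | ⟨rfl, rfl⟩ | ⟨rfl, rfl⟩ | ⟨rfl, rfl⟩ | ⟨rfl, rfl⟩ | ⟨rfl, rfl⟩ | ⟨rfl, rfl⟩
    · -- (2,3) = (0,0)
      exact nd_31 T hG hmax e_0_1 e_0_2 e_0_3 e_1_0 e_1_2 e_1_3 e_2_0 e_2_1 e_2_3 e_3_0 e_3_1 e_3_2 cl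
    · -- (2,3) = (1,1)
      omega
    · -- (2,3) = (1,2)
      omega
    · -- (2,3) = (2,1)
      omega
    · -- (2,3) = (1,3)
      omega
    · -- (2,3) = (3,1)
      omega
    · -- (2,3) = (1,4)
      omega
    · -- (2,3) = (4,1)
      omega
    · -- (2,3) = (2,2)
      omega
  · omega
  · omega
  · omega
  · omega
  · omega

theorem nd_8 (T : Models.NumericalType 5)
    (hG : NTGood T)
    (hmax : ∀ j, T.m j ≤ T.m 0)
    (e_0_1 : T.picMatrix 0 1 = 1)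
    (e_0_2 : T.picMatrix 0 2 = 1)
    (e_1_0 : T.picMatrix 1 0 = 1)
    (e_1_2 : T.picMatrix 1 2 = 0)
    (e_2_0 : T.picMatrix 2 0 = 1)
    (e_2_1 : T.picMatrix 2 1 = 0)
    (cl : ∀ a b : Fin 5, a.val < 1 → 3 ≤ b.val → T.picMatrix a b = 0) :
    Goal T := by
  by_cases hc : ∀ b : Fin 5, 3 ≤ b.val → T.picMatrix 1 b = 0
  · exact nd_9 T hG hmax e_0_1 e_0_2 e_1_0 e_1_2 e_2_0 e_2_1 (nt_cl_succ T 3 1 1 rfl cl hc)
  · obtain ⟨τ, hfix, cl', z, hne⟩ := nt_wlog_step T 3 (by norm_num) 1 (by norm_num) 1 (by decide) cl hc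
    apply goal_relabel T τ
    refine ex_10 (ntRelabel T τ) (hG.relabel τ) ?_ ?_ ?_ ?_ ?_ ?_ ?_ cl' z hne
    · intro j
      show T.m (τ j) ≤ T.m (τ 0)
      rw [hfix 0 (by decide)]
      exact hmax _
    · show T.picMatrix (τ 0) (τ 1) = 1
      rw [hfix 0 (by decide), hfix 1 (by decide)]
      exact e_0_1
    · show T.picMatrix (τ 0) (τ 2) = 1
      rw [hfix 0 (by decide), hfix 2 (by decide)]
      exact e_0_2
    · show T.picMatrix (τ 1) (τ 0) = 1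
      rw [hfix 1 (by decide), hfix 0 (by decide)]
      exact e_1_0
    · show T.picMatrix (τ 1) (τ 2) = 0
      rw [hfix 1 (by decide), hfix 2 (by decide)]
      exact e_1_2
    · show T.picMatrix (τ 2) (τ 0) = 1
      rw [hfix 2 (by decide), hfix 0 (by decide)]
      exact e_2_0
    · show T.picMatrix (τ 2) (τ 1) = 0
      rw [hfix 2 (by decide), hfix 1 (by decide)]
      exact e_2_1

theorem nd_43 (T : Models.NumericalType 5)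
    (hG : NTGood T)
    (hmax : ∀ j, T.m j ≤ T.m 0)
    (e_0_1 : T.picMatrix 0 1 = 1)
    (e_0_2 : T.picMatrix 0 2 = 1)
    (e_0_3 : T.picMatrix 0 3 = 1)
    (e_1_0 : T.picMatrix 1 0 = 1)
    (e_1_2 : T.picMatrix 1 2 = 0)
    (e_1_3 : T.picMatrix 1 3 = 0)
    (e_2_0 : T.picMatrix 2 0 = 1)
    (e_2_1 : T.picMatrix 2 1 = 0)
    (e_2_3 : T.picMatrix 2 3 = 0)
    (e_3_0 : T.picMatrix 3 0 = 1)
    (e_3_1 : T.picMatrix 3 1 = 0)
    (e_3_2 : T.picMatrix 3 2 = 0)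
    (cl : ∀ a b : Fin 5, a.val < 4 → 4 ≤ b.val → T.picMatrix a b = 0) :
    Goal T := by
  obtain ⟨hg0, hdA, hdP, hnn, hrow, hsym, hpair⟩ := ntgood_data T (by norm_num) hG
  have hm_0 := T.m_pos 0
  have hw_0 := T.w_pos 0
  have hm_1 := T.m_pos 1
  have hw_1 := T.w_pos 1
  have hm_2 := T.m_pos 2
  have hw_2 := T.w_pos 2
  have hm_3 := T.m_pos 3
  have hw_3 := T.w_pos 3
  have hx_1 := hmax 1
  have hx_2 := hmax 2
  have hx_3 := hmax 3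
  have Z_0_4 := cl 0 4 (by decide) (by decide)
  have Z_1_4 := cl 1 4 (by decide) (by decide)
  have Z_2_4 := cl 2 4 (by decide) (by decide)
  have Z_3_4 := cl 3 4 (by decide) (by decide)
  have R_0 := hrow 0
  rw [Fin.sum_univ_five, hdP 0, e_0_1, e_0_2, e_0_3, Z_0_4] at R_0
  have R_1 := hrow 1
  rw [Fin.sum_univ_five, hdP 1, e_1_0, e_1_2, e_1_3, Z_1_4] at R_1
  have R_2 := hrow 2
  rw [Fin.sum_univ_five, hdP 2, e_2_0, e_2_1, e_2_3, Z_2_4] at R_2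
  have R_3 := hrow 3
  rw [Fin.sum_univ_five, hdP 3, e_3_0, e_3_1, e_3_2, Z_3_4] at R_3
  have S_0_1 := hsym 0 1
  rw [e_0_1, e_1_0] at S_0_1
  have S_0_2 := hsym 0 2
  rw [e_0_2, e_2_0] at S_0_2
  have S_0_3 := hsym 0 3
  rw [e_0_3, e_3_0] at S_0_3
  have S_1_2 := hsym 1 2
  rw [e_1_2, e_2_1] at S_1_2
  have S_1_3 := hsym 1 3
  rw [e_1_3, e_3_1] at S_1_3
  have S_2_3 := hsym 2 3
  rw [e_2_3, e_3_2] at S_2_3
  exfalso
  omega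

theorem nd_45 (T : Models.NumericalType 5)
    (hG : NTGood T)
    (hmax : ∀ j, T.m j ≤ T.m 0)
    (e_0_1 : T.picMatrix 0 1 = 1)
    (e_0_2 : T.picMatrix 0 2 = 1)
    (e_0_3 : T.picMatrix 0 3 = 1)
    (e_0_4 : T.picMatrix 0 4 = 0)
    (e_1_0 : T.picMatrix 1 0 = 1)
    (e_1_2 : T.picMatrix 1 2 = 0)
    (e_1_3 : T.picMatrix 1 3 = 0)
    (e_1_4 : T.picMatrix 1 4 = 0)
    (e_2_0 : T.picMatrix 2 0 = 1)
    (e_2_1 : T.picMatrix 2 1 = 0)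
    (e_2_3 : T.picMatrix 2 3 = 0)
    (e_2_4 : T.picMatrix 2 4 = 0)
    (e_3_0 : T.picMatrix 3 0 = 1)
    (e_3_1 : T.picMatrix 3 1 = 0)
    (e_3_2 : T.picMatrix 3 2 = 0)
    (e_3_4 : T.picMatrix 3 4 = 1)
    (e_4_0 : T.picMatrix 4 0 = 0)
    (e_4_1 : T.picMatrix 4 1 = 0)
    (e_4_2 : T.picMatrix 4 2 = 0)
    (e_4_3 : T.picMatrix 4 3 = 2)
    (cl : ∀ a b : Fin 5, a.val < 3 → 5 ≤ b.val → T.picMatrix a b = 0) :
    Goal T := by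
  obtain ⟨hg0, hdA, hdP, hnn, hrow, hsym, hpair⟩ := ntgood_data T (by norm_num) hG
  have hm_0 := T.m_pos 0
  have hw_0 := T.w_pos 0
  have hm_1 := T.m_pos 1
  have hw_1 := T.w_pos 1
  have hm_2 := T.m_pos 2
  have hw_2 := T.w_pos 2
  have hm_3 := T.m_pos 3
  have hw_3 := T.w_pos 3
  have hm_4 := T.m_pos 4
  have hw_4 := T.w_pos 4
  have hx_1 := hmax 1
  have hx_2 := hmax 2
  have hx_3 := hmax 3
  have hx_4 := hmax 4
  have R_0 := hrow 0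
  rw [Fin.sum_univ_five, hdP 0, e_0_1, e_0_2, e_0_3, e_0_4] at R_0
  have R_1 := hrow 1
  rw [Fin.sum_univ_five, hdP 1, e_1_0, e_1_2, e_1_3, e_1_4] at R_1
  have R_2 := hrow 2
  rw [Fin.sum_univ_five, hdP 2, e_2_0, e_2_1, e_2_3, e_2_4] at R_2
  have R_3 := hrow 3
  rw [Fin.sum_univ_five, hdP 3, e_3_0, e_3_1, e_3_2, e_3_4] at R_3
  have R_4 := hrow 4
  rw [Fin.sum_univ_five, hdP 4, e_4_0, e_4_1, e_4_2, e_4_3] at R_4
  have S_0_1 := hsym 0 1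
  rw [e_0_1, e_1_0] at S_0_1
  have S_0_2 := hsym 0 2
  rw [e_0_2, e_2_0] at S_0_2
  have S_0_3 := hsym 0 3
  rw [e_0_3, e_3_0] at S_0_3
  have S_0_4 := hsym 0 4
  rw [e_0_4, e_4_0] at S_0_4
  have S_1_2 := hsym 1 2
  rw [e_1_2, e_2_1] at S_1_2
  have S_1_3 := hsym 1 3
  rw [e_1_3, e_3_1] at S_1_3
  have S_1_4 := hsym 1 4
  rw [e_1_4, e_4_1] at S_1_4
  have S_2_3 := hsym 2 3
  rw [e_2_3, e_3_2] at S_2_3
  have S_2_4 := hsym 2 4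
  rw [e_2_4, e_4_2] at S_2_4
  have S_3_4 := hsym 3 4
  rw [e_3_4, e_4_3] at S_3_4
  have D_0 := hdA 0
  have A_0_1 := nt_a_eq T 0 1
  rw [e_0_1] at A_0_1
  have A_0_2 := nt_a_eq T 0 2
  rw [e_0_2] at A_0_2
  have A_0_3 := nt_a_eq T 0 3
  rw [e_0_3] at A_0_3
  have A_0_4 := nt_a_eq T 0 4
  rw [e_0_4] at A_0_4
  have D_1 := hdA 1
  have A_1_0 := nt_a_eq T 1 0
  rw [e_1_0] at A_1_0
  have A_1_2 := nt_a_eq T 1 2
  rw [e_1_2] at A_1_2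
  have A_1_3 := nt_a_eq T 1 3
  rw [e_1_3] at A_1_3
  have A_1_4 := nt_a_eq T 1 4
  rw [e_1_4] at A_1_4
  have D_2 := hdA 2
  have A_2_0 := nt_a_eq T 2 0
  rw [e_2_0] at A_2_0
  have A_2_1 := nt_a_eq T 2 1
  rw [e_2_1] at A_2_1
  have A_2_3 := nt_a_eq T 2 3
  rw [e_2_3] at A_2_3
  have A_2_4 := nt_a_eq T 2 4
  rw [e_2_4] at A_2_4
  have D_3 := hdA 3
  have A_3_0 := nt_a_eq T 3 0
  rw [e_3_0] at A_3_0
  have A_3_1 := nt_a_eq T 3 1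
  rw [e_3_1] at A_3_1
  have A_3_2 := nt_a_eq T 3 2
  rw [e_3_2] at A_3_2
  have A_3_4 := nt_a_eq T 3 4
  rw [e_3_4] at A_3_4
  have D_4 := hdA 4
  have A_4_0 := nt_a_eq T 4 0
  rw [e_4_0] at A_4_0
  have A_4_1 := nt_a_eq T 4 1
  rw [e_4_1] at A_4_1
  have A_4_2 := nt_a_eq T 4 2
  rw [e_4_2] at A_4_2
  have A_4_3 := nt_a_eq T 4 3
  rw [e_4_3] at A_4_3
  refine goal_of_indices T hg0 4 3 0 1 2 (by decide) (T.m 1) (T.w 4) ?_
  unfold Goali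
  exact Or.inr (Or.inr (Or.inr (Or.inr (Or.inr (Or.inr (Or.inr (Or.inr (⟨by omega, by omega, by omega, by omega, by omega, by omega, by omega, by omega, by omega, by omega, by omega, by omega, by omega, by omega, by omega, by omega, by omega, by omega, by omega, by omega, by omega, by omega, by omega, by omega, by omega⟩))))))))

theorem nd_46 (T : Models.NumericalType 5)
    (hG : NTGood T)
    (hmax : ∀ j, T.m j ≤ T.m 0)
    (e_0_1 : T.picMatrix 0 1 = 1)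
    (e_0_2 : T.picMatrix 0 2 = 1)
    (e_0_3 : T.picMatrix 0 3 = 1)
    (e_0_4 : T.picMatrix 0 4 = 0)
    (e_1_0 : T.picMatrix 1 0 = 1)
    (e_1_2 : T.picMatrix 1 2 = 0)
    (e_1_3 : T.picMatrix 1 3 = 0)
    (e_1_4 : T.picMatrix 1 4 = 0)
    (e_2_0 : T.picMatrix 2 0 = 1)
    (e_2_1 : T.picMatrix 2 1 = 0)
    (e_2_3 : T.picMatrix 2 3 = 0)
    (e_2_4 : T.picMatrix 2 4 = 0)
    (e_3_0 : T.picMatrix 3 0 = 1)
    (e_3_1 : T.picMatrix 3 1 = 0)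
    (e_3_2 : T.picMatrix 3 2 = 0)
    (e_3_4 : T.picMatrix 3 4 = 2)
    (e_4_0 : T.picMatrix 4 0 = 0)
    (e_4_1 : T.picMatrix 4 1 = 0)
    (e_4_2 : T.picMatrix 4 2 = 0)
    (e_4_3 : T.picMatrix 4 3 = 1)
    (cl : ∀ a b : Fin 5, a.val < 3 → 5 ≤ b.val → T.picMatrix a b = 0) :
    Goal T := by
  obtain ⟨hg0, hdA, hdP, hnn, hrow, hsym, hpair⟩ := ntgood_data T (by norm_num) hG
  have hm_0 := T.m_pos 0
  have hw_0 := T.w_pos 0
  have hm_1 := T.m_pos 1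
  have hw_1 := T.w_pos 1
  have hm_2 := T.m_pos 2
  have hw_2 := T.w_pos 2
  have hm_3 := T.m_pos 3
  have hw_3 := T.w_pos 3
  have hm_4 := T.m_pos 4
  have hw_4 := T.w_pos 4
  have hx_1 := hmax 1
  have hx_2 := hmax 2
  have hx_3 := hmax 3
  have hx_4 := hmax 4
  have R_0 := hrow 0
  rw [Fin.sum_univ_five, hdP 0, e_0_1, e_0_2, e_0_3, e_0_4] at R_0
  have R_1 := hrow 1
  rw [Fin.sum_univ_five, hdP 1, e_1_0, e_1_2, e_1_3, e_1_4] at R_1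
  have R_2 := hrow 2
  rw [Fin.sum_univ_five, hdP 2, e_2_0, e_2_1, e_2_3, e_2_4] at R_2
  have R_3 := hrow 3
  rw [Fin.sum_univ_five, hdP 3, e_3_0, e_3_1, e_3_2, e_3_4] at R_3
  have R_4 := hrow 4
  rw [Fin.sum_univ_five, hdP 4, e_4_0, e_4_1, e_4_2, e_4_3] at R_4
  have S_0_1 := hsym 0 1
  rw [e_0_1, e_1_0] at S_0_1
  have S_0_2 := hsym 0 2
  rw [e_0_2, e_2_0] at S_0_2
  have S_0_3 := hsym 0 3
  rw [e_0_3, e_3_0] at S_0_3
  have S_0_4 := hsym 0 4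
  rw [e_0_4, e_4_0] at S_0_4
  have S_1_2 := hsym 1 2
  rw [e_1_2, e_2_1] at S_1_2
  have S_1_3 := hsym 1 3
  rw [e_1_3, e_3_1] at S_1_3
  have S_1_4 := hsym 1 4
  rw [e_1_4, e_4_1] at S_1_4
  have S_2_3 := hsym 2 3
  rw [e_2_3, e_3_2] at S_2_3
  have S_2_4 := hsym 2 4
  rw [e_2_4, e_4_2] at S_2_4
  have S_3_4 := hsym 3 4
  rw [e_3_4, e_4_3] at S_3_4
  have D_0 := hdA 0
  have A_0_1 := nt_a_eq T 0 1
  rw [e_0_1] at A_0_1
  have A_0_2 := nt_a_eq T 0 2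
  rw [e_0_2] at A_0_2
  have A_0_3 := nt_a_eq T 0 3
  rw [e_0_3] at A_0_3
  have A_0_4 := nt_a_eq T 0 4
  rw [e_0_4] at A_0_4
  have D_1 := hdA 1
  have A_1_0 := nt_a_eq T 1 0
  rw [e_1_0] at A_1_0
  have A_1_2 := nt_a_eq T 1 2
  rw [e_1_2] at A_1_2
  have A_1_3 := nt_a_eq T 1 3
  rw [e_1_3] at A_1_3
  have A_1_4 := nt_a_eq T 1 4
  rw [e_1_4] at A_1_4
  have D_2 := hdA 2
  have A_2_0 := nt_a_eq T 2 0
  rw [e_2_0] at A_2_0
  have A_2_1 := nt_a_eq T 2 1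
  rw [e_2_1] at A_2_1
  have A_2_3 := nt_a_eq T 2 3
  rw [e_2_3] at A_2_3
  have A_2_4 := nt_a_eq T 2 4
  rw [e_2_4] at A_2_4
  have D_3 := hdA 3
  have A_3_0 := nt_a_eq T 3 0
  rw [e_3_0] at A_3_0
  have A_3_1 := nt_a_eq T 3 1
  rw [e_3_1] at A_3_1
  have A_3_2 := nt_a_eq T 3 2
  rw [e_3_2] at A_3_2
  have A_3_4 := nt_a_eq T 3 4
  rw [e_3_4] at A_3_4
  have D_4 := hdA 4
  have A_4_0 := nt_a_eq T 4 0
  rw [e_4_0] at A_4_0
  have A_4_1 := nt_a_eq T 4 1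
  rw [e_4_1] at A_4_1
  have A_4_2 := nt_a_eq T 4 2
  rw [e_4_2] at A_4_2
  have A_4_3 := nt_a_eq T 4 3
  rw [e_4_3] at A_4_3
  refine goal_of_indices T hg0 4 3 0 1 2 (by decide) (T.m 4) (T.w 3) ?_
  unfold Goali
  exact Or.inr (Or.inr (Or.inr (Or.inr (Or.inr (Or.inr (Or.inr (Or.inl ⟨by omega, by omega, by omega, by omega, by omega, by omega, by omega, by omega, by omega, by omega, by omega, by omega, by omega, by omega, by omega, by omega, by omega, by omega, by omega, by omega, by omega, by omega, by omega, by omega, by omega⟩)))))))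

theorem ex_44 (T : Models.NumericalType 5)
    (hG : NTGood T)
    (hmax : ∀ j, T.m j ≤ T.m 0)
    (e_0_1 : T.picMatrix 0 1 = 1)
    (e_0_2 : T.picMatrix 0 2 = 1)
    (e_0_3 : T.picMatrix 0 3 = 1)
    (e_1_0 : T.picMatrix 1 0 = 1)
    (e_1_2 : T.picMatrix 1 2 = 0)
    (e_1_3 : T.picMatrix 1 3 = 0)
    (e_2_0 : T.picMatrix 2 0 = 1)
    (e_2_1 : T.picMatrix 2 1 = 0)
    (e_2_3 : T.picMatrix 2 3 = 0)
    (e_3_0 : T.picMatrix 3 0 = 1)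
    (e_3_1 : T.picMatrix 3 1 = 0)
    (e_3_2 : T.picMatrix 3 2 = 0)
    (cl : ∀ a b : Fin 5, a.val < 3 → 5 ≤ b.val → T.picMatrix a b = 0)
    (z : ∀ a : Fin 5, a.val < 3 → T.picMatrix a 4 = 0)
    (hne : T.picMatrix 3 4 ≠ 0) :
    Goal T := by
  have e_0_4 : T.picMatrix 0 4 = 0 := z 0 (by decide)
  have e_4_0 : T.picMatrix 4 0 = 0 := nt_pic_zero_symm T 0 4 e_0_4
  have e_1_4 : T.picMatrix 1 4 = 0 := z 1 (by decide)
  have e_4_1 : T.picMatrix 4 1 = 0 := nt_pic_zero_symm T 1 4 e_1_4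
  have e_2_4 : T.picMatrix 2 4 = 0 := z 2 (by decide)
  have e_4_2 : T.picMatrix 4 2 = 0 := nt_pic_zero_symm T 2 4 e_2_4
  obtain ⟨hg0, hdA, hdP, hnn, hrow, hsym, hpair⟩ := ntgood_data T (by norm_num) hG
  have hm_0 := T.m_pos 0
  have hw_0 := T.w_pos 0
  have hm_1 := T.m_pos 1
  have hw_1 := T.w_pos 1
  have hm_2 := T.m_pos 2
  have hw_2 := T.w_pos 2
  have hm_3 := T.m_pos 3
  have hw_3 := T.w_pos 3
  have hm_4 := T.m_pos 4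
  have hw_4 := T.w_pos 4
  have hx_1 := hmax 1
  have hx_2 := hmax 2
  have hx_3 := hmax 3
  have hx_4 := hmax 4
  have N_3_4 := mul_nonneg (hnn 3 4 (by decide)) (T.m_pos 4).le
  have N_4_3 := mul_nonneg (hnn 4 3 (by decide)) (T.m_pos 3).le
  have R_0 := hrow 0
  rw [Fin.sum_univ_five, hdP 0, e_0_1, e_0_2, e_0_3, e_0_4] at R_0
  have R_1 := hrow 1
  rw [Fin.sum_univ_five, hdP 1, e_1_0, e_1_2, e_1_3, e_1_4] at R_1
  have R_2 := hrow 2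
  rw [Fin.sum_univ_five, hdP 2, e_2_0, e_2_1, e_2_3, e_2_4] at R_2
  have R_3 := hrow 3
  rw [Fin.sum_univ_five, hdP 3, e_3_0, e_3_1, e_3_2] at R_3
  have R_4 := hrow 4
  rw [Fin.sum_univ_five, hdP 4, e_4_0, e_4_1, e_4_2] at R_4
  have S_0_1 := hsym 0 1
  rw [e_0_1, e_1_0] at S_0_1
  have S_0_2 := hsym 0 2
  rw [e_0_2, e_2_0] at S_0_2
  have S_0_3 := hsym 0 3
  rw [e_0_3, e_3_0] at S_0_3
  have S_0_4 := hsym 0 4
  rw [e_0_4, e_4_0] at S_0_4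
  have S_1_2 := hsym 1 2
  rw [e_1_2, e_2_1] at S_1_2
  have S_1_3 := hsym 1 3
  rw [e_1_3, e_3_1] at S_1_3
  have S_1_4 := hsym 1 4
  rw [e_1_4, e_4_1] at S_1_4
  have S_2_3 := hsym 2 3
  rw [e_2_3, e_3_2] at S_2_3
  have S_2_4 := hsym 2 4
  rw [e_2_4, e_4_2] at S_2_4
  have S_3_4 := hsym 3 4
  have Q_3 := hpair 3 4 (by decide)
  generalize e_3_4 : T.picMatrix 3 4 = x_3 at *
  generalize e_4_3 : T.picMatrix 4 3 = y_3 at *
  rcases Q_3 with ⟨rfl, rfl⟩ | ⟨rfl, rfl⟩ | ⟨rfl, rfl⟩ | ⟨rfl, rfl⟩ | ⟨rfl, rfl⟩ | ⟨rfl, rfl⟩ | ⟨rfl, rfl⟩ | ⟨rfl, rfl⟩ | ⟨rfl, rfl⟩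
  · exact absurd rfl hne
  · -- (3,4) = (1,1)
    omega
  · -- (3,4) = (1,2)
    exact nd_45 T hG hmax e_0_1 e_0_2 e_0_3 e_0_4 e_1_0 e_1_2 e_1_3 e_1_4 e_2_0 e_2_1 e_2_3 e_2_4 e_3_0 e_3_1 e_3_2 e_3_4 e_4_0 e_4_1 e_4_2 e_4_3 cl
  · -- (3,4) = (2,1)
    exact nd_46 T hG hmax e_0_1 e_0_2 e_0_3 e_0_4 e_1_0 e_1_2 e_1_3 e_1_4 e_2_0 e_2_1 e_2_3 e_2_4 e_3_0 e_3_1 e_3_2 e_3_4 e_4_0 e_4_1 e_4_2 e_4_3 cl
  · -- (3,4) = (1,3)
    omega
  · -- (3,4) = (3,1)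
    omega
  · -- (3,4) = (1,4)
    omega
  · -- (3,4) = (4,1)
    omega
  · -- (3,4) = (2,2)
    omega

theorem nd_42 (T : Models.NumericalType 5)
    (hG : NTGood T)
    (hmax : ∀ j, T.m j ≤ T.m 0)
    (e_0_1 : T.picMatrix 0 1 = 1)
    (e_0_2 : T.picMatrix 0 2 = 1)
    (e_0_3 : T.picMatrix 0 3 = 1)
    (e_1_0 : T.picMatrix 1 0 = 1)
    (e_1_2 : T.picMatrix 1 2 = 0)
    (e_1_3 : T.picMatrix 1 3 = 0)
    (e_2_0 : T.picMatrix 2 0 = 1)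
    (e_2_1 : T.picMatrix 2 1 = 0)
    (e_2_3 : T.picMatrix 2 3 = 0)
    (e_3_0 : T.picMatrix 3 0 = 1)
    (e_3_1 : T.picMatrix 3 1 = 0)
    (e_3_2 : T.picMatrix 3 2 = 0)
    (cl : ∀ a b : Fin 5, a.val < 3 → 4 ≤ b.val → T.picMatrix a b = 0) :
    Goal T := by
  by_cases hc : ∀ b : Fin 5, 4 ≤ b.val → T.picMatrix 3 b = 0
  · exact nd_43 T hG hmax e_0_1 e_0_2 e_0_3 e_1_0 e_1_2 e_1_3 e_2_0 e_2_1 e_2_3 e_3_0 e_3_1 e_3_2 (nt_cl_succ T 4 3 3 rfl cl hc)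
  · obtain ⟨τ, hfix, cl', z, hne⟩ := nt_wlog_step T 4 (by norm_num) 3 (by norm_num) 3 (by decide) cl hc
    apply goal_relabel T τ
    refine ex_44 (ntRelabel T τ) (hG.relabel τ) ?_ ?_ ?_ ?_ ?_ ?_ ?_ ?_ ?_ ?_ ?_ ?_ ?_ cl' z hne
    · intro j
      show T.m (τ j) ≤ T.m (τ 0)
      rw [hfix 0 (by decide)]
      exact hmax _
    · show T.picMatrix (τ 0) (τ 1) = 1
      rw [hfix 0 (by decide), hfix 1 (by decide)]
      exact e_0_1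
    · show T.picMatrix (τ 0) (τ 2) = 1
      rw [hfix 0 (by decide), hfix 2 (by decide)]
      exact e_0_2
    · show T.picMatrix (τ 0) (τ 3) = 1
      rw [hfix 0 (by decide), hfix 3 (by decide)]
      exact e_0_3
    · show T.picMatrix (τ 1) (τ 0) = 1
      rw [hfix 1 (by decide), hfix 0 (by decide)]
      exact e_1_0
    · show T.picMatrix (τ 1) (τ 2) = 0
      rw [hfix 1 (by decide), hfix 2 (by decide)]
      exact e_1_2
    · show T.picMatrix (τ 1) (τ 3) = 0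
      rw [hfix 1 (by decide), hfix 3 (by decide)]
      exact e_1_3
    · show T.picMatrix (τ 2) (τ 0) = 1
      rw [hfix 2 (by decide), hfix 0 (by decide)]
      exact e_2_0
    · show T.picMatrix (τ 2) (τ 1) = 0
      rw [hfix 2 (by decide), hfix 1 (by decide)]
      exact e_2_1
    · show T.picMatrix (τ 2) (τ 3) = 0
      rw [hfix 2 (by decide), hfix 3 (by decide)]
      exact e_2_3
    · show T.picMatrix (τ 3) (τ 0) = 1
      rw [hfix 3 (by decide), hfix 0 (by decide)]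
      exact e_3_0
    · show T.picMatrix (τ 3) (τ 1) = 0
      rw [hfix 3 (by decide), hfix 1 (by decide)]
      exact e_3_1
    · show T.picMatrix (τ 3) (τ 2) = 0
      rw [hfix 3 (by decide), hfix 2 (by decide)]
      exact e_3_2

theorem nd_48 (T : Models.NumericalType 5)
    (hG : NTGood T)
    (hmax : ∀ j, T.m j ≤ T.m 0)
    (e_0_1 : T.picMatrix 0 1 = 1)
    (e_0_2 : T.picMatrix 0 2 = 1)
    (e_0_3 : T.picMatrix 0 3 = 1)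
    (e_0_4 : T.picMatrix 0 4 = 0)
    (e_1_0 : T.picMatrix 1 0 = 1)
    (e_1_2 : T.picMatrix 1 2 = 0)
    (e_1_3 : T.picMatrix 1 3 = 0)
    (e_1_4 : T.picMatrix 1 4 = 0)
    (e_2_0 : T.picMatrix 2 0 = 1)
    (e_2_1 : T.picMatrix 2 1 = 0)
    (e_2_3 : T.picMatrix 2 3 = 0)
    (e_2_4 : T.picMatrix 2 4 = 1)
    (e_3_0 : T.picMatrix 3 0 = 1)
    (e_3_1 : T.picMatrix 3 1 = 0)
    (e_3_2 : T.picMatrix 3 2 = 0)
    (e_3_4 : T.picMatrix 3 4 = 0)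
    (e_4_0 : T.picMatrix 4 0 = 0)
    (e_4_1 : T.picMatrix 4 1 = 0)
    (e_4_2 : T.picMatrix 4 2 = 2)
    (e_4_3 : T.picMatrix 4 3 = 0)
    (cl : ∀ a b : Fin 5, a.val < 2 → 5 ≤ b.val → T.picMatrix a b = 0) :
    Goal T := by
  obtain ⟨hg0, hdA, hdP, hnn, hrow, hsym, hpair⟩ := ntgood_data T (by norm_num) hG
  have hm_0 := T.m_pos 0
  have hw_0 := T.w_pos 0
  have hm_1 := T.m_pos 1
  have hw_1 := T.w_pos 1
  have hm_2 := T.m_pos 2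
  have hw_2 := T.w_pos 2
  have hm_3 := T.m_pos 3
  have hw_3 := T.w_pos 3
  have hm_4 := T.m_pos 4
  have hw_4 := T.w_pos 4
  have hx_1 := hmax 1
  have hx_2 := hmax 2
  have hx_3 := hmax 3
  have hx_4 := hmax 4
  have R_0 := hrow 0
  rw [Fin.sum_univ_five, hdP 0, e_0_1, e_0_2, e_0_3, e_0_4] at R_0
  have R_1 := hrow 1
  rw [Fin.sum_univ_five, hdP 1, e_1_0, e_1_2, e_1_3, e_1_4] at R_1
  have R_2 := hrow 2
  rw [Fin.sum_univ_five, hdP 2, e_2_0, e_2_1, e_2_3, e_2_4] at R_2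
  have R_3 := hrow 3
  rw [Fin.sum_univ_five, hdP 3, e_3_0, e_3_1, e_3_2, e_3_4] at R_3
  have R_4 := hrow 4
  rw [Fin.sum_univ_five, hdP 4, e_4_0, e_4_1, e_4_2, e_4_3] at R_4
  have S_0_1 := hsym 0 1
  rw [e_0_1, e_1_0] at S_0_1
  have S_0_2 := hsym 0 2
  rw [e_0_2, e_2_0] at S_0_2
  have S_0_3 := hsym 0 3
  rw [e_0_3, e_3_0] at S_0_3
  have S_0_4 := hsym 0 4
  rw [e_0_4, e_4_0] at S_0_4
  have S_1_2 := hsym 1 2
  rw [e_1_2, e_2_1] at S_1_2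
  have S_1_3 := hsym 1 3
  rw [e_1_3, e_3_1] at S_1_3
  have S_1_4 := hsym 1 4
  rw [e_1_4, e_4_1] at S_1_4
  have S_2_3 := hsym 2 3
  rw [e_2_3, e_3_2] at S_2_3
  have S_2_4 := hsym 2 4
  rw [e_2_4, e_4_2] at S_2_4
  have S_3_4 := hsym 3 4
  rw [e_3_4, e_4_3] at S_3_4
  have D_0 := hdA 0
  have A_0_1 := nt_a_eq T 0 1
  rw [e_0_1] at A_0_1
  have A_0_2 := nt_a_eq T 0 2
  rw [e_0_2] at A_0_2
  have A_0_3 := nt_a_eq T 0 3
  rw [e_0_3] at A_0_3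
  have A_0_4 := nt_a_eq T 0 4
  rw [e_0_4] at A_0_4
  have D_1 := hdA 1
  have A_1_0 := nt_a_eq T 1 0
  rw [e_1_0] at A_1_0
  have A_1_2 := nt_a_eq T 1 2
  rw [e_1_2] at A_1_2
  have A_1_3 := nt_a_eq T 1 3
  rw [e_1_3] at A_1_3
  have A_1_4 := nt_a_eq T 1 4
  rw [e_1_4] at A_1_4
  have D_2 := hdA 2
  have A_2_0 := nt_a_eq T 2 0
  rw [e_2_0] at A_2_0
  have A_2_1 := nt_a_eq T 2 1
  rw [e_2_1] at A_2_1
  have A_2_3 := nt_a_eq T 2 3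
  rw [e_2_3] at A_2_3
  have A_2_4 := nt_a_eq T 2 4
  rw [e_2_4] at A_2_4
  have D_3 := hdA 3
  have A_3_0 := nt_a_eq T 3 0
  rw [e_3_0] at A_3_0
  have A_3_1 := nt_a_eq T 3 1
  rw [e_3_1] at A_3_1
  have A_3_2 := nt_a_eq T 3 2
  rw [e_3_2] at A_3_2
  have A_3_4 := nt_a_eq T 3 4
  rw [e_3_4] at A_3_4
  have D_4 := hdA 4
  have A_4_0 := nt_a_eq T 4 0
  rw [e_4_0] at A_4_0
  have A_4_1 := nt_a_eq T 4 1
  rw [e_4_1] at A_4_1
  have A_4_2 := nt_a_eq T 4 2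
  rw [e_4_2] at A_4_2
  have A_4_3 := nt_a_eq T 4 3
  rw [e_4_3] at A_4_3
  refine goal_of_indices T hg0 4 2 0 1 3 (by decide) (T.m 1) (T.w 4) ?_
  unfold Goali
  exact Or.inr (Or.inr (Or.inr (Or.inr (Or.inr (Or.inr (Or.inr (Or.inr (⟨by omega, by omega, by omega, by omega, by omega, by omega, by omega, by omega, by omega, by omega, by omega, by omega, by omega, by omega, by omega, by omega, by omega, by omega, by omega, by omega, by omega, by omega, by omega, by omega, by omega⟩))))))))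

theorem nd_49 (T : Models.NumericalType 5)
    (hG : NTGood T)
    (hmax : ∀ j, T.m j ≤ T.m 0)
    (e_0_1 : T.picMatrix 0 1 = 1)
    (e_0_2 : T.picMatrix 0 2 = 1)
    (e_0_3 : T.picMatrix 0 3 = 1)
    (e_0_4 : T.picMatrix 0 4 = 0)
    (e_1_0 : T.picMatrix 1 0 = 1)
    (e_1_2 : T.picMatrix 1 2 = 0)
    (e_1_3 : T.picMatrix 1 3 = 0)
    (e_1_4 : T.picMatrix 1 4 = 0)
    (e_2_0 : T.picMatrix 2 0 = 1)
    (e_2_1 : T.picMatrix 2 1 = 0)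
    (e_2_3 : T.picMatrix 2 3 = 0)
    (e_2_4 : T.picMatrix 2 4 = 2)
    (e_3_0 : T.picMatrix 3 0 = 1)
    (e_3_1 : T.picMatrix 3 1 = 0)
    (e_3_2 : T.picMatrix 3 2 = 0)
    (e_3_4 : T.picMatrix 3 4 = 0)
    (e_4_0 : T.picMatrix 4 0 = 0)
    (e_4_1 : T.picMatrix 4 1 = 0)
    (e_4_2 : T.picMatrix 4 2 = 1)
    (e_4_3 : T.picMatrix 4 3 = 0)
    (cl : ∀ a b : Fin 5, a.val < 2 → 5 ≤ b.val → T.picMatrix a b = 0) :
    Goal T := by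
  obtain ⟨hg0, hdA, hdP, hnn, hrow, hsym, hpair⟩ := ntgood_data T (by norm_num) hG
  have hm_0 := T.m_pos 0
  have hw_0 := T.w_pos 0
  have hm_1 := T.m_pos 1
  have hw_1 := T.w_pos 1
  have hm_2 := T.m_pos 2
  have hw_2 := T.w_pos 2
  have hm_3 := T.m_pos 3
  have hw_3 := T.w_pos 3
  have hm_4 := T.m_pos 4
  have hw_4 := T.w_pos 4
  have hx_1 := hmax 1
  have hx_2 := hmax 2
  have hx_3 := hmax 3
  have hx_4 := hmax 4
  have R_0 := hrow 0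
  rw [Fin.sum_univ_five, hdP 0, e_0_1, e_0_2, e_0_3, e_0_4] at R_0
  have R_1 := hrow 1
  rw [Fin.sum_univ_five, hdP 1, e_1_0, e_1_2, e_1_3, e_1_4] at R_1
  have R_2 := hrow 2
  rw [Fin.sum_univ_five, hdP 2, e_2_0, e_2_1, e_2_3, e_2_4] at R_2
  have R_3 := hrow 3
  rw [Fin.sum_univ_five, hdP 3, e_3_0, e_3_1, e_3_2, e_3_4] at R_3
  have R_4 := hrow 4
  rw [Fin.sum_univ_five, hdP 4, e_4_0, e_4_1, e_4_2, e_4_3] at R_4
  have S_0_1 := hsym 0 1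
  rw [e_0_1, e_1_0] at S_0_1
  have S_0_2 := hsym 0 2
  rw [e_0_2, e_2_0] at S_0_2
  have S_0_3 := hsym 0 3
  rw [e_0_3, e_3_0] at S_0_3
  have S_0_4 := hsym 0 4
  rw [e_0_4, e_4_0] at S_0_4
  have S_1_2 := hsym 1 2
  rw [e_1_2, e_2_1] at S_1_2
  have S_1_3 := hsym 1 3
  rw [e_1_3, e_3_1] at S_1_3
  have S_1_4 := hsym 1 4
  rw [e_1_4, e_4_1] at S_1_4
  have S_2_3 := hsym 2 3
  rw [e_2_3, e_3_2] at S_2_3
  have S_2_4 := hsym 2 4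
  rw [e_2_4, e_4_2] at S_2_4
  have S_3_4 := hsym 3 4
  rw [e_3_4, e_4_3] at S_3_4
  have D_0 := hdA 0
  have A_0_1 := nt_a_eq T 0 1
  rw [e_0_1] at A_0_1
  have A_0_2 := nt_a_eq T 0 2
  rw [e_0_2] at A_0_2
  have A_0_3 := nt_a_eq T 0 3
  rw [e_0_3] at A_0_3
  have A_0_4 := nt_a_eq T 0 4
  rw [e_0_4] at A_0_4
  have D_1 := hdA 1
  have A_1_0 := nt_a_eq T 1 0
  rw [e_1_0] at A_1_0
  have A_1_2 := nt_a_eq T 1 2
  rw [e_1_2] at A_1_2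
  have A_1_3 := nt_a_eq T 1 3
  rw [e_1_3] at A_1_3
  have A_1_4 := nt_a_eq T 1 4
  rw [e_1_4] at A_1_4
  have D_2 := hdA 2
  have A_2_0 := nt_a_eq T 2 0
  rw [e_2_0] at A_2_0
  have A_2_1 := nt_a_eq T 2 1
  rw [e_2_1] at A_2_1
  have A_2_3 := nt_a_eq T 2 3
  rw [e_2_3] at A_2_3
  have A_2_4 := nt_a_eq T 2 4
  rw [e_2_4] at A_2_4
  have D_3 := hdA 3
  have A_3_0 := nt_a_eq T 3 0
  rw [e_3_0] at A_3_0
  have A_3_1 := nt_a_eq T 3 1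
  rw [e_3_1] at A_3_1
  have A_3_2 := nt_a_eq T 3 2
  rw [e_3_2] at A_3_2
  have A_3_4 := nt_a_eq T 3 4
  rw [e_3_4] at A_3_4
  have D_4 := hdA 4
  have A_4_0 := nt_a_eq T 4 0
  rw [e_4_0] at A_4_0
  have A_4_1 := nt_a_eq T 4 1
  rw [e_4_1] at A_4_1
  have A_4_2 := nt_a_eq T 4 2
  rw [e_4_2] at A_4_2
  have A_4_3 := nt_a_eq T 4 3
  rw [e_4_3] at A_4_3
  refine goal_of_indices T hg0 4 2 0 1 3 (by decide) (T.m 4) (T.w 2) ?_
  unfold Goali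
  exact Or.inr (Or.inr (Or.inr (Or.inr (Or.inr (Or.inr (Or.inr (Or.inl ⟨by omega, by omega, by omega, by omega, by omega, by omega, by omega, by omega, by omega, by omega, by omega, by omega, by omega, by omega, by omega, by omega, by omega, by omega, by omega, by omega, by omega, by omega, by omega, by omega, by omega⟩)))))))

theorem ex_47 (T : Models.NumericalType 5)
    (hG : NTGood T)
    (hmax : ∀ j, T.m j ≤ T.m 0)
    (e_0_1 : T.picMatrix 0 1 = 1)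
    (e_0_2 : T.picMatrix 0 2 = 1)
    (e_0_3 : T.picMatrix 0 3 = 1)
    (e_1_0 : T.picMatrix 1 0 = 1)
    (e_1_2 : T.picMatrix 1 2 = 0)
    (e_1_3 : T.picMatrix 1 3 = 0)
    (e_2_0 : T.picMatrix 2 0 = 1)
    (e_2_1 : T.picMatrix 2 1 = 0)
    (e_2_3 : T.picMatrix 2 3 = 0)
    (e_3_0 : T.picMatrix 3 0 = 1)
    (e_3_1 : T.picMatrix 3 1 = 0)
    (e_3_2 : T.picMatrix 3 2 = 0)
    (cl : ∀ a b : Fin 5, a.val < 2 → 5 ≤ b.val → T.picMatrix a b = 0)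
    (z : ∀ a : Fin 5, a.val < 2 → T.picMatrix a 4 = 0)
    (hne : T.picMatrix 2 4 ≠ 0) :
    Goal T := by
  have e_0_4 : T.picMatrix 0 4 = 0 := z 0 (by decide)
  have e_4_0 : T.picMatrix 4 0 = 0 := nt_pic_zero_symm T 0 4 e_0_4
  have e_1_4 : T.picMatrix 1 4 = 0 := z 1 (by decide)
  have e_4_1 : T.picMatrix 4 1 = 0 := nt_pic_zero_symm T 1 4 e_1_4
  obtain ⟨hg0, hdA, hdP, hnn, hrow, hsym, hpair⟩ := ntgood_data T (by norm_num) hG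
  have hm_0 := T.m_pos 0
  have hw_0 := T.w_pos 0
  have hm_1 := T.m_pos 1
  have hw_1 := T.w_pos 1
  have hm_2 := T.m_pos 2
  have hw_2 := T.w_pos 2
  have hm_3 := T.m_pos 3
  have hw_3 := T.w_pos 3
  have hm_4 := T.m_pos 4
  have hw_4 := T.w_pos 4
  have hx_1 := hmax 1
  have hx_2 := hmax 2
  have hx_3 := hmax 3
  have hx_4 := hmax 4
  have N_2_4 := mul_nonneg (hnn 2 4 (by decide)) (T.m_pos 4).le
  have N_4_2 := mul_nonneg (hnn 4 2 (by decide)) (T.m_pos 2).le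
  have N_3_4 := mul_nonneg (hnn 3 4 (by decide)) (T.m_pos 4).le
  have N_4_3 := mul_nonneg (hnn 4 3 (by decide)) (T.m_pos 3).le
  have R_0 := hrow 0
  rw [Fin.sum_univ_five, hdP 0, e_0_1, e_0_2, e_0_3, e_0_4] at R_0
  have R_1 := hrow 1
  rw [Fin.sum_univ_five, hdP 1, e_1_0, e_1_2, e_1_3, e_1_4] at R_1
  have R_2 := hrow 2
  rw [Fin.sum_univ_five, hdP 2, e_2_0, e_2_1, e_2_3] at R_2
  have R_3 := hrow 3
  rw [Fin.sum_univ_five, hdP 3, e_3_0, e_3_1, e_3_2] at R_3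
  have R_4 := hrow 4
  rw [Fin.sum_univ_five, hdP 4, e_4_0, e_4_1] at R_4
  have S_0_1 := hsym 0 1
  rw [e_0_1, e_1_0] at S_0_1
  have S_0_2 := hsym 0 2
  rw [e_0_2, e_2_0] at S_0_2
  have S_0_3 := hsym 0 3
  rw [e_0_3, e_3_0] at S_0_3
  have S_0_4 := hsym 0 4
  rw [e_0_4, e_4_0] at S_0_4
  have S_1_2 := hsym 1 2
  rw [e_1_2, e_2_1] at S_1_2
  have S_1_3 := hsym 1 3
  rw [e_1_3, e_3_1] at S_1_3
  have S_1_4 := hsym 1 4
  rw [e_1_4, e_4_1] at S_1_4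
  have S_2_3 := hsym 2 3
  rw [e_2_3, e_3_2] at S_2_3
  have S_2_4 := hsym 2 4
  have S_3_4 := hsym 3 4
  have Q_2 := hpair 2 4 (by decide)
  have Q_3 := hpair 3 4 (by decide)
  generalize e_2_4 : T.picMatrix 2 4 = x_2 at *
  generalize e_4_2 : T.picMatrix 4 2 = y_2 at *
  generalize e_3_4 : T.picMatrix 3 4 = x_3 at *
  generalize e_4_3 : T.picMatrix 4 3 = y_3 at *
  rcases Q_2 with ⟨rfl, rfl⟩ | ⟨rfl, rfl⟩ | ⟨rfl, rfl⟩ | ⟨rfl, rfl⟩ | ⟨rfl, rfl⟩ | ⟨rfl, rfl⟩ | ⟨rfl, rfl⟩ | ⟨rfl, rfl⟩ | ⟨rfl, rfl⟩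
  · exact absurd rfl hne
  · -- (2,4) = (1,1)
    rcases Q_3 with ⟨rfl, rfl⟩ | ⟨rfl, rfl⟩ | ⟨rfl, rfl⟩ | ⟨rfl, rfl⟩ | ⟨rfl, rfl⟩ | ⟨rfl, rfl⟩ | ⟨rfl, rfl⟩ | ⟨rfl, rfl⟩ | ⟨rfl, rfl⟩
    · -- (3,4) = (0,0)
      omega
    · -- (3,4) = (1,1)
      omega
    · -- (3,4) = (1,2)
      omega
    · -- (3,4) = (2,1)
      omega
    · -- (3,4) = (1,3)
      omega
    · -- (3,4) = (3,1)
      omega
    · -- (3,4) = (1,4)
      omega
    · -- (3,4) = (4,1)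
      omega
    · -- (3,4) = (2,2)
      omega
  · -- (2,4) = (1,2)
    rcases Q_3 with ⟨rfl, rfl⟩ | ⟨rfl, rfl⟩ | ⟨rfl, rfl⟩ | ⟨rfl, rfl⟩ | ⟨rfl, rfl⟩ | ⟨rfl, rfl⟩ | ⟨rfl, rfl⟩ | ⟨rfl, rfl⟩ | ⟨rfl, rfl⟩
    · -- (3,4) = (0,0)
      exact nd_48 T hG hmax e_0_1 e_0_2 e_0_3 e_0_4 e_1_0 e_1_2 e_1_3 e_1_4 e_2_0 e_2_1 e_2_3 e_2_4 e_3_0 e_3_1 e_3_2 e_3_4 e_4_0 e_4_1 e_4_2 e_4_3 cl
    · -- (3,4) = (1,1)
      omega
    · -- (3,4) = (1,2)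
      omega
    · -- (3,4) = (2,1)
      omega
    · -- (3,4) = (1,3)
      omega
    · -- (3,4) = (3,1)
      omega
    · -- (3,4) = (1,4)
      omega
    · -- (3,4) = (4,1)
      omega
    · -- (3,4) = (2,2)
      omega
  · -- (2,4) = (2,1)
    rcases Q_3 with ⟨rfl, rfl⟩ | ⟨rfl, rfl⟩ | ⟨rfl, rfl⟩ | ⟨rfl, rfl⟩ | ⟨rfl, rfl⟩ | ⟨rfl, rfl⟩ | ⟨rfl, rfl⟩ | ⟨rfl, rfl⟩ | ⟨rfl, rfl⟩
    · -- (3,4) = (0,0)
      exact nd_49 T hG hmax e_0_1 e_0_2 e_0_3 e_0_4 e_1_0 e_1_2 e_1_3 e_1_4 e_2_0 e_2_1 e_2_3 e_2_4 e_3_0 e_3_1 e_3_2 e_3_4 e_4_0 e_4_1 e_4_2 e_4_3 cl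
    · -- (3,4) = (1,1)
      omega
    · -- (3,4) = (1,2)
      omega
    · -- (3,4) = (2,1)
      omega
    · -- (3,4) = (1,3)
      omega
    · -- (3,4) = (3,1)
      omega
    · -- (3,4) = (1,4)
      omega
    · -- (3,4) = (4,1)
      omega
    · -- (3,4) = (2,2)
      omega
  · omega
  · omega
  · omega
  · omega
  · omega

theorem nd_41 (T : Models.NumericalType 5)
    (hG : NTGood T)
    (hmax : ∀ j, T.m j ≤ T.m 0)
    (e_0_1 : T.picMatrix 0 1 = 1)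
    (e_0_2 : T.picMatrix 0 2 = 1)
    (e_0_3 : T.picMatrix 0 3 = 1)
    (e_1_0 : T.picMatrix 1 0 = 1)
    (e_1_2 : T.picMatrix 1 2 = 0)
    (e_1_3 : T.picMatrix 1 3 = 0)
    (e_2_0 : T.picMatrix 2 0 = 1)
    (e_2_1 : T.picMatrix 2 1 = 0)
    (e_2_3 : T.picMatrix 2 3 = 0)
    (e_3_0 : T.picMatrix 3 0 = 1)
    (e_3_1 : T.picMatrix 3 1 = 0)
    (e_3_2 : T.picMatrix 3 2 = 0)
    (cl : ∀ a b : Fin 5, a.val < 2 → 4 ≤ b.val → T.picMatrix a b = 0) :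
    Goal T := by
  by_cases hc : ∀ b : Fin 5, 4 ≤ b.val → T.picMatrix 2 b = 0
  · exact nd_42 T hG hmax e_0_1 e_0_2 e_0_3 e_1_0 e_1_2 e_1_3 e_2_0 e_2_1 e_2_3 e_3_0 e_3_1 e_3_2 (nt_cl_succ T 4 2 2 rfl cl hc)
  · obtain ⟨τ, hfix, cl', z, hne⟩ := nt_wlog_step T 4 (by norm_num) 2 (by norm_num) 2 (by decide) cl hc
    apply goal_relabel T τ
    refine ex_47 (ntRelabel T τ) (hG.relabel τ) ?_ ?_ ?_ ?_ ?_ ?_ ?_ ?_ ?_ ?_ ?_ ?_ ?_ cl' z hne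
    · intro j
      show T.m (τ j) ≤ T.m (τ 0)
      rw [hfix 0 (by decide)]
      exact hmax _
    · show T.picMatrix (τ 0) (τ 1) = 1
      rw [hfix 0 (by decide), hfix 1 (by decide)]
      exact e_0_1
    · show T.picMatrix (τ 0) (τ 2) = 1
      rw [hfix 0 (by decide), hfix 2 (by decide)]
      exact e_0_2
    · show T.picMatrix (τ 0) (τ 3) = 1
      rw [hfix 0 (by decide), hfix 3 (by decide)]
      exact e_0_3
    · show T.picMatrix (τ 1) (τ 0) = 1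
      rw [hfix 1 (by decide), hfix 0 (by decide)]
      exact e_1_0
    · show T.picMatrix (τ 1) (τ 2) = 0
      rw [hfix 1 (by decide), hfix 2 (by decide)]
      exact e_1_2
    · show T.picMatrix (τ 1) (τ 3) = 0
      rw [hfix 1 (by decide), hfix 3 (by decide)]
      exact e_1_3
    · show T.picMatrix (τ 2) (τ 0) = 1
      rw [hfix 2 (by decide), hfix 0 (by decide)]
      exact e_2_0
    · show T.picMatrix (τ 2) (τ 1) = 0
      rw [hfix 2 (by decide), hfix 1 (by decide)]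
      exact e_2_1
    · show T.picMatrix (τ 2) (τ 3) = 0
      rw [hfix 2 (by decide), hfix 3 (by decide)]
      exact e_2_3
    · show T.picMatrix (τ 3) (τ 0) = 1
      rw [hfix 3 (by decide), hfix 0 (by decide)]
      exact e_3_0
    · show T.picMatrix (τ 3) (τ 1) = 0
      rw [hfix 3 (by decide), hfix 1 (by decide)]
      exact e_3_1
    · show T.picMatrix (τ 3) (τ 2) = 0
      rw [hfix 3 (by decide), hfix 2 (by decide)]
      exact e_3_2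

theorem nd_51 (T : Models.NumericalType 5)
    (hG : NTGood T)
    (hmax : ∀ j, T.m j ≤ T.m 0)
    (e_0_1 : T.picMatrix 0 1 = 1)
    (e_0_2 : T.picMatrix 0 2 = 1)
    (e_0_3 : T.picMatrix 0 3 = 1)
    (e_0_4 : T.picMatrix 0 4 = 0)
    (e_1_0 : T.picMatrix 1 0 = 1)
    (e_1_2 : T.picMatrix 1 2 = 0)
    (e_1_3 : T.picMatrix 1 3 = 0)
    (e_1_4 : T.picMatrix 1 4 = 1)
    (e_2_0 : T.picMatrix 2 0 = 1)
    (e_2_1 : T.picMatrix 2 1 = 0)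
    (e_2_3 : T.picMatrix 2 3 = 0)
    (e_2_4 : T.picMatrix 2 4 = 0)
    (e_3_0 : T.picMatrix 3 0 = 1)
    (e_3_1 : T.picMatrix 3 1 = 0)
    (e_3_2 : T.picMatrix 3 2 = 0)
    (e_3_4 : T.picMatrix 3 4 = 0)
    (e_4_0 : T.picMatrix 4 0 = 0)
    (e_4_1 : T.picMatrix 4 1 = 2)
    (e_4_2 : T.picMatrix 4 2 = 0)
    (e_4_3 : T.picMatrix 4 3 = 0)
    (cl : ∀ a b : Fin 5, a.val < 1 → 5 ≤ b.val → T.picMatrix a b = 0) :
    Goal T := by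
  obtain ⟨hg0, hdA, hdP, hnn, hrow, hsym, hpair⟩ := ntgood_data T (by norm_num) hG
  have hm_0 := T.m_pos 0
  have hw_0 := T.w_pos 0
  have hm_1 := T.m_pos 1
  have hw_1 := T.w_pos 1
  have hm_2 := T.m_pos 2
  have hw_2 := T.w_pos 2
  have hm_3 := T.m_pos 3
  have hw_3 := T.w_pos 3
  have hm_4 := T.m_pos 4
  have hw_4 := T.w_pos 4
  have hx_1 := hmax 1
  have hx_2 := hmax 2
  have hx_3 := hmax 3
  have hx_4 := hmax 4
  have R_0 := hrow 0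
  rw [Fin.sum_univ_five, hdP 0, e_0_1, e_0_2, e_0_3, e_0_4] at R_0
  have R_1 := hrow 1
  rw [Fin.sum_univ_five, hdP 1, e_1_0, e_1_2, e_1_3, e_1_4] at R_1
  have R_2 := hrow 2
  rw [Fin.sum_univ_five, hdP 2, e_2_0, e_2_1, e_2_3, e_2_4] at R_2
  have R_3 := hrow 3
  rw [Fin.sum_univ_five, hdP 3, e_3_0, e_3_1, e_3_2, e_3_4] at R_3
  have R_4 := hrow 4
  rw [Fin.sum_univ_five, hdP 4, e_4_0, e_4_1, e_4_2, e_4_3] at R_4
  have S_0_1 := hsym 0 1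
  rw [e_0_1, e_1_0] at S_0_1
  have S_0_2 := hsym 0 2
  rw [e_0_2, e_2_0] at S_0_2
  have S_0_3 := hsym 0 3
  rw [e_0_3, e_3_0] at S_0_3
  have S_0_4 := hsym 0 4
  rw [e_0_4, e_4_0] at S_0_4
  have S_1_2 := hsym 1 2
  rw [e_1_2, e_2_1] at S_1_2
  have S_1_3 := hsym 1 3
  rw [e_1_3, e_3_1] at S_1_3
  have S_1_4 := hsym 1 4
  rw [e_1_4, e_4_1] at S_1_4
  have S_2_3 := hsym 2 3
  rw [e_2_3, e_3_2] at S_2_3
  have S_2_4 := hsym 2 4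
  rw [e_2_4, e_4_2] at S_2_4
  have S_3_4 := hsym 3 4
  rw [e_3_4, e_4_3] at S_3_4
  have D_0 := hdA 0
  have A_0_1 := nt_a_eq T 0 1
  rw [e_0_1] at A_0_1
  have A_0_2 := nt_a_eq T 0 2
  rw [e_0_2] at A_0_2
  have A_0_3 := nt_a_eq T 0 3
  rw [e_0_3] at A_0_3
  have A_0_4 := nt_a_eq T 0 4
  rw [e_0_4] at A_0_4
  have D_1 := hdA 1
  have A_1_0 := nt_a_eq T 1 0
  rw [e_1_0] at A_1_0
  have A_1_2 := nt_a_eq T 1 2
  rw [e_1_2] at A_1_2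
  have A_1_3 := nt_a_eq T 1 3
  rw [e_1_3] at A_1_3
  have A_1_4 := nt_a_eq T 1 4
  rw [e_1_4] at A_1_4
  have D_2 := hdA 2
  have A_2_0 := nt_a_eq T 2 0
  rw [e_2_0] at A_2_0
  have A_2_1 := nt_a_eq T 2 1
  rw [e_2_1] at A_2_1
  have A_2_3 := nt_a_eq T 2 3
  rw [e_2_3] at A_2_3
  have A_2_4 := nt_a_eq T 2 4
  rw [e_2_4] at A_2_4
  have D_3 := hdA 3
  have A_3_0 := nt_a_eq T 3 0
  rw [e_3_0] at A_3_0
  have A_3_1 := nt_a_eq T 3 1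
  rw [e_3_1] at A_3_1
  have A_3_2 := nt_a_eq T 3 2
  rw [e_3_2] at A_3_2
  have A_3_4 := nt_a_eq T 3 4
  rw [e_3_4] at A_3_4
  have D_4 := hdA 4
  have A_4_0 := nt_a_eq T 4 0
  rw [e_4_0] at A_4_0
  have A_4_1 := nt_a_eq T 4 1
  rw [e_4_1] at A_4_1
  have A_4_2 := nt_a_eq T 4 2
  rw [e_4_2] at A_4_2
  have A_4_3 := nt_a_eq T 4 3
  rw [e_4_3] at A_4_3
  refine goal_of_indices T hg0 4 1 0 2 3 (by decide) (T.m 2) (T.w 4) ?_
  unfold Goali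
  exact Or.inr (Or.inr (Or.inr (Or.inr (Or.inr (Or.inr (Or.inr (Or.inr (⟨by omega, by omega, by omega, by omega, by omega, by omega, by omega, by omega, by omega, by omega, by omega, by omega, by omega, by omega, by omega, by omega, by omega, by omega, by omega, by omega, by omega, by omega, by omega, by omega, by omega⟩))))))))

theorem nd_52 (T : Models.NumericalType 5)
    (hG : NTGood T)
    (hmax : ∀ j, T.m j ≤ T.m 0)
    (e_0_1 : T.picMatrix 0 1 = 1)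
    (e_0_2 : T.picMatrix 0 2 = 1)
    (e_0_3 : T.picMatrix 0 3 = 1)
    (e_0_4 : T.picMatrix 0 4 = 0)
    (e_1_0 : T.picMatrix 1 0 = 1)
    (e_1_2 : T.picMatrix 1 2 = 0)
    (e_1_3 : T.picMatrix 1 3 = 0)
    (e_1_4 : T.picMatrix 1 4 = 2)
    (e_2_0 : T.picMatrix 2 0 = 1)
    (e_2_1 : T.picMatrix 2 1 = 0)
    (e_2_3 : T.picMatrix 2 3 = 0)
    (e_2_4 : T.picMatrix 2 4 = 0)
    (e_3_0 : T.picMatrix 3 0 = 1)
    (e_3_1 : T.picMatrix 3 1 = 0)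
    (e_3_2 : T.picMatrix 3 2 = 0)
    (e_3_4 : T.picMatrix 3 4 = 0)
    (e_4_0 : T.picMatrix 4 0 = 0)
    (e_4_1 : T.picMatrix 4 1 = 1)
    (e_4_2 : T.picMatrix 4 2 = 0)
    (e_4_3 : T.picMatrix 4 3 = 0)
    (cl : ∀ a b : Fin 5, a.val < 1 → 5 ≤ b.val → T.picMatrix a b = 0) :
    Goal T := by
  obtain ⟨hg0, hdA, hdP, hnn, hrow, hsym, hpair⟩ := ntgood_data T (by norm_num) hG
  have hm_0 := T.m_pos 0
  have hw_0 := T.w_pos 0
  have hm_1 := T.m_pos 1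
  have hw_1 := T.w_pos 1
  have hm_2 := T.m_pos 2
  have hw_2 := T.w_pos 2
  have hm_3 := T.m_pos 3
  have hw_3 := T.w_pos 3
  have hm_4 := T.m_pos 4
  have hw_4 := T.w_pos 4
  have hx_1 := hmax 1
  have hx_2 := hmax 2
  have hx_3 := hmax 3
  have hx_4 := hmax 4
  have R_0 := hrow 0
  rw [Fin.sum_univ_five, hdP 0, e_0_1, e_0_2, e_0_3, e_0_4] at R_0
  have R_1 := hrow 1
  rw [Fin.sum_univ_five, hdP 1, e_1_0, e_1_2, e_1_3, e_1_4] at R_1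
  have R_2 := hrow 2
  rw [Fin.sum_univ_five, hdP 2, e_2_0, e_2_1, e_2_3, e_2_4] at R_2
  have R_3 := hrow 3
  rw [Fin.sum_univ_five, hdP 3, e_3_0, e_3_1, e_3_2, e_3_4] at R_3
  have R_4 := hrow 4
  rw [Fin.sum_univ_five, hdP 4, e_4_0, e_4_1, e_4_2, e_4_3] at R_4
  have S_0_1 := hsym 0 1
  rw [e_0_1, e_1_0] at S_0_1
  have S_0_2 := hsym 0 2
  rw [e_0_2, e_2_0] at S_0_2
  have S_0_3 := hsym 0 3
  rw [e_0_3, e_3_0] at S_0_3
  have S_0_4 := hsym 0 4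
  rw [e_0_4, e_4_0] at S_0_4
  have S_1_2 := hsym 1 2
  rw [e_1_2, e_2_1] at S_1_2
  have S_1_3 := hsym 1 3
  rw [e_1_3, e_3_1] at S_1_3
  have S_1_4 := hsym 1 4
  rw [e_1_4, e_4_1] at S_1_4
  have S_2_3 := hsym 2 3
  rw [e_2_3, e_3_2] at S_2_3
  have S_2_4 := hsym 2 4
  rw [e_2_4, e_4_2] at S_2_4
  have S_3_4 := hsym 3 4
  rw [e_3_4, e_4_3] at S_3_4
  have D_0 := hdA 0
  have A_0_1 := nt_a_eq T 0 1
  rw [e_0_1] at A_0_1
  have A_0_2 := nt_a_eq T 0 2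
  rw [e_0_2] at A_0_2
  have A_0_3 := nt_a_eq T 0 3
  rw [e_0_3] at A_0_3
  have A_0_4 := nt_a_eq T 0 4
  rw [e_0_4] at A_0_4
  have D_1 := hdA 1
  have A_1_0 := nt_a_eq T 1 0
  rw [e_1_0] at A_1_0
  have A_1_2 := nt_a_eq T 1 2
  rw [e_1_2] at A_1_2
  have A_1_3 := nt_a_eq T 1 3
  rw [e_1_3] at A_1_3
  have A_1_4 := nt_a_eq T 1 4
  rw [e_1_4] at A_1_4
  have D_2 := hdA 2
  have A_2_0 := nt_a_eq T 2 0
  rw [e_2_0] at A_2_0
  have A_2_1 := nt_a_eq T 2 1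
  rw [e_2_1] at A_2_1
  have A_2_3 := nt_a_eq T 2 3
  rw [e_2_3] at A_2_3
  have A_2_4 := nt_a_eq T 2 4
  rw [e_2_4] at A_2_4
  have D_3 := hdA 3
  have A_3_0 := nt_a_eq T 3 0
  rw [e_3_0] at A_3_0
  have A_3_1 := nt_a_eq T 3 1
  rw [e_3_1] at A_3_1
  have A_3_2 := nt_a_eq T 3 2
  rw [e_3_2] at A_3_2
  have A_3_4 := nt_a_eq T 3 4
  rw [e_3_4] at A_3_4
  have D_4 := hdA 4
  have A_4_0 := nt_a_eq T 4 0
  rw [e_4_0] at A_4_0
  have A_4_1 := nt_a_eq T 4 1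
  rw [e_4_1] at A_4_1
  have A_4_2 := nt_a_eq T 4 2
  rw [e_4_2] at A_4_2
  have A_4_3 := nt_a_eq T 4 3
  rw [e_4_3] at A_4_3
  refine goal_of_indices T hg0 4 1 0 2 3 (by decide) (T.m 4) (T.w 1) ?_
  unfold Goali
  exact Or.inr (Or.inr (Or.inr (Or.inr (Or.inr (Or.inr (Or.inr (Or.inl ⟨by omega, by omega, by omega, by omega, by omega, by omega, by omega, by omega, by omega, by omega, by omega, by omega, by omega, by omega, by omega, by omega, by omega, by omega, by omega, by omega, by omega, by omega, by omega, by omega, by omega⟩)))))))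

theorem ex_50 (T : Models.NumericalType 5)
    (hG : NTGood T)
    (hmax : ∀ j, T.m j ≤ T.m 0)
    (e_0_1 : T.picMatrix 0 1 = 1)
    (e_0_2 : T.picMatrix 0 2 = 1)
    (e_0_3 : T.picMatrix 0 3 = 1)
    (e_1_0 : T.picMatrix 1 0 = 1)
    (e_1_2 : T.picMatrix 1 2 = 0)
    (e_1_3 : T.picMatrix 1 3 = 0)
    (e_2_0 : T.picMatrix 2 0 = 1)
    (e_2_1 : T.picMatrix 2 1 = 0)
    (e_2_3 : T.picMatrix 2 3 = 0)
    (e_3_0 : T.picMatrix 3 0 = 1)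
    (e_3_1 : T.picMatrix 3 1 = 0)
    (e_3_2 : T.picMatrix 3 2 = 0)
    (cl : ∀ a b : Fin 5, a.val < 1 → 5 ≤ b.val → T.picMatrix a b = 0)
    (z : ∀ a : Fin 5, a.val < 1 → T.picMatrix a 4 = 0)
    (hne : T.picMatrix 1 4 ≠ 0) :
    Goal T := by
  have e_0_4 : T.picMatrix 0 4 = 0 := z 0 (by decide)
  have e_4_0 : T.picMatrix 4 0 = 0 := nt_pic_zero_symm T 0 4 e_0_4
  obtain ⟨hg0, hdA, hdP, hnn, hrow, hsym, hpair⟩ := ntgood_data T (by norm_num) hG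
  have hm_0 := T.m_pos 0
  have hw_0 := T.w_pos 0
  have hm_1 := T.m_pos 1
  have hw_1 := T.w_pos 1
  have hm_2 := T.m_pos 2
  have hw_2 := T.w_pos 2
  have hm_3 := T.m_pos 3
  have hw_3 := T.w_pos 3
  have hm_4 := T.m_pos 4
  have hw_4 := T.w_pos 4
  have hx_1 := hmax 1
  have hx_2 := hmax 2
  have hx_3 := hmax 3
  have hx_4 := hmax 4
  have N_1_4 := mul_nonneg (hnn 1 4 (by decide)) (T.m_pos 4).le
  have N_4_1 := mul_nonneg (hnn 4 1 (by decide)) (T.m_pos 1).le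
  have N_2_4 := mul_nonneg (hnn 2 4 (by decide)) (T.m_pos 4).le
  have N_4_2 := mul_nonneg (hnn 4 2 (by decide)) (T.m_pos 2).le
  have N_3_4 := mul_nonneg (hnn 3 4 (by decide)) (T.m_pos 4).le
  have N_4_3 := mul_nonneg (hnn 4 3 (by decide)) (T.m_pos 3).le
  have R_0 := hrow 0
  rw [Fin.sum_univ_five, hdP 0, e_0_1, e_0_2, e_0_3, e_0_4] at R_0
  have R_1 := hrow 1
  rw [Fin.sum_univ_five, hdP 1, e_1_0, e_1_2, e_1_3] at R_1
  have R_2 := hrow 2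
  rw [Fin.sum_univ_five, hdP 2, e_2_0, e_2_1, e_2_3] at R_2
  have R_3 := hrow 3
  rw [Fin.sum_univ_five, hdP 3, e_3_0, e_3_1, e_3_2] at R_3
  have R_4 := hrow 4
  rw [Fin.sum_univ_five, hdP 4, e_4_0] at R_4
  have S_0_1 := hsym 0 1
  rw [e_0_1, e_1_0] at S_0_1
  have S_0_2 := hsym 0 2
  rw [e_0_2, e_2_0] at S_0_2
  have S_0_3 := hsym 0 3
  rw [e_0_3, e_3_0] at S_0_3
  have S_0_4 := hsym 0 4
  rw [e_0_4, e_4_0] at S_0_4
  have S_1_2 := hsym 1 2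
  rw [e_1_2, e_2_1] at S_1_2
  have S_1_3 := hsym 1 3
  rw [e_1_3, e_3_1] at S_1_3
  have S_1_4 := hsym 1 4
  have S_2_3 := hsym 2 3
  rw [e_2_3, e_3_2] at S_2_3
  have S_2_4 := hsym 2 4
  have S_3_4 := hsym 3 4
  have Q_1 := hpair 1 4 (by decide)
  have Q_2 := hpair 2 4 (by decide)
  have Q_3 := hpair 3 4 (by decide)
  generalize e_1_4 : T.picMatrix 1 4 = x_1 at *
  generalize e_4_1 : T.picMatrix 4 1 = y_1 at *
  generalize e_2_4 : T.picMatrix 2 4 = x_2 at *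
  generalize e_4_2 : T.picMatrix 4 2 = y_2 at *
  generalize e_3_4 : T.picMatrix 3 4 = x_3 at *
  generalize e_4_3 : T.picMatrix 4 3 = y_3 at *
  rcases Q_1 with ⟨rfl, rfl⟩ | ⟨rfl, rfl⟩ | ⟨rfl, rfl⟩ | ⟨rfl, rfl⟩ | ⟨rfl, rfl⟩ | ⟨rfl, rfl⟩ | ⟨rfl, rfl⟩ | ⟨rfl, rfl⟩ | ⟨rfl, rfl⟩
  · exact absurd rfl hne
  · -- (1,4) = (1,1)
    rcases Q_2 with ⟨rfl, rfl⟩ | ⟨rfl, rfl⟩ | ⟨rfl, rfl⟩ | ⟨rfl, rfl⟩ | ⟨rfl, rfl⟩ | ⟨rfl, rfl⟩ | ⟨rfl, rfl⟩ | ⟨rfl, rfl⟩ | ⟨rfl, rfl⟩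
    · -- (2,4) = (0,0)
      rcases Q_3 with ⟨rfl, rfl⟩ | ⟨rfl, rfl⟩ | ⟨rfl, rfl⟩ | ⟨rfl, rfl⟩ | ⟨rfl, rfl⟩ | ⟨rfl, rfl⟩ | ⟨rfl, rfl⟩ | ⟨rfl, rfl⟩ | ⟨rfl, rfl⟩
      · -- (3,4) = (0,0)
        omega
      · -- (3,4) = (1,1)
        omega
      · -- (3,4) = (1,2)
        omega
      · -- (3,4) = (2,1)
        omega
      · -- (3,4) = (1,3)
        omega
      · -- (3,4) = (3,1)
        omega
      · -- (3,4) = (1,4)
        omega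
      · -- (3,4) = (4,1)
        omega
      · -- (3,4) = (2,2)
        omega
    · omega
    · omega
    · omega
    · omega
    · omega
    · omega
    · omega
    · omega
  · -- (1,4) = (1,2)
    rcases Q_2 with ⟨rfl, rfl⟩ | ⟨rfl, rfl⟩ | ⟨rfl, rfl⟩ | ⟨rfl, rfl⟩ | ⟨rfl, rfl⟩ | ⟨rfl, rfl⟩ | ⟨rfl, rfl⟩ | ⟨rfl, rfl⟩ | ⟨rfl, rfl⟩
    · -- (2,4) = (0,0)
      rcases Q_3 with ⟨rfl, rfl⟩ | ⟨rfl, rfl⟩ | ⟨rfl, rfl⟩ | ⟨rfl, rfl⟩ | ⟨rfl, rfl⟩ | ⟨rfl, rfl⟩ | ⟨rfl, rfl⟩ | ⟨rfl, rfl⟩ | ⟨rfl, rfl⟩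
      · -- (3,4) = (0,0)
        exact nd_51 T hG hmax e_0_1 e_0_2 e_0_3 e_0_4 e_1_0 e_1_2 e_1_3 e_1_4 e_2_0 e_2_1 e_2_3 e_2_4 e_3_0 e_3_1 e_3_2 e_3_4 e_4_0 e_4_1 e_4_2 e_4_3 cl
      · -- (3,4) = (1,1)
        omega
      · -- (3,4) = (1,2)
        omega
      · -- (3,4) = (2,1)
        omega
      · -- (3,4) = (1,3)
        omega
      · -- (3,4) = (3,1)
        omega
      · -- (3,4) = (1,4)
        omega
      · -- (3,4) = (4,1)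
        omega
      · -- (3,4) = (2,2)
        omega
    · omega
    · omega
    · omega
    · omega
    · omega
    · omega
    · omega
    · omega
  · -- (1,4) = (2,1)
    rcases Q_2 with ⟨rfl, rfl⟩ | ⟨rfl, rfl⟩ | ⟨rfl, rfl⟩ | ⟨rfl, rfl⟩ | ⟨rfl, rfl⟩ | ⟨rfl, rfl⟩ | ⟨rfl, rfl⟩ | ⟨rfl, rfl⟩ | ⟨rfl, rfl⟩
    · -- (2,4) = (0,0)
      rcases Q_3 with ⟨rfl, rfl⟩ | ⟨rfl, rfl⟩ | ⟨rfl, rfl⟩ | ⟨rfl, rfl⟩ | ⟨rfl, rfl⟩ | ⟨rfl, rfl⟩ | ⟨rfl, rfl⟩ | ⟨rfl, rfl⟩ | ⟨rfl, rfl⟩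
      · -- (3,4) = (0,0)
        exact nd_52 T hG hmax e_0_1 e_0_2 e_0_3 e_0_4 e_1_0 e_1_2 e_1_3 e_1_4 e_2_0 e_2_1 e_2_3 e_2_4 e_3_0 e_3_1 e_3_2 e_3_4 e_4_0 e_4_1 e_4_2 e_4_3 cl
      · -- (3,4) = (1,1)
        omega
      · -- (3,4) = (1,2)
        omega
      · -- (3,4) = (2,1)
        omega
      · -- (3,4) = (1,3)
        omega
      · -- (3,4) = (3,1)
        omega
      · -- (3,4) = (1,4)
        omega
      · -- (3,4) = (4,1)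
        omega
      · -- (3,4) = (2,2)
        omega
    · omega
    · omega
    · omega
    · omega
    · omega
    · omega
    · omega
    · omega
  · omega
  · omega
  · omega
  · omega
  · omega

theorem nd_40 (T : Models.NumericalType 5)
    (hG : NTGood T)
    (hmax : ∀ j, T.m j ≤ T.m 0)
    (e_0_1 : T.picMatrix 0 1 = 1)
    (e_0_2 : T.picMatrix 0 2 = 1)
    (e_0_3 : T.picMatrix 0 3 = 1)
    (e_1_0 : T.picMatrix 1 0 = 1)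
    (e_1_2 : T.picMatrix 1 2 = 0)
    (e_1_3 : T.picMatrix 1 3 = 0)
    (e_2_0 : T.picMatrix 2 0 = 1)
    (e_2_1 : T.picMatrix 2 1 = 0)
    (e_2_3 : T.picMatrix 2 3 = 0)
    (e_3_0 : T.picMatrix 3 0 = 1)
    (e_3_1 : T.picMatrix 3 1 = 0)
    (e_3_2 : T.picMatrix 3 2 = 0)
    (cl : ∀ a b : Fin 5, a.val < 1 → 4 ≤ b.val → T.picMatrix a b = 0) :
    Goal T := by
  by_cases hc : ∀ b : Fin 5, 4 ≤ b.val → T.picMatrix 1 b = 0
  · exact nd_41 T hG hmax e_0_1 e_0_2 e_0_3 e_1_0 e_1_2 e_1_3 e_2_0 e_2_1 e_2_3 e_3_0 e_3_1 e_3_2 (nt_cl_succ T 4 1 1 rfl cl hc)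
  · obtain ⟨τ, hfix, cl', z, hne⟩ := nt_wlog_step T 4 (by norm_num) 1 (by norm_num) 1 (by decide) cl hc
    apply goal_relabel T τ
    refine ex_50 (ntRelabel T τ) (hG.relabel τ) ?_ ?_ ?_ ?_ ?_ ?_ ?_ ?_ ?_ ?_ ?_ ?_ ?_ cl' z hne
    · intro j
      show T.m (τ j) ≤ T.m (τ 0)
      rw [hfix 0 (by decide)]
      exact hmax _
    · show T.picMatrix (τ 0) (τ 1) = 1
      rw [hfix 0 (by decide), hfix 1 (by decide)]
      exact e_0_1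
    · show T.picMatrix (τ 0) (τ 2) = 1
      rw [hfix 0 (by decide), hfix 2 (by decide)]
      exact e_0_2
    · show T.picMatrix (τ 0) (τ 3) = 1
      rw [hfix 0 (by decide), hfix 3 (by decide)]
      exact e_0_3
    · show T.picMatrix (τ 1) (τ 0) = 1
      rw [hfix 1 (by decide), hfix 0 (by decide)]
      exact e_1_0
    · show T.picMatrix (τ 1) (τ 2) = 0
      rw [hfix 1 (by decide), hfix 2 (by decide)]
      exact e_1_2
    · show T.picMatrix (τ 1) (τ 3) = 0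
      rw [hfix 1 (by decide), hfix 3 (by decide)]
      exact e_1_3
    · show T.picMatrix (τ 2) (τ 0) = 1
      rw [hfix 2 (by decide), hfix 0 (by decide)]
      exact e_2_0
    · show T.picMatrix (τ 2) (τ 1) = 0
      rw [hfix 2 (by decide), hfix 1 (by decide)]
      exact e_2_1
    · show T.picMatrix (τ 2) (τ 3) = 0
      rw [hfix 2 (by decide), hfix 3 (by decide)]
      exact e_2_3
    · show T.picMatrix (τ 3) (τ 0) = 1
      rw [hfix 3 (by decide), hfix 0 (by decide)]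
      exact e_3_0
    · show T.picMatrix (τ 3) (τ 1) = 0
      rw [hfix 3 (by decide), hfix 1 (by decide)]
      exact e_3_1
    · show T.picMatrix (τ 3) (τ 2) = 0
      rw [hfix 3 (by decide), hfix 2 (by decide)]
      exact e_3_2

theorem nd_54 (T : Models.NumericalType 5)
    (hG : NTGood T)
    (hmax : ∀ j, T.m j ≤ T.m 0)
    (e_0_1 : T.picMatrix 0 1 = 1)
    (e_0_2 : T.picMatrix 0 2 = 1)
    (e_0_3 : T.picMatrix 0 3 = 1)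
    (e_0_4 : T.picMatrix 0 4 = 1)
    (e_1_0 : T.picMatrix 1 0 = 1)
    (e_1_2 : T.picMatrix 1 2 = 0)
    (e_1_3 : T.picMatrix 1 3 = 0)
    (e_1_4 : T.picMatrix 1 4 = 0)
    (e_2_0 : T.picMatrix 2 0 = 1)
    (e_2_1 : T.picMatrix 2 1 = 0)
    (e_2_3 : T.picMatrix 2 3 = 0)
    (e_2_4 : T.picMatrix 2 4 = 0)
    (e_3_0 : T.picMatrix 3 0 = 1)
    (e_3_1 : T.picMatrix 3 1 = 0)
    (e_3_2 : T.picMatrix 3 2 = 0)
    (e_3_4 : T.picMatrix 3 4 = 0)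
    (e_4_0 : T.picMatrix 4 0 = 1)
    (e_4_1 : T.picMatrix 4 1 = 0)
    (e_4_2 : T.picMatrix 4 2 = 0)
    (e_4_3 : T.picMatrix 4 3 = 0)
    (cl : ∀ a b : Fin 5, a.val < 0 → 5 ≤ b.val → T.picMatrix a b = 0) :
    Goal T := by
  obtain ⟨hg0, hdA, hdP, hnn, hrow, hsym, hpair⟩ := ntgood_data T (by norm_num) hG
  have hm_0 := T.m_pos 0
  have hw_0 := T.w_pos 0
  have hm_1 := T.m_pos 1
  have hw_1 := T.w_pos 1
  have hm_2 := T.m_pos 2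
  have hw_2 := T.w_pos 2
  have hm_3 := T.m_pos 3
  have hw_3 := T.w_pos 3
  have hm_4 := T.m_pos 4
  have hw_4 := T.w_pos 4
  have hx_1 := hmax 1
  have hx_2 := hmax 2
  have hx_3 := hmax 3
  have hx_4 := hmax 4
  have R_0 := hrow 0
  rw [Fin.sum_univ_five, hdP 0, e_0_1, e_0_2, e_0_3, e_0_4] at R_0
  have R_1 := hrow 1
  rw [Fin.sum_univ_five, hdP 1, e_1_0, e_1_2, e_1_3, e_1_4] at R_1
  have R_2 := hrow 2
  rw [Fin.sum_univ_five, hdP 2, e_2_0, e_2_1, e_2_3, e_2_4] at R_2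
  have R_3 := hrow 3
  rw [Fin.sum_univ_five, hdP 3, e_3_0, e_3_1, e_3_2, e_3_4] at R_3
  have R_4 := hrow 4
  rw [Fin.sum_univ_five, hdP 4, e_4_0, e_4_1, e_4_2, e_4_3] at R_4
  have S_0_1 := hsym 0 1
  rw [e_0_1, e_1_0] at S_0_1
  have S_0_2 := hsym 0 2
  rw [e_0_2, e_2_0] at S_0_2
  have S_0_3 := hsym 0 3
  rw [e_0_3, e_3_0] at S_0_3
  have S_0_4 := hsym 0 4
  rw [e_0_4, e_4_0] at S_0_4
  have S_1_2 := hsym 1 2
  rw [e_1_2, e_2_1] at S_1_2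
  have S_1_3 := hsym 1 3
  rw [e_1_3, e_3_1] at S_1_3
  have S_1_4 := hsym 1 4
  rw [e_1_4, e_4_1] at S_1_4
  have S_2_3 := hsym 2 3
  rw [e_2_3, e_3_2] at S_2_3
  have S_2_4 := hsym 2 4
  rw [e_2_4, e_4_2] at S_2_4
  have S_3_4 := hsym 3 4
  rw [e_3_4, e_4_3] at S_3_4
  have D_0 := hdA 0
  have A_0_1 := nt_a_eq T 0 1
  rw [e_0_1] at A_0_1
  have A_0_2 := nt_a_eq T 0 2
  rw [e_0_2] at A_0_2
  have A_0_3 := nt_a_eq T 0 3
  rw [e_0_3] at A_0_3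
  have A_0_4 := nt_a_eq T 0 4
  rw [e_0_4] at A_0_4
  have D_1 := hdA 1
  have A_1_0 := nt_a_eq T 1 0
  rw [e_1_0] at A_1_0
  have A_1_2 := nt_a_eq T 1 2
  rw [e_1_2] at A_1_2
  have A_1_3 := nt_a_eq T 1 3
  rw [e_1_3] at A_1_3
  have A_1_4 := nt_a_eq T 1 4
  rw [e_1_4] at A_1_4
  have D_2 := hdA 2
  have A_2_0 := nt_a_eq T 2 0
  rw [e_2_0] at A_2_0
  have A_2_1 := nt_a_eq T 2 1
  rw [e_2_1] at A_2_1
  have A_2_3 := nt_a_eq T 2 3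
  rw [e_2_3] at A_2_3
  have A_2_4 := nt_a_eq T 2 4
  rw [e_2_4] at A_2_4
  have D_3 := hdA 3
  have A_3_0 := nt_a_eq T 3 0
  rw [e_3_0] at A_3_0
  have A_3_1 := nt_a_eq T 3 1
  rw [e_3_1] at A_3_1
  have A_3_2 := nt_a_eq T 3 2
  rw [e_3_2] at A_3_2
  have A_3_4 := nt_a_eq T 3 4
  rw [e_3_4] at A_3_4
  have D_4 := hdA 4
  have A_4_0 := nt_a_eq T 4 0
  rw [e_4_0] at A_4_0
  have A_4_1 := nt_a_eq T 4 1
  rw [e_4_1] at A_4_1
  have A_4_2 := nt_a_eq T 4 2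
  rw [e_4_2] at A_4_2
  have A_4_3 := nt_a_eq T 4 3
  rw [e_4_3] at A_4_3
  refine goal_of_indices T hg0 0 1 2 3 4 (by decide) (T.m 1) (T.w 0) ?_
  unfold Goali
  exact Or.inr (Or.inr (Or.inr (Or.inr (Or.inr (Or.inr (Or.inl ⟨by omega, by omega, by omega, by omega, by omega, by omega, by omega, by omega, by omega, by omega, by omega, by omega, by omega, by omega, by omega, by omega, by omega, by omega, by omega, by omega, by omega, by omega, by omega, by omega, by omega⟩))))))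

theorem ex_53 (T : Models.NumericalType 5)
    (hG : NTGood T)
    (hmax : ∀ j, T.m j ≤ T.m 0)
    (e_0_1 : T.picMatrix 0 1 = 1)
    (e_0_2 : T.picMatrix 0 2 = 1)
    (e_0_3 : T.picMatrix 0 3 = 1)
    (e_1_0 : T.picMatrix 1 0 = 1)
    (e_1_2 : T.picMatrix 1 2 = 0)
    (e_1_3 : T.picMatrix 1 3 = 0)
    (e_2_0 : T.picMatrix 2 0 = 1)
    (e_2_1 : T.picMatrix 2 1 = 0)
    (e_2_3 : T.picMatrix 2 3 = 0)
    (e_3_0 : T.picMatrix 3 0 = 1)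
    (e_3_1 : T.picMatrix 3 1 = 0)
    (e_3_2 : T.picMatrix 3 2 = 0)
    (cl : ∀ a b : Fin 5, a.val < 0 → 5 ≤ b.val → T.picMatrix a b = 0)
    (z : ∀ a : Fin 5, a.val < 0 → T.picMatrix a 4 = 0)
    (hne : T.picMatrix 0 4 ≠ 0) :
    Goal T := by
  obtain ⟨hg0, hdA, hdP, hnn, hrow, hsym, hpair⟩ := ntgood_data T (by norm_num) hG
  have hm_0 := T.m_pos 0
  have hw_0 := T.w_pos 0
  have hm_1 := T.m_pos 1
  have hw_1 := T.w_pos 1
  have hm_2 := T.m_pos 2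
  have hw_2 := T.w_pos 2
  have hm_3 := T.m_pos 3
  have hw_3 := T.w_pos 3
  have hm_4 := T.m_pos 4
  have hw_4 := T.w_pos 4
  have hx_1 := hmax 1
  have hx_2 := hmax 2
  have hx_3 := hmax 3
  have hx_4 := hmax 4
  have N_0_4 := mul_nonneg (hnn 0 4 (by decide)) (T.m_pos 4).le
  have N_4_0 := mul_nonneg (hnn 4 0 (by decide)) (T.m_pos 0).le
  have N_1_4 := mul_nonneg (hnn 1 4 (by decide)) (T.m_pos 4).le
  have N_4_1 := mul_nonneg (hnn 4 1 (by decide)) (T.m_pos 1).le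
  have N_2_4 := mul_nonneg (hnn 2 4 (by decide)) (T.m_pos 4).le
  have N_4_2 := mul_nonneg (hnn 4 2 (by decide)) (T.m_pos 2).le
  have N_3_4 := mul_nonneg (hnn 3 4 (by decide)) (T.m_pos 4).le
  have N_4_3 := mul_nonneg (hnn 4 3 (by decide)) (T.m_pos 3).le
  have R_0 := hrow 0
  rw [Fin.sum_univ_five, hdP 0, e_0_1, e_0_2, e_0_3] at R_0
  have R_1 := hrow 1
  rw [Fin.sum_univ_five, hdP 1, e_1_0, e_1_2, e_1_3] at R_1
  have R_2 := hrow 2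
  rw [Fin.sum_univ_five, hdP 2, e_2_0, e_2_1, e_2_3] at R_2
  have R_3 := hrow 3
  rw [Fin.sum_univ_five, hdP 3, e_3_0, e_3_1, e_3_2] at R_3
  have R_4 := hrow 4
  rw [Fin.sum_univ_five, hdP 4] at R_4
  have S_0_1 := hsym 0 1
  rw [e_0_1, e_1_0] at S_0_1
  have S_0_2 := hsym 0 2
  rw [e_0_2, e_2_0] at S_0_2
  have S_0_3 := hsym 0 3
  rw [e_0_3, e_3_0] at S_0_3
  have S_0_4 := hsym 0 4
  have S_1_2 := hsym 1 2
  rw [e_1_2, e_2_1] at S_1_2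
  have S_1_3 := hsym 1 3
  rw [e_1_3, e_3_1] at S_1_3
  have S_1_4 := hsym 1 4
  have S_2_3 := hsym 2 3
  rw [e_2_3, e_3_2] at S_2_3
  have S_2_4 := hsym 2 4
  have S_3_4 := hsym 3 4
  have Q_0 := hpair 0 4 (by decide)
  have Q_1 := hpair 1 4 (by decide)
  have Q_2 := hpair 2 4 (by decide)
  have Q_3 := hpair 3 4 (by decide)
  generalize e_0_4 : T.picMatrix 0 4 = x_0 at *
  generalize e_4_0 : T.picMatrix 4 0 = y_0 at *
  generalize e_1_4 : T.picMatrix 1 4 = x_1 at *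
  generalize e_4_1 : T.picMatrix 4 1 = y_1 at *
  generalize e_2_4 : T.picMatrix 2 4 = x_2 at *
  generalize e_4_2 : T.picMatrix 4 2 = y_2 at *
  generalize e_3_4 : T.picMatrix 3 4 = x_3 at *
  generalize e_4_3 : T.picMatrix 4 3 = y_3 at *
  rcases Q_0 with ⟨rfl, rfl⟩ | ⟨rfl, rfl⟩ | ⟨rfl, rfl⟩ | ⟨rfl, rfl⟩ | ⟨rfl, rfl⟩ | ⟨rfl, rfl⟩ | ⟨rfl, rfl⟩ | ⟨rfl, rfl⟩ | ⟨rfl, rfl⟩
  · exact absurd rfl hne
  · -- (0,4) = (1,1)
    rcases Q_1 with ⟨rfl, rfl⟩ | ⟨rfl, rfl⟩ | ⟨rfl, rfl⟩ | ⟨rfl, rfl⟩ | ⟨rfl, rfl⟩ | ⟨rfl, rfl⟩ | ⟨rfl, rfl⟩ | ⟨rfl, rfl⟩ | ⟨rfl, rfl⟩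
    · -- (1,4) = (0,0)
      rcases Q_2 with ⟨rfl, rfl⟩ | ⟨rfl, rfl⟩ | ⟨rfl, rfl⟩ | ⟨rfl, rfl⟩ | ⟨rfl, rfl⟩ | ⟨rfl, rfl⟩ | ⟨rfl, rfl⟩ | ⟨rfl, rfl⟩ | ⟨rfl, rfl⟩
      · -- (2,4) = (0,0)
        rcases Q_3 with ⟨rfl, rfl⟩ | ⟨rfl, rfl⟩ | ⟨rfl, rfl⟩ | ⟨rfl, rfl⟩ | ⟨rfl, rfl⟩ | ⟨rfl, rfl⟩ | ⟨rfl, rfl⟩ | ⟨rfl, rfl⟩ | ⟨rfl, rfl⟩
        · -- (3,4) = (0,0)
          exact nd_54 T hG hmax e_0_1 e_0_2 e_0_3 e_0_4 e_1_0 e_1_2 e_1_3 e_1_4 e_2_0 e_2_1 e_2_3 e_2_4 e_3_0 e_3_1 e_3_2 e_3_4 e_4_0 e_4_1 e_4_2 e_4_3 cl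
        · -- (3,4) = (1,1)
          omega
        · -- (3,4) = (1,2)
          omega
        · -- (3,4) = (2,1)
          omega
        · -- (3,4) = (1,3)
          omega
        · -- (3,4) = (3,1)
          omega
        · -- (3,4) = (1,4)
          omega
        · -- (3,4) = (4,1)
          omega
        · -- (3,4) = (2,2)
          omega
      · omega
      · omega
      · omega
      · omega
      · omega
      · omega
      · omega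
      · omega
    · omega
    · omega
    · omega
    · omega
    · omega
    · omega
    · omega
    · omega
  · omega
  · omega
  · omega
  · omega
  · omega
  · omega
  · omega

theorem nd_39 (T : Models.NumericalType 5)
    (hG : NTGood T)
    (hmax : ∀ j, T.m j ≤ T.m 0)
    (e_0_1 : T.picMatrix 0 1 = 1)
    (e_0_2 : T.picMatrix 0 2 = 1)
    (e_0_3 : T.picMatrix 0 3 = 1)
    (e_1_0 : T.picMatrix 1 0 = 1)
    (e_1_2 : T.picMatrix 1 2 = 0)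
    (e_1_3 : T.picMatrix 1 3 = 0)
    (e_2_0 : T.picMatrix 2 0 = 1)
    (e_2_1 : T.picMatrix 2 1 = 0)
    (e_2_3 : T.picMatrix 2 3 = 0)
    (e_3_0 : T.picMatrix 3 0 = 1)
    (e_3_1 : T.picMatrix 3 1 = 0)
    (e_3_2 : T.picMatrix 3 2 = 0)
    (cl : ∀ a b : Fin 5, a.val < 0 → 4 ≤ b.val → T.picMatrix a b = 0) :
    Goal T := by
  by_cases hc : ∀ b : Fin 5, 4 ≤ b.val → T.picMatrix 0 b = 0
  · exact nd_40 T hG hmax e_0_1 e_0_2 e_0_3 e_1_0 e_1_2 e_1_3 e_2_0 e_2_1 e_2_3 e_3_0 e_3_1 e_3_2 (nt_cl_succ T 4 0 0 rfl cl hc)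
  · obtain ⟨τ, hfix, cl', z, hne⟩ := nt_wlog_step T 4 (by norm_num) 0 (by norm_num) 0 (by decide) cl hc
    apply goal_relabel T τ
    refine ex_53 (ntRelabel T τ) (hG.relabel τ) ?_ ?_ ?_ ?_ ?_ ?_ ?_ ?_ ?_ ?_ ?_ ?_ ?_ cl' z hne
    · intro j
      show T.m (τ j) ≤ T.m (τ 0)
      rw [hfix 0 (by decide)]
      exact hmax _
    · show T.picMatrix (τ 0) (τ 1) = 1
      rw [hfix 0 (by decide), hfix 1 (by decide)]
      exact e_0_1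
    · show T.picMatrix (τ 0) (τ 2) = 1
      rw [hfix 0 (by decide), hfix 2 (by decide)]
      exact e_0_2
    · show T.picMatrix (τ 0) (τ 3) = 1
      rw [hfix 0 (by decide), hfix 3 (by decide)]
      exact e_0_3
    · show T.picMatrix (τ 1) (τ 0) = 1
      rw [hfix 1 (by decide), hfix 0 (by decide)]
      exact e_1_0
    · show T.picMatrix (τ 1) (τ 2) = 0
      rw [hfix 1 (by decide), hfix 2 (by decide)]
      exact e_1_2
    · show T.picMatrix (τ 1) (τ 3) = 0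
      rw [hfix 1 (by decide), hfix 3 (by decide)]
      exact e_1_3
    · show T.picMatrix (τ 2) (τ 0) = 1
      rw [hfix 2 (by decide), hfix 0 (by decide)]
      exact e_2_0
    · show T.picMatrix (τ 2) (τ 1) = 0
      rw [hfix 2 (by decide), hfix 1 (by decide)]
      exact e_2_1
    · show T.picMatrix (τ 2) (τ 3) = 0
      rw [hfix 2 (by decide), hfix 3 (by decide)]
      exact e_2_3
    · show T.picMatrix (τ 3) (τ 0) = 1
      rw [hfix 3 (by decide), hfix 0 (by decide)]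
      exact e_3_0
    · show T.picMatrix (τ 3) (τ 1) = 0
      rw [hfix 3 (by decide), hfix 1 (by decide)]
      exact e_3_1
    · show T.picMatrix (τ 3) (τ 2) = 0
      rw [hfix 3 (by decide), hfix 2 (by decide)]
      exact e_3_2

theorem nd_59 (T : Models.NumericalType 5)
    (hG : NTGood T)
    (hmax : ∀ j, T.m j ≤ T.m 0)
    (e_0_1 : T.picMatrix 0 1 = 1)
    (e_0_2 : T.picMatrix 0 2 = 1)
    (e_0_3 : T.picMatrix 0 3 = 1)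
    (e_1_0 : T.picMatrix 1 0 = 1)
    (e_1_2 : T.picMatrix 1 2 = 0)
    (e_1_3 : T.picMatrix 1 3 = 0)
    (e_2_0 : T.picMatrix 2 0 = 1)
    (e_2_1 : T.picMatrix 2 1 = 0)
    (e_2_3 : T.picMatrix 2 3 = 0)
    (e_3_0 : T.picMatrix 3 0 = 2)
    (e_3_1 : T.picMatrix 3 1 = 0)
    (e_3_2 : T.picMatrix 3 2 = 0)
    (cl : ∀ a b : Fin 5, a.val < 4 → 4 ≤ b.val → T.picMatrix a b = 0) :
    Goal T := by
  exact (nt_closed_false T 4 (by norm_num) (by norm_num) cl).elim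

theorem ex_60 (T : Models.NumericalType 5)
    (hG : NTGood T)
    (hmax : ∀ j, T.m j ≤ T.m 0)
    (e_0_1 : T.picMatrix 0 1 = 1)
    (e_0_2 : T.picMatrix 0 2 = 1)
    (e_0_3 : T.picMatrix 0 3 = 1)
    (e_1_0 : T.picMatrix 1 0 = 1)
    (e_1_2 : T.picMatrix 1 2 = 0)
    (e_1_3 : T.picMatrix 1 3 = 0)
    (e_2_0 : T.picMatrix 2 0 = 1)
    (e_2_1 : T.picMatrix 2 1 = 0)
    (e_2_3 : T.picMatrix 2 3 = 0)
    (e_3_0 : T.picMatrix 3 0 = 2)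
    (e_3_1 : T.picMatrix 3 1 = 0)
    (e_3_2 : T.picMatrix 3 2 = 0)
    (cl : ∀ a b : Fin 5, a.val < 3 → 5 ≤ b.val → T.picMatrix a b = 0)
    (z : ∀ a : Fin 5, a.val < 3 → T.picMatrix a 4 = 0)
    (hne : T.picMatrix 3 4 ≠ 0) :
    Goal T := by
  have e_0_4 : T.picMatrix 0 4 = 0 := z 0 (by decide)
  have e_4_0 : T.picMatrix 4 0 = 0 := nt_pic_zero_symm T 0 4 e_0_4
  have e_1_4 : T.picMatrix 1 4 = 0 := z 1 (by decide)
  have e_4_1 : T.picMatrix 4 1 = 0 := nt_pic_zero_symm T 1 4 e_1_4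
  have e_2_4 : T.picMatrix 2 4 = 0 := z 2 (by decide)
  have e_4_2 : T.picMatrix 4 2 = 0 := nt_pic_zero_symm T 2 4 e_2_4
  obtain ⟨hg0, hdA, hdP, hnn, hrow, hsym, hpair⟩ := ntgood_data T (by norm_num) hG
  have hm_0 := T.m_pos 0
  have hw_0 := T.w_pos 0
  have hm_1 := T.m_pos 1
  have hw_1 := T.w_pos 1
  have hm_2 := T.m_pos 2
  have hw_2 := T.w_pos 2
  have hm_3 := T.m_pos 3
  have hw_3 := T.w_pos 3
  have hm_4 := T.m_pos 4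
  have hw_4 := T.w_pos 4
  have hx_1 := hmax 1
  have hx_2 := hmax 2
  have hx_3 := hmax 3
  have hx_4 := hmax 4
  have N_3_4 := mul_nonneg (hnn 3 4 (by decide)) (T.m_pos 4).le
  have N_4_3 := mul_nonneg (hnn 4 3 (by decide)) (T.m_pos 3).le
  have R_0 := hrow 0
  rw [Fin.sum_univ_five, hdP 0, e_0_1, e_0_2, e_0_3, e_0_4] at R_0
  have R_1 := hrow 1
  rw [Fin.sum_univ_five, hdP 1, e_1_0, e_1_2, e_1_3, e_1_4] at R_1
  have R_2 := hrow 2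
  rw [Fin.sum_univ_five, hdP 2, e_2_0, e_2_1, e_2_3, e_2_4] at R_2
  have R_3 := hrow 3
  rw [Fin.sum_univ_five, hdP 3, e_3_0, e_3_1, e_3_2] at R_3
  have R_4 := hrow 4
  rw [Fin.sum_univ_five, hdP 4, e_4_0, e_4_1, e_4_2] at R_4
  have S_0_1 := hsym 0 1
  rw [e_0_1, e_1_0] at S_0_1
  have S_0_2 := hsym 0 2
  rw [e_0_2, e_2_0] at S_0_2
  have S_0_3 := hsym 0 3
  rw [e_0_3, e_3_0] at S_0_3
  have S_0_4 := hsym 0 4
  rw [e_0_4, e_4_0] at S_0_4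
  have S_1_2 := hsym 1 2
  rw [e_1_2, e_2_1] at S_1_2
  have S_1_3 := hsym 1 3
  rw [e_1_3, e_3_1] at S_1_3
  have S_1_4 := hsym 1 4
  rw [e_1_4, e_4_1] at S_1_4
  have S_2_3 := hsym 2 3
  rw [e_2_3, e_3_2] at S_2_3
  have S_2_4 := hsym 2 4
  rw [e_2_4, e_4_2] at S_2_4
  have S_3_4 := hsym 3 4
  have Q_3 := hpair 3 4 (by decide)
  generalize e_3_4 : T.picMatrix 3 4 = x_3 at *
  generalize e_4_3 : T.picMatrix 4 3 = y_3 at *
  rcases Q_3 with ⟨rfl, rfl⟩ | ⟨rfl, rfl⟩ | ⟨rfl, rfl⟩ | ⟨rfl, rfl⟩ | ⟨rfl, rfl⟩ | ⟨rfl, rfl⟩ | ⟨rfl, rfl⟩ | ⟨rfl, rfl⟩ | ⟨rfl, rfl⟩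
  · exact absurd rfl hne
  · -- (3,4) = (1,1)
    omega
  · -- (3,4) = (1,2)
    omega
  · -- (3,4) = (2,1)
    omega
  · -- (3,4) = (1,3)
    omega
  · -- (3,4) = (3,1)
    omega
  · -- (3,4) = (1,4)
    omega
  · -- (3,4) = (4,1)
    omega
  · -- (3,4) = (2,2)
    omega

theorem nd_58 (T : Models.NumericalType 5)
    (hG : NTGood T)
    (hmax : ∀ j, T.m j ≤ T.m 0)
    (e_0_1 : T.picMatrix 0 1 = 1)
    (e_0_2 : T.picMatrix 0 2 = 1)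
    (e_0_3 : T.picMatrix 0 3 = 1)
    (e_1_0 : T.picMatrix 1 0 = 1)
    (e_1_2 : T.picMatrix 1 2 = 0)
    (e_1_3 : T.picMatrix 1 3 = 0)
    (e_2_0 : T.picMatrix 2 0 = 1)
    (e_2_1 : T.picMatrix 2 1 = 0)
    (e_2_3 : T.picMatrix 2 3 = 0)
    (e_3_0 : T.picMatrix 3 0 = 2)
    (e_3_1 : T.picMatrix 3 1 = 0)
    (e_3_2 : T.picMatrix 3 2 = 0)
    (cl : ∀ a b : Fin 5, a.val < 3 → 4 ≤ b.val → T.picMatrix a b = 0) :
    Goal T := by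
  by_cases hc : ∀ b : Fin 5, 4 ≤ b.val → T.picMatrix 3 b = 0
  · exact nd_59 T hG hmax e_0_1 e_0_2 e_0_3 e_1_0 e_1_2 e_1_3 e_2_0 e_2_1 e_2_3 e_3_0 e_3_1 e_3_2 (nt_cl_succ T 4 3 3 rfl cl hc)
  · obtain ⟨τ, hfix, cl', z, hne⟩ := nt_wlog_step T 4 (by norm_num) 3 (by norm_num) 3 (by decide) cl hc
    apply goal_relabel T τ
    refine ex_60 (ntRelabel T τ) (hG.relabel τ) ?_ ?_ ?_ ?_ ?_ ?_ ?_ ?_ ?_ ?_ ?_ ?_ ?_ cl' z hne
    · intro j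
      show T.m (τ j) ≤ T.m (τ 0)
      rw [hfix 0 (by decide)]
      exact hmax _
    · show T.picMatrix (τ 0) (τ 1) = 1
      rw [hfix 0 (by decide), hfix 1 (by decide)]
      exact e_0_1
    · show T.picMatrix (τ 0) (τ 2) = 1
      rw [hfix 0 (by decide), hfix 2 (by decide)]
      exact e_0_2
    · show T.picMatrix (τ 0) (τ 3) = 1
      rw [hfix 0 (by decide), hfix 3 (by decide)]
      exact e_0_3
    · show T.picMatrix (τ 1) (τ 0) = 1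
      rw [hfix 1 (by decide), hfix 0 (by decide)]
      exact e_1_0
    · show T.picMatrix (τ 1) (τ 2) = 0
      rw [hfix 1 (by decide), hfix 2 (by decide)]
      exact e_1_2
    · show T.picMatrix (τ 1) (τ 3) = 0
      rw [hfix 1 (by decide), hfix 3 (by decide)]
      exact e_1_3
    · show T.picMatrix (τ 2) (τ 0) = 1
      rw [hfix 2 (by decide), hfix 0 (by decide)]
      exact e_2_0
    · show T.picMatrix (τ 2) (τ 1) = 0
      rw [hfix 2 (by decide), hfix 1 (by decide)]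
      exact e_2_1
    · show T.picMatrix (τ 2) (τ 3) = 0
      rw [hfix 2 (by decide), hfix 3 (by decide)]
      exact e_2_3
    · show T.picMatrix (τ 3) (τ 0) = 2
      rw [hfix 3 (by decide), hfix 0 (by decide)]
      exact e_3_0
    · show T.picMatrix (τ 3) (τ 1) = 0
      rw [hfix 3 (by decide), hfix 1 (by decide)]
      exact e_3_1
    · show T.picMatrix (τ 3) (τ 2) = 0
      rw [hfix 3 (by decide), hfix 2 (by decide)]
      exact e_3_2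

theorem ex_61 (T : Models.NumericalType 5)
    (hG : NTGood T)
    (hmax : ∀ j, T.m j ≤ T.m 0)
    (e_0_1 : T.picMatrix 0 1 = 1)
    (e_0_2 : T.picMatrix 0 2 = 1)
    (e_0_3 : T.picMatrix 0 3 = 1)
    (e_1_0 : T.picMatrix 1 0 = 1)
    (e_1_2 : T.picMatrix 1 2 = 0)
    (e_1_3 : T.picMatrix 1 3 = 0)
    (e_2_0 : T.picMatrix 2 0 = 1)
    (e_2_1 : T.picMatrix 2 1 = 0)
    (e_2_3 : T.picMatrix 2 3 = 0)
    (e_3_0 : T.picMatrix 3 0 = 2)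
    (e_3_1 : T.picMatrix 3 1 = 0)
    (e_3_2 : T.picMatrix 3 2 = 0)
    (cl : ∀ a b : Fin 5, a.val < 2 → 5 ≤ b.val → T.picMatrix a b = 0)
    (z : ∀ a : Fin 5, a.val < 2 → T.picMatrix a 4 = 0)
    (hne : T.picMatrix 2 4 ≠ 0) :
    Goal T := by
  have e_0_4 : T.picMatrix 0 4 = 0 := z 0 (by decide)
  have e_4_0 : T.picMatrix 4 0 = 0 := nt_pic_zero_symm T 0 4 e_0_4
  have e_1_4 : T.picMatrix 1 4 = 0 := z 1 (by decide)
  have e_4_1 : T.picMatrix 4 1 = 0 := nt_pic_zero_symm T 1 4 e_1_4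
  obtain ⟨hg0, hdA, hdP, hnn, hrow, hsym, hpair⟩ := ntgood_data T (by norm_num) hG
  have hm_0 := T.m_pos 0
  have hw_0 := T.w_pos 0
  have hm_1 := T.m_pos 1
  have hw_1 := T.w_pos 1
  have hm_2 := T.m_pos 2
  have hw_2 := T.w_pos 2
  have hm_3 := T.m_pos 3
  have hw_3 := T.w_pos 3
  have hm_4 := T.m_pos 4
  have hw_4 := T.w_pos 4
  have hx_1 := hmax 1
  have hx_2 := hmax 2
  have hx_3 := hmax 3
  have hx_4 := hmax 4
  have N_2_4 := mul_nonneg (hnn 2 4 (by decide)) (T.m_pos 4).le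
  have N_4_2 := mul_nonneg (hnn 4 2 (by decide)) (T.m_pos 2).le
  have N_3_4 := mul_nonneg (hnn 3 4 (by decide)) (T.m_pos 4).le
  have N_4_3 := mul_nonneg (hnn 4 3 (by decide)) (T.m_pos 3).le
  have R_0 := hrow 0
  rw [Fin.sum_univ_five, hdP 0, e_0_1, e_0_2, e_0_3, e_0_4] at R_0
  have R_1 := hrow 1
  rw [Fin.sum_univ_five, hdP 1, e_1_0, e_1_2, e_1_3, e_1_4] at R_1
  have R_2 := hrow 2
  rw [Fin.sum_univ_five, hdP 2, e_2_0, e_2_1, e_2_3] at R_2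
  have R_3 := hrow 3
  rw [Fin.sum_univ_five, hdP 3, e_3_0, e_3_1, e_3_2] at R_3
  have R_4 := hrow 4
  rw [Fin.sum_univ_five, hdP 4, e_4_0, e_4_1] at R_4
  have S_0_1 := hsym 0 1
  rw [e_0_1, e_1_0] at S_0_1
  have S_0_2 := hsym 0 2
  rw [e_0_2, e_2_0] at S_0_2
  have S_0_3 := hsym 0 3
  rw [e_0_3, e_3_0] at S_0_3
  have S_0_4 := hsym 0 4
  rw [e_0_4, e_4_0] at S_0_4
  have S_1_2 := hsym 1 2
  rw [e_1_2, e_2_1] at S_1_2
  have S_1_3 := hsym 1 3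
  rw [e_1_3, e_3_1] at S_1_3
  have S_1_4 := hsym 1 4
  rw [e_1_4, e_4_1] at S_1_4
  have S_2_3 := hsym 2 3
  rw [e_2_3, e_3_2] at S_2_3
  have S_2_4 := hsym 2 4
  have S_3_4 := hsym 3 4
  have Q_2 := hpair 2 4 (by decide)
  have Q_3 := hpair 3 4 (by decide)
  generalize e_2_4 : T.picMatrix 2 4 = x_2 at *
  generalize e_4_2 : T.picMatrix 4 2 = y_2 at *
  generalize e_3_4 : T.picMatrix 3 4 = x_3 at *
  generalize e_4_3 : T.picMatrix 4 3 = y_3 at *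
  rcases Q_2 with ⟨rfl, rfl⟩ | ⟨rfl, rfl⟩ | ⟨rfl, rfl⟩ | ⟨rfl, rfl⟩ | ⟨rfl, rfl⟩ | ⟨rfl, rfl⟩ | ⟨rfl, rfl⟩ | ⟨rfl, rfl⟩ | ⟨rfl, rfl⟩
  · exact absurd rfl hne
  · omega
  · omega
  · omega
  · omega
  · omega
  · omega
  · omega
  · omega

theorem nd_57 (T : Models.NumericalType 5)
    (hG : NTGood T)
    (hmax : ∀ j, T.m j ≤ T.m 0)
    (e_0_1 : T.picMatrix 0 1 = 1)
    (e_0_2 : T.picMatrix 0 2 = 1)
    (e_0_3 : T.picMatrix 0 3 = 1)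
    (e_1_0 : T.picMatrix 1 0 = 1)
    (e_1_2 : T.picMatrix 1 2 = 0)
    (e_1_3 : T.picMatrix 1 3 = 0)
    (e_2_0 : T.picMatrix 2 0 = 1)
    (e_2_1 : T.picMatrix 2 1 = 0)
    (e_2_3 : T.picMatrix 2 3 = 0)
    (e_3_0 : T.picMatrix 3 0 = 2)
    (e_3_1 : T.picMatrix 3 1 = 0)
    (e_3_2 : T.picMatrix 3 2 = 0)
    (cl : ∀ a b : Fin 5, a.val < 2 → 4 ≤ b.val → T.picMatrix a b = 0) :
    Goal T := by
  by_cases hc : ∀ b : Fin 5, 4 ≤ b.val → T.picMatrix 2 b = 0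
  · exact nd_58 T hG hmax e_0_1 e_0_2 e_0_3 e_1_0 e_1_2 e_1_3 e_2_0 e_2_1 e_2_3 e_3_0 e_3_1 e_3_2 (nt_cl_succ T 4 2 2 rfl cl hc)
  · obtain ⟨τ, hfix, cl', z, hne⟩ := nt_wlog_step T 4 (by norm_num) 2 (by norm_num) 2 (by decide) cl hc
    apply goal_relabel T τ
    refine ex_61 (ntRelabel T τ) (hG.relabel τ) ?_ ?_ ?_ ?_ ?_ ?_ ?_ ?_ ?_ ?_ ?_ ?_ ?_ cl' z hne
    · intro j
      show T.m (τ j) ≤ T.m (τ 0)
      rw [hfix 0 (by decide)]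
      exact hmax _
    · show T.picMatrix (τ 0) (τ 1) = 1
      rw [hfix 0 (by decide), hfix 1 (by decide)]
      exact e_0_1
    · show T.picMatrix (τ 0) (τ 2) = 1
      rw [hfix 0 (by decide), hfix 2 (by decide)]
      exact e_0_2
    · show T.picMatrix (τ 0) (τ 3) = 1
      rw [hfix 0 (by decide), hfix 3 (by decide)]
      exact e_0_3
    · show T.picMatrix (τ 1) (τ 0) = 1
      rw [hfix 1 (by decide), hfix 0 (by decide)]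
      exact e_1_0
    · show T.picMatrix (τ 1) (τ 2) = 0
      rw [hfix 1 (by decide), hfix 2 (by decide)]
      exact e_1_2
    · show T.picMatrix (τ 1) (τ 3) = 0
      rw [hfix 1 (by decide), hfix 3 (by decide)]
      exact e_1_3
    · show T.picMatrix (τ 2) (τ 0) = 1
      rw [hfix 2 (by decide), hfix 0 (by decide)]
      exact e_2_0
    · show T.picMatrix (τ 2) (τ 1) = 0
      rw [hfix 2 (by decide), hfix 1 (by decide)]
      exact e_2_1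
    · show T.picMatrix (τ 2) (τ 3) = 0
      rw [hfix 2 (by decide), hfix 3 (by decide)]
      exact e_2_3
    · show T.picMatrix (τ 3) (τ 0) = 2
      rw [hfix 3 (by decide), hfix 0 (by decide)]
      exact e_3_0
    · show T.picMatrix (τ 3) (τ 1) = 0
      rw [hfix 3 (by decide), hfix 1 (by decide)]
      exact e_3_1
    · show T.picMatrix (τ 3) (τ 2) = 0
      rw [hfix 3 (by decide), hfix 2 (by decide)]
      exact e_3_2

theorem ex_62 (T : Models.NumericalType 5)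
    (hG : NTGood T)
    (hmax : ∀ j, T.m j ≤ T.m 0)
    (e_0_1 : T.picMatrix 0 1 = 1)
    (e_0_2 : T.picMatrix 0 2 = 1)
    (e_0_3 : T.picMatrix 0 3 = 1)
    (e_1_0 : T.picMatrix 1 0 = 1)
    (e_1_2 : T.picMatrix 1 2 = 0)
    (e_1_3 : T.picMatrix 1 3 = 0)
    (e_2_0 : T.picMatrix 2 0 = 1)
    (e_2_1 : T.picMatrix 2 1 = 0)
    (e_2_3 : T.picMatrix 2 3 = 0)
    (e_3_0 : T.picMatrix 3 0 = 2)
    (e_3_1 : T.picMatrix 3 1 = 0)
    (e_3_2 : T.picMatrix 3 2 = 0)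
    (cl : ∀ a b : Fin 5, a.val < 1 → 5 ≤ b.val → T.picMatrix a b = 0)
    (z : ∀ a : Fin 5, a.val < 1 → T.picMatrix a 4 = 0)
    (hne : T.picMatrix 1 4 ≠ 0) :
    Goal T := by
  have e_0_4 : T.picMatrix 0 4 = 0 := z 0 (by decide)
  have e_4_0 : T.picMatrix 4 0 = 0 := nt_pic_zero_symm T 0 4 e_0_4
  obtain ⟨hg0, hdA, hdP, hnn, hrow, hsym, hpair⟩ := ntgood_data T (by norm_num) hG
  have hm_0 := T.m_pos 0
  have hw_0 := T.w_pos 0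
  have hm_1 := T.m_pos 1
  have hw_1 := T.w_pos 1
  have hm_2 := T.m_pos 2
  have hw_2 := T.w_pos 2
  have hm_3 := T.m_pos 3
  have hw_3 := T.w_pos 3
  have hm_4 := T.m_pos 4
  have hw_4 := T.w_pos 4
  have hx_1 := hmax 1
  have hx_2 := hmax 2
  have hx_3 := hmax 3
  have hx_4 := hmax 4
  have N_1_4 := mul_nonneg (hnn 1 4 (by decide)) (T.m_pos 4).le
  have N_4_1 := mul_nonneg (hnn 4 1 (by decide)) (T.m_pos 1).le
  have N_2_4 := mul_nonneg (hnn 2 4 (by decide)) (T.m_pos 4).le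
  have N_4_2 := mul_nonneg (hnn 4 2 (by decide)) (T.m_pos 2).le
  have N_3_4 := mul_nonneg (hnn 3 4 (by decide)) (T.m_pos 4).le
  have N_4_3 := mul_nonneg (hnn 4 3 (by decide)) (T.m_pos 3).le
  have R_0 := hrow 0
  rw [Fin.sum_univ_five, hdP 0, e_0_1, e_0_2, e_0_3, e_0_4] at R_0
  have R_1 := hrow 1
  rw [Fin.sum_univ_five, hdP 1, e_1_0, e_1_2, e_1_3] at R_1
  have R_2 := hrow 2
  rw [Fin.sum_univ_five, hdP 2, e_2_0, e_2_1, e_2_3] at R_2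
  have R_3 := hrow 3
  rw [Fin.sum_univ_five, hdP 3, e_3_0, e_3_1, e_3_2] at R_3
  have R_4 := hrow 4
  rw [Fin.sum_univ_five, hdP 4, e_4_0] at R_4
  have S_0_1 := hsym 0 1
  rw [e_0_1, e_1_0] at S_0_1
  have S_0_2 := hsym 0 2
  rw [e_0_2, e_2_0] at S_0_2
  have S_0_3 := hsym 0 3
  rw [e_0_3, e_3_0] at S_0_3
  have S_0_4 := hsym 0 4
  rw [e_0_4, e_4_0] at S_0_4
  have S_1_2 := hsym 1 2
  rw [e_1_2, e_2_1] at S_1_2
  have S_1_3 := hsym 1 3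
  rw [e_1_3, e_3_1] at S_1_3
  have S_1_4 := hsym 1 4
  have S_2_3 := hsym 2 3
  rw [e_2_3, e_3_2] at S_2_3
  have S_2_4 := hsym 2 4
  have S_3_4 := hsym 3 4
  have Q_1 := hpair 1 4 (by decide)
  have Q_2 := hpair 2 4 (by decide)
  have Q_3 := hpair 3 4 (by decide)
  generalize e_1_4 : T.picMatrix 1 4 = x_1 at *
  generalize e_4_1 : T.picMatrix 4 1 = y_1 at *
  generalize e_2_4 : T.picMatrix 2 4 = x_2 at *
  generalize e_4_2 : T.picMatrix 4 2 = y_2 at *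
  generalize e_3_4 : T.picMatrix 3 4 = x_3 at *
  generalize e_4_3 : T.picMatrix 4 3 = y_3 at *
  rcases Q_1 with ⟨rfl, rfl⟩ | ⟨rfl, rfl⟩ | ⟨rfl, rfl⟩ | ⟨rfl, rfl⟩ | ⟨rfl, rfl⟩ | ⟨rfl, rfl⟩ | ⟨rfl, rfl⟩ | ⟨rfl, rfl⟩ | ⟨rfl, rfl⟩
  · exact absurd rfl hne
  · omega
  · omega
  · omega
  · omega
  · omega
  · omega
  · omega
  · omega

theorem nd_56 (T : Models.NumericalType 5)
    (hG : NTGood T)
    (hmax : ∀ j, T.m j ≤ T.m 0)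
    (e_0_1 : T.picMatrix 0 1 = 1)
    (e_0_2 : T.picMatrix 0 2 = 1)
    (e_0_3 : T.picMatrix 0 3 = 1)
    (e_1_0 : T.picMatrix 1 0 = 1)
    (e_1_2 : T.picMatrix 1 2 = 0)
    (e_1_3 : T.picMatrix 1 3 = 0)
    (e_2_0 : T.picMatrix 2 0 = 1)
    (e_2_1 : T.picMatrix 2 1 = 0)
    (e_2_3 : T.picMatrix 2 3 = 0)
    (e_3_0 : T.picMatrix 3 0 = 2)
    (e_3_1 : T.picMatrix 3 1 = 0)
    (e_3_2 : T.picMatrix 3 2 = 0)
    (cl : ∀ a b : Fin 5, a.val < 1 → 4 ≤ b.val → T.picMatrix a b = 0) :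
    Goal T := by
  by_cases hc : ∀ b : Fin 5, 4 ≤ b.val → T.picMatrix 1 b = 0
  · exact nd_57 T hG hmax e_0_1 e_0_2 e_0_3 e_1_0 e_1_2 e_1_3 e_2_0 e_2_1 e_2_3 e_3_0 e_3_1 e_3_2 (nt_cl_succ T 4 1 1 rfl cl hc)
  · obtain ⟨τ, hfix, cl', z, hne⟩ := nt_wlog_step T 4 (by norm_num) 1 (by norm_num) 1 (by decide) cl hc
    apply goal_relabel T τ
    refine ex_62 (ntRelabel T τ) (hG.relabel τ) ?_ ?_ ?_ ?_ ?_ ?_ ?_ ?_ ?_ ?_ ?_ ?_ ?_ cl' z hne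
    · intro j
      show T.m (τ j) ≤ T.m (τ 0)
      rw [hfix 0 (by decide)]
      exact hmax _
    · show T.picMatrix (τ 0) (τ 1) = 1
      rw [hfix 0 (by decide), hfix 1 (by decide)]
      exact e_0_1
    · show T.picMatrix (τ 0) (τ 2) = 1
      rw [hfix 0 (by decide), hfix 2 (by decide)]
      exact e_0_2
    · show T.picMatrix (τ 0) (τ 3) = 1
      rw [hfix 0 (by decide), hfix 3 (by decide)]
      exact e_0_3
    · show T.picMatrix (τ 1) (τ 0) = 1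
      rw [hfix 1 (by decide), hfix 0 (by decide)]
      exact e_1_0
    · show T.picMatrix (τ 1) (τ 2) = 0
      rw [hfix 1 (by decide), hfix 2 (by decide)]
      exact e_1_2
    · show T.picMatrix (τ 1) (τ 3) = 0
      rw [hfix 1 (by decide), hfix 3 (by decide)]
      exact e_1_3
    · show T.picMatrix (τ 2) (τ 0) = 1
      rw [hfix 2 (by decide), hfix 0 (by decide)]
      exact e_2_0
    · show T.picMatrix (τ 2) (τ 1) = 0
      rw [hfix 2 (by decide), hfix 1 (by decide)]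
      exact e_2_1
    · show T.picMatrix (τ 2) (τ 3) = 0
      rw [hfix 2 (by decide), hfix 3 (by decide)]
      exact e_2_3
    · show T.picMatrix (τ 3) (τ 0) = 2
      rw [hfix 3 (by decide), hfix 0 (by decide)]
      exact e_3_0
    · show T.picMatrix (τ 3) (τ 1) = 0
      rw [hfix 3 (by decide), hfix 1 (by decide)]
      exact e_3_1
    · show T.picMatrix (τ 3) (τ 2) = 0
      rw [hfix 3 (by decide), hfix 2 (by decide)]
      exact e_3_2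

theorem ex_63 (T : Models.NumericalType 5)
    (hG : NTGood T)
    (hmax : ∀ j, T.m j ≤ T.m 0)
    (e_0_1 : T.picMatrix 0 1 = 1)
    (e_0_2 : T.picMatrix 0 2 = 1)
    (e_0_3 : T.picMatrix 0 3 = 1)
    (e_1_0 : T.picMatrix 1 0 = 1)
    (e_1_2 : T.picMatrix 1 2 = 0)
    (e_1_3 : T.picMatrix 1 3 = 0)
    (e_2_0 : T.picMatrix 2 0 = 1)
    (e_2_1 : T.picMatrix 2 1 = 0)
    (e_2_3 : T.picMatrix 2 3 = 0)
    (e_3_0 : T.picMatrix 3 0 = 2)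
    (e_3_1 : T.picMatrix 3 1 = 0)
    (e_3_2 : T.picMatrix 3 2 = 0)
    (cl : ∀ a b : Fin 5, a.val < 0 → 5 ≤ b.val → T.picMatrix a b = 0)
    (z : ∀ a : Fin 5, a.val < 0 → T.picMatrix a 4 = 0)
    (hne : T.picMatrix 0 4 ≠ 0) :
    Goal T := by
  obtain ⟨hg0, hdA, hdP, hnn, hrow, hsym, hpair⟩ := ntgood_data T (by norm_num) hG
  have hm_0 := T.m_pos 0
  have hw_0 := T.w_pos 0
  have hm_1 := T.m_pos 1
  have hw_1 := T.w_pos 1
  have hm_2 := T.m_pos 2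
  have hw_2 := T.w_pos 2
  have hm_3 := T.m_pos 3
  have hw_3 := T.w_pos 3
  have hm_4 := T.m_pos 4
  have hw_4 := T.w_pos 4
  have hx_1 := hmax 1
  have hx_2 := hmax 2
  have hx_3 := hmax 3
  have hx_4 := hmax 4
  have N_0_4 := mul_nonneg (hnn 0 4 (by decide)) (T.m_pos 4).le
  have N_4_0 := mul_nonneg (hnn 4 0 (by decide)) (T.m_pos 0).le
  have N_1_4 := mul_nonneg (hnn 1 4 (by decide)) (T.m_pos 4).le
  have N_4_1 := mul_nonneg (hnn 4 1 (by decide)) (T.m_pos 1).le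
  have N_2_4 := mul_nonneg (hnn 2 4 (by decide)) (T.m_pos 4).le
  have N_4_2 := mul_nonneg (hnn 4 2 (by decide)) (T.m_pos 2).le
  have N_3_4 := mul_nonneg (hnn 3 4 (by decide)) (T.m_pos 4).le
  have N_4_3 := mul_nonneg (hnn 4 3 (by decide)) (T.m_pos 3).le
  have R_0 := hrow 0
  rw [Fin.sum_univ_five, hdP 0, e_0_1, e_0_2, e_0_3] at R_0
  have R_1 := hrow 1
  rw [Fin.sum_univ_five, hdP 1, e_1_0, e_1_2, e_1_3] at R_1
  have R_2 := hrow 2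
  rw [Fin.sum_univ_five, hdP 2, e_2_0, e_2_1, e_2_3] at R_2
  have R_3 := hrow 3
  rw [Fin.sum_univ_five, hdP 3, e_3_0, e_3_1, e_3_2] at R_3
  have R_4 := hrow 4
  rw [Fin.sum_univ_five, hdP 4] at R_4
  have S_0_1 := hsym 0 1
  rw [e_0_1, e_1_0] at S_0_1
  have S_0_2 := hsym 0 2
  rw [e_0_2, e_2_0] at S_0_2
  have S_0_3 := hsym 0 3
  rw [e_0_3, e_3_0] at S_0_3
  have S_0_4 := hsym 0 4
  have S_1_2 := hsym 1 2
  rw [e_1_2, e_2_1] at S_1_2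
  have S_1_3 := hsym 1 3
  rw [e_1_3, e_3_1] at S_1_3
  have S_1_4 := hsym 1 4
  have S_2_3 := hsym 2 3
  rw [e_2_3, e_3_2] at S_2_3
  have S_2_4 := hsym 2 4
  have S_3_4 := hsym 3 4
  have Q_0 := hpair 0 4 (by decide)
  have Q_1 := hpair 1 4 (by decide)
  have Q_2 := hpair 2 4 (by decide)
  have Q_3 := hpair 3 4 (by decide)
  generalize e_0_4 : T.picMatrix 0 4 = x_0 at *
  generalize e_4_0 : T.picMatrix 4 0 = y_0 at *
  generalize e_1_4 : T.picMatrix 1 4 = x_1 at *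
  generalize e_4_1 : T.picMatrix 4 1 = y_1 at *
  generalize e_2_4 : T.picMatrix 2 4 = x_2 at *
  generalize e_4_2 : T.picMatrix 4 2 = y_2 at *
  generalize e_3_4 : T.picMatrix 3 4 = x_3 at *
  generalize e_4_3 : T.picMatrix 4 3 = y_3 at *
  rcases Q_0 with ⟨rfl, rfl⟩ | ⟨rfl, rfl⟩ | ⟨rfl, rfl⟩ | ⟨rfl, rfl⟩ | ⟨rfl, rfl⟩ | ⟨rfl, rfl⟩ | ⟨rfl, rfl⟩ | ⟨rfl, rfl⟩ | ⟨rfl, rfl⟩
  · exact absurd rfl hne
  · omega
  · omega
  · omega
  · omega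
  · omega
  · omega
  · omega
  · omega

theorem nd_55 (T : Models.NumericalType 5)
    (hG : NTGood T)
    (hmax : ∀ j, T.m j ≤ T.m 0)
    (e_0_1 : T.picMatrix 0 1 = 1)
    (e_0_2 : T.picMatrix 0 2 = 1)
    (e_0_3 : T.picMatrix 0 3 = 1)
    (e_1_0 : T.picMatrix 1 0 = 1)
    (e_1_2 : T.picMatrix 1 2 = 0)
    (e_1_3 : T.picMatrix 1 3 = 0)
    (e_2_0 : T.picMatrix 2 0 = 1)
    (e_2_1 : T.picMatrix 2 1 = 0)
    (e_2_3 : T.picMatrix 2 3 = 0)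
    (e_3_0 : T.picMatrix 3 0 = 2)
    (e_3_1 : T.picMatrix 3 1 = 0)
    (e_3_2 : T.picMatrix 3 2 = 0)
    (cl : ∀ a b : Fin 5, a.val < 0 → 4 ≤ b.val → T.picMatrix a b = 0) :
    Goal T := by
  by_cases hc : ∀ b : Fin 5, 4 ≤ b.val → T.picMatrix 0 b = 0
  · exact nd_56 T hG hmax e_0_1 e_0_2 e_0_3 e_1_0 e_1_2 e_1_3 e_2_0 e_2_1 e_2_3 e_3_0 e_3_1 e_3_2 (nt_cl_succ T 4 0 0 rfl cl hc)
  · obtain ⟨τ, hfix, cl', z, hne⟩ := nt_wlog_step T 4 (by norm_num) 0 (by norm_num) 0 (by decide) cl hc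
    apply goal_relabel T τ
    refine ex_63 (ntRelabel T τ) (hG.relabel τ) ?_ ?_ ?_ ?_ ?_ ?_ ?_ ?_ ?_ ?_ ?_ ?_ ?_ cl' z hne
    · intro j
      show T.m (τ j) ≤ T.m (τ 0)
      rw [hfix 0 (by decide)]
      exact hmax _
    · show T.picMatrix (τ 0) (τ 1) = 1
      rw [hfix 0 (by decide), hfix 1 (by decide)]
      exact e_0_1
    · show T.picMatrix (τ 0) (τ 2) = 1
      rw [hfix 0 (by decide), hfix 2 (by decide)]
      exact e_0_2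
    · show T.picMatrix (τ 0) (τ 3) = 1
      rw [hfix 0 (by decide), hfix 3 (by decide)]
      exact e_0_3
    · show T.picMatrix (τ 1) (τ 0) = 1
      rw [hfix 1 (by decide), hfix 0 (by decide)]
      exact e_1_0
    · show T.picMatrix (τ 1) (τ 2) = 0
      rw [hfix 1 (by decide), hfix 2 (by decide)]
      exact e_1_2
    · show T.picMatrix (τ 1) (τ 3) = 0
      rw [hfix 1 (by decide), hfix 3 (by decide)]
      exact e_1_3
    · show T.picMatrix (τ 2) (τ 0) = 1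
      rw [hfix 2 (by decide), hfix 0 (by decide)]
      exact e_2_0
    · show T.picMatrix (τ 2) (τ 1) = 0
      rw [hfix 2 (by decide), hfix 1 (by decide)]
      exact e_2_1
    · show T.picMatrix (τ 2) (τ 3) = 0
      rw [hfix 2 (by decide), hfix 3 (by decide)]
      exact e_2_3
    · show T.picMatrix (τ 3) (τ 0) = 2
      rw [hfix 3 (by decide), hfix 0 (by decide)]
      exact e_3_0
    · show T.picMatrix (τ 3) (τ 1) = 0
      rw [hfix 3 (by decide), hfix 1 (by decide)]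
      exact e_3_1
    · show T.picMatrix (τ 3) (τ 2) = 0
      rw [hfix 3 (by decide), hfix 2 (by decide)]
      exact e_3_2

theorem nd_68 (T : Models.NumericalType 5)
    (hG : NTGood T)
    (hmax : ∀ j, T.m j ≤ T.m 0)
    (e_0_1 : T.picMatrix 0 1 = 1)
    (e_0_2 : T.picMatrix 0 2 = 1)
    (e_0_3 : T.picMatrix 0 3 = 2)
    (e_1_0 : T.picMatrix 1 0 = 1)
    (e_1_2 : T.picMatrix 1 2 = 0)
    (e_1_3 : T.picMatrix 1 3 = 0)
    (e_2_0 : T.picMatrix 2 0 = 1)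
    (e_2_1 : T.picMatrix 2 1 = 0)
    (e_2_3 : T.picMatrix 2 3 = 0)
    (e_3_0 : T.picMatrix 3 0 = 1)
    (e_3_1 : T.picMatrix 3 1 = 0)
    (e_3_2 : T.picMatrix 3 2 = 0)
    (cl : ∀ a b : Fin 5, a.val < 4 → 4 ≤ b.val → T.picMatrix a b = 0) :
    Goal T := by
  exact (nt_closed_false T 4 (by norm_num) (by norm_num) cl).elim

theorem ex_69 (T : Models.NumericalType 5)
    (hG : NTGood T)
    (hmax : ∀ j, T.m j ≤ T.m 0)
    (e_0_1 : T.picMatrix 0 1 = 1)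
    (e_0_2 : T.picMatrix 0 2 = 1)
    (e_0_3 : T.picMatrix 0 3 = 2)
    (e_1_0 : T.picMatrix 1 0 = 1)
    (e_1_2 : T.picMatrix 1 2 = 0)
    (e_1_3 : T.picMatrix 1 3 = 0)
    (e_2_0 : T.picMatrix 2 0 = 1)
    (e_2_1 : T.picMatrix 2 1 = 0)
    (e_2_3 : T.picMatrix 2 3 = 0)
    (e_3_0 : T.picMatrix 3 0 = 1)
    (e_3_1 : T.picMatrix 3 1 = 0)
    (e_3_2 : T.picMatrix 3 2 = 0)
    (cl : ∀ a b : Fin 5, a.val < 3 → 5 ≤ b.val → T.picMatrix a b = 0)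
    (z : ∀ a : Fin 5, a.val < 3 → T.picMatrix a 4 = 0)
    (hne : T.picMatrix 3 4 ≠ 0) :
    Goal T := by
  have e_0_4 : T.picMatrix 0 4 = 0 := z 0 (by decide)
  have e_4_0 : T.picMatrix 4 0 = 0 := nt_pic_zero_symm T 0 4 e_0_4
  have e_1_4 : T.picMatrix 1 4 = 0 := z 1 (by decide)
  have e_4_1 : T.picMatrix 4 1 = 0 := nt_pic_zero_symm T 1 4 e_1_4
  have e_2_4 : T.picMatrix 2 4 = 0 := z 2 (by decide)
  have e_4_2 : T.picMatrix 4 2 = 0 := nt_pic_zero_symm T 2 4 e_2_4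
  obtain ⟨hg0, hdA, hdP, hnn, hrow, hsym, hpair⟩ := ntgood_data T (by norm_num) hG
  have hm_0 := T.m_pos 0
  have hw_0 := T.w_pos 0
  have hm_1 := T.m_pos 1
  have hw_1 := T.w_pos 1
  have hm_2 := T.m_pos 2
  have hw_2 := T.w_pos 2
  have hm_3 := T.m_pos 3
  have hw_3 := T.w_pos 3
  have hm_4 := T.m_pos 4
  have hw_4 := T.w_pos 4
  have hx_1 := hmax 1
  have hx_2 := hmax 2
  have hx_3 := hmax 3
  have hx_4 := hmax 4
  have N_3_4 := mul_nonneg (hnn 3 4 (by decide)) (T.m_pos 4).le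
  have N_4_3 := mul_nonneg (hnn 4 3 (by decide)) (T.m_pos 3).le
  have R_0 := hrow 0
  rw [Fin.sum_univ_five, hdP 0, e_0_1, e_0_2, e_0_3, e_0_4] at R_0
  have R_1 := hrow 1
  rw [Fin.sum_univ_five, hdP 1, e_1_0, e_1_2, e_1_3, e_1_4] at R_1
  have R_2 := hrow 2
  rw [Fin.sum_univ_five, hdP 2, e_2_0, e_2_1, e_2_3, e_2_4] at R_2
  have R_3 := hrow 3
  rw [Fin.sum_univ_five, hdP 3, e_3_0, e_3_1, e_3_2] at R_3
  have R_4 := hrow 4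
  rw [Fin.sum_univ_five, hdP 4, e_4_0, e_4_1, e_4_2] at R_4
  have S_0_1 := hsym 0 1
  rw [e_0_1, e_1_0] at S_0_1
  have S_0_2 := hsym 0 2
  rw [e_0_2, e_2_0] at S_0_2
  have S_0_3 := hsym 0 3
  rw [e_0_3, e_3_0] at S_0_3
  have S_0_4 := hsym 0 4
  rw [e_0_4, e_4_0] at S_0_4
  have S_1_2 := hsym 1 2
  rw [e_1_2, e_2_1] at S_1_2
  have S_1_3 := hsym 1 3
  rw [e_1_3, e_3_1] at S_1_3
  have S_1_4 := hsym 1 4
  rw [e_1_4, e_4_1] at S_1_4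
  have S_2_3 := hsym 2 3
  rw [e_2_3, e_3_2] at S_2_3
  have S_2_4 := hsym 2 4
  rw [e_2_4, e_4_2] at S_2_4
  have S_3_4 := hsym 3 4
  have Q_3 := hpair 3 4 (by decide)
  generalize e_3_4 : T.picMatrix 3 4 = x_3 at *
  generalize e_4_3 : T.picMatrix 4 3 = y_3 at *
  rcases Q_3 with ⟨rfl, rfl⟩ | ⟨rfl, rfl⟩ | ⟨rfl, rfl⟩ | ⟨rfl, rfl⟩ | ⟨rfl, rfl⟩ | ⟨rfl, rfl⟩ | ⟨rfl, rfl⟩ | ⟨rfl, rfl⟩ | ⟨rfl, rfl⟩
  · exact absurd rfl hne
  · -- (3,4) = (1,1)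
    omega
  · -- (3,4) = (1,2)
    omega
  · -- (3,4) = (2,1)
    omega
  · -- (3,4) = (1,3)
    omega
  · -- (3,4) = (3,1)
    omega
  · -- (3,4) = (1,4)
    omega
  · -- (3,4) = (4,1)
    omega
  · -- (3,4) = (2,2)
    omega

theorem nd_67 (T : Models.NumericalType 5)
    (hG : NTGood T)
    (hmax : ∀ j, T.m j ≤ T.m 0)
    (e_0_1 : T.picMatrix 0 1 = 1)
    (e_0_2 : T.picMatrix 0 2 = 1)
    (e_0_3 : T.picMatrix 0 3 = 2)
    (e_1_0 : T.picMatrix 1 0 = 1)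
    (e_1_2 : T.picMatrix 1 2 = 0)
    (e_1_3 : T.picMatrix 1 3 = 0)
    (e_2_0 : T.picMatrix 2 0 = 1)
    (e_2_1 : T.picMatrix 2 1 = 0)
    (e_2_3 : T.picMatrix 2 3 = 0)
    (e_3_0 : T.picMatrix 3 0 = 1)
    (e_3_1 : T.picMatrix 3 1 = 0)
    (e_3_2 : T.picMatrix 3 2 = 0)
    (cl : ∀ a b : Fin 5, a.val < 3 → 4 ≤ b.val → T.picMatrix a b = 0) :
    Goal T := by
  by_cases hc : ∀ b : Fin 5, 4 ≤ b.val → T.picMatrix 3 b = 0
  · exact nd_68 T hG hmax e_0_1 e_0_2 e_0_3 e_1_0 e_1_2 e_1_3 e_2_0 e_2_1 e_2_3 e_3_0 e_3_1 e_3_2 (nt_cl_succ T 4 3 3 rfl cl hc)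
  · obtain ⟨τ, hfix, cl', z, hne⟩ := nt_wlog_step T 4 (by norm_num) 3 (by norm_num) 3 (by decide) cl hc
    apply goal_relabel T τ
    refine ex_69 (ntRelabel T τ) (hG.relabel τ) ?_ ?_ ?_ ?_ ?_ ?_ ?_ ?_ ?_ ?_ ?_ ?_ ?_ cl' z hne
    · intro j
      show T.m (τ j) ≤ T.m (τ 0)
      rw [hfix 0 (by decide)]
      exact hmax _
    · show T.picMatrix (τ 0) (τ 1) = 1
      rw [hfix 0 (by decide), hfix 1 (by decide)]
      exact e_0_1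
    · show T.picMatrix (τ 0) (τ 2) = 1
      rw [hfix 0 (by decide), hfix 2 (by decide)]
      exact e_0_2
    · show T.picMatrix (τ 0) (τ 3) = 2
      rw [hfix 0 (by decide), hfix 3 (by decide)]
      exact e_0_3
    · show T.picMatrix (τ 1) (τ 0) = 1
      rw [hfix 1 (by decide), hfix 0 (by decide)]
      exact e_1_0
    · show T.picMatrix (τ 1) (τ 2) = 0
      rw [hfix 1 (by decide), hfix 2 (by decide)]
      exact e_1_2
    · show T.picMatrix (τ 1) (τ 3) = 0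
      rw [hfix 1 (by decide), hfix 3 (by decide)]
      exact e_1_3
    · show T.picMatrix (τ 2) (τ 0) = 1
      rw [hfix 2 (by decide), hfix 0 (by decide)]
      exact e_2_0
    · show T.picMatrix (τ 2) (τ 1) = 0
      rw [hfix 2 (by decide), hfix 1 (by decide)]
      exact e_2_1
    · show T.picMatrix (τ 2) (τ 3) = 0
      rw [hfix 2 (by decide), hfix 3 (by decide)]
      exact e_2_3
    · show T.picMatrix (τ 3) (τ 0) = 1
      rw [hfix 3 (by decide), hfix 0 (by decide)]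
      exact e_3_0
    · show T.picMatrix (τ 3) (τ 1) = 0
      rw [hfix 3 (by decide), hfix 1 (by decide)]
      exact e_3_1
    · show T.picMatrix (τ 3) (τ 2) = 0
      rw [hfix 3 (by decide), hfix 2 (by decide)]
      exact e_3_2

theorem ex_70 (T : Models.NumericalType 5)
    (hG : NTGood T)
    (hmax : ∀ j, T.m j ≤ T.m 0)
    (e_0_1 : T.picMatrix 0 1 = 1)
    (e_0_2 : T.picMatrix 0 2 = 1)
    (e_0_3 : T.picMatrix 0 3 = 2)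
    (e_1_0 : T.picMatrix 1 0 = 1)
    (e_1_2 : T.picMatrix 1 2 = 0)
    (e_1_3 : T.picMatrix 1 3 = 0)
    (e_2_0 : T.picMatrix 2 0 = 1)
    (e_2_1 : T.picMatrix 2 1 = 0)
    (e_2_3 : T.picMatrix 2 3 = 0)
    (e_3_0 : T.picMatrix 3 0 = 1)
    (e_3_1 : T.picMatrix 3 1 = 0)
    (e_3_2 : T.picMatrix 3 2 = 0)
    (cl : ∀ a b : Fin 5, a.val < 2 → 5 ≤ b.val → T.picMatrix a b = 0)
    (z : ∀ a : Fin 5, a.val < 2 → T.picMatrix a 4 = 0)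
    (hne : T.picMatrix 2 4 ≠ 0) :
    Goal T := by
  have e_0_4 : T.picMatrix 0 4 = 0 := z 0 (by decide)
  have e_4_0 : T.picMatrix 4 0 = 0 := nt_pic_zero_symm T 0 4 e_0_4
  have e_1_4 : T.picMatrix 1 4 = 0 := z 1 (by decide)
  have e_4_1 : T.picMatrix 4 1 = 0 := nt_pic_zero_symm T 1 4 e_1_4
  obtain ⟨hg0, hdA, hdP, hnn, hrow, hsym, hpair⟩ := ntgood_data T (by norm_num) hG
  have hm_0 := T.m_pos 0
  have hw_0 := T.w_pos 0
  have hm_1 := T.m_pos 1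
  have hw_1 := T.w_pos 1
  have hm_2 := T.m_pos 2
  have hw_2 := T.w_pos 2
  have hm_3 := T.m_pos 3
  have hw_3 := T.w_pos 3
  have hm_4 := T.m_pos 4
  have hw_4 := T.w_pos 4
  have hx_1 := hmax 1
  have hx_2 := hmax 2
  have hx_3 := hmax 3
  have hx_4 := hmax 4
  have N_2_4 := mul_nonneg (hnn 2 4 (by decide)) (T.m_pos 4).le
  have N_4_2 := mul_nonneg (hnn 4 2 (by decide)) (T.m_pos 2).le
  have N_3_4 := mul_nonneg (hnn 3 4 (by decide)) (T.m_pos 4).le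
  have N_4_3 := mul_nonneg (hnn 4 3 (by decide)) (T.m_pos 3).le
  have R_0 := hrow 0
  rw [Fin.sum_univ_five, hdP 0, e_0_1, e_0_2, e_0_3, e_0_4] at R_0
  have R_1 := hrow 1
  rw [Fin.sum_univ_five, hdP 1, e_1_0, e_1_2, e_1_3, e_1_4] at R_1
  have R_2 := hrow 2
  rw [Fin.sum_univ_five, hdP 2, e_2_0, e_2_1, e_2_3] at R_2
  have R_3 := hrow 3
  rw [Fin.sum_univ_five, hdP 3, e_3_0, e_3_1, e_3_2] at R_3
  have R_4 := hrow 4
  rw [Fin.sum_univ_five, hdP 4, e_4_0, e_4_1] at R_4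
  have S_0_1 := hsym 0 1
  rw [e_0_1, e_1_0] at S_0_1
  have S_0_2 := hsym 0 2
  rw [e_0_2, e_2_0] at S_0_2
  have S_0_3 := hsym 0 3
  rw [e_0_3, e_3_0] at S_0_3
  have S_0_4 := hsym 0 4
  rw [e_0_4, e_4_0] at S_0_4
  have S_1_2 := hsym 1 2
  rw [e_1_2, e_2_1] at S_1_2
  have S_1_3 := hsym 1 3
  rw [e_1_3, e_3_1] at S_1_3
  have S_1_4 := hsym 1 4
  rw [e_1_4, e_4_1] at S_1_4
  have S_2_3 := hsym 2 3
  rw [e_2_3, e_3_2] at S_2_3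
  have S_2_4 := hsym 2 4
  have S_3_4 := hsym 3 4
  have Q_2 := hpair 2 4 (by decide)
  have Q_3 := hpair 3 4 (by decide)
  generalize e_2_4 : T.picMatrix 2 4 = x_2 at *
  generalize e_4_2 : T.picMatrix 4 2 = y_2 at *
  generalize e_3_4 : T.picMatrix 3 4 = x_3 at *
  generalize e_4_3 : T.picMatrix 4 3 = y_3 at *
  rcases Q_2 with ⟨rfl, rfl⟩ | ⟨rfl, rfl⟩ | ⟨rfl, rfl⟩ | ⟨rfl, rfl⟩ | ⟨rfl, rfl⟩ | ⟨rfl, rfl⟩ | ⟨rfl, rfl⟩ | ⟨rfl, rfl⟩ | ⟨rfl, rfl⟩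
  · exact absurd rfl hne
  · omega
  · omega
  · omega
  · omega
  · omega
  · omega
  · omega
  · omega

theorem nd_66 (T : Models.NumericalType 5)
    (hG : NTGood T)
    (hmax : ∀ j, T.m j ≤ T.m 0)
    (e_0_1 : T.picMatrix 0 1 = 1)
    (e_0_2 : T.picMatrix 0 2 = 1)
    (e_0_3 : T.picMatrix 0 3 = 2)
    (e_1_0 : T.picMatrix 1 0 = 1)
    (e_1_2 : T.picMatrix 1 2 = 0)
    (e_1_3 : T.picMatrix 1 3 = 0)
    (e_2_0 : T.picMatrix 2 0 = 1)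
    (e_2_1 : T.picMatrix 2 1 = 0)
    (e_2_3 : T.picMatrix 2 3 = 0)
    (e_3_0 : T.picMatrix 3 0 = 1)
    (e_3_1 : T.picMatrix 3 1 = 0)
    (e_3_2 : T.picMatrix 3 2 = 0)
    (cl : ∀ a b : Fin 5, a.val < 2 → 4 ≤ b.val → T.picMatrix a b = 0) :
    Goal T := by
  by_cases hc : ∀ b : Fin 5, 4 ≤ b.val → T.picMatrix 2 b = 0
  · exact nd_67 T hG hmax e_0_1 e_0_2 e_0_3 e_1_0 e_1_2 e_1_3 e_2_0 e_2_1 e_2_3 e_3_0 e_3_1 e_3_2 (nt_cl_succ T 4 2 2 rfl cl hc)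
  · obtain ⟨τ, hfix, cl', z, hne⟩ := nt_wlog_step T 4 (by norm_num) 2 (by norm_num) 2 (by decide) cl hc
    apply goal_relabel T τ
    refine ex_70 (ntRelabel T τ) (hG.relabel τ) ?_ ?_ ?_ ?_ ?_ ?_ ?_ ?_ ?_ ?_ ?_ ?_ ?_ cl' z hne
    · intro j
      show T.m (τ j) ≤ T.m (τ 0)
      rw [hfix 0 (by decide)]
      exact hmax _
    · show T.picMatrix (τ 0) (τ 1) = 1
      rw [hfix 0 (by decide), hfix 1 (by decide)]
      exact e_0_1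
    · show T.picMatrix (τ 0) (τ 2) = 1
      rw [hfix 0 (by decide), hfix 2 (by decide)]
      exact e_0_2
    · show T.picMatrix (τ 0) (τ 3) = 2
      rw [hfix 0 (by decide), hfix 3 (by decide)]
      exact e_0_3
    · show T.picMatrix (τ 1) (τ 0) = 1
      rw [hfix 1 (by decide), hfix 0 (by decide)]
      exact e_1_0
    · show T.picMatrix (τ 1) (τ 2) = 0
      rw [hfix 1 (by decide), hfix 2 (by decide)]
      exact e_1_2
    · show T.picMatrix (τ 1) (τ 3) = 0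
      rw [hfix 1 (by decide), hfix 3 (by decide)]
      exact e_1_3
    · show T.picMatrix (τ 2) (τ 0) = 1
      rw [hfix 2 (by decide), hfix 0 (by decide)]
      exact e_2_0
    · show T.picMatrix (τ 2) (τ 1) = 0
      rw [hfix 2 (by decide), hfix 1 (by decide)]
      exact e_2_1
    · show T.picMatrix (τ 2) (τ 3) = 0
      rw [hfix 2 (by decide), hfix 3 (by decide)]
      exact e_2_3
    · show T.picMatrix (τ 3) (τ 0) = 1
      rw [hfix 3 (by decide), hfix 0 (by decide)]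
      exact e_3_0
    · show T.picMatrix (τ 3) (τ 1) = 0
      rw [hfix 3 (by decide), hfix 1 (by decide)]
      exact e_3_1
    · show T.picMatrix (τ 3) (τ 2) = 0
      rw [hfix 3 (by decide), hfix 2 (by decide)]
      exact e_3_2

theorem ex_71 (T : Models.NumericalType 5)
    (hG : NTGood T)
    (hmax : ∀ j, T.m j ≤ T.m 0)
    (e_0_1 : T.picMatrix 0 1 = 1)
    (e_0_2 : T.picMatrix 0 2 = 1)
    (e_0_3 : T.picMatrix 0 3 = 2)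
    (e_1_0 : T.picMatrix 1 0 = 1)
    (e_1_2 : T.picMatrix 1 2 = 0)
    (e_1_3 : T.picMatrix 1 3 = 0)
    (e_2_0 : T.picMatrix 2 0 = 1)
    (e_2_1 : T.picMatrix 2 1 = 0)
    (e_2_3 : T.picMatrix 2 3 = 0)
    (e_3_0 : T.picMatrix 3 0 = 1)
    (e_3_1 : T.picMatrix 3 1 = 0)
    (e_3_2 : T.picMatrix 3 2 = 0)
    (cl : ∀ a b : Fin 5, a.val < 1 → 5 ≤ b.val → T.picMatrix a b = 0)
    (z : ∀ a : Fin 5, a.val < 1 → T.picMatrix a 4 = 0)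
    (hne : T.picMatrix 1 4 ≠ 0) :
    Goal T := by
  have e_0_4 : T.picMatrix 0 4 = 0 := z 0 (by decide)
  have e_4_0 : T.picMatrix 4 0 = 0 := nt_pic_zero_symm T 0 4 e_0_4
  obtain ⟨hg0, hdA, hdP, hnn, hrow, hsym, hpair⟩ := ntgood_data T (by norm_num) hG
  have hm_0 := T.m_pos 0
  have hw_0 := T.w_pos 0
  have hm_1 := T.m_pos 1
  have hw_1 := T.w_pos 1
  have hm_2 := T.m_pos 2
  have hw_2 := T.w_pos 2
  have hm_3 := T.m_pos 3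
  have hw_3 := T.w_pos 3
  have hm_4 := T.m_pos 4
  have hw_4 := T.w_pos 4
  have hx_1 := hmax 1
  have hx_2 := hmax 2
  have hx_3 := hmax 3
  have hx_4 := hmax 4
  have N_1_4 := mul_nonneg (hnn 1 4 (by decide)) (T.m_pos 4).le
  have N_4_1 := mul_nonneg (hnn 4 1 (by decide)) (T.m_pos 1).le
  have N_2_4 := mul_nonneg (hnn 2 4 (by decide)) (T.m_pos 4).le
  have N_4_2 := mul_nonneg (hnn 4 2 (by decide)) (T.m_pos 2).le
  have N_3_4 := mul_nonneg (hnn 3 4 (by decide)) (T.m_pos 4).le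
  have N_4_3 := mul_nonneg (hnn 4 3 (by decide)) (T.m_pos 3).le
  have R_0 := hrow 0
  rw [Fin.sum_univ_five, hdP 0, e_0_1, e_0_2, e_0_3, e_0_4] at R_0
  have R_1 := hrow 1
  rw [Fin.sum_univ_five, hdP 1, e_1_0, e_1_2, e_1_3] at R_1
  have R_2 := hrow 2
  rw [Fin.sum_univ_five, hdP 2, e_2_0, e_2_1, e_2_3] at R_2
  have R_3 := hrow 3
  rw [Fin.sum_univ_five, hdP 3, e_3_0, e_3_1, e_3_2] at R_3
  have R_4 := hrow 4
  rw [Fin.sum_univ_five, hdP 4, e_4_0] at R_4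
  have S_0_1 := hsym 0 1
  rw [e_0_1, e_1_0] at S_0_1
  have S_0_2 := hsym 0 2
  rw [e_0_2, e_2_0] at S_0_2
  have S_0_3 := hsym 0 3
  rw [e_0_3, e_3_0] at S_0_3
  have S_0_4 := hsym 0 4
  rw [e_0_4, e_4_0] at S_0_4
  have S_1_2 := hsym 1 2
  rw [e_1_2, e_2_1] at S_1_2
  have S_1_3 := hsym 1 3
  rw [e_1_3, e_3_1] at S_1_3
  have S_1_4 := hsym 1 4
  have S_2_3 := hsym 2 3
  rw [e_2_3, e_3_2] at S_2_3
  have S_2_4 := hsym 2 4
  have S_3_4 := hsym 3 4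
  have Q_1 := hpair 1 4 (by decide)
  have Q_2 := hpair 2 4 (by decide)
  have Q_3 := hpair 3 4 (by decide)
  generalize e_1_4 : T.picMatrix 1 4 = x_1 at *
  generalize e_4_1 : T.picMatrix 4 1 = y_1 at *
  generalize e_2_4 : T.picMatrix 2 4 = x_2 at *
  generalize e_4_2 : T.picMatrix 4 2 = y_2 at *
  generalize e_3_4 : T.picMatrix 3 4 = x_3 at *
  generalize e_4_3 : T.picMatrix 4 3 = y_3 at *
  rcases Q_1 with ⟨rfl, rfl⟩ | ⟨rfl, rfl⟩ | ⟨rfl, rfl⟩ | ⟨rfl, rfl⟩ | ⟨rfl, rfl⟩ | ⟨rfl, rfl⟩ | ⟨rfl, rfl⟩ | ⟨rfl, rfl⟩ | ⟨rfl, rfl⟩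
  · exact absurd rfl hne
  · omega
  · omega
  · omega
  · omega
  · omega
  · omega
  · omega
  · omega

theorem nd_65 (T : Models.NumericalType 5)
    (hG : NTGood T)
    (hmax : ∀ j, T.m j ≤ T.m 0)
    (e_0_1 : T.picMatrix 0 1 = 1)
    (e_0_2 : T.picMatrix 0 2 = 1)
    (e_0_3 : T.picMatrix 0 3 = 2)
    (e_1_0 : T.picMatrix 1 0 = 1)
    (e_1_2 : T.picMatrix 1 2 = 0)
    (e_1_3 : T.picMatrix 1 3 = 0)
    (e_2_0 : T.picMatrix 2 0 = 1)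
    (e_2_1 : T.picMatrix 2 1 = 0)
    (e_2_3 : T.picMatrix 2 3 = 0)
    (e_3_0 : T.picMatrix 3 0 = 1)
    (e_3_1 : T.picMatrix 3 1 = 0)
    (e_3_2 : T.picMatrix 3 2 = 0)
    (cl : ∀ a b : Fin 5, a.val < 1 → 4 ≤ b.val → T.picMatrix a b = 0) :
    Goal T := by
  by_cases hc : ∀ b : Fin 5, 4 ≤ b.val → T.picMatrix 1 b = 0
  · exact nd_66 T hG hmax e_0_1 e_0_2 e_0_3 e_1_0 e_1_2 e_1_3 e_2_0 e_2_1 e_2_3 e_3_0 e_3_1 e_3_2 (nt_cl_succ T 4 1 1 rfl cl hc)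
  · obtain ⟨τ, hfix, cl', z, hne⟩ := nt_wlog_step T 4 (by norm_num) 1 (by norm_num) 1 (by decide) cl hc
    apply goal_relabel T τ
    refine ex_71 (ntRelabel T τ) (hG.relabel τ) ?_ ?_ ?_ ?_ ?_ ?_ ?_ ?_ ?_ ?_ ?_ ?_ ?_ cl' z hne
    · intro j
      show T.m (τ j) ≤ T.m (τ 0)
      rw [hfix 0 (by decide)]
      exact hmax _
    · show T.picMatrix (τ 0) (τ 1) = 1
      rw [hfix 0 (by decide), hfix 1 (by decide)]
      exact e_0_1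
    · show T.picMatrix (τ 0) (τ 2) = 1
      rw [hfix 0 (by decide), hfix 2 (by decide)]
      exact e_0_2
    · show T.picMatrix (τ 0) (τ 3) = 2
      rw [hfix 0 (by decide), hfix 3 (by decide)]
      exact e_0_3
    · show T.picMatrix (τ 1) (τ 0) = 1
      rw [hfix 1 (by decide), hfix 0 (by decide)]
      exact e_1_0
    · show T.picMatrix (τ 1) (τ 2) = 0
      rw [hfix 1 (by decide), hfix 2 (by decide)]
      exact e_1_2
    · show T.picMatrix (τ 1) (τ 3) = 0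
      rw [hfix 1 (by decide), hfix 3 (by decide)]
      exact e_1_3
    · show T.picMatrix (τ 2) (τ 0) = 1
      rw [hfix 2 (by decide), hfix 0 (by decide)]
      exact e_2_0
    · show T.picMatrix (τ 2) (τ 1) = 0
      rw [hfix 2 (by decide), hfix 1 (by decide)]
      exact e_2_1
    · show T.picMatrix (τ 2) (τ 3) = 0
      rw [hfix 2 (by decide), hfix 3 (by decide)]
      exact e_2_3
    · show T.picMatrix (τ 3) (τ 0) = 1
      rw [hfix 3 (by decide), hfix 0 (by decide)]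
      exact e_3_0
    · show T.picMatrix (τ 3) (τ 1) = 0
      rw [hfix 3 (by decide), hfix 1 (by decide)]
      exact e_3_1
    · show T.picMatrix (τ 3) (τ 2) = 0
      rw [hfix 3 (by decide), hfix 2 (by decide)]
      exact e_3_2

theorem ex_72 (T : Models.NumericalType 5)
    (hG : NTGood T)
    (hmax : ∀ j, T.m j ≤ T.m 0)
    (e_0_1 : T.picMatrix 0 1 = 1)
    (e_0_2 : T.picMatrix 0 2 = 1)
    (e_0_3 : T.picMatrix 0 3 = 2)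
    (e_1_0 : T.picMatrix 1 0 = 1)
    (e_1_2 : T.picMatrix 1 2 = 0)
    (e_1_3 : T.picMatrix 1 3 = 0)
    (e_2_0 : T.picMatrix 2 0 = 1)
    (e_2_1 : T.picMatrix 2 1 = 0)
    (e_2_3 : T.picMatrix 2 3 = 0)
    (e_3_0 : T.picMatrix 3 0 = 1)
    (e_3_1 : T.picMatrix 3 1 = 0)
    (e_3_2 : T.picMatrix 3 2 = 0)
    (cl : ∀ a b : Fin 5, a.val < 0 → 5 ≤ b.val → T.picMatrix a b = 0)
    (z : ∀ a : Fin 5, a.val < 0 → T.picMatrix a 4 = 0)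
    (hne : T.picMatrix 0 4 ≠ 0) :
    Goal T := by
  obtain ⟨hg0, hdA, hdP, hnn, hrow, hsym, hpair⟩ := ntgood_data T (by norm_num) hG
  have hm_0 := T.m_pos 0
  have hw_0 := T.w_pos 0
  have hm_1 := T.m_pos 1
  have hw_1 := T.w_pos 1
  have hm_2 := T.m_pos 2
  have hw_2 := T.w_pos 2
  have hm_3 := T.m_pos 3
  have hw_3 := T.w_pos 3
  have hm_4 := T.m_pos 4
  have hw_4 := T.w_pos 4
  have hx_1 := hmax 1
  have hx_2 := hmax 2
  have hx_3 := hmax 3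
  have hx_4 := hmax 4
  have N_0_4 := mul_nonneg (hnn 0 4 (by decide)) (T.m_pos 4).le
  have N_4_0 := mul_nonneg (hnn 4 0 (by decide)) (T.m_pos 0).le
  have N_1_4 := mul_nonneg (hnn 1 4 (by decide)) (T.m_pos 4).le
  have N_4_1 := mul_nonneg (hnn 4 1 (by decide)) (T.m_pos 1).le
  have N_2_4 := mul_nonneg (hnn 2 4 (by decide)) (T.m_pos 4).le
  have N_4_2 := mul_nonneg (hnn 4 2 (by decide)) (T.m_pos 2).le
  have N_3_4 := mul_nonneg (hnn 3 4 (by decide)) (T.m_pos 4).le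
  have N_4_3 := mul_nonneg (hnn 4 3 (by decide)) (T.m_pos 3).le
  have R_0 := hrow 0
  rw [Fin.sum_univ_five, hdP 0, e_0_1, e_0_2, e_0_3] at R_0
  have R_1 := hrow 1
  rw [Fin.sum_univ_five, hdP 1, e_1_0, e_1_2, e_1_3] at R_1
  have R_2 := hrow 2
  rw [Fin.sum_univ_five, hdP 2, e_2_0, e_2_1, e_2_3] at R_2
  have R_3 := hrow 3
  rw [Fin.sum_univ_five, hdP 3, e_3_0, e_3_1, e_3_2] at R_3
  have R_4 := hrow 4
  rw [Fin.sum_univ_five, hdP 4] at R_4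
  have S_0_1 := hsym 0 1
  rw [e_0_1, e_1_0] at S_0_1
  have S_0_2 := hsym 0 2
  rw [e_0_2, e_2_0] at S_0_2
  have S_0_3 := hsym 0 3
  rw [e_0_3, e_3_0] at S_0_3
  have S_0_4 := hsym 0 4
  have S_1_2 := hsym 1 2
  rw [e_1_2, e_2_1] at S_1_2
  have S_1_3 := hsym 1 3
  rw [e_1_3, e_3_1] at S_1_3
  have S_1_4 := hsym 1 4
  have S_2_3 := hsym 2 3
  rw [e_2_3, e_3_2] at S_2_3
  have S_2_4 := hsym 2 4
  have S_3_4 := hsym 3 4
  have Q_0 := hpair 0 4 (by decide)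
  have Q_1 := hpair 1 4 (by decide)
  have Q_2 := hpair 2 4 (by decide)
  have Q_3 := hpair 3 4 (by decide)
  generalize e_0_4 : T.picMatrix 0 4 = x_0 at *
  generalize e_4_0 : T.picMatrix 4 0 = y_0 at *
  generalize e_1_4 : T.picMatrix 1 4 = x_1 at *
  generalize e_4_1 : T.picMatrix 4 1 = y_1 at *
  generalize e_2_4 : T.picMatrix 2 4 = x_2 at *
  generalize e_4_2 : T.picMatrix 4 2 = y_2 at *
  generalize e_3_4 : T.picMatrix 3 4 = x_3 at *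
  generalize e_4_3 : T.picMatrix 4 3 = y_3 at *
  rcases Q_0 with ⟨rfl, rfl⟩ | ⟨rfl, rfl⟩ | ⟨rfl, rfl⟩ | ⟨rfl, rfl⟩ | ⟨rfl, rfl⟩ | ⟨rfl, rfl⟩ | ⟨rfl, rfl⟩ | ⟨rfl, rfl⟩ | ⟨rfl, rfl⟩
  · exact absurd rfl hne
  · omega
  · omega
  · omega
  · omega
  · omega
  · omega
  · omega
  · omega

theorem nd_64 (T : Models.NumericalType 5)
    (hG : NTGood T)
    (hmax : ∀ j, T.m j ≤ T.m 0)
    (e_0_1 : T.picMatrix 0 1 = 1)
    (e_0_2 : T.picMatrix 0 2 = 1)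
    (e_0_3 : T.picMatrix 0 3 = 2)
    (e_1_0 : T.picMatrix 1 0 = 1)
    (e_1_2 : T.picMatrix 1 2 = 0)
    (e_1_3 : T.picMatrix 1 3 = 0)
    (e_2_0 : T.picMatrix 2 0 = 1)
    (e_2_1 : T.picMatrix 2 1 = 0)
    (e_2_3 : T.picMatrix 2 3 = 0)
    (e_3_0 : T.picMatrix 3 0 = 1)
    (e_3_1 : T.picMatrix 3 1 = 0)
    (e_3_2 : T.picMatrix 3 2 = 0)
    (cl : ∀ a b : Fin 5, a.val < 0 → 4 ≤ b.val → T.picMatrix a b = 0) :
    Goal T := by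
  by_cases hc : ∀ b : Fin 5, 4 ≤ b.val → T.picMatrix 0 b = 0
  · exact nd_65 T hG hmax e_0_1 e_0_2 e_0_3 e_1_0 e_1_2 e_1_3 e_2_0 e_2_1 e_2_3 e_3_0 e_3_1 e_3_2 (nt_cl_succ T 4 0 0 rfl cl hc)
  · obtain ⟨τ, hfix, cl', z, hne⟩ := nt_wlog_step T 4 (by norm_num) 0 (by norm_num) 0 (by decide) cl hc
    apply goal_relabel T τ
    refine ex_72 (ntRelabel T τ) (hG.relabel τ) ?_ ?_ ?_ ?_ ?_ ?_ ?_ ?_ ?_ ?_ ?_ ?_ ?_ cl' z hne
    · intro j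
      show T.m (τ j) ≤ T.m (τ 0)
      rw [hfix 0 (by decide)]
      exact hmax _
    · show T.picMatrix (τ 0) (τ 1) = 1
      rw [hfix 0 (by decide), hfix 1 (by decide)]
      exact e_0_1
    · show T.picMatrix (τ 0) (τ 2) = 1
      rw [hfix 0 (by decide), hfix 2 (by decide)]
      exact e_0_2
    · show T.picMatrix (τ 0) (τ 3) = 2
      rw [hfix 0 (by decide), hfix 3 (by decide)]
      exact e_0_3
    · show T.picMatrix (τ 1) (τ 0) = 1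
      rw [hfix 1 (by decide), hfix 0 (by decide)]
      exact e_1_0
    · show T.picMatrix (τ 1) (τ 2) = 0
      rw [hfix 1 (by decide), hfix 2 (by decide)]
      exact e_1_2
    · show T.picMatrix (τ 1) (τ 3) = 0
      rw [hfix 1 (by decide), hfix 3 (by decide)]
      exact e_1_3
    · show T.picMatrix (τ 2) (τ 0) = 1
      rw [hfix 2 (by decide), hfix 0 (by decide)]
      exact e_2_0
    · show T.picMatrix (τ 2) (τ 1) = 0
      rw [hfix 2 (by decide), hfix 1 (by decide)]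
      exact e_2_1
    · show T.picMatrix (τ 2) (τ 3) = 0
      rw [hfix 2 (by decide), hfix 3 (by decide)]
      exact e_2_3
    · show T.picMatrix (τ 3) (τ 0) = 1
      rw [hfix 3 (by decide), hfix 0 (by decide)]
      exact e_3_0
    · show T.picMatrix (τ 3) (τ 1) = 0
      rw [hfix 3 (by decide), hfix 1 (by decide)]
      exact e_3_1
    · show T.picMatrix (τ 3) (τ 2) = 0
      rw [hfix 3 (by decide), hfix 2 (by decide)]
      exact e_3_2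

theorem ex_38 (T : Models.NumericalType 5)
    (hG : NTGood T)
    (hmax : ∀ j, T.m j ≤ T.m 0)
    (e_0_1 : T.picMatrix 0 1 = 1)
    (e_0_2 : T.picMatrix 0 2 = 1)
    (e_1_0 : T.picMatrix 1 0 = 1)
    (e_1_2 : T.picMatrix 1 2 = 0)
    (e_2_0 : T.picMatrix 2 0 = 1)
    (e_2_1 : T.picMatrix 2 1 = 0)
    (cl : ∀ a b : Fin 5, a.val < 0 → 4 ≤ b.val → T.picMatrix a b = 0)
    (z : ∀ a : Fin 5, a.val < 0 → T.picMatrix a 3 = 0)
    (hne : T.picMatrix 0 3 ≠ 0) :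
    Goal T := by
  obtain ⟨hg0, hdA, hdP, hnn, hrow, hsym, hpair⟩ := ntgood_data T (by norm_num) hG
  have hm_0 := T.m_pos 0
  have hw_0 := T.w_pos 0
  have hm_1 := T.m_pos 1
  have hw_1 := T.w_pos 1
  have hm_2 := T.m_pos 2
  have hw_2 := T.w_pos 2
  have hm_3 := T.m_pos 3
  have hw_3 := T.w_pos 3
  have hx_1 := hmax 1
  have hx_2 := hmax 2
  have hx_3 := hmax 3
  have N_0_4 := mul_nonneg (hnn 0 4 (by decide)) (T.m_pos 4).le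
  have N_1_4 := mul_nonneg (hnn 1 4 (by decide)) (T.m_pos 4).le
  have N_2_4 := mul_nonneg (hnn 2 4 (by decide)) (T.m_pos 4).le
  have N_3_4 := mul_nonneg (hnn 3 4 (by decide)) (T.m_pos 4).le
  have N_0_3 := mul_nonneg (hnn 0 3 (by decide)) (T.m_pos 3).le
  have N_3_0 := mul_nonneg (hnn 3 0 (by decide)) (T.m_pos 0).le
  have N_1_3 := mul_nonneg (hnn 1 3 (by decide)) (T.m_pos 3).le
  have N_3_1 := mul_nonneg (hnn 3 1 (by decide)) (T.m_pos 1).le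
  have N_2_3 := mul_nonneg (hnn 2 3 (by decide)) (T.m_pos 3).le
  have N_3_2 := mul_nonneg (hnn 3 2 (by decide)) (T.m_pos 2).le
  have R_0 := hrow 0
  rw [Fin.sum_univ_five, hdP 0, e_0_1, e_0_2] at R_0
  have R_1 := hrow 1
  rw [Fin.sum_univ_five, hdP 1, e_1_0, e_1_2] at R_1
  have R_2 := hrow 2
  rw [Fin.sum_univ_five, hdP 2, e_2_0, e_2_1] at R_2
  have R_3 := hrow 3
  rw [Fin.sum_univ_five, hdP 3] at R_3
  have S_0_1 := hsym 0 1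
  rw [e_0_1, e_1_0] at S_0_1
  have S_0_2 := hsym 0 2
  rw [e_0_2, e_2_0] at S_0_2
  have S_0_3 := hsym 0 3
  have S_1_2 := hsym 1 2
  rw [e_1_2, e_2_1] at S_1_2
  have S_1_3 := hsym 1 3
  have S_2_3 := hsym 2 3
  have Q_0 := hpair 0 3 (by decide)
  have Q_1 := hpair 1 3 (by decide)
  have Q_2 := hpair 2 3 (by decide)
  generalize e_0_3 : T.picMatrix 0 3 = x_0 at *
  generalize e_3_0 : T.picMatrix 3 0 = y_0 at *
  generalize e_1_3 : T.picMatrix 1 3 = x_1 at *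
  generalize e_3_1 : T.picMatrix 3 1 = y_1 at *
  generalize e_2_3 : T.picMatrix 2 3 = x_2 at *
  generalize e_3_2 : T.picMatrix 3 2 = y_2 at *
  rcases Q_0 with ⟨rfl, rfl⟩ | ⟨rfl, rfl⟩ | ⟨rfl, rfl⟩ | ⟨rfl, rfl⟩ | ⟨rfl, rfl⟩ | ⟨rfl, rfl⟩ | ⟨rfl, rfl⟩ | ⟨rfl, rfl⟩ | ⟨rfl, rfl⟩
  · exact absurd rfl hne
  · -- (0,3) = (1,1)
    rcases Q_1 with ⟨rfl, rfl⟩ | ⟨rfl, rfl⟩ | ⟨rfl, rfl⟩ | ⟨rfl, rfl⟩ | ⟨rfl, rfl⟩ | ⟨rfl, rfl⟩ | ⟨rfl, rfl⟩ | ⟨rfl, rfl⟩ | ⟨rfl, rfl⟩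
    · -- (1,3) = (0,0)
      rcases Q_2 with ⟨rfl, rfl⟩ | ⟨rfl, rfl⟩ | ⟨rfl, rfl⟩ | ⟨rfl, rfl⟩ | ⟨rfl, rfl⟩ | ⟨rfl, rfl⟩ | ⟨rfl, rfl⟩ | ⟨rfl, rfl⟩ | ⟨rfl, rfl⟩
      · -- (2,3) = (0,0)
        exact nd_39 T hG hmax e_0_1 e_0_2 e_0_3 e_1_0 e_1_2 e_1_3 e_2_0 e_2_1 e_2_3 e_3_0 e_3_1 e_3_2 cl
      · -- (2,3) = (1,1)
        omega
      · -- (2,3) = (1,2)
        omega
      · -- (2,3) = (2,1)
        omega
      · -- (2,3) = (1,3)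
        omega
      · -- (2,3) = (3,1)
        omega
      · -- (2,3) = (1,4)
        omega
      · -- (2,3) = (4,1)
        omega
      · -- (2,3) = (2,2)
        omega
    · omega
    · omega
    · omega
    · omega
    · omega
    · omega
    · omega
    · omega
  · -- (0,3) = (1,2)
    rcases Q_1 with ⟨rfl, rfl⟩ | ⟨rfl, rfl⟩ | ⟨rfl, rfl⟩ | ⟨rfl, rfl⟩ | ⟨rfl, rfl⟩ | ⟨rfl, rfl⟩ | ⟨rfl, rfl⟩ | ⟨rfl, rfl⟩ | ⟨rfl, rfl⟩
    · -- (1,3) = (0,0)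
      rcases Q_2 with ⟨rfl, rfl⟩ | ⟨rfl, rfl⟩ | ⟨rfl, rfl⟩ | ⟨rfl, rfl⟩ | ⟨rfl, rfl⟩ | ⟨rfl, rfl⟩ | ⟨rfl, rfl⟩ | ⟨rfl, rfl⟩ | ⟨rfl, rfl⟩
      · -- (2,3) = (0,0)
        exact nd_55 T hG hmax e_0_1 e_0_2 e_0_3 e_1_0 e_1_2 e_1_3 e_2_0 e_2_1 e_2_3 e_3_0 e_3_1 e_3_2 cl
      · -- (2,3) = (1,1)
        omega
      · -- (2,3) = (1,2)
        omega
      · -- (2,3) = (2,1)
        omega
      · -- (2,3) = (1,3)
        omega
      · -- (2,3) = (3,1)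
        omega
      · -- (2,3) = (1,4)
        omega
      · -- (2,3) = (4,1)
        omega
      · -- (2,3) = (2,2)
        omega
    · omega
    · omega
    · omega
    · omega
    · omega
    · omega
    · omega
    · omega
  · -- (0,3) = (2,1)
    rcases Q_1 with ⟨rfl, rfl⟩ | ⟨rfl, rfl⟩ | ⟨rfl, rfl⟩ | ⟨rfl, rfl⟩ | ⟨rfl, rfl⟩ | ⟨rfl, rfl⟩ | ⟨rfl, rfl⟩ | ⟨rfl, rfl⟩ | ⟨rfl, rfl⟩
    · -- (1,3) = (0,0)
      rcases Q_2 with ⟨rfl, rfl⟩ | ⟨rfl, rfl⟩ | ⟨rfl, rfl⟩ | ⟨rfl, rfl⟩ | ⟨rfl, rfl⟩ | ⟨rfl, rfl⟩ | ⟨rfl, rfl⟩ | ⟨rfl, rfl⟩ | ⟨rfl, rfl⟩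
      · -- (2,3) = (0,0)
        exact nd_64 T hG hmax e_0_1 e_0_2 e_0_3 e_1_0 e_1_2 e_1_3 e_2_0 e_2_1 e_2_3 e_3_0 e_3_1 e_3_2 cl
      · -- (2,3) = (1,1)
        omega
      · -- (2,3) = (1,2)
        omega
      · -- (2,3) = (2,1)
        omega
      · -- (2,3) = (1,3)
        omega
      · -- (2,3) = (3,1)
        omega
      · -- (2,3) = (1,4)
        omega
      · -- (2,3) = (4,1)
        omega
      · -- (2,3) = (2,2)
        omega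
    · omega
    · omega
    · omega
    · omega
    · omega
    · omega
    · omega
    · omega
  · omega
  · omega
  · omega
  · omega
  · omega

theorem nd_7 (T : Models.NumericalType 5)
    (hG : NTGood T)
    (hmax : ∀ j, T.m j ≤ T.m 0)
    (e_0_1 : T.picMatrix 0 1 = 1)
    (e_0_2 : T.picMatrix 0 2 = 1)
    (e_1_0 : T.picMatrix 1 0 = 1)
    (e_1_2 : T.picMatrix 1 2 = 0)
    (e_2_0 : T.picMatrix 2 0 = 1)
    (e_2_1 : T.picMatrix 2 1 = 0)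
    (cl : ∀ a b : Fin 5, a.val < 0 → 3 ≤ b.val → T.picMatrix a b = 0) :
    Goal T := by
  by_cases hc : ∀ b : Fin 5, 3 ≤ b.val → T.picMatrix 0 b = 0
  · exact nd_8 T hG hmax e_0_1 e_0_2 e_1_0 e_1_2 e_2_0 e_2_1 (nt_cl_succ T 3 0 0 rfl cl hc)
  · obtain ⟨τ, hfix, cl', z, hne⟩ := nt_wlog_step T 3 (by norm_num) 0 (by norm_num) 0 (by decide) cl hc
    apply goal_relabel T τ
    refine ex_38 (ntRelabel T τ) (hG.relabel τ) ?_ ?_ ?_ ?_ ?_ ?_ ?_ cl' z hne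
    · intro j
      show T.m (τ j) ≤ T.m (τ 0)
      rw [hfix 0 (by decide)]
      exact hmax _
    · show T.picMatrix (τ 0) (τ 1) = 1
      rw [hfix 0 (by decide), hfix 1 (by decide)]
      exact e_0_1
    · show T.picMatrix (τ 0) (τ 2) = 1
      rw [hfix 0 (by decide), hfix 2 (by decide)]
      exact e_0_2
    · show T.picMatrix (τ 1) (τ 0) = 1
      rw [hfix 1 (by decide), hfix 0 (by decide)]
      exact e_1_0
    · show T.picMatrix (τ 1) (τ 2) = 0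
      rw [hfix 1 (by decide), hfix 2 (by decide)]
      exact e_1_2
    · show T.picMatrix (τ 2) (τ 0) = 1
      rw [hfix 2 (by decide), hfix 0 (by decide)]
      exact e_2_0
    · show T.picMatrix (τ 2) (τ 1) = 0
      rw [hfix 2 (by decide), hfix 1 (by decide)]
      exact e_2_1

theorem nd_264 (T : Models.NumericalType 5)
    (hG : NTGood T)
    (hmax : ∀ j, T.m j ≤ T.m 0)
    (e_0_1 : T.picMatrix 0 1 = 2)
    (e_0_2 : T.picMatrix 0 2 = 0)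
    (e_1_0 : T.picMatrix 1 0 = 1)
    (e_1_2 : T.picMatrix 1 2 = 2)
    (e_2_0 : T.picMatrix 2 0 = 0)
    (e_2_1 : T.picMatrix 2 1 = 1)
    (cl : ∀ a b : Fin 5, a.val < 3 → 3 ≤ b.val → T.picMatrix a b = 0) :
    Goal T := by
  exact (nt_closed_false T 3 (by norm_num) (by norm_num) cl).elim

theorem ex_265 (T : Models.NumericalType 5)
    (hG : NTGood T)
    (hmax : ∀ j, T.m j ≤ T.m 0)
    (e_0_1 : T.picMatrix 0 1 = 2)
    (e_0_2 : T.picMatrix 0 2 = 0)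
    (e_1_0 : T.picMatrix 1 0 = 1)
    (e_1_2 : T.picMatrix 1 2 = 2)
    (e_2_0 : T.picMatrix 2 0 = 0)
    (e_2_1 : T.picMatrix 2 1 = 1)
    (cl : ∀ a b : Fin 5, a.val < 2 → 4 ≤ b.val → T.picMatrix a b = 0)
    (z : ∀ a : Fin 5, a.val < 2 → T.picMatrix a 3 = 0)
    (hne : T.picMatrix 2 3 ≠ 0) :
    Goal T := by
  have e_0_3 : T.picMatrix 0 3 = 0 := z 0 (by decide)
  have e_3_0 : T.picMatrix 3 0 = 0 := nt_pic_zero_symm T 0 3 e_0_3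
  have e_1_3 : T.picMatrix 1 3 = 0 := z 1 (by decide)
  have e_3_1 : T.picMatrix 3 1 = 0 := nt_pic_zero_symm T 1 3 e_1_3
  obtain ⟨hg0, hdA, hdP, hnn, hrow, hsym, hpair⟩ := ntgood_data T (by norm_num) hG
  have hm_0 := T.m_pos 0
  have hw_0 := T.w_pos 0
  have hm_1 := T.m_pos 1
  have hw_1 := T.w_pos 1
  have hm_2 := T.m_pos 2
  have hw_2 := T.w_pos 2
  have hm_3 := T.m_pos 3
  have hw_3 := T.w_pos 3
  have hx_1 := hmax 1
  have hx_2 := hmax 2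
  have hx_3 := hmax 3
  have Z_0_4 := cl 0 4 (by decide) (by decide)
  have Z_1_4 := cl 1 4 (by decide) (by decide)
  have N_2_4 := mul_nonneg (hnn 2 4 (by decide)) (T.m_pos 4).le
  have N_3_4 := mul_nonneg (hnn 3 4 (by decide)) (T.m_pos 4).le
  have N_2_3 := mul_nonneg (hnn 2 3 (by decide)) (T.m_pos 3).le
  have N_3_2 := mul_nonneg (hnn 3 2 (by decide)) (T.m_pos 2).le
  have R_0 := hrow 0
  rw [Fin.sum_univ_five, hdP 0, e_0_1, e_0_2, e_0_3, Z_0_4] at R_0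
  have R_1 := hrow 1
  rw [Fin.sum_univ_five, hdP 1, e_1_0, e_1_2, e_1_3, Z_1_4] at R_1
  have R_2 := hrow 2
  rw [Fin.sum_univ_five, hdP 2, e_2_0, e_2_1] at R_2
  have R_3 := hrow 3
  rw [Fin.sum_univ_five, hdP 3, e_3_0, e_3_1] at R_3
  have S_0_1 := hsym 0 1
  rw [e_0_1, e_1_0] at S_0_1
  have S_0_2 := hsym 0 2
  rw [e_0_2, e_2_0] at S_0_2
  have S_0_3 := hsym 0 3
  rw [e_0_3, e_3_0] at S_0_3
  have S_1_2 := hsym 1 2
  rw [e_1_2, e_2_1] at S_1_2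
  have S_1_3 := hsym 1 3
  rw [e_1_3, e_3_1] at S_1_3
  have S_2_3 := hsym 2 3
  have Q_2 := hpair 2 3 (by decide)
  generalize e_2_3 : T.picMatrix 2 3 = x_2 at *
  generalize e_3_2 : T.picMatrix 3 2 = y_2 at *
  rcases Q_2 with ⟨rfl, rfl⟩ | ⟨rfl, rfl⟩ | ⟨rfl, rfl⟩ | ⟨rfl, rfl⟩ | ⟨rfl, rfl⟩ | ⟨rfl, rfl⟩ | ⟨rfl, rfl⟩ | ⟨rfl, rfl⟩ | ⟨rfl, rfl⟩
  · exact absurd rfl hne
  · -- (2,3) = (1,1)
    omega
  · -- (2,3) = (1,2)
    omega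
  · -- (2,3) = (2,1)
    omega
  · -- (2,3) = (1,3)
    omega
  · -- (2,3) = (3,1)
    omega
  · -- (2,3) = (1,4)
    omega
  · -- (2,3) = (4,1)
    omega
  · -- (2,3) = (2,2)
    omega

theorem nd_263 (T : Models.NumericalType 5)
    (hG : NTGood T)
    (hmax : ∀ j, T.m j ≤ T.m 0)
    (e_0_1 : T.picMatrix 0 1 = 2)
    (e_0_2 : T.picMatrix 0 2 = 0)
    (e_1_0 : T.picMatrix 1 0 = 1)
    (e_1_2 : T.picMatrix 1 2 = 2)
    (e_2_0 : T.picMatrix 2 0 = 0)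
    (e_2_1 : T.picMatrix 2 1 = 1)
    (cl : ∀ a b : Fin 5, a.val < 2 → 3 ≤ b.val → T.picMatrix a b = 0) :
    Goal T := by
  by_cases hc : ∀ b : Fin 5, 3 ≤ b.val → T.picMatrix 2 b = 0
  · exact nd_264 T hG hmax e_0_1 e_0_2 e_1_0 e_1_2 e_2_0 e_2_1 (nt_cl_succ T 3 2 2 rfl cl hc)
  · obtain ⟨τ, hfix, cl', z, hne⟩ := nt_wlog_step T 3 (by norm_num) 2 (by norm_num) 2 (by decide) cl hc
    apply goal_relabel T τ
    refine ex_265 (ntRelabel T τ) (hG.relabel τ) ?_ ?_ ?_ ?_ ?_ ?_ ?_ cl' z hne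
    · intro j
      show T.m (τ j) ≤ T.m (τ 0)
      rw [hfix 0 (by decide)]
      exact hmax _
    · show T.picMatrix (τ 0) (τ 1) = 2
      rw [hfix 0 (by decide), hfix 1 (by decide)]
      exact e_0_1
    · show T.picMatrix (τ 0) (τ 2) = 0
      rw [hfix 0 (by decide), hfix 2 (by decide)]
      exact e_0_2
    · show T.picMatrix (τ 1) (τ 0) = 1
      rw [hfix 1 (by decide), hfix 0 (by decide)]
      exact e_1_0
    · show T.picMatrix (τ 1) (τ 2) = 2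
      rw [hfix 1 (by decide), hfix 2 (by decide)]
      exact e_1_2
    · show T.picMatrix (τ 2) (τ 0) = 0
      rw [hfix 2 (by decide), hfix 0 (by decide)]
      exact e_2_0
    · show T.picMatrix (τ 2) (τ 1) = 1
      rw [hfix 2 (by decide), hfix 1 (by decide)]
      exact e_2_1

theorem ex_266 (T : Models.NumericalType 5)
    (hG : NTGood T)
    (hmax : ∀ j, T.m j ≤ T.m 0)
    (e_0_1 : T.picMatrix 0 1 = 2)
    (e_0_2 : T.picMatrix 0 2 = 0)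
    (e_1_0 : T.picMatrix 1 0 = 1)
    (e_1_2 : T.picMatrix 1 2 = 2)
    (e_2_0 : T.picMatrix 2 0 = 0)
    (e_2_1 : T.picMatrix 2 1 = 1)
    (cl : ∀ a b : Fin 5, a.val < 1 → 4 ≤ b.val → T.picMatrix a b = 0)
    (z : ∀ a : Fin 5, a.val < 1 → T.picMatrix a 3 = 0)
    (hne : T.picMatrix 1 3 ≠ 0) :
    Goal T := by
  have e_0_3 : T.picMatrix 0 3 = 0 := z 0 (by decide)
  have e_3_0 : T.picMatrix 3 0 = 0 := nt_pic_zero_symm T 0 3 e_0_3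
  obtain ⟨hg0, hdA, hdP, hnn, hrow, hsym, hpair⟩ := ntgood_data T (by norm_num) hG
  have hm_0 := T.m_pos 0
  have hw_0 := T.w_pos 0
  have hm_1 := T.m_pos 1
  have hw_1 := T.w_pos 1
  have hm_2 := T.m_pos 2
  have hw_2 := T.w_pos 2
  have hm_3 := T.m_pos 3
  have hw_3 := T.w_pos 3
  have hx_1 := hmax 1
  have hx_2 := hmax 2
  have hx_3 := hmax 3
  have Z_0_4 := cl 0 4 (by decide) (by decide)
  have N_1_4 := mul_nonneg (hnn 1 4 (by decide)) (T.m_pos 4).le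
  have N_2_4 := mul_nonneg (hnn 2 4 (by decide)) (T.m_pos 4).le
  have N_3_4 := mul_nonneg (hnn 3 4 (by decide)) (T.m_pos 4).le
  have N_1_3 := mul_nonneg (hnn 1 3 (by decide)) (T.m_pos 3).le
  have N_3_1 := mul_nonneg (hnn 3 1 (by decide)) (T.m_pos 1).le
  have N_2_3 := mul_nonneg (hnn 2 3 (by decide)) (T.m_pos 3).le
  have N_3_2 := mul_nonneg (hnn 3 2 (by decide)) (T.m_pos 2).le
  have R_0 := hrow 0
  rw [Fin.sum_univ_five, hdP 0, e_0_1, e_0_2, e_0_3, Z_0_4] at R_0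
  have R_1 := hrow 1
  rw [Fin.sum_univ_five, hdP 1, e_1_0, e_1_2] at R_1
  have R_2 := hrow 2
  rw [Fin.sum_univ_five, hdP 2, e_2_0, e_2_1] at R_2
  have R_3 := hrow 3
  rw [Fin.sum_univ_five, hdP 3, e_3_0] at R_3
  have S_0_1 := hsym 0 1
  rw [e_0_1, e_1_0] at S_0_1
  have S_0_2 := hsym 0 2
  rw [e_0_2, e_2_0] at S_0_2
  have S_0_3 := hsym 0 3
  rw [e_0_3, e_3_0] at S_0_3
  have S_1_2 := hsym 1 2
  rw [e_1_2, e_2_1] at S_1_2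
  have S_1_3 := hsym 1 3
  have S_2_3 := hsym 2 3
  have Q_1 := hpair 1 3 (by decide)
  have Q_2 := hpair 2 3 (by decide)
  generalize e_1_3 : T.picMatrix 1 3 = x_1 at *
  generalize e_3_1 : T.picMatrix 3 1 = y_1 at *
  generalize e_2_3 : T.picMatrix 2 3 = x_2 at *
  generalize e_3_2 : T.picMatrix 3 2 = y_2 at *
  rcases Q_1 with ⟨rfl, rfl⟩ | ⟨rfl, rfl⟩ | ⟨rfl, rfl⟩ | ⟨rfl, rfl⟩ | ⟨rfl, rfl⟩ | ⟨rfl, rfl⟩ | ⟨rfl, rfl⟩ | ⟨rfl, rfl⟩ | ⟨rfl, rfl⟩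
  · exact absurd rfl hne
  · omega
  · omega
  · omega
  · omega
  · omega
  · omega
  · omega
  · omega

theorem nd_262 (T : Models.NumericalType 5)
    (hG : NTGood T)
    (hmax : ∀ j, T.m j ≤ T.m 0)
    (e_0_1 : T.picMatrix 0 1 = 2)
    (e_0_2 : T.picMatrix 0 2 = 0)
    (e_1_0 : T.picMatrix 1 0 = 1)
    (e_1_2 : T.picMatrix 1 2 = 2)
    (e_2_0 : T.picMatrix 2 0 = 0)
    (e_2_1 : T.picMatrix 2 1 = 1)
    (cl : ∀ a b : Fin 5, a.val < 1 → 3 ≤ b.val → T.picMatrix a b = 0) :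
    Goal T := by
  by_cases hc : ∀ b : Fin 5, 3 ≤ b.val → T.picMatrix 1 b = 0
  · exact nd_263 T hG hmax e_0_1 e_0_2 e_1_0 e_1_2 e_2_0 e_2_1 (nt_cl_succ T 3 1 1 rfl cl hc)
  · obtain ⟨τ, hfix, cl', z, hne⟩ := nt_wlog_step T 3 (by norm_num) 1 (by norm_num) 1 (by decide) cl hc
    apply goal_relabel T τ
    refine ex_266 (ntRelabel T τ) (hG.relabel τ) ?_ ?_ ?_ ?_ ?_ ?_ ?_ cl' z hne
    · intro j
      show T.m (τ j) ≤ T.m (τ 0)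
      rw [hfix 0 (by decide)]
      exact hmax _
    · show T.picMatrix (τ 0) (τ 1) = 2
      rw [hfix 0 (by decide), hfix 1 (by decide)]
      exact e_0_1
    · show T.picMatrix (τ 0) (τ 2) = 0
      rw [hfix 0 (by decide), hfix 2 (by decide)]
      exact e_0_2
    · show T.picMatrix (τ 1) (τ 0) = 1
      rw [hfix 1 (by decide), hfix 0 (by decide)]
      exact e_1_0
    · show T.picMatrix (τ 1) (τ 2) = 2
      rw [hfix 1 (by decide), hfix 2 (by decide)]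
      exact e_1_2
    · show T.picMatrix (τ 2) (τ 0) = 0
      rw [hfix 2 (by decide), hfix 0 (by decide)]
      exact e_2_0
    · show T.picMatrix (τ 2) (τ 1) = 1
      rw [hfix 2 (by decide), hfix 1 (by decide)]
      exact e_2_1

end Groth.Agent.Lib.helper4.G5
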