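import Groth.Agent.Lib.helper4.G5.Defs

/-!
# Genus one classification on 5 indices: generated case analysis, part 1 (helper4)
-/

set_option autoImplicit false
set_option maxHeartbeats 1000000
set_option linter.unusedVariables false

namespace Groth.Agent.Lib.helper4.G5

open Groth.Agent.Lib.helper4

theorem nd_121 (T : Models.NumericalType 5)
    (hG : NTGood T)
    (hmax : ∀ j, T.m j ≤ T.m 0)
    (e_0_1 : T.picMatrix 0 1 = 1)
    (e_0_2 : T.picMatrix 0 2 = 2)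
    (e_1_0 : T.picMatrix 1 0 = 1)
    (e_1_2 : T.picMatrix 1 2 = 0)
    (e_2_0 : T.picMatrix 2 0 = 1)
    (e_2_1 : T.picMatrix 2 1 = 0)
    (cl : ∀ a b : Fin 5, a.val < 3 → 3 ≤ b.val → T.picMatrix a b = 0) :
    Goal T := by
  obtain ⟨hg0, hdA, hdP, hnn, hrow, hsym, hpair⟩ := ntgood_data T (by norm_num) hG
  have hm_0 := T.m_pos 0
  have hw_0 := T.w_pos 0
  have hm_1 := T.m_pos 1
  have hw_1 := T.w_pos 1
  have hm_2 := T.m_pos 2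
  have hw_2 := T.w_pos 2
  have hx_1 := hmax 1
  have hx_2 := hmax 2
  have Z_0_3 := cl 0 3 (by decide) (by decide)
  have Z_0_4 := cl 0 4 (by decide) (by decide)
  have Z_1_3 := cl 1 3 (by decide) (by decide)
  have Z_1_4 := cl 1 4 (by decide) (by decide)
  have Z_2_3 := cl 2 3 (by decide) (by decide)
  have Z_2_4 := cl 2 4 (by decide) (by decide)
  have R_0 := hrow 0
  rw [Fin.sum_univ_five, hdP 0, e_0_1, e_0_2, Z_0_3, Z_0_4] at R_0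
  have R_1 := hrow 1
  rw [Fin.sum_univ_five, hdP 1, e_1_0, e_1_2, Z_1_3, Z_1_4] at R_1
  have R_2 := hrow 2
  rw [Fin.sum_univ_five, hdP 2, e_2_0, e_2_1, Z_2_3, Z_2_4] at R_2
  have S_0_1 := hsym 0 1
  rw [e_0_1, e_1_0] at S_0_1
  have S_0_2 := hsym 0 2
  rw [e_0_2, e_2_0] at S_0_2
  have S_1_2 := hsym 1 2
  rw [e_1_2, e_2_1] at S_1_2
  exfalso
  omega

theorem nd_125 (T : Models.NumericalType 5)
    (hG : NTGood T)
    (hmax : ∀ j, T.m j ≤ T.m 0)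
    (e_0_1 : T.picMatrix 0 1 = 1)
    (e_0_2 : T.picMatrix 0 2 = 2)
    (e_0_3 : T.picMatrix 0 3 = 0)
    (e_1_0 : T.picMatrix 1 0 = 1)
    (e_1_2 : T.picMatrix 1 2 = 0)
    (e_1_3 : T.picMatrix 1 3 = 0)
    (e_2_0 : T.picMatrix 2 0 = 1)
    (e_2_1 : T.picMatrix 2 1 = 0)
    (e_2_3 : T.picMatrix 2 3 = 1)
    (e_3_0 : T.picMatrix 3 0 = 0)
    (e_3_1 : T.picMatrix 3 1 = 0)
    (e_3_2 : T.picMatrix 3 2 = 1)
    (cl : ∀ a b : Fin 5, a.val < 4 → 4 ≤ b.val → T.picMatrix a b = 0) :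
    Goal T := by
  obtain ⟨hg0, hdA, hdP, hnn, hrow, hsym, hpair⟩ := ntgood_data T (by norm_num) hG
  have hm_0 := T.m_pos 0
  have hw_0 := T.w_pos 0
  have hm_1 := T.m_pos 1
  have hw_1 := T.w_pos 1
  have hm_2 := T.m_pos 2
  have hw_2 := T.w_pos 2
  have hm_3 := T.m_pos 3
  have hw_3 := T.w_pos 3
  have hx_1 := hmax 1
  have hx_2 := hmax 2
  have hx_3 := hmax 3
  have Z_0_4 := cl 0 4 (by decide) (by decide)
  have Z_1_4 := cl 1 4 (by decide) (by decide)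
  have Z_2_4 := cl 2 4 (by decide) (by decide)
  have Z_3_4 := cl 3 4 (by decide) (by decide)
  have R_0 := hrow 0
  rw [Fin.sum_univ_five, hdP 0, e_0_1, e_0_2, e_0_3, Z_0_4] at R_0
  have R_1 := hrow 1
  rw [Fin.sum_univ_five, hdP 1, e_1_0, e_1_2, e_1_3, Z_1_4] at R_1
  have R_2 := hrow 2
  rw [Fin.sum_univ_five, hdP 2, e_2_0, e_2_1, e_2_3, Z_2_4] at R_2
  have R_3 := hrow 3
  rw [Fin.sum_univ_five, hdP 3, e_3_0, e_3_1, e_3_2, Z_3_4] at R_3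
  have S_0_1 := hsym 0 1
  rw [e_0_1, e_1_0] at S_0_1
  have S_0_2 := hsym 0 2
  rw [e_0_2, e_2_0] at S_0_2
  have S_0_3 := hsym 0 3
  rw [e_0_3, e_3_0] at S_0_3
  have S_1_2 := hsym 1 2
  rw [e_1_2, e_2_1] at S_1_2
  have S_1_3 := hsym 1 3
  rw [e_1_3, e_3_1] at S_1_3
  have S_2_3 := hsym 2 3
  rw [e_2_3, e_3_2] at S_2_3
  exfalso
  omega

theorem nd_127 (T : Models.NumericalType 5)
    (hG : NTGood T)
    (hmax : ∀ j, T.m j ≤ T.m 0)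
    (e_0_1 : T.picMatrix 0 1 = 1)
    (e_0_2 : T.picMatrix 0 2 = 2)
    (e_0_3 : T.picMatrix 0 3 = 0)
    (e_0_4 : T.picMatrix 0 4 = 0)
    (e_1_0 : T.picMatrix 1 0 = 1)
    (e_1_2 : T.picMatrix 1 2 = 0)
    (e_1_3 : T.picMatrix 1 3 = 0)
    (e_1_4 : T.picMatrix 1 4 = 0)
    (e_2_0 : T.picMatrix 2 0 = 1)
    (e_2_1 : T.picMatrix 2 1 = 0)
    (e_2_3 : T.picMatrix 2 3 = 1)
    (e_2_4 : T.picMatrix 2 4 = 0)
    (e_3_0 : T.picMatrix 3 0 = 0)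
    (e_3_1 : T.picMatrix 3 1 = 0)
    (e_3_2 : T.picMatrix 3 2 = 1)
    (e_3_4 : T.picMatrix 3 4 = 1)
    (e_4_0 : T.picMatrix 4 0 = 0)
    (e_4_1 : T.picMatrix 4 1 = 0)
    (e_4_2 : T.picMatrix 4 2 = 0)
    (e_4_3 : T.picMatrix 4 3 = 1)
    (cl : ∀ a b : Fin 5, a.val < 3 → 5 ≤ b.val → T.picMatrix a b = 0) :
    Goal T := by
  obtain ⟨hg0, hdA, hdP, hnn, hrow, hsym, hpair⟩ := ntgood_data T (by norm_num) hG
  have hm_0 := T.m_pos 0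
  have hw_0 := T.w_pos 0
  have hm_1 := T.m_pos 1
  have hw_1 := T.w_pos 1
  have hm_2 := T.m_pos 2
  have hw_2 := T.w_pos 2
  have hm_3 := T.m_pos 3
  have hw_3 := T.w_pos 3
  have hm_4 := T.m_pos 4
  have hw_4 := T.w_pos 4
  have hx_1 := hmax 1
  have hx_2 := hmax 2
  have hx_3 := hmax 3
  have hx_4 := hmax 4
  have R_0 := hrow 0
  rw [Fin.sum_univ_five, hdP 0, e_0_1, e_0_2, e_0_3, e_0_4] at R_0
  have R_1 := hrow 1
  rw [Fin.sum_univ_five, hdP 1, e_1_0, e_1_2, e_1_3, e_1_4] at R_1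
  have R_2 := hrow 2
  rw [Fin.sum_univ_five, hdP 2, e_2_0, e_2_1, e_2_3, e_2_4] at R_2
  have R_3 := hrow 3
  rw [Fin.sum_univ_five, hdP 3, e_3_0, e_3_1, e_3_2, e_3_4] at R_3
  have R_4 := hrow 4
  rw [Fin.sum_univ_five, hdP 4, e_4_0, e_4_1, e_4_2, e_4_3] at R_4
  have S_0_1 := hsym 0 1
  rw [e_0_1, e_1_0] at S_0_1
  have S_0_2 := hsym 0 2
  rw [e_0_2, e_2_0] at S_0_2
  have S_0_3 := hsym 0 3
  rw [e_0_3, e_3_0] at S_0_3
  have S_0_4 := hsym 0 4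
  rw [e_0_4, e_4_0] at S_0_4
  have S_1_2 := hsym 1 2
  rw [e_1_2, e_2_1] at S_1_2
  have S_1_3 := hsym 1 3
  rw [e_1_3, e_3_1] at S_1_3
  have S_1_4 := hsym 1 4
  rw [e_1_4, e_4_1] at S_1_4
  have S_2_3 := hsym 2 3
  rw [e_2_3, e_3_2] at S_2_3
  have S_2_4 := hsym 2 4
  rw [e_2_4, e_4_2] at S_2_4
  have S_3_4 := hsym 3 4
  rw [e_3_4, e_4_3] at S_3_4
  have D_0 := hdA 0
  have A_0_1 := nt_a_eq T 0 1
  rw [e_0_1] at A_0_1
  have A_0_2 := nt_a_eq T 0 2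
  rw [e_0_2] at A_0_2
  have A_0_3 := nt_a_eq T 0 3
  rw [e_0_3] at A_0_3
  have A_0_4 := nt_a_eq T 0 4
  rw [e_0_4] at A_0_4
  have D_1 := hdA 1
  have A_1_0 := nt_a_eq T 1 0
  rw [e_1_0] at A_1_0
  have A_1_2 := nt_a_eq T 1 2
  rw [e_1_2] at A_1_2
  have A_1_3 := nt_a_eq T 1 3
  rw [e_1_3] at A_1_3
  have A_1_4 := nt_a_eq T 1 4
  rw [e_1_4] at A_1_4
  have D_2 := hdA 2
  have A_2_0 := nt_a_eq T 2 0
  rw [e_2_0] at A_2_0
  have A_2_1 := nt_a_eq T 2 1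
  rw [e_2_1] at A_2_1
  have A_2_3 := nt_a_eq T 2 3
  rw [e_2_3] at A_2_3
  have A_2_4 := nt_a_eq T 2 4
  rw [e_2_4] at A_2_4
  have D_3 := hdA 3
  have A_3_0 := nt_a_eq T 3 0
  rw [e_3_0] at A_3_0
  have A_3_1 := nt_a_eq T 3 1
  rw [e_3_1] at A_3_1
  have A_3_2 := nt_a_eq T 3 2
  rw [e_3_2] at A_3_2
  have A_3_4 := nt_a_eq T 3 4
  rw [e_3_4] at A_3_4
  have D_4 := hdA 4
  have A_4_0 := nt_a_eq T 4 0
  rw [e_4_0] at A_4_0
  have A_4_1 := nt_a_eq T 4 1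
  rw [e_4_1] at A_4_1
  have A_4_2 := nt_a_eq T 4 2
  rw [e_4_2] at A_4_2
  have A_4_3 := nt_a_eq T 4 3
  rw [e_4_3] at A_4_3
  refine goal_of_indices T hg0 4 3 2 0 1 (by decide) (T.m 4) (T.w 0) ?_
  unfold Goali
  exact Or.inr (Or.inr (Or.inl ⟨by omega, by omega, by omega, by omega, by omega, by omega, by omega, by omega, by omega, by omega, by omega, by omega, by omega, by omega, by omega, by omega, by omega, by omega, by omega, by omega, by omega, by omega, by omega, by omega, by omega⟩))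

theorem ex_126 (T : Models.NumericalType 5)
    (hG : NTGood T)
    (hmax : ∀ j, T.m j ≤ T.m 0)
    (e_0_1 : T.picMatrix 0 1 = 1)
    (e_0_2 : T.picMatrix 0 2 = 2)
    (e_0_3 : T.picMatrix 0 3 = 0)
    (e_1_0 : T.picMatrix 1 0 = 1)
    (e_1_2 : T.picMatrix 1 2 = 0)
    (e_1_3 : T.picMatrix 1 3 = 0)
    (e_2_0 : T.picMatrix 2 0 = 1)
    (e_2_1 : T.picMatrix 2 1 = 0)
    (e_2_3 : T.picMatrix 2 3 = 1)
    (e_3_0 : T.picMatrix 3 0 = 0)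
    (e_3_1 : T.picMatrix 3 1 = 0)
    (e_3_2 : T.picMatrix 3 2 = 1)
    (cl : ∀ a b : Fin 5, a.val < 3 → 5 ≤ b.val → T.picMatrix a b = 0)
    (z : ∀ a : Fin 5, a.val < 3 → T.picMatrix a 4 = 0)
    (hne : T.picMatrix 3 4 ≠ 0) :
    Goal T := by
  have e_0_4 : T.picMatrix 0 4 = 0 := z 0 (by decide)
  have e_4_0 : T.picMatrix 4 0 = 0 := nt_pic_zero_symm T 0 4 e_0_4
  have e_1_4 : T.picMatrix 1 4 = 0 := z 1 (by decide)
  have e_4_1 : T.picMatrix 4 1 = 0 := nt_pic_zero_symm T 1 4 e_1_4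
  have e_2_4 : T.picMatrix 2 4 = 0 := z 2 (by decide)
  have e_4_2 : T.picMatrix 4 2 = 0 := nt_pic_zero_symm T 2 4 e_2_4
  obtain ⟨hg0, hdA, hdP, hnn, hrow, hsym, hpair⟩ := ntgood_data T (by norm_num) hG
  have hm_0 := T.m_pos 0
  have hw_0 := T.w_pos 0
  have hm_1 := T.m_pos 1
  have hw_1 := T.w_pos 1
  have hm_2 := T.m_pos 2
  have hw_2 := T.w_pos 2
  have hm_3 := T.m_pos 3
  have hw_3 := T.w_pos 3
  have hm_4 := T.m_pos 4
  have hw_4 := T.w_pos 4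
  have hx_1 := hmax 1
  have hx_2 := hmax 2
  have hx_3 := hmax 3
  have hx_4 := hmax 4
  have N_3_4 := mul_nonneg (hnn 3 4 (by decide)) (T.m_pos 4).le
  have N_4_3 := mul_nonneg (hnn 4 3 (by decide)) (T.m_pos 3).le
  have R_0 := hrow 0
  rw [Fin.sum_univ_five, hdP 0, e_0_1, e_0_2, e_0_3, e_0_4] at R_0
  have R_1 := hrow 1
  rw [Fin.sum_univ_five, hdP 1, e_1_0, e_1_2, e_1_3, e_1_4] at R_1
  have R_2 := hrow 2
  rw [Fin.sum_univ_five, hdP 2, e_2_0, e_2_1, e_2_3, e_2_4] at R_2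
  have R_3 := hrow 3
  rw [Fin.sum_univ_five, hdP 3, e_3_0, e_3_1, e_3_2] at R_3
  have R_4 := hrow 4
  rw [Fin.sum_univ_five, hdP 4, e_4_0, e_4_1, e_4_2] at R_4
  have S_0_1 := hsym 0 1
  rw [e_0_1, e_1_0] at S_0_1
  have S_0_2 := hsym 0 2
  rw [e_0_2, e_2_0] at S_0_2
  have S_0_3 := hsym 0 3
  rw [e_0_3, e_3_0] at S_0_3
  have S_0_4 := hsym 0 4
  rw [e_0_4, e_4_0] at S_0_4
  have S_1_2 := hsym 1 2
  rw [e_1_2, e_2_1] at S_1_2
  have S_1_3 := hsym 1 3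
  rw [e_1_3, e_3_1] at S_1_3
  have S_1_4 := hsym 1 4
  rw [e_1_4, e_4_1] at S_1_4
  have S_2_3 := hsym 2 3
  rw [e_2_3, e_3_2] at S_2_3
  have S_2_4 := hsym 2 4
  rw [e_2_4, e_4_2] at S_2_4
  have S_3_4 := hsym 3 4
  have Q_3 := hpair 3 4 (by decide)
  generalize e_3_4 : T.picMatrix 3 4 = x_3 at *
  generalize e_4_3 : T.picMatrix 4 3 = y_3 at *
  rcases Q_3 with ⟨rfl, rfl⟩ | ⟨rfl, rfl⟩ | ⟨rfl, rfl⟩ | ⟨rfl, rfl⟩ | ⟨rfl, rfl⟩ | ⟨rfl, rfl⟩ | ⟨rfl, rfl⟩ | ⟨rfl, rfl⟩ | ⟨rfl, rfl⟩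
  · exact absurd rfl hne
  · -- (3,4) = (1,1)
    exact nd_127 T hG hmax e_0_1 e_0_2 e_0_3 e_0_4 e_1_0 e_1_2 e_1_3 e_1_4 e_2_0 e_2_1 e_2_3 e_2_4 e_3_0 e_3_1 e_3_2 e_3_4 e_4_0 e_4_1 e_4_2 e_4_3 cl
  · -- (3,4) = (1,2)
    omega
  · -- (3,4) = (2,1)
    omega
  · -- (3,4) = (1,3)
    omega
  · -- (3,4) = (3,1)
    omega
  · -- (3,4) = (1,4)
    omega
  · -- (3,4) = (4,1)
    omega
  · -- (3,4) = (2,2)
    omega

theorem nd_124 (T : Models.NumericalType 5)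
    (hG : NTGood T)
    (hmax : ∀ j, T.m j ≤ T.m 0)
    (e_0_1 : T.picMatrix 0 1 = 1)
    (e_0_2 : T.picMatrix 0 2 = 2)
    (e_0_3 : T.picMatrix 0 3 = 0)
    (e_1_0 : T.picMatrix 1 0 = 1)
    (e_1_2 : T.picMatrix 1 2 = 0)
    (e_1_3 : T.picMatrix 1 3 = 0)
    (e_2_0 : T.picMatrix 2 0 = 1)
    (e_2_1 : T.picMatrix 2 1 = 0)
    (e_2_3 : T.picMatrix 2 3 = 1)
    (e_3_0 : T.picMatrix 3 0 = 0)
    (e_3_1 : T.picMatrix 3 1 = 0)
    (e_3_2 : T.picMatrix 3 2 = 1)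
    (cl : ∀ a b : Fin 5, a.val < 3 → 4 ≤ b.val → T.picMatrix a b = 0) :
    Goal T := by
  by_cases hc : ∀ b : Fin 5, 4 ≤ b.val → T.picMatrix 3 b = 0
  · exact nd_125 T hG hmax e_0_1 e_0_2 e_0_3 e_1_0 e_1_2 e_1_3 e_2_0 e_2_1 e_2_3 e_3_0 e_3_1 e_3_2 (nt_cl_succ T 4 3 3 rfl cl hc)
  · obtain ⟨τ, hfix, cl', z, hne⟩ := nt_wlog_step T 4 (by norm_num) 3 (by norm_num) 3 (by decide) cl hc
    apply goal_relabel T τ
    refine ex_126 (ntRelabel T τ) (hG.relabel τ) ?_ ?_ ?_ ?_ ?_ ?_ ?_ ?_ ?_ ?_ ?_ ?_ ?_ cl' z hne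
    · intro j
      show T.m (τ j) ≤ T.m (τ 0)
      rw [hfix 0 (by decide)]
      exact hmax _
    · show T.picMatrix (τ 0) (τ 1) = 1
      rw [hfix 0 (by decide), hfix 1 (by decide)]
      exact e_0_1
    · show T.picMatrix (τ 0) (τ 2) = 2
      rw [hfix 0 (by decide), hfix 2 (by decide)]
      exact e_0_2
    · show T.picMatrix (τ 0) (τ 3) = 0
      rw [hfix 0 (by decide), hfix 3 (by decide)]
      exact e_0_3
    · show T.picMatrix (τ 1) (τ 0) = 1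
      rw [hfix 1 (by decide), hfix 0 (by decide)]
      exact e_1_0
    · show T.picMatrix (τ 1) (τ 2) = 0
      rw [hfix 1 (by decide), hfix 2 (by decide)]
      exact e_1_2
    · show T.picMatrix (τ 1) (τ 3) = 0
      rw [hfix 1 (by decide), hfix 3 (by decide)]
      exact e_1_3
    · show T.picMatrix (τ 2) (τ 0) = 1
      rw [hfix 2 (by decide), hfix 0 (by decide)]
      exact e_2_0
    · show T.picMatrix (τ 2) (τ 1) = 0
      rw [hfix 2 (by decide), hfix 1 (by decide)]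
      exact e_2_1
    · show T.picMatrix (τ 2) (τ 3) = 1
      rw [hfix 2 (by decide), hfix 3 (by decide)]
      exact e_2_3
    · show T.picMatrix (τ 3) (τ 0) = 0
      rw [hfix 3 (by decide), hfix 0 (by decide)]
      exact e_3_0
    · show T.picMatrix (τ 3) (τ 1) = 0
      rw [hfix 3 (by decide), hfix 1 (by decide)]
      exact e_3_1
    · show T.picMatrix (τ 3) (τ 2) = 1
      rw [hfix 3 (by decide), hfix 2 (by decide)]
      exact e_3_2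

theorem ex_128 (T : Models.NumericalType 5)
    (hG : NTGood T)
    (hmax : ∀ j, T.m j ≤ T.m 0)
    (e_0_1 : T.picMatrix 0 1 = 1)
    (e_0_2 : T.picMatrix 0 2 = 2)
    (e_0_3 : T.picMatrix 0 3 = 0)
    (e_1_0 : T.picMatrix 1 0 = 1)
    (e_1_2 : T.picMatrix 1 2 = 0)
    (e_1_3 : T.picMatrix 1 3 = 0)
    (e_2_0 : T.picMatrix 2 0 = 1)
    (e_2_1 : T.picMatrix 2 1 = 0)
    (e_2_3 : T.picMatrix 2 3 = 1)
    (e_3_0 : T.picMatrix 3 0 = 0)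
    (e_3_1 : T.picMatrix 3 1 = 0)
    (e_3_2 : T.picMatrix 3 2 = 1)
    (cl : ∀ a b : Fin 5, a.val < 2 → 5 ≤ b.val → T.picMatrix a b = 0)
    (z : ∀ a : Fin 5, a.val < 2 → T.picMatrix a 4 = 0)
    (hne : T.picMatrix 2 4 ≠ 0) :
    Goal T := by
  have e_0_4 : T.picMatrix 0 4 = 0 := z 0 (by decide)
  have e_4_0 : T.picMatrix 4 0 = 0 := nt_pic_zero_symm T 0 4 e_0_4
  have e_1_4 : T.picMatrix 1 4 = 0 := z 1 (by decide)
  have e_4_1 : T.picMatrix 4 1 = 0 := nt_pic_zero_symm T 1 4 e_1_4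
  obtain ⟨hg0, hdA, hdP, hnn, hrow, hsym, hpair⟩ := ntgood_data T (by norm_num) hG
  have hm_0 := T.m_pos 0
  have hw_0 := T.w_pos 0
  have hm_1 := T.m_pos 1
  have hw_1 := T.w_pos 1
  have hm_2 := T.m_pos 2
  have hw_2 := T.w_pos 2
  have hm_3 := T.m_pos 3
  have hw_3 := T.w_pos 3
  have hm_4 := T.m_pos 4
  have hw_4 := T.w_pos 4
  have hx_1 := hmax 1
  have hx_2 := hmax 2
  have hx_3 := hmax 3
  have hx_4 := hmax 4
  have N_2_4 := mul_nonneg (hnn 2 4 (by decide)) (T.m_pos 4).le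
  have N_4_2 := mul_nonneg (hnn 4 2 (by decide)) (T.m_pos 2).le
  have N_3_4 := mul_nonneg (hnn 3 4 (by decide)) (T.m_pos 4).le
  have N_4_3 := mul_nonneg (hnn 4 3 (by decide)) (T.m_pos 3).le
  have R_0 := hrow 0
  rw [Fin.sum_univ_five, hdP 0, e_0_1, e_0_2, e_0_3, e_0_4] at R_0
  have R_1 := hrow 1
  rw [Fin.sum_univ_five, hdP 1, e_1_0, e_1_2, e_1_3, e_1_4] at R_1
  have R_2 := hrow 2
  rw [Fin.sum_univ_five, hdP 2, e_2_0, e_2_1, e_2_3] at R_2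
  have R_3 := hrow 3
  rw [Fin.sum_univ_five, hdP 3, e_3_0, e_3_1, e_3_2] at R_3
  have R_4 := hrow 4
  rw [Fin.sum_univ_five, hdP 4, e_4_0, e_4_1] at R_4
  have S_0_1 := hsym 0 1
  rw [e_0_1, e_1_0] at S_0_1
  have S_0_2 := hsym 0 2
  rw [e_0_2, e_2_0] at S_0_2
  have S_0_3 := hsym 0 3
  rw [e_0_3, e_3_0] at S_0_3
  have S_0_4 := hsym 0 4
  rw [e_0_4, e_4_0] at S_0_4
  have S_1_2 := hsym 1 2
  rw [e_1_2, e_2_1] at S_1_2
  have S_1_3 := hsym 1 3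
  rw [e_1_3, e_3_1] at S_1_3
  have S_1_4 := hsym 1 4
  rw [e_1_4, e_4_1] at S_1_4
  have S_2_3 := hsym 2 3
  rw [e_2_3, e_3_2] at S_2_3
  have S_2_4 := hsym 2 4
  have S_3_4 := hsym 3 4
  have Q_2 := hpair 2 4 (by decide)
  have Q_3 := hpair 3 4 (by decide)
  generalize e_2_4 : T.picMatrix 2 4 = x_2 at *
  generalize e_4_2 : T.picMatrix 4 2 = y_2 at *
  generalize e_3_4 : T.picMatrix 3 4 = x_3 at *
  generalize e_4_3 : T.picMatrix 4 3 = y_3 at *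
  rcases Q_2 with ⟨rfl, rfl⟩ | ⟨rfl, rfl⟩ | ⟨rfl, rfl⟩ | ⟨rfl, rfl⟩ | ⟨rfl, rfl⟩ | ⟨rfl, rfl⟩ | ⟨rfl, rfl⟩ | ⟨rfl, rfl⟩ | ⟨rfl, rfl⟩
  · exact absurd rfl hne
  · omega
  · omega
  · omega
  · omega
  · omega
  · omega
  · omega
  · omega

theorem nd_123 (T : Models.NumericalType 5)
    (hG : NTGood T)
    (hmax : ∀ j, T.m j ≤ T.m 0)
    (e_0_1 : T.picMatrix 0 1 = 1)
    (e_0_2 : T.picMatrix 0 2 = 2)
    (e_0_3 : T.picMatrix 0 3 = 0)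
    (e_1_0 : T.picMatrix 1 0 = 1)
    (e_1_2 : T.picMatrix 1 2 = 0)
    (e_1_3 : T.picMatrix 1 3 = 0)
    (e_2_0 : T.picMatrix 2 0 = 1)
    (e_2_1 : T.picMatrix 2 1 = 0)
    (e_2_3 : T.picMatrix 2 3 = 1)
    (e_3_0 : T.picMatrix 3 0 = 0)
    (e_3_1 : T.picMatrix 3 1 = 0)
    (e_3_2 : T.picMatrix 3 2 = 1)
    (cl : ∀ a b : Fin 5, a.val < 2 → 4 ≤ b.val → T.picMatrix a b = 0) :
    Goal T := by
  by_cases hc : ∀ b : Fin 5, 4 ≤ b.val → T.picMatrix 2 b = 0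
  · exact nd_124 T hG hmax e_0_1 e_0_2 e_0_3 e_1_0 e_1_2 e_1_3 e_2_0 e_2_1 e_2_3 e_3_0 e_3_1 e_3_2 (nt_cl_succ T 4 2 2 rfl cl hc)
  · obtain ⟨τ, hfix, cl', z, hne⟩ := nt_wlog_step T 4 (by norm_num) 2 (by norm_num) 2 (by decide) cl hc
    apply goal_relabel T τ
    refine ex_128 (ntRelabel T τ) (hG.relabel τ) ?_ ?_ ?_ ?_ ?_ ?_ ?_ ?_ ?_ ?_ ?_ ?_ ?_ cl' z hne
    · intro j
      show T.m (τ j) ≤ T.m (τ 0)
      rw [hfix 0 (by decide)]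
      exact hmax _
    · show T.picMatrix (τ 0) (τ 1) = 1
      rw [hfix 0 (by decide), hfix 1 (by decide)]
      exact e_0_1
    · show T.picMatrix (τ 0) (τ 2) = 2
      rw [hfix 0 (by decide), hfix 2 (by decide)]
      exact e_0_2
    · show T.picMatrix (τ 0) (τ 3) = 0
      rw [hfix 0 (by decide), hfix 3 (by decide)]
      exact e_0_3
    · show T.picMatrix (τ 1) (τ 0) = 1
      rw [hfix 1 (by decide), hfix 0 (by decide)]
      exact e_1_0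
    · show T.picMatrix (τ 1) (τ 2) = 0
      rw [hfix 1 (by decide), hfix 2 (by decide)]
      exact e_1_2
    · show T.picMatrix (τ 1) (τ 3) = 0
      rw [hfix 1 (by decide), hfix 3 (by decide)]
      exact e_1_3
    · show T.picMatrix (τ 2) (τ 0) = 1
      rw [hfix 2 (by decide), hfix 0 (by decide)]
      exact e_2_0
    · show T.picMatrix (τ 2) (τ 1) = 0
      rw [hfix 2 (by decide), hfix 1 (by decide)]
      exact e_2_1
    · show T.picMatrix (τ 2) (τ 3) = 1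
      rw [hfix 2 (by decide), hfix 3 (by decide)]
      exact e_2_3
    · show T.picMatrix (τ 3) (τ 0) = 0
      rw [hfix 3 (by decide), hfix 0 (by decide)]
      exact e_3_0
    · show T.picMatrix (τ 3) (τ 1) = 0
      rw [hfix 3 (by decide), hfix 1 (by decide)]
      exact e_3_1
    · show T.picMatrix (τ 3) (τ 2) = 1
      rw [hfix 3 (by decide), hfix 2 (by decide)]
      exact e_3_2

theorem ex_122 (T : Models.NumericalType 5)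
    (hG : NTGood T)
    (hmax : ∀ j, T.m j ≤ T.m 0)
    (e_0_1 : T.picMatrix 0 1 = 1)
    (e_0_2 : T.picMatrix 0 2 = 2)
    (e_1_0 : T.picMatrix 1 0 = 1)
    (e_1_2 : T.picMatrix 1 2 = 0)
    (e_2_0 : T.picMatrix 2 0 = 1)
    (e_2_1 : T.picMatrix 2 1 = 0)
    (cl : ∀ a b : Fin 5, a.val < 2 → 4 ≤ b.val → T.picMatrix a b = 0)
    (z : ∀ a : Fin 5, a.val < 2 → T.picMatrix a 3 = 0)
    (hne : T.picMatrix 2 3 ≠ 0) :
    Goal T := by
  have e_0_3 : T.picMatrix 0 3 = 0 := z 0 (by decide)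
  have e_3_0 : T.picMatrix 3 0 = 0 := nt_pic_zero_symm T 0 3 e_0_3
  have e_1_3 : T.picMatrix 1 3 = 0 := z 1 (by decide)
  have e_3_1 : T.picMatrix 3 1 = 0 := nt_pic_zero_symm T 1 3 e_1_3
  obtain ⟨hg0, hdA, hdP, hnn, hrow, hsym, hpair⟩ := ntgood_data T (by norm_num) hG
  have hm_0 := T.m_pos 0
  have hw_0 := T.w_pos 0
  have hm_1 := T.m_pos 1
  have hw_1 := T.w_pos 1
  have hm_2 := T.m_pos 2
  have hw_2 := T.w_pos 2
  have hm_3 := T.m_pos 3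
  have hw_3 := T.w_pos 3
  have hx_1 := hmax 1
  have hx_2 := hmax 2
  have hx_3 := hmax 3
  have Z_0_4 := cl 0 4 (by decide) (by decide)
  have Z_1_4 := cl 1 4 (by decide) (by decide)
  have N_2_4 := mul_nonneg (hnn 2 4 (by decide)) (T.m_pos 4).le
  have N_3_4 := mul_nonneg (hnn 3 4 (by decide)) (T.m_pos 4).le
  have N_2_3 := mul_nonneg (hnn 2 3 (by decide)) (T.m_pos 3).le
  have N_3_2 := mul_nonneg (hnn 3 2 (by decide)) (T.m_pos 2).le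
  have R_0 := hrow 0
  rw [Fin.sum_univ_five, hdP 0, e_0_1, e_0_2, e_0_3, Z_0_4] at R_0
  have R_1 := hrow 1
  rw [Fin.sum_univ_five, hdP 1, e_1_0, e_1_2, e_1_3, Z_1_4] at R_1
  have R_2 := hrow 2
  rw [Fin.sum_univ_five, hdP 2, e_2_0, e_2_1] at R_2
  have R_3 := hrow 3
  rw [Fin.sum_univ_five, hdP 3, e_3_0, e_3_1] at R_3
  have S_0_1 := hsym 0 1
  rw [e_0_1, e_1_0] at S_0_1
  have S_0_2 := hsym 0 2
  rw [e_0_2, e_2_0] at S_0_2
  have S_0_3 := hsym 0 3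
  rw [e_0_3, e_3_0] at S_0_3
  have S_1_2 := hsym 1 2
  rw [e_1_2, e_2_1] at S_1_2
  have S_1_3 := hsym 1 3
  rw [e_1_3, e_3_1] at S_1_3
  have S_2_3 := hsym 2 3
  have Q_2 := hpair 2 3 (by decide)
  generalize e_2_3 : T.picMatrix 2 3 = x_2 at *
  generalize e_3_2 : T.picMatrix 3 2 = y_2 at *
  rcases Q_2 with ⟨rfl, rfl⟩ | ⟨rfl, rfl⟩ | ⟨rfl, rfl⟩ | ⟨rfl, rfl⟩ | ⟨rfl, rfl⟩ | ⟨rfl, rfl⟩ | ⟨rfl, rfl⟩ | ⟨rfl, rfl⟩ | ⟨rfl, rfl⟩
  · exact absurd rfl hne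
  · -- (2,3) = (1,1)
    exact nd_123 T hG hmax e_0_1 e_0_2 e_0_3 e_1_0 e_1_2 e_1_3 e_2_0 e_2_1 e_2_3 e_3_0 e_3_1 e_3_2 cl
  · -- (2,3) = (1,2)
    omega
  · -- (2,3) = (2,1)
    omega
  · -- (2,3) = (1,3)
    omega
  · -- (2,3) = (3,1)
    omega
  · -- (2,3) = (1,4)
    omega
  · -- (2,3) = (4,1)
    omega
  · -- (2,3) = (2,2)
    omega

theorem nd_120 (T : Models.NumericalType 5)
    (hG : NTGood T)
    (hmax : ∀ j, T.m j ≤ T.m 0)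
    (e_0_1 : T.picMatrix 0 1 = 1)
    (e_0_2 : T.picMatrix 0 2 = 2)
    (e_1_0 : T.picMatrix 1 0 = 1)
    (e_1_2 : T.picMatrix 1 2 = 0)
    (e_2_0 : T.picMatrix 2 0 = 1)
    (e_2_1 : T.picMatrix 2 1 = 0)
    (cl : ∀ a b : Fin 5, a.val < 2 → 3 ≤ b.val → T.picMatrix a b = 0) :
    Goal T := by
  by_cases hc : ∀ b : Fin 5, 3 ≤ b.val → T.picMatrix 2 b = 0
  · exact nd_121 T hG hmax e_0_1 e_0_2 e_1_0 e_1_2 e_2_0 e_2_1 (nt_cl_succ T 3 2 2 rfl cl hc)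
  · obtain ⟨τ, hfix, cl', z, hne⟩ := nt_wlog_step T 3 (by norm_num) 2 (by norm_num) 2 (by decide) cl hc
    apply goal_relabel T τ
    refine ex_122 (ntRelabel T τ) (hG.relabel τ) ?_ ?_ ?_ ?_ ?_ ?_ ?_ cl' z hne
    · intro j
      show T.m (τ j) ≤ T.m (τ 0)
      rw [hfix 0 (by decide)]
      exact hmax _
    · show T.picMatrix (τ 0) (τ 1) = 1
      rw [hfix 0 (by decide), hfix 1 (by decide)]
      exact e_0_1
    · show T.picMatrix (τ 0) (τ 2) = 2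
      rw [hfix 0 (by decide), hfix 2 (by decide)]
      exact e_0_2
    · show T.picMatrix (τ 1) (τ 0) = 1
      rw [hfix 1 (by decide), hfix 0 (by decide)]
      exact e_1_0
    · show T.picMatrix (τ 1) (τ 2) = 0
      rw [hfix 1 (by decide), hfix 2 (by decide)]
      exact e_1_2
    · show T.picMatrix (τ 2) (τ 0) = 1
      rw [hfix 2 (by decide), hfix 0 (by decide)]
      exact e_2_0
    · show T.picMatrix (τ 2) (τ 1) = 0
      rw [hfix 2 (by decide), hfix 1 (by decide)]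
      exact e_2_1

theorem nd_133 (T : Models.NumericalType 5)
    (hG : NTGood T)
    (hmax : ∀ j, T.m j ≤ T.m 0)
    (e_0_1 : T.picMatrix 0 1 = 1)
    (e_0_2 : T.picMatrix 0 2 = 2)
    (e_0_3 : T.picMatrix 0 3 = 0)
    (e_1_0 : T.picMatrix 1 0 = 1)
    (e_1_2 : T.picMatrix 1 2 = 0)
    (e_1_3 : T.picMatrix 1 3 = 1)
    (e_2_0 : T.picMatrix 2 0 = 1)
    (e_2_1 : T.picMatrix 2 1 = 0)
    (e_2_3 : T.picMatrix 2 3 = 0)
    (e_3_0 : T.picMatrix 3 0 = 0)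
    (e_3_1 : T.picMatrix 3 1 = 1)
    (e_3_2 : T.picMatrix 3 2 = 0)
    (cl : ∀ a b : Fin 5, a.val < 4 → 4 ≤ b.val → T.picMatrix a b = 0) :
    Goal T := by
  obtain ⟨hg0, hdA, hdP, hnn, hrow, hsym, hpair⟩ := ntgood_data T (by norm_num) hG
  have hm_0 := T.m_pos 0
  have hw_0 := T.w_pos 0
  have hm_1 := T.m_pos 1
  have hw_1 := T.w_pos 1
  have hm_2 := T.m_pos 2
  have hw_2 := T.w_pos 2
  have hm_3 := T.m_pos 3
  have hw_3 := T.w_pos 3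
  have hx_1 := hmax 1
  have hx_2 := hmax 2
  have hx_3 := hmax 3
  have Z_0_4 := cl 0 4 (by decide) (by decide)
  have Z_1_4 := cl 1 4 (by decide) (by decide)
  have Z_2_4 := cl 2 4 (by decide) (by decide)
  have Z_3_4 := cl 3 4 (by decide) (by decide)
  have R_0 := hrow 0
  rw [Fin.sum_univ_five, hdP 0, e_0_1, e_0_2, e_0_3, Z_0_4] at R_0
  have R_1 := hrow 1
  rw [Fin.sum_univ_five, hdP 1, e_1_0, e_1_2, e_1_3, Z_1_4] at R_1
  have R_2 := hrow 2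
  rw [Fin.sum_univ_five, hdP 2, e_2_0, e_2_1, e_2_3, Z_2_4] at R_2
  have R_3 := hrow 3
  rw [Fin.sum_univ_five, hdP 3, e_3_0, e_3_1, e_3_2, Z_3_4] at R_3
  have S_0_1 := hsym 0 1
  rw [e_0_1, e_1_0] at S_0_1
  have S_0_2 := hsym 0 2
  rw [e_0_2, e_2_0] at S_0_2
  have S_0_3 := hsym 0 3
  rw [e_0_3, e_3_0] at S_0_3
  have S_1_2 := hsym 1 2
  rw [e_1_2, e_2_1] at S_1_2
  have S_1_3 := hsym 1 3
  rw [e_1_3, e_3_1] at S_1_3
  have S_2_3 := hsym 2 3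
  rw [e_2_3, e_3_2] at S_2_3
  exfalso
  omega

theorem nd_135 (T : Models.NumericalType 5)
    (hG : NTGood T)
    (hmax : ∀ j, T.m j ≤ T.m 0)
    (e_0_1 : T.picMatrix 0 1 = 1)
    (e_0_2 : T.picMatrix 0 2 = 2)
    (e_0_3 : T.picMatrix 0 3 = 0)
    (e_0_4 : T.picMatrix 0 4 = 0)
    (e_1_0 : T.picMatrix 1 0 = 1)
    (e_1_2 : T.picMatrix 1 2 = 0)
    (e_1_3 : T.picMatrix 1 3 = 1)
    (e_1_4 : T.picMatrix 1 4 = 0)
    (e_2_0 : T.picMatrix 2 0 = 1)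
    (e_2_1 : T.picMatrix 2 1 = 0)
    (e_2_3 : T.picMatrix 2 3 = 0)
    (e_2_4 : T.picMatrix 2 4 = 0)
    (e_3_0 : T.picMatrix 3 0 = 0)
    (e_3_1 : T.picMatrix 3 1 = 1)
    (e_3_2 : T.picMatrix 3 2 = 0)
    (e_3_4 : T.picMatrix 3 4 = 1)
    (e_4_0 : T.picMatrix 4 0 = 0)
    (e_4_1 : T.picMatrix 4 1 = 0)
    (e_4_2 : T.picMatrix 4 2 = 0)
    (e_4_3 : T.picMatrix 4 3 = 2)
    (cl : ∀ a b : Fin 5, a.val < 3 → 5 ≤ b.val → T.picMatrix a b = 0) :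
    Goal T := by
  obtain ⟨hg0, hdA, hdP, hnn, hrow, hsym, hpair⟩ := ntgood_data T (by norm_num) hG
  have hm_0 := T.m_pos 0
  have hw_0 := T.w_pos 0
  have hm_1 := T.m_pos 1
  have hw_1 := T.w_pos 1
  have hm_2 := T.m_pos 2
  have hw_2 := T.w_pos 2
  have hm_3 := T.m_pos 3
  have hw_3 := T.w_pos 3
  have hm_4 := T.m_pos 4
  have hw_4 := T.w_pos 4
  have hx_1 := hmax 1
  have hx_2 := hmax 2
  have hx_3 := hmax 3
  have hx_4 := hmax 4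
  have R_0 := hrow 0
  rw [Fin.sum_univ_five, hdP 0, e_0_1, e_0_2, e_0_3, e_0_4] at R_0
  have R_1 := hrow 1
  rw [Fin.sum_univ_five, hdP 1, e_1_0, e_1_2, e_1_3, e_1_4] at R_1
  have R_2 := hrow 2
  rw [Fin.sum_univ_five, hdP 2, e_2_0, e_2_1, e_2_3, e_2_4] at R_2
  have R_3 := hrow 3
  rw [Fin.sum_univ_five, hdP 3, e_3_0, e_3_1, e_3_2, e_3_4] at R_3
  have R_4 := hrow 4
  rw [Fin.sum_univ_five, hdP 4, e_4_0, e_4_1, e_4_2, e_4_3] at R_4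
  have S_0_1 := hsym 0 1
  rw [e_0_1, e_1_0] at S_0_1
  have S_0_2 := hsym 0 2
  rw [e_0_2, e_2_0] at S_0_2
  have S_0_3 := hsym 0 3
  rw [e_0_3, e_3_0] at S_0_3
  have S_0_4 := hsym 0 4
  rw [e_0_4, e_4_0] at S_0_4
  have S_1_2 := hsym 1 2
  rw [e_1_2, e_2_1] at S_1_2
  have S_1_3 := hsym 1 3
  rw [e_1_3, e_3_1] at S_1_3
  have S_1_4 := hsym 1 4
  rw [e_1_4, e_4_1] at S_1_4
  have S_2_3 := hsym 2 3
  rw [e_2_3, e_3_2] at S_2_3
  have S_2_4 := hsym 2 4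
  rw [e_2_4, e_4_2] at S_2_4
  have S_3_4 := hsym 3 4
  rw [e_3_4, e_4_3] at S_3_4
  have D_0 := hdA 0
  have A_0_1 := nt_a_eq T 0 1
  rw [e_0_1] at A_0_1
  have A_0_2 := nt_a_eq T 0 2
  rw [e_0_2] at A_0_2
  have A_0_3 := nt_a_eq T 0 3
  rw [e_0_3] at A_0_3
  have A_0_4 := nt_a_eq T 0 4
  rw [e_0_4] at A_0_4
  have D_1 := hdA 1
  have A_1_0 := nt_a_eq T 1 0
  rw [e_1_0] at A_1_0
  have A_1_2 := nt_a_eq T 1 2
  rw [e_1_2] at A_1_2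
  have A_1_3 := nt_a_eq T 1 3
  rw [e_1_3] at A_1_3
  have A_1_4 := nt_a_eq T 1 4
  rw [e_1_4] at A_1_4
  have D_2 := hdA 2
  have A_2_0 := nt_a_eq T 2 0
  rw [e_2_0] at A_2_0
  have A_2_1 := nt_a_eq T 2 1
  rw [e_2_1] at A_2_1
  have A_2_3 := nt_a_eq T 2 3
  rw [e_2_3] at A_2_3
  have A_2_4 := nt_a_eq T 2 4
  rw [e_2_4] at A_2_4
  have D_3 := hdA 3
  have A_3_0 := nt_a_eq T 3 0
  rw [e_3_0] at A_3_0
  have A_3_1 := nt_a_eq T 3 1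
  rw [e_3_1] at A_3_1
  have A_3_2 := nt_a_eq T 3 2
  rw [e_3_2] at A_3_2
  have A_3_4 := nt_a_eq T 3 4
  rw [e_3_4] at A_3_4
  have D_4 := hdA 4
  have A_4_0 := nt_a_eq T 4 0
  rw [e_4_0] at A_4_0
  have A_4_1 := nt_a_eq T 4 1
  rw [e_4_1] at A_4_1
  have A_4_2 := nt_a_eq T 4 2
  rw [e_4_2] at A_4_2
  have A_4_3 := nt_a_eq T 4 3
  rw [e_4_3] at A_4_3
  refine goal_of_indices T hg0 4 3 1 0 2 (by decide) (T.m 2) (T.w 4) ?_
  unfold Goali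
  exact Or.inr (Or.inr (Or.inr (Or.inl ⟨by omega, by omega, by omega, by omega, by omega, by omega, by omega, by omega, by omega, by omega, by omega, by omega, by omega, by omega, by omega, by omega, by omega, by omega, by omega, by omega, by omega, by omega, by omega, by omega, by omega⟩)))

theorem nd_136 (T : Models.NumericalType 5)
    (hG : NTGood T)
    (hmax : ∀ j, T.m j ≤ T.m 0)
    (e_0_1 : T.picMatrix 0 1 = 1)
    (e_0_2 : T.picMatrix 0 2 = 2)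
    (e_0_3 : T.picMatrix 0 3 = 0)
    (e_0_4 : T.picMatrix 0 4 = 0)
    (e_1_0 : T.picMatrix 1 0 = 1)
    (e_1_2 : T.picMatrix 1 2 = 0)
    (e_1_3 : T.picMatrix 1 3 = 1)
    (e_1_4 : T.picMatrix 1 4 = 0)
    (e_2_0 : T.picMatrix 2 0 = 1)
    (e_2_1 : T.picMatrix 2 1 = 0)
    (e_2_3 : T.picMatrix 2 3 = 0)
    (e_2_4 : T.picMatrix 2 4 = 0)
    (e_3_0 : T.picMatrix 3 0 = 0)
    (e_3_1 : T.picMatrix 3 1 = 1)
    (e_3_2 : T.picMatrix 3 2 = 0)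
    (e_3_4 : T.picMatrix 3 4 = 2)
    (e_4_0 : T.picMatrix 4 0 = 0)
    (e_4_1 : T.picMatrix 4 1 = 0)
    (e_4_2 : T.picMatrix 4 2 = 0)
    (e_4_3 : T.picMatrix 4 3 = 1)
    (cl : ∀ a b : Fin 5, a.val < 3 → 5 ≤ b.val → T.picMatrix a b = 0) :
    Goal T := by
  obtain ⟨hg0, hdA, hdP, hnn, hrow, hsym, hpair⟩ := ntgood_data T (by norm_num) hG
  have hm_0 := T.m_pos 0
  have hw_0 := T.w_pos 0
  have hm_1 := T.m_pos 1
  have hw_1 := T.w_pos 1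
  have hm_2 := T.m_pos 2
  have hw_2 := T.w_pos 2
  have hm_3 := T.m_pos 3
  have hw_3 := T.w_pos 3
  have hm_4 := T.m_pos 4
  have hw_4 := T.w_pos 4
  have hx_1 := hmax 1
  have hx_2 := hmax 2
  have hx_3 := hmax 3
  have hx_4 := hmax 4
  have R_0 := hrow 0
  rw [Fin.sum_univ_five, hdP 0, e_0_1, e_0_2, e_0_3, e_0_4] at R_0
  have R_1 := hrow 1
  rw [Fin.sum_univ_five, hdP 1, e_1_0, e_1_2, e_1_3, e_1_4] at R_1
  have R_2 := hrow 2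
  rw [Fin.sum_univ_five, hdP 2, e_2_0, e_2_1, e_2_3, e_2_4] at R_2
  have R_3 := hrow 3
  rw [Fin.sum_univ_five, hdP 3, e_3_0, e_3_1, e_3_2, e_3_4] at R_3
  have R_4 := hrow 4
  rw [Fin.sum_univ_five, hdP 4, e_4_0, e_4_1, e_4_2, e_4_3] at R_4
  have S_0_1 := hsym 0 1
  rw [e_0_1, e_1_0] at S_0_1
  have S_0_2 := hsym 0 2
  rw [e_0_2, e_2_0] at S_0_2
  have S_0_3 := hsym 0 3
  rw [e_0_3, e_3_0] at S_0_3
  have S_0_4 := hsym 0 4
  rw [e_0_4, e_4_0] at S_0_4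
  have S_1_2 := hsym 1 2
  rw [e_1_2, e_2_1] at S_1_2
  have S_1_3 := hsym 1 3
  rw [e_1_3, e_3_1] at S_1_3
  have S_1_4 := hsym 1 4
  rw [e_1_4, e_4_1] at S_1_4
  have S_2_3 := hsym 2 3
  rw [e_2_3, e_3_2] at S_2_3
  have S_2_4 := hsym 2 4
  rw [e_2_4, e_4_2] at S_2_4
  have S_3_4 := hsym 3 4
  rw [e_3_4, e_4_3] at S_3_4
  have D_0 := hdA 0
  have A_0_1 := nt_a_eq T 0 1
  rw [e_0_1] at A_0_1
  have A_0_2 := nt_a_eq T 0 2
  rw [e_0_2] at A_0_2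
  have A_0_3 := nt_a_eq T 0 3
  rw [e_0_3] at A_0_3
  have A_0_4 := nt_a_eq T 0 4
  rw [e_0_4] at A_0_4
  have D_1 := hdA 1
  have A_1_0 := nt_a_eq T 1 0
  rw [e_1_0] at A_1_0
  have A_1_2 := nt_a_eq T 1 2
  rw [e_1_2] at A_1_2
  have A_1_3 := nt_a_eq T 1 3
  rw [e_1_3] at A_1_3
  have A_1_4 := nt_a_eq T 1 4
  rw [e_1_4] at A_1_4
  have D_2 := hdA 2
  have A_2_0 := nt_a_eq T 2 0
  rw [e_2_0] at A_2_0
  have A_2_1 := nt_a_eq T 2 1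
  rw [e_2_1] at A_2_1
  have A_2_3 := nt_a_eq T 2 3
  rw [e_2_3] at A_2_3
  have A_2_4 := nt_a_eq T 2 4
  rw [e_2_4] at A_2_4
  have D_3 := hdA 3
  have A_3_0 := nt_a_eq T 3 0
  rw [e_3_0] at A_3_0
  have A_3_1 := nt_a_eq T 3 1
  rw [e_3_1] at A_3_1
  have A_3_2 := nt_a_eq T 3 2
  rw [e_3_2] at A_3_2
  have A_3_4 := nt_a_eq T 3 4
  rw [e_3_4] at A_3_4
  have D_4 := hdA 4
  have A_4_0 := nt_a_eq T 4 0
  rw [e_4_0] at A_4_0
  have A_4_1 := nt_a_eq T 4 1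
  rw [e_4_1] at A_4_1
  have A_4_2 := nt_a_eq T 4 2
  rw [e_4_2] at A_4_2
  have A_4_3 := nt_a_eq T 4 3
  rw [e_4_3] at A_4_3
  refine goal_of_indices T hg0 2 0 1 3 4 (by decide) (T.m 2) (T.w 0) ?_
  unfold Goali
  exact Or.inr (Or.inr (Or.inr (Or.inr (Or.inr (Or.inl ⟨by omega, by omega, by omega, by omega, by omega, by omega, by omega, by omega, by omega, by omega, by omega, by omega, by omega, by omega, by omega, by omega, by omega, by omega, by omega, by omega, by omega, by omega, by omega, by omega, by omega⟩)))))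

theorem ex_134 (T : Models.NumericalType 5)
    (hG : NTGood T)
    (hmax : ∀ j, T.m j ≤ T.m 0)
    (e_0_1 : T.picMatrix 0 1 = 1)
    (e_0_2 : T.picMatrix 0 2 = 2)
    (e_0_3 : T.picMatrix 0 3 = 0)
    (e_1_0 : T.picMatrix 1 0 = 1)
    (e_1_2 : T.picMatrix 1 2 = 0)
    (e_1_3 : T.picMatrix 1 3 = 1)
    (e_2_0 : T.picMatrix 2 0 = 1)
    (e_2_1 : T.picMatrix 2 1 = 0)
    (e_2_3 : T.picMatrix 2 3 = 0)
    (e_3_0 : T.picMatrix 3 0 = 0)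
    (e_3_1 : T.picMatrix 3 1 = 1)
    (e_3_2 : T.picMatrix 3 2 = 0)
    (cl : ∀ a b : Fin 5, a.val < 3 → 5 ≤ b.val → T.picMatrix a b = 0)
    (z : ∀ a : Fin 5, a.val < 3 → T.picMatrix a 4 = 0)
    (hne : T.picMatrix 3 4 ≠ 0) :
    Goal T := by
  have e_0_4 : T.picMatrix 0 4 = 0 := z 0 (by decide)
  have e_4_0 : T.picMatrix 4 0 = 0 := nt_pic_zero_symm T 0 4 e_0_4
  have e_1_4 : T.picMatrix 1 4 = 0 := z 1 (by decide)
  have e_4_1 : T.picMatrix 4 1 = 0 := nt_pic_zero_symm T 1 4 e_1_4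
  have e_2_4 : T.picMatrix 2 4 = 0 := z 2 (by decide)
  have e_4_2 : T.picMatrix 4 2 = 0 := nt_pic_zero_symm T 2 4 e_2_4
  obtain ⟨hg0, hdA, hdP, hnn, hrow, hsym, hpair⟩ := ntgood_data T (by norm_num) hG
  have hm_0 := T.m_pos 0
  have hw_0 := T.w_pos 0
  have hm_1 := T.m_pos 1
  have hw_1 := T.w_pos 1
  have hm_2 := T.m_pos 2
  have hw_2 := T.w_pos 2
  have hm_3 := T.m_pos 3
  have hw_3 := T.w_pos 3
  have hm_4 := T.m_pos 4
  have hw_4 := T.w_pos 4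
  have hx_1 := hmax 1
  have hx_2 := hmax 2
  have hx_3 := hmax 3
  have hx_4 := hmax 4
  have N_3_4 := mul_nonneg (hnn 3 4 (by decide)) (T.m_pos 4).le
  have N_4_3 := mul_nonneg (hnn 4 3 (by decide)) (T.m_pos 3).le
  have R_0 := hrow 0
  rw [Fin.sum_univ_five, hdP 0, e_0_1, e_0_2, e_0_3, e_0_4] at R_0
  have R_1 := hrow 1
  rw [Fin.sum_univ_five, hdP 1, e_1_0, e_1_2, e_1_3, e_1_4] at R_1
  have R_2 := hrow 2
  rw [Fin.sum_univ_five, hdP 2, e_2_0, e_2_1, e_2_3, e_2_4] at R_2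
  have R_3 := hrow 3
  rw [Fin.sum_univ_five, hdP 3, e_3_0, e_3_1, e_3_2] at R_3
  have R_4 := hrow 4
  rw [Fin.sum_univ_five, hdP 4, e_4_0, e_4_1, e_4_2] at R_4
  have S_0_1 := hsym 0 1
  rw [e_0_1, e_1_0] at S_0_1
  have S_0_2 := hsym 0 2
  rw [e_0_2, e_2_0] at S_0_2
  have S_0_3 := hsym 0 3
  rw [e_0_3, e_3_0] at S_0_3
  have S_0_4 := hsym 0 4
  rw [e_0_4, e_4_0] at S_0_4
  have S_1_2 := hsym 1 2
  rw [e_1_2, e_2_1] at S_1_2
  have S_1_3 := hsym 1 3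
  rw [e_1_3, e_3_1] at S_1_3
  have S_1_4 := hsym 1 4
  rw [e_1_4, e_4_1] at S_1_4
  have S_2_3 := hsym 2 3
  rw [e_2_3, e_3_2] at S_2_3
  have S_2_4 := hsym 2 4
  rw [e_2_4, e_4_2] at S_2_4
  have S_3_4 := hsym 3 4
  have Q_3 := hpair 3 4 (by decide)
  generalize e_3_4 : T.picMatrix 3 4 = x_3 at *
  generalize e_4_3 : T.picMatrix 4 3 = y_3 at *
  rcases Q_3 with ⟨rfl, rfl⟩ | ⟨rfl, rfl⟩ | ⟨rfl, rfl⟩ | ⟨rfl, rfl⟩ | ⟨rfl, rfl⟩ | ⟨rfl, rfl⟩ | ⟨rfl, rfl⟩ | ⟨rfl, rfl⟩ | ⟨rfl, rfl⟩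
  · exact absurd rfl hne
  · -- (3,4) = (1,1)
    omega
  · -- (3,4) = (1,2)
    exact nd_135 T hG hmax e_0_1 e_0_2 e_0_3 e_0_4 e_1_0 e_1_2 e_1_3 e_1_4 e_2_0 e_2_1 e_2_3 e_2_4 e_3_0 e_3_1 e_3_2 e_3_4 e_4_0 e_4_1 e_4_2 e_4_3 cl
  · -- (3,4) = (2,1)
    exact nd_136 T hG hmax e_0_1 e_0_2 e_0_3 e_0_4 e_1_0 e_1_2 e_1_3 e_1_4 e_2_0 e_2_1 e_2_3 e_2_4 e_3_0 e_3_1 e_3_2 e_3_4 e_4_0 e_4_1 e_4_2 e_4_3 cl
  · -- (3,4) = (1,3)
    omega
  · -- (3,4) = (3,1)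
    omega
  · -- (3,4) = (1,4)
    omega
  · -- (3,4) = (4,1)
    omega
  · -- (3,4) = (2,2)
    omega

theorem nd_132 (T : Models.NumericalType 5)
    (hG : NTGood T)
    (hmax : ∀ j, T.m j ≤ T.m 0)
    (e_0_1 : T.picMatrix 0 1 = 1)
    (e_0_2 : T.picMatrix 0 2 = 2)
    (e_0_3 : T.picMatrix 0 3 = 0)
    (e_1_0 : T.picMatrix 1 0 = 1)
    (e_1_2 : T.picMatrix 1 2 = 0)
    (e_1_3 : T.picMatrix 1 3 = 1)
    (e_2_0 : T.picMatrix 2 0 = 1)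
    (e_2_1 : T.picMatrix 2 1 = 0)
    (e_2_3 : T.picMatrix 2 3 = 0)
    (e_3_0 : T.picMatrix 3 0 = 0)
    (e_3_1 : T.picMatrix 3 1 = 1)
    (e_3_2 : T.picMatrix 3 2 = 0)
    (cl : ∀ a b : Fin 5, a.val < 3 → 4 ≤ b.val → T.picMatrix a b = 0) :
    Goal T := by
  by_cases hc : ∀ b : Fin 5, 4 ≤ b.val → T.picMatrix 3 b = 0
  · exact nd_133 T hG hmax e_0_1 e_0_2 e_0_3 e_1_0 e_1_2 e_1_3 e_2_0 e_2_1 e_2_3 e_3_0 e_3_1 e_3_2 (nt_cl_succ T 4 3 3 rfl cl hc)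
  · obtain ⟨τ, hfix, cl', z, hne⟩ := nt_wlog_step T 4 (by norm_num) 3 (by norm_num) 3 (by decide) cl hc
    apply goal_relabel T τ
    refine ex_134 (ntRelabel T τ) (hG.relabel τ) ?_ ?_ ?_ ?_ ?_ ?_ ?_ ?_ ?_ ?_ ?_ ?_ ?_ cl' z hne
    · intro j
      show T.m (τ j) ≤ T.m (τ 0)
      rw [hfix 0 (by decide)]
      exact hmax _
    · show T.picMatrix (τ 0) (τ 1) = 1
      rw [hfix 0 (by decide), hfix 1 (by decide)]
      exact e_0_1
    · show T.picMatrix (τ 0) (τ 2) = 2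
      rw [hfix 0 (by decide), hfix 2 (by decide)]
      exact e_0_2
    · show T.picMatrix (τ 0) (τ 3) = 0
      rw [hfix 0 (by decide), hfix 3 (by decide)]
      exact e_0_3
    · show T.picMatrix (τ 1) (τ 0) = 1
      rw [hfix 1 (by decide), hfix 0 (by decide)]
      exact e_1_0
    · show T.picMatrix (τ 1) (τ 2) = 0
      rw [hfix 1 (by decide), hfix 2 (by decide)]
      exact e_1_2
    · show T.picMatrix (τ 1) (τ 3) = 1
      rw [hfix 1 (by decide), hfix 3 (by decide)]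
      exact e_1_3
    · show T.picMatrix (τ 2) (τ 0) = 1
      rw [hfix 2 (by decide), hfix 0 (by decide)]
      exact e_2_0
    · show T.picMatrix (τ 2) (τ 1) = 0
      rw [hfix 2 (by decide), hfix 1 (by decide)]
      exact e_2_1
    · show T.picMatrix (τ 2) (τ 3) = 0
      rw [hfix 2 (by decide), hfix 3 (by decide)]
      exact e_2_3
    · show T.picMatrix (τ 3) (τ 0) = 0
      rw [hfix 3 (by decide), hfix 0 (by decide)]
      exact e_3_0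
    · show T.picMatrix (τ 3) (τ 1) = 1
      rw [hfix 3 (by decide), hfix 1 (by decide)]
      exact e_3_1
    · show T.picMatrix (τ 3) (τ 2) = 0
      rw [hfix 3 (by decide), hfix 2 (by decide)]
      exact e_3_2

theorem nd_138 (T : Models.NumericalType 5)
    (hG : NTGood T)
    (hmax : ∀ j, T.m j ≤ T.m 0)
    (e_0_1 : T.picMatrix 0 1 = 1)
    (e_0_2 : T.picMatrix 0 2 = 2)
    (e_0_3 : T.picMatrix 0 3 = 0)
    (e_0_4 : T.picMatrix 0 4 = 0)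
    (e_1_0 : T.picMatrix 1 0 = 1)
    (e_1_2 : T.picMatrix 1 2 = 0)
    (e_1_3 : T.picMatrix 1 3 = 1)
    (e_1_4 : T.picMatrix 1 4 = 0)
    (e_2_0 : T.picMatrix 2 0 = 1)
    (e_2_1 : T.picMatrix 2 1 = 0)
    (e_2_3 : T.picMatrix 2 3 = 0)
    (e_2_4 : T.picMatrix 2 4 = 1)
    (e_3_0 : T.picMatrix 3 0 = 0)
    (e_3_1 : T.picMatrix 3 1 = 1)
    (e_3_2 : T.picMatrix 3 2 = 0)
    (e_3_4 : T.picMatrix 3 4 = 0)
    (e_4_0 : T.picMatrix 4 0 = 0)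
    (e_4_1 : T.picMatrix 4 1 = 0)
    (e_4_2 : T.picMatrix 4 2 = 1)
    (e_4_3 : T.picMatrix 4 3 = 0)
    (cl : ∀ a b : Fin 5, a.val < 2 → 5 ≤ b.val → T.picMatrix a b = 0) :
    Goal T := by
  obtain ⟨hg0, hdA, hdP, hnn, hrow, hsym, hpair⟩ := ntgood_data T (by norm_num) hG
  have hm_0 := T.m_pos 0
  have hw_0 := T.w_pos 0
  have hm_1 := T.m_pos 1
  have hw_1 := T.w_pos 1
  have hm_2 := T.m_pos 2
  have hw_2 := T.w_pos 2
  have hm_3 := T.m_pos 3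
  have hw_3 := T.w_pos 3
  have hm_4 := T.m_pos 4
  have hw_4 := T.w_pos 4
  have hx_1 := hmax 1
  have hx_2 := hmax 2
  have hx_3 := hmax 3
  have hx_4 := hmax 4
  have R_0 := hrow 0
  rw [Fin.sum_univ_five, hdP 0, e_0_1, e_0_2, e_0_3, e_0_4] at R_0
  have R_1 := hrow 1
  rw [Fin.sum_univ_five, hdP 1, e_1_0, e_1_2, e_1_3, e_1_4] at R_1
  have R_2 := hrow 2
  rw [Fin.sum_univ_five, hdP 2, e_2_0, e_2_1, e_2_3, e_2_4] at R_2
  have R_3 := hrow 3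
  rw [Fin.sum_univ_five, hdP 3, e_3_0, e_3_1, e_3_2, e_3_4] at R_3
  have R_4 := hrow 4
  rw [Fin.sum_univ_five, hdP 4, e_4_0, e_4_1, e_4_2, e_4_3] at R_4
  have S_0_1 := hsym 0 1
  rw [e_0_1, e_1_0] at S_0_1
  have S_0_2 := hsym 0 2
  rw [e_0_2, e_2_0] at S_0_2
  have S_0_3 := hsym 0 3
  rw [e_0_3, e_3_0] at S_0_3
  have S_0_4 := hsym 0 4
  rw [e_0_4, e_4_0] at S_0_4
  have S_1_2 := hsym 1 2
  rw [e_1_2, e_2_1] at S_1_2
  have S_1_3 := hsym 1 3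
  rw [e_1_3, e_3_1] at S_1_3
  have S_1_4 := hsym 1 4
  rw [e_1_4, e_4_1] at S_1_4
  have S_2_3 := hsym 2 3
  rw [e_2_3, e_3_2] at S_2_3
  have S_2_4 := hsym 2 4
  rw [e_2_4, e_4_2] at S_2_4
  have S_3_4 := hsym 3 4
  rw [e_3_4, e_4_3] at S_3_4
  have D_0 := hdA 0
  have A_0_1 := nt_a_eq T 0 1
  rw [e_0_1] at A_0_1
  have A_0_2 := nt_a_eq T 0 2
  rw [e_0_2] at A_0_2
  have A_0_3 := nt_a_eq T 0 3
  rw [e_0_3] at A_0_3
  have A_0_4 := nt_a_eq T 0 4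
  rw [e_0_4] at A_0_4
  have D_1 := hdA 1
  have A_1_0 := nt_a_eq T 1 0
  rw [e_1_0] at A_1_0
  have A_1_2 := nt_a_eq T 1 2
  rw [e_1_2] at A_1_2
  have A_1_3 := nt_a_eq T 1 3
  rw [e_1_3] at A_1_3
  have A_1_4 := nt_a_eq T 1 4
  rw [e_1_4] at A_1_4
  have D_2 := hdA 2
  have A_2_0 := nt_a_eq T 2 0
  rw [e_2_0] at A_2_0
  have A_2_1 := nt_a_eq T 2 1
  rw [e_2_1] at A_2_1
  have A_2_3 := nt_a_eq T 2 3
  rw [e_2_3] at A_2_3
  have A_2_4 := nt_a_eq T 2 4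
  rw [e_2_4] at A_2_4
  have D_3 := hdA 3
  have A_3_0 := nt_a_eq T 3 0
  rw [e_3_0] at A_3_0
  have A_3_1 := nt_a_eq T 3 1
  rw [e_3_1] at A_3_1
  have A_3_2 := nt_a_eq T 3 2
  rw [e_3_2] at A_3_2
  have A_3_4 := nt_a_eq T 3 4
  rw [e_3_4] at A_3_4
  have D_4 := hdA 4
  have A_4_0 := nt_a_eq T 4 0
  rw [e_4_0] at A_4_0
  have A_4_1 := nt_a_eq T 4 1
  rw [e_4_1] at A_4_1
  have A_4_2 := nt_a_eq T 4 2
  rw [e_4_2] at A_4_2
  have A_4_3 := nt_a_eq T 4 3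
  rw [e_4_3] at A_4_3
  refine goal_of_indices T hg0 3 1 0 2 4 (by decide) (T.m 3) (T.w 3) ?_
  unfold Goali
  exact Or.inr (Or.inl ⟨by omega, by omega, by omega, by omega, by omega, by omega, by omega, by omega, by omega, by omega, by omega, by omega, by omega, by omega, by omega, by omega, by omega, by omega, by omega, by omega, by omega, by omega, by omega, by omega, by omega⟩)

theorem ex_137 (T : Models.NumericalType 5)
    (hG : NTGood T)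
    (hmax : ∀ j, T.m j ≤ T.m 0)
    (e_0_1 : T.picMatrix 0 1 = 1)
    (e_0_2 : T.picMatrix 0 2 = 2)
    (e_0_3 : T.picMatrix 0 3 = 0)
    (e_1_0 : T.picMatrix 1 0 = 1)
    (e_1_2 : T.picMatrix 1 2 = 0)
    (e_1_3 : T.picMatrix 1 3 = 1)
    (e_2_0 : T.picMatrix 2 0 = 1)
    (e_2_1 : T.picMatrix 2 1 = 0)
    (e_2_3 : T.picMatrix 2 3 = 0)
    (e_3_0 : T.picMatrix 3 0 = 0)
    (e_3_1 : T.picMatrix 3 1 = 1)
    (e_3_2 : T.picMatrix 3 2 = 0)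
    (cl : ∀ a b : Fin 5, a.val < 2 → 5 ≤ b.val → T.picMatrix a b = 0)
    (z : ∀ a : Fin 5, a.val < 2 → T.picMatrix a 4 = 0)
    (hne : T.picMatrix 2 4 ≠ 0) :
    Goal T := by
  have e_0_4 : T.picMatrix 0 4 = 0 := z 0 (by decide)
  have e_4_0 : T.picMatrix 4 0 = 0 := nt_pic_zero_symm T 0 4 e_0_4
  have e_1_4 : T.picMatrix 1 4 = 0 := z 1 (by decide)
  have e_4_1 : T.picMatrix 4 1 = 0 := nt_pic_zero_symm T 1 4 e_1_4
  obtain ⟨hg0, hdA, hdP, hnn, hrow, hsym, hpair⟩ := ntgood_data T (by norm_num) hG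
  have hm_0 := T.m_pos 0
  have hw_0 := T.w_pos 0
  have hm_1 := T.m_pos 1
  have hw_1 := T.w_pos 1
  have hm_2 := T.m_pos 2
  have hw_2 := T.w_pos 2
  have hm_3 := T.m_pos 3
  have hw_3 := T.w_pos 3
  have hm_4 := T.m_pos 4
  have hw_4 := T.w_pos 4
  have hx_1 := hmax 1
  have hx_2 := hmax 2
  have hx_3 := hmax 3
  have hx_4 := hmax 4
  have N_2_4 := mul_nonneg (hnn 2 4 (by decide)) (T.m_pos 4).le
  have N_4_2 := mul_nonneg (hnn 4 2 (by decide)) (T.m_pos 2).le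
  have N_3_4 := mul_nonneg (hnn 3 4 (by decide)) (T.m_pos 4).le
  have N_4_3 := mul_nonneg (hnn 4 3 (by decide)) (T.m_pos 3).le
  have R_0 := hrow 0
  rw [Fin.sum_univ_five, hdP 0, e_0_1, e_0_2, e_0_3, e_0_4] at R_0
  have R_1 := hrow 1
  rw [Fin.sum_univ_five, hdP 1, e_1_0, e_1_2, e_1_3, e_1_4] at R_1
  have R_2 := hrow 2
  rw [Fin.sum_univ_five, hdP 2, e_2_0, e_2_1, e_2_3] at R_2
  have R_3 := hrow 3
  rw [Fin.sum_univ_five, hdP 3, e_3_0, e_3_1, e_3_2] at R_3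
  have R_4 := hrow 4
  rw [Fin.sum_univ_five, hdP 4, e_4_0, e_4_1] at R_4
  have S_0_1 := hsym 0 1
  rw [e_0_1, e_1_0] at S_0_1
  have S_0_2 := hsym 0 2
  rw [e_0_2, e_2_0] at S_0_2
  have S_0_3 := hsym 0 3
  rw [e_0_3, e_3_0] at S_0_3
  have S_0_4 := hsym 0 4
  rw [e_0_4, e_4_0] at S_0_4
  have S_1_2 := hsym 1 2
  rw [e_1_2, e_2_1] at S_1_2
  have S_1_3 := hsym 1 3
  rw [e_1_3, e_3_1] at S_1_3
  have S_1_4 := hsym 1 4
  rw [e_1_4, e_4_1] at S_1_4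
  have S_2_3 := hsym 2 3
  rw [e_2_3, e_3_2] at S_2_3
  have S_2_4 := hsym 2 4
  have S_3_4 := hsym 3 4
  have Q_2 := hpair 2 4 (by decide)
  have Q_3 := hpair 3 4 (by decide)
  generalize e_2_4 : T.picMatrix 2 4 = x_2 at *
  generalize e_4_2 : T.picMatrix 4 2 = y_2 at *
  generalize e_3_4 : T.picMatrix 3 4 = x_3 at *
  generalize e_4_3 : T.picMatrix 4 3 = y_3 at *
  rcases Q_2 with ⟨rfl, rfl⟩ | ⟨rfl, rfl⟩ | ⟨rfl, rfl⟩ | ⟨rfl, rfl⟩ | ⟨rfl, rfl⟩ | ⟨rfl, rfl⟩ | ⟨rfl, rfl⟩ | ⟨rfl, rfl⟩ | ⟨rfl, rfl⟩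
  · exact absurd rfl hne
  · -- (2,4) = (1,1)
    rcases Q_3 with ⟨rfl, rfl⟩ | ⟨rfl, rfl⟩ | ⟨rfl, rfl⟩ | ⟨rfl, rfl⟩ | ⟨rfl, rfl⟩ | ⟨rfl, rfl⟩ | ⟨rfl, rfl⟩ | ⟨rfl, rfl⟩ | ⟨rfl, rfl⟩
    · -- (3,4) = (0,0)
      exact nd_138 T hG hmax e_0_1 e_0_2 e_0_3 e_0_4 e_1_0 e_1_2 e_1_3 e_1_4 e_2_0 e_2_1 e_2_3 e_2_4 e_3_0 e_3_1 e_3_2 e_3_4 e_4_0 e_4_1 e_4_2 e_4_3 cl
    · -- (3,4) = (1,1)
      omega
    · -- (3,4) = (1,2)
      omega
    · -- (3,4) = (2,1)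
      omega
    · -- (3,4) = (1,3)
      omega
    · -- (3,4) = (3,1)
      omega
    · -- (3,4) = (1,4)
      omega
    · -- (3,4) = (4,1)
      omega
    · -- (3,4) = (2,2)
      omega
  · omega
  · omega
  · omega
  · omega
  · omega
  · omega
  · omega

theorem nd_131 (T : Models.NumericalType 5)
    (hG : NTGood T)
    (hmax : ∀ j, T.m j ≤ T.m 0)
    (e_0_1 : T.picMatrix 0 1 = 1)
    (e_0_2 : T.picMatrix 0 2 = 2)
    (e_0_3 : T.picMatrix 0 3 = 0)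
    (e_1_0 : T.picMatrix 1 0 = 1)
    (e_1_2 : T.picMatrix 1 2 = 0)
    (e_1_3 : T.picMatrix 1 3 = 1)
    (e_2_0 : T.picMatrix 2 0 = 1)
    (e_2_1 : T.picMatrix 2 1 = 0)
    (e_2_3 : T.picMatrix 2 3 = 0)
    (e_3_0 : T.picMatrix 3 0 = 0)
    (e_3_1 : T.picMatrix 3 1 = 1)
    (e_3_2 : T.picMatrix 3 2 = 0)
    (cl : ∀ a b : Fin 5, a.val < 2 → 4 ≤ b.val → T.picMatrix a b = 0) :
    Goal T := by
  by_cases hc : ∀ b : Fin 5, 4 ≤ b.val → T.picMatrix 2 b = 0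
  · exact nd_132 T hG hmax e_0_1 e_0_2 e_0_3 e_1_0 e_1_2 e_1_3 e_2_0 e_2_1 e_2_3 e_3_0 e_3_1 e_3_2 (nt_cl_succ T 4 2 2 rfl cl hc)
  · obtain ⟨τ, hfix, cl', z, hne⟩ := nt_wlog_step T 4 (by norm_num) 2 (by norm_num) 2 (by decide) cl hc
    apply goal_relabel T τ
    refine ex_137 (ntRelabel T τ) (hG.relabel τ) ?_ ?_ ?_ ?_ ?_ ?_ ?_ ?_ ?_ ?_ ?_ ?_ ?_ cl' z hne
    · intro j
      show T.m (τ j) ≤ T.m (τ 0)
      rw [hfix 0 (by decide)]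
      exact hmax _
    · show T.picMatrix (τ 0) (τ 1) = 1
      rw [hfix 0 (by decide), hfix 1 (by decide)]
      exact e_0_1
    · show T.picMatrix (τ 0) (τ 2) = 2
      rw [hfix 0 (by decide), hfix 2 (by decide)]
      exact e_0_2
    · show T.picMatrix (τ 0) (τ 3) = 0
      rw [hfix 0 (by decide), hfix 3 (by decide)]
      exact e_0_3
    · show T.picMatrix (τ 1) (τ 0) = 1
      rw [hfix 1 (by decide), hfix 0 (by decide)]
      exact e_1_0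
    · show T.picMatrix (τ 1) (τ 2) = 0
      rw [hfix 1 (by decide), hfix 2 (by decide)]
      exact e_1_2
    · show T.picMatrix (τ 1) (τ 3) = 1
      rw [hfix 1 (by decide), hfix 3 (by decide)]
      exact e_1_3
    · show T.picMatrix (τ 2) (τ 0) = 1
      rw [hfix 2 (by decide), hfix 0 (by decide)]
      exact e_2_0
    · show T.picMatrix (τ 2) (τ 1) = 0
      rw [hfix 2 (by decide), hfix 1 (by decide)]
      exact e_2_1
    · show T.picMatrix (τ 2) (τ 3) = 0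
      rw [hfix 2 (by decide), hfix 3 (by decide)]
      exact e_2_3
    · show T.picMatrix (τ 3) (τ 0) = 0
      rw [hfix 3 (by decide), hfix 0 (by decide)]
      exact e_3_0
    · show T.picMatrix (τ 3) (τ 1) = 1
      rw [hfix 3 (by decide), hfix 1 (by decide)]
      exact e_3_1
    · show T.picMatrix (τ 3) (τ 2) = 0
      rw [hfix 3 (by decide), hfix 2 (by decide)]
      exact e_3_2

theorem nd_140 (T : Models.NumericalType 5)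
    (hG : NTGood T)
    (hmax : ∀ j, T.m j ≤ T.m 0)
    (e_0_1 : T.picMatrix 0 1 = 1)
    (e_0_2 : T.picMatrix 0 2 = 2)
    (e_0_3 : T.picMatrix 0 3 = 0)
    (e_0_4 : T.picMatrix 0 4 = 0)
    (e_1_0 : T.picMatrix 1 0 = 1)
    (e_1_2 : T.picMatrix 1 2 = 0)
    (e_1_3 : T.picMatrix 1 3 = 1)
    (e_1_4 : T.picMatrix 1 4 = 1)
    (e_2_0 : T.picMatrix 2 0 = 1)
    (e_2_1 : T.picMatrix 2 1 = 0)
    (e_2_3 : T.picMatrix 2 3 = 0)
    (e_2_4 : T.picMatrix 2 4 = 0)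
    (e_3_0 : T.picMatrix 3 0 = 0)
    (e_3_1 : T.picMatrix 3 1 = 1)
    (e_3_2 : T.picMatrix 3 2 = 0)
    (e_3_4 : T.picMatrix 3 4 = 0)
    (e_4_0 : T.picMatrix 4 0 = 0)
    (e_4_1 : T.picMatrix 4 1 = 1)
    (e_4_2 : T.picMatrix 4 2 = 0)
    (e_4_3 : T.picMatrix 4 3 = 0)
    (cl : ∀ a b : Fin 5, a.val < 1 → 5 ≤ b.val → T.picMatrix a b = 0) :
    Goal T := by
  obtain ⟨hg0, hdA, hdP, hnn, hrow, hsym, hpair⟩ := ntgood_data T (by norm_num) hG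
  have hm_0 := T.m_pos 0
  have hw_0 := T.w_pos 0
  have hm_1 := T.m_pos 1
  have hw_1 := T.w_pos 1
  have hm_2 := T.m_pos 2
  have hw_2 := T.w_pos 2
  have hm_3 := T.m_pos 3
  have hw_3 := T.w_pos 3
  have hm_4 := T.m_pos 4
  have hw_4 := T.w_pos 4
  have hx_1 := hmax 1
  have hx_2 := hmax 2
  have hx_3 := hmax 3
  have hx_4 := hmax 4
  have R_0 := hrow 0
  rw [Fin.sum_univ_five, hdP 0, e_0_1, e_0_2, e_0_3, e_0_4] at R_0
  have R_1 := hrow 1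
  rw [Fin.sum_univ_five, hdP 1, e_1_0, e_1_2, e_1_3, e_1_4] at R_1
  have R_2 := hrow 2
  rw [Fin.sum_univ_five, hdP 2, e_2_0, e_2_1, e_2_3, e_2_4] at R_2
  have R_3 := hrow 3
  rw [Fin.sum_univ_five, hdP 3, e_3_0, e_3_1, e_3_2, e_3_4] at R_3
  have R_4 := hrow 4
  rw [Fin.sum_univ_five, hdP 4, e_4_0, e_4_1, e_4_2, e_4_3] at R_4
  have S_0_1 := hsym 0 1
  rw [e_0_1, e_1_0] at S_0_1
  have S_0_2 := hsym 0 2
  rw [e_0_2, e_2_0] at S_0_2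
  have S_0_3 := hsym 0 3
  rw [e_0_3, e_3_0] at S_0_3
  have S_0_4 := hsym 0 4
  rw [e_0_4, e_4_0] at S_0_4
  have S_1_2 := hsym 1 2
  rw [e_1_2, e_2_1] at S_1_2
  have S_1_3 := hsym 1 3
  rw [e_1_3, e_3_1] at S_1_3
  have S_1_4 := hsym 1 4
  rw [e_1_4, e_4_1] at S_1_4
  have S_2_3 := hsym 2 3
  rw [e_2_3, e_3_2] at S_2_3
  have S_2_4 := hsym 2 4
  rw [e_2_4, e_4_2] at S_2_4
  have S_3_4 := hsym 3 4
  rw [e_3_4, e_4_3] at S_3_4
  have D_0 := hdA 0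
  have A_0_1 := nt_a_eq T 0 1
  rw [e_0_1] at A_0_1
  have A_0_2 := nt_a_eq T 0 2
  rw [e_0_2] at A_0_2
  have A_0_3 := nt_a_eq T 0 3
  rw [e_0_3] at A_0_3
  have A_0_4 := nt_a_eq T 0 4
  rw [e_0_4] at A_0_4
  have D_1 := hdA 1
  have A_1_0 := nt_a_eq T 1 0
  rw [e_1_0] at A_1_0
  have A_1_2 := nt_a_eq T 1 2
  rw [e_1_2] at A_1_2
  have A_1_3 := nt_a_eq T 1 3
  rw [e_1_3] at A_1_3
  have A_1_4 := nt_a_eq T 1 4
  rw [e_1_4] at A_1_4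
  have D_2 := hdA 2
  have A_2_0 := nt_a_eq T 2 0
  rw [e_2_0] at A_2_0
  have A_2_1 := nt_a_eq T 2 1
  rw [e_2_1] at A_2_1
  have A_2_3 := nt_a_eq T 2 3
  rw [e_2_3] at A_2_3
  have A_2_4 := nt_a_eq T 2 4
  rw [e_2_4] at A_2_4
  have D_3 := hdA 3
  have A_3_0 := nt_a_eq T 3 0
  rw [e_3_0] at A_3_0
  have A_3_1 := nt_a_eq T 3 1
  rw [e_3_1] at A_3_1
  have A_3_2 := nt_a_eq T 3 2
  rw [e_3_2] at A_3_2
  have A_3_4 := nt_a_eq T 3 4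
  rw [e_3_4] at A_3_4
  have D_4 := hdA 4
  have A_4_0 := nt_a_eq T 4 0
  rw [e_4_0] at A_4_0
  have A_4_1 := nt_a_eq T 4 1
  rw [e_4_1] at A_4_1
  have A_4_2 := nt_a_eq T 4 2
  rw [e_4_2] at A_4_2
  have A_4_3 := nt_a_eq T 4 3
  rw [e_4_3] at A_4_3
  refine goal_of_indices T hg0 2 0 1 3 4 (by decide) (T.m 2) (T.w 0) ?_
  unfold Goali
  exact Or.inr (Or.inr (Or.inr (Or.inr (Or.inr (Or.inr (Or.inr (Or.inl ⟨by omega, by omega, by omega, by omega, by omega, by omega, by omega, by omega, by omega, by omega, by omega, by omega, by omega, by omega, by omega, by omega, by omega, by omega, by omega, by omega, by omega, by omega, by omega, by omega, by omega⟩)))))))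

theorem ex_139 (T : Models.NumericalType 5)
    (hG : NTGood T)
    (hmax : ∀ j, T.m j ≤ T.m 0)
    (e_0_1 : T.picMatrix 0 1 = 1)
    (e_0_2 : T.picMatrix 0 2 = 2)
    (e_0_3 : T.picMatrix 0 3 = 0)
    (e_1_0 : T.picMatrix 1 0 = 1)
    (e_1_2 : T.picMatrix 1 2 = 0)
    (e_1_3 : T.picMatrix 1 3 = 1)
    (e_2_0 : T.picMatrix 2 0 = 1)
    (e_2_1 : T.picMatrix 2 1 = 0)
    (e_2_3 : T.picMatrix 2 3 = 0)
    (e_3_0 : T.picMatrix 3 0 = 0)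
    (e_3_1 : T.picMatrix 3 1 = 1)
    (e_3_2 : T.picMatrix 3 2 = 0)
    (cl : ∀ a b : Fin 5, a.val < 1 → 5 ≤ b.val → T.picMatrix a b = 0)
    (z : ∀ a : Fin 5, a.val < 1 → T.picMatrix a 4 = 0)
    (hne : T.picMatrix 1 4 ≠ 0) :
    Goal T := by
  have e_0_4 : T.picMatrix 0 4 = 0 := z 0 (by decide)
  have e_4_0 : T.picMatrix 4 0 = 0 := nt_pic_zero_symm T 0 4 e_0_4
  obtain ⟨hg0, hdA, hdP, hnn, hrow, hsym, hpair⟩ := ntgood_data T (by norm_num) hG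
  have hm_0 := T.m_pos 0
  have hw_0 := T.w_pos 0
  have hm_1 := T.m_pos 1
  have hw_1 := T.w_pos 1
  have hm_2 := T.m_pos 2
  have hw_2 := T.w_pos 2
  have hm_3 := T.m_pos 3
  have hw_3 := T.w_pos 3
  have hm_4 := T.m_pos 4
  have hw_4 := T.w_pos 4
  have hx_1 := hmax 1
  have hx_2 := hmax 2
  have hx_3 := hmax 3
  have hx_4 := hmax 4
  have N_1_4 := mul_nonneg (hnn 1 4 (by decide)) (T.m_pos 4).le
  have N_4_1 := mul_nonneg (hnn 4 1 (by decide)) (T.m_pos 1).le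
  have N_2_4 := mul_nonneg (hnn 2 4 (by decide)) (T.m_pos 4).le
  have N_4_2 := mul_nonneg (hnn 4 2 (by decide)) (T.m_pos 2).le
  have N_3_4 := mul_nonneg (hnn 3 4 (by decide)) (T.m_pos 4).le
  have N_4_3 := mul_nonneg (hnn 4 3 (by decide)) (T.m_pos 3).le
  have R_0 := hrow 0
  rw [Fin.sum_univ_five, hdP 0, e_0_1, e_0_2, e_0_3, e_0_4] at R_0
  have R_1 := hrow 1
  rw [Fin.sum_univ_five, hdP 1, e_1_0, e_1_2, e_1_3] at R_1
  have R_2 := hrow 2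
  rw [Fin.sum_univ_five, hdP 2, e_2_0, e_2_1, e_2_3] at R_2
  have R_3 := hrow 3
  rw [Fin.sum_univ_five, hdP 3, e_3_0, e_3_1, e_3_2] at R_3
  have R_4 := hrow 4
  rw [Fin.sum_univ_five, hdP 4, e_4_0] at R_4
  have S_0_1 := hsym 0 1
  rw [e_0_1, e_1_0] at S_0_1
  have S_0_2 := hsym 0 2
  rw [e_0_2, e_2_0] at S_0_2
  have S_0_3 := hsym 0 3
  rw [e_0_3, e_3_0] at S_0_3
  have S_0_4 := hsym 0 4
  rw [e_0_4, e_4_0] at S_0_4
  have S_1_2 := hsym 1 2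
  rw [e_1_2, e_2_1] at S_1_2
  have S_1_3 := hsym 1 3
  rw [e_1_3, e_3_1] at S_1_3
  have S_1_4 := hsym 1 4
  have S_2_3 := hsym 2 3
  rw [e_2_3, e_3_2] at S_2_3
  have S_2_4 := hsym 2 4
  have S_3_4 := hsym 3 4
  have Q_1 := hpair 1 4 (by decide)
  have Q_2 := hpair 2 4 (by decide)
  have Q_3 := hpair 3 4 (by decide)
  generalize e_1_4 : T.picMatrix 1 4 = x_1 at *
  generalize e_4_1 : T.picMatrix 4 1 = y_1 at *
  generalize e_2_4 : T.picMatrix 2 4 = x_2 at *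
  generalize e_4_2 : T.picMatrix 4 2 = y_2 at *
  generalize e_3_4 : T.picMatrix 3 4 = x_3 at *
  generalize e_4_3 : T.picMatrix 4 3 = y_3 at *
  rcases Q_1 with ⟨rfl, rfl⟩ | ⟨rfl, rfl⟩ | ⟨rfl, rfl⟩ | ⟨rfl, rfl⟩ | ⟨rfl, rfl⟩ | ⟨rfl, rfl⟩ | ⟨rfl, rfl⟩ | ⟨rfl, rfl⟩ | ⟨rfl, rfl⟩
  · exact absurd rfl hne
  · -- (1,4) = (1,1)
    rcases Q_2 with ⟨rfl, rfl⟩ | ⟨rfl, rfl⟩ | ⟨rfl, rfl⟩ | ⟨rfl, rfl⟩ | ⟨rfl, rfl⟩ | ⟨rfl, rfl⟩ | ⟨rfl, rfl⟩ | ⟨rfl, rfl⟩ | ⟨rfl, rfl⟩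
    · -- (2,4) = (0,0)
      rcases Q_3 with ⟨rfl, rfl⟩ | ⟨rfl, rfl⟩ | ⟨rfl, rfl⟩ | ⟨rfl, rfl⟩ | ⟨rfl, rfl⟩ | ⟨rfl, rfl⟩ | ⟨rfl, rfl⟩ | ⟨rfl, rfl⟩ | ⟨rfl, rfl⟩
      · -- (3,4) = (0,0)
        exact nd_140 T hG hmax e_0_1 e_0_2 e_0_3 e_0_4 e_1_0 e_1_2 e_1_3 e_1_4 e_2_0 e_2_1 e_2_3 e_2_4 e_3_0 e_3_1 e_3_2 e_3_4 e_4_0 e_4_1 e_4_2 e_4_3 cl
      · -- (3,4) = (1,1)
        omega
      · -- (3,4) = (1,2)
        omega
      · -- (3,4) = (2,1)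
        omega
      · -- (3,4) = (1,3)
        omega
      · -- (3,4) = (3,1)
        omega
      · -- (3,4) = (1,4)
        omega
      · -- (3,4) = (4,1)
        omega
      · -- (3,4) = (2,2)
        omega
    · omega
    · omega
    · omega
    · omega
    · omega
    · omega
    · omega
    · omega
  · omega
  · omega
  · omega
  · omega
  · omega
  · omega
  · omega

theorem nd_130 (T : Models.NumericalType 5)
    (hG : NTGood T)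
    (hmax : ∀ j, T.m j ≤ T.m 0)
    (e_0_1 : T.picMatrix 0 1 = 1)
    (e_0_2 : T.picMatrix 0 2 = 2)
    (e_0_3 : T.picMatrix 0 3 = 0)
    (e_1_0 : T.picMatrix 1 0 = 1)
    (e_1_2 : T.picMatrix 1 2 = 0)
    (e_1_3 : T.picMatrix 1 3 = 1)
    (e_2_0 : T.picMatrix 2 0 = 1)
    (e_2_1 : T.picMatrix 2 1 = 0)
    (e_2_3 : T.picMatrix 2 3 = 0)
    (e_3_0 : T.picMatrix 3 0 = 0)
    (e_3_1 : T.picMatrix 3 1 = 1)
    (e_3_2 : T.picMatrix 3 2 = 0)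
    (cl : ∀ a b : Fin 5, a.val < 1 → 4 ≤ b.val → T.picMatrix a b = 0) :
    Goal T := by
  by_cases hc : ∀ b : Fin 5, 4 ≤ b.val → T.picMatrix 1 b = 0
  · exact nd_131 T hG hmax e_0_1 e_0_2 e_0_3 e_1_0 e_1_2 e_1_3 e_2_0 e_2_1 e_2_3 e_3_0 e_3_1 e_3_2 (nt_cl_succ T 4 1 1 rfl cl hc)
  · obtain ⟨τ, hfix, cl', z, hne⟩ := nt_wlog_step T 4 (by norm_num) 1 (by norm_num) 1 (by decide) cl hc
    apply goal_relabel T τ
    refine ex_139 (ntRelabel T τ) (hG.relabel τ) ?_ ?_ ?_ ?_ ?_ ?_ ?_ ?_ ?_ ?_ ?_ ?_ ?_ cl' z hne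
    · intro j
      show T.m (τ j) ≤ T.m (τ 0)
      rw [hfix 0 (by decide)]
      exact hmax _
    · show T.picMatrix (τ 0) (τ 1) = 1
      rw [hfix 0 (by decide), hfix 1 (by decide)]
      exact e_0_1
    · show T.picMatrix (τ 0) (τ 2) = 2
      rw [hfix 0 (by decide), hfix 2 (by decide)]
      exact e_0_2
    · show T.picMatrix (τ 0) (τ 3) = 0
      rw [hfix 0 (by decide), hfix 3 (by decide)]
      exact e_0_3
    · show T.picMatrix (τ 1) (τ 0) = 1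
      rw [hfix 1 (by decide), hfix 0 (by decide)]
      exact e_1_0
    · show T.picMatrix (τ 1) (τ 2) = 0
      rw [hfix 1 (by decide), hfix 2 (by decide)]
      exact e_1_2
    · show T.picMatrix (τ 1) (τ 3) = 1
      rw [hfix 1 (by decide), hfix 3 (by decide)]
      exact e_1_3
    · show T.picMatrix (τ 2) (τ 0) = 1
      rw [hfix 2 (by decide), hfix 0 (by decide)]
      exact e_2_0
    · show T.picMatrix (τ 2) (τ 1) = 0
      rw [hfix 2 (by decide), hfix 1 (by decide)]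
      exact e_2_1
    · show T.picMatrix (τ 2) (τ 3) = 0
      rw [hfix 2 (by decide), hfix 3 (by decide)]
      exact e_2_3
    · show T.picMatrix (τ 3) (τ 0) = 0
      rw [hfix 3 (by decide), hfix 0 (by decide)]
      exact e_3_0
    · show T.picMatrix (τ 3) (τ 1) = 1
      rw [hfix 3 (by decide), hfix 1 (by decide)]
      exact e_3_1
    · show T.picMatrix (τ 3) (τ 2) = 0
      rw [hfix 3 (by decide), hfix 2 (by decide)]
      exact e_3_2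

theorem nd_144 (T : Models.NumericalType 5)
    (hG : NTGood T)
    (hmax : ∀ j, T.m j ≤ T.m 0)
    (e_0_1 : T.picMatrix 0 1 = 1)
    (e_0_2 : T.picMatrix 0 2 = 2)
    (e_0_3 : T.picMatrix 0 3 = 0)
    (e_1_0 : T.picMatrix 1 0 = 1)
    (e_1_2 : T.picMatrix 1 2 = 0)
    (e_1_3 : T.picMatrix 1 3 = 1)
    (e_2_0 : T.picMatrix 2 0 = 1)
    (e_2_1 : T.picMatrix 2 1 = 0)
    (e_2_3 : T.picMatrix 2 3 = 0)
    (e_3_0 : T.picMatrix 3 0 = 0)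
    (e_3_1 : T.picMatrix 3 1 = 2)
    (e_3_2 : T.picMatrix 3 2 = 0)
    (cl : ∀ a b : Fin 5, a.val < 4 → 4 ≤ b.val → T.picMatrix a b = 0) :
    Goal T := by
  exact (nt_closed_false T 4 (by norm_num) (by norm_num) cl).elim

theorem ex_145 (T : Models.NumericalType 5)
    (hG : NTGood T)
    (hmax : ∀ j, T.m j ≤ T.m 0)
    (e_0_1 : T.picMatrix 0 1 = 1)
    (e_0_2 : T.picMatrix 0 2 = 2)
    (e_0_3 : T.picMatrix 0 3 = 0)
    (e_1_0 : T.picMatrix 1 0 = 1)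
    (e_1_2 : T.picMatrix 1 2 = 0)
    (e_1_3 : T.picMatrix 1 3 = 1)
    (e_2_0 : T.picMatrix 2 0 = 1)
    (e_2_1 : T.picMatrix 2 1 = 0)
    (e_2_3 : T.picMatrix 2 3 = 0)
    (e_3_0 : T.picMatrix 3 0 = 0)
    (e_3_1 : T.picMatrix 3 1 = 2)
    (e_3_2 : T.picMatrix 3 2 = 0)
    (cl : ∀ a b : Fin 5, a.val < 3 → 5 ≤ b.val → T.picMatrix a b = 0)
    (z : ∀ a : Fin 5, a.val < 3 → T.picMatrix a 4 = 0)
    (hne : T.picMatrix 3 4 ≠ 0) :
    Goal T := by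
  have e_0_4 : T.picMatrix 0 4 = 0 := z 0 (by decide)
  have e_4_0 : T.picMatrix 4 0 = 0 := nt_pic_zero_symm T 0 4 e_0_4
  have e_1_4 : T.picMatrix 1 4 = 0 := z 1 (by decide)
  have e_4_1 : T.picMatrix 4 1 = 0 := nt_pic_zero_symm T 1 4 e_1_4
  have e_2_4 : T.picMatrix 2 4 = 0 := z 2 (by decide)
  have e_4_2 : T.picMatrix 4 2 = 0 := nt_pic_zero_symm T 2 4 e_2_4
  obtain ⟨hg0, hdA, hdP, hnn, hrow, hsym, hpair⟩ := ntgood_data T (by norm_num) hG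
  have hm_0 := T.m_pos 0
  have hw_0 := T.w_pos 0
  have hm_1 := T.m_pos 1
  have hw_1 := T.w_pos 1
  have hm_2 := T.m_pos 2
  have hw_2 := T.w_pos 2
  have hm_3 := T.m_pos 3
  have hw_3 := T.w_pos 3
  have hm_4 := T.m_pos 4
  have hw_4 := T.w_pos 4
  have hx_1 := hmax 1
  have hx_2 := hmax 2
  have hx_3 := hmax 3
  have hx_4 := hmax 4
  have N_3_4 := mul_nonneg (hnn 3 4 (by decide)) (T.m_pos 4).le
  have N_4_3 := mul_nonneg (hnn 4 3 (by decide)) (T.m_pos 3).le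
  have R_0 := hrow 0
  rw [Fin.sum_univ_five, hdP 0, e_0_1, e_0_2, e_0_3, e_0_4] at R_0
  have R_1 := hrow 1
  rw [Fin.sum_univ_five, hdP 1, e_1_0, e_1_2, e_1_3, e_1_4] at R_1
  have R_2 := hrow 2
  rw [Fin.sum_univ_five, hdP 2, e_2_0, e_2_1, e_2_3, e_2_4] at R_2
  have R_3 := hrow 3
  rw [Fin.sum_univ_five, hdP 3, e_3_0, e_3_1, e_3_2] at R_3
  have R_4 := hrow 4
  rw [Fin.sum_univ_five, hdP 4, e_4_0, e_4_1, e_4_2] at R_4
  have S_0_1 := hsym 0 1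
  rw [e_0_1, e_1_0] at S_0_1
  have S_0_2 := hsym 0 2
  rw [e_0_2, e_2_0] at S_0_2
  have S_0_3 := hsym 0 3
  rw [e_0_3, e_3_0] at S_0_3
  have S_0_4 := hsym 0 4
  rw [e_0_4, e_4_0] at S_0_4
  have S_1_2 := hsym 1 2
  rw [e_1_2, e_2_1] at S_1_2
  have S_1_3 := hsym 1 3
  rw [e_1_3, e_3_1] at S_1_3
  have S_1_4 := hsym 1 4
  rw [e_1_4, e_4_1] at S_1_4
  have S_2_3 := hsym 2 3
  rw [e_2_3, e_3_2] at S_2_3
  have S_2_4 := hsym 2 4
  rw [e_2_4, e_4_2] at S_2_4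
  have S_3_4 := hsym 3 4
  have Q_3 := hpair 3 4 (by decide)
  generalize e_3_4 : T.picMatrix 3 4 = x_3 at *
  generalize e_4_3 : T.picMatrix 4 3 = y_3 at *
  rcases Q_3 with ⟨rfl, rfl⟩ | ⟨rfl, rfl⟩ | ⟨rfl, rfl⟩ | ⟨rfl, rfl⟩ | ⟨rfl, rfl⟩ | ⟨rfl, rfl⟩ | ⟨rfl, rfl⟩ | ⟨rfl, rfl⟩ | ⟨rfl, rfl⟩
  · exact absurd rfl hne
  · -- (3,4) = (1,1)
    omega
  · -- (3,4) = (1,2)
    omega
  · -- (3,4) = (2,1)
    omega
  · -- (3,4) = (1,3)
    omega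
  · -- (3,4) = (3,1)
    omega
  · -- (3,4) = (1,4)
    omega
  · -- (3,4) = (4,1)
    omega
  · -- (3,4) = (2,2)
    omega

theorem nd_143 (T : Models.NumericalType 5)
    (hG : NTGood T)
    (hmax : ∀ j, T.m j ≤ T.m 0)
    (e_0_1 : T.picMatrix 0 1 = 1)
    (e_0_2 : T.picMatrix 0 2 = 2)
    (e_0_3 : T.picMatrix 0 3 = 0)
    (e_1_0 : T.picMatrix 1 0 = 1)
    (e_1_2 : T.picMatrix 1 2 = 0)
    (e_1_3 : T.picMatrix 1 3 = 1)
    (e_2_0 : T.picMatrix 2 0 = 1)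
    (e_2_1 : T.picMatrix 2 1 = 0)
    (e_2_3 : T.picMatrix 2 3 = 0)
    (e_3_0 : T.picMatrix 3 0 = 0)
    (e_3_1 : T.picMatrix 3 1 = 2)
    (e_3_2 : T.picMatrix 3 2 = 0)
    (cl : ∀ a b : Fin 5, a.val < 3 → 4 ≤ b.val → T.picMatrix a b = 0) :
    Goal T := by
  by_cases hc : ∀ b : Fin 5, 4 ≤ b.val → T.picMatrix 3 b = 0
  · exact nd_144 T hG hmax e_0_1 e_0_2 e_0_3 e_1_0 e_1_2 e_1_3 e_2_0 e_2_1 e_2_3 e_3_0 e_3_1 e_3_2 (nt_cl_succ T 4 3 3 rfl cl hc)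
  · obtain ⟨τ, hfix, cl', z, hne⟩ := nt_wlog_step T 4 (by norm_num) 3 (by norm_num) 3 (by decide) cl hc
    apply goal_relabel T τ
    refine ex_145 (ntRelabel T τ) (hG.relabel τ) ?_ ?_ ?_ ?_ ?_ ?_ ?_ ?_ ?_ ?_ ?_ ?_ ?_ cl' z hne
    · intro j
      show T.m (τ j) ≤ T.m (τ 0)
      rw [hfix 0 (by decide)]
      exact hmax _
    · show T.picMatrix (τ 0) (τ 1) = 1
      rw [hfix 0 (by decide), hfix 1 (by decide)]
      exact e_0_1
    · show T.picMatrix (τ 0) (τ 2) = 2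
      rw [hfix 0 (by decide), hfix 2 (by decide)]
      exact e_0_2
    · show T.picMatrix (τ 0) (τ 3) = 0
      rw [hfix 0 (by decide), hfix 3 (by decide)]
      exact e_0_3
    · show T.picMatrix (τ 1) (τ 0) = 1
      rw [hfix 1 (by decide), hfix 0 (by decide)]
      exact e_1_0
    · show T.picMatrix (τ 1) (τ 2) = 0
      rw [hfix 1 (by decide), hfix 2 (by decide)]
      exact e_1_2
    · show T.picMatrix (τ 1) (τ 3) = 1
      rw [hfix 1 (by decide), hfix 3 (by decide)]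
      exact e_1_3
    · show T.picMatrix (τ 2) (τ 0) = 1
      rw [hfix 2 (by decide), hfix 0 (by decide)]
      exact e_2_0
    · show T.picMatrix (τ 2) (τ 1) = 0
      rw [hfix 2 (by decide), hfix 1 (by decide)]
      exact e_2_1
    · show T.picMatrix (τ 2) (τ 3) = 0
      rw [hfix 2 (by decide), hfix 3 (by decide)]
      exact e_2_3
    · show T.picMatrix (τ 3) (τ 0) = 0
      rw [hfix 3 (by decide), hfix 0 (by decide)]
      exact e_3_0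
    · show T.picMatrix (τ 3) (τ 1) = 2
      rw [hfix 3 (by decide), hfix 1 (by decide)]
      exact e_3_1
    · show T.picMatrix (τ 3) (τ 2) = 0
      rw [hfix 3 (by decide), hfix 2 (by decide)]
      exact e_3_2

theorem ex_146 (T : Models.NumericalType 5)
    (hG : NTGood T)
    (hmax : ∀ j, T.m j ≤ T.m 0)
    (e_0_1 : T.picMatrix 0 1 = 1)
    (e_0_2 : T.picMatrix 0 2 = 2)
    (e_0_3 : T.picMatrix 0 3 = 0)
    (e_1_0 : T.picMatrix 1 0 = 1)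
    (e_1_2 : T.picMatrix 1 2 = 0)
    (e_1_3 : T.picMatrix 1 3 = 1)
    (e_2_0 : T.picMatrix 2 0 = 1)
    (e_2_1 : T.picMatrix 2 1 = 0)
    (e_2_3 : T.picMatrix 2 3 = 0)
    (e_3_0 : T.picMatrix 3 0 = 0)
    (e_3_1 : T.picMatrix 3 1 = 2)
    (e_3_2 : T.picMatrix 3 2 = 0)
    (cl : ∀ a b : Fin 5, a.val < 2 → 5 ≤ b.val → T.picMatrix a b = 0)
    (z : ∀ a : Fin 5, a.val < 2 → T.picMatrix a 4 = 0)
    (hne : T.picMatrix 2 4 ≠ 0) :
    Goal T := by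
  have e_0_4 : T.picMatrix 0 4 = 0 := z 0 (by decide)
  have e_4_0 : T.picMatrix 4 0 = 0 := nt_pic_zero_symm T 0 4 e_0_4
  have e_1_4 : T.picMatrix 1 4 = 0 := z 1 (by decide)
  have e_4_1 : T.picMatrix 4 1 = 0 := nt_pic_zero_symm T 1 4 e_1_4
  obtain ⟨hg0, hdA, hdP, hnn, hrow, hsym, hpair⟩ := ntgood_data T (by norm_num) hG
  have hm_0 := T.m_pos 0
  have hw_0 := T.w_pos 0
  have hm_1 := T.m_pos 1
  have hw_1 := T.w_pos 1
  have hm_2 := T.m_pos 2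
  have hw_2 := T.w_pos 2
  have hm_3 := T.m_pos 3
  have hw_3 := T.w_pos 3
  have hm_4 := T.m_pos 4
  have hw_4 := T.w_pos 4
  have hx_1 := hmax 1
  have hx_2 := hmax 2
  have hx_3 := hmax 3
  have hx_4 := hmax 4
  have N_2_4 := mul_nonneg (hnn 2 4 (by decide)) (T.m_pos 4).le
  have N_4_2 := mul_nonneg (hnn 4 2 (by decide)) (T.m_pos 2).le
  have N_3_4 := mul_nonneg (hnn 3 4 (by decide)) (T.m_pos 4).le
  have N_4_3 := mul_nonneg (hnn 4 3 (by decide)) (T.m_pos 3).le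
  have R_0 := hrow 0
  rw [Fin.sum_univ_five, hdP 0, e_0_1, e_0_2, e_0_3, e_0_4] at R_0
  have R_1 := hrow 1
  rw [Fin.sum_univ_five, hdP 1, e_1_0, e_1_2, e_1_3, e_1_4] at R_1
  have R_2 := hrow 2
  rw [Fin.sum_univ_five, hdP 2, e_2_0, e_2_1, e_2_3] at R_2
  have R_3 := hrow 3
  rw [Fin.sum_univ_five, hdP 3, e_3_0, e_3_1, e_3_2] at R_3
  have R_4 := hrow 4
  rw [Fin.sum_univ_five, hdP 4, e_4_0, e_4_1] at R_4
  have S_0_1 := hsym 0 1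
  rw [e_0_1, e_1_0] at S_0_1
  have S_0_2 := hsym 0 2
  rw [e_0_2, e_2_0] at S_0_2
  have S_0_3 := hsym 0 3
  rw [e_0_3, e_3_0] at S_0_3
  have S_0_4 := hsym 0 4
  rw [e_0_4, e_4_0] at S_0_4
  have S_1_2 := hsym 1 2
  rw [e_1_2, e_2_1] at S_1_2
  have S_1_3 := hsym 1 3
  rw [e_1_3, e_3_1] at S_1_3
  have S_1_4 := hsym 1 4
  rw [e_1_4, e_4_1] at S_1_4
  have S_2_3 := hsym 2 3
  rw [e_2_3, e_3_2] at S_2_3
  have S_2_4 := hsym 2 4
  have S_3_4 := hsym 3 4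
  have Q_2 := hpair 2 4 (by decide)
  have Q_3 := hpair 3 4 (by decide)
  generalize e_2_4 : T.picMatrix 2 4 = x_2 at *
  generalize e_4_2 : T.picMatrix 4 2 = y_2 at *
  generalize e_3_4 : T.picMatrix 3 4 = x_3 at *
  generalize e_4_3 : T.picMatrix 4 3 = y_3 at *
  rcases Q_2 with ⟨rfl, rfl⟩ | ⟨rfl, rfl⟩ | ⟨rfl, rfl⟩ | ⟨rfl, rfl⟩ | ⟨rfl, rfl⟩ | ⟨rfl, rfl⟩ | ⟨rfl, rfl⟩ | ⟨rfl, rfl⟩ | ⟨rfl, rfl⟩
  · exact absurd rfl hne
  · omega
  · omega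
  · omega
  · omega
  · omega
  · omega
  · omega
  · omega

theorem nd_142 (T : Models.NumericalType 5)
    (hG : NTGood T)
    (hmax : ∀ j, T.m j ≤ T.m 0)
    (e_0_1 : T.picMatrix 0 1 = 1)
    (e_0_2 : T.picMatrix 0 2 = 2)
    (e_0_3 : T.picMatrix 0 3 = 0)
    (e_1_0 : T.picMatrix 1 0 = 1)
    (e_1_2 : T.picMatrix 1 2 = 0)
    (e_1_3 : T.picMatrix 1 3 = 1)
    (e_2_0 : T.picMatrix 2 0 = 1)
    (e_2_1 : T.picMatrix 2 1 = 0)
    (e_2_3 : T.picMatrix 2 3 = 0)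
    (e_3_0 : T.picMatrix 3 0 = 0)
    (e_3_1 : T.picMatrix 3 1 = 2)
    (e_3_2 : T.picMatrix 3 2 = 0)
    (cl : ∀ a b : Fin 5, a.val < 2 → 4 ≤ b.val → T.picMatrix a b = 0) :
    Goal T := by
  by_cases hc : ∀ b : Fin 5, 4 ≤ b.val → T.picMatrix 2 b = 0
  · exact nd_143 T hG hmax e_0_1 e_0_2 e_0_3 e_1_0 e_1_2 e_1_3 e_2_0 e_2_1 e_2_3 e_3_0 e_3_1 e_3_2 (nt_cl_succ T 4 2 2 rfl cl hc)
  · obtain ⟨τ, hfix, cl', z, hne⟩ := nt_wlog_step T 4 (by norm_num) 2 (by norm_num) 2 (by decide) cl hc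
    apply goal_relabel T τ
    refine ex_146 (ntRelabel T τ) (hG.relabel τ) ?_ ?_ ?_ ?_ ?_ ?_ ?_ ?_ ?_ ?_ ?_ ?_ ?_ cl' z hne
    · intro j
      show T.m (τ j) ≤ T.m (τ 0)
      rw [hfix 0 (by decide)]
      exact hmax _
    · show T.picMatrix (τ 0) (τ 1) = 1
      rw [hfix 0 (by decide), hfix 1 (by decide)]
      exact e_0_1
    · show T.picMatrix (τ 0) (τ 2) = 2
      rw [hfix 0 (by decide), hfix 2 (by decide)]
      exact e_0_2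
    · show T.picMatrix (τ 0) (τ 3) = 0
      rw [hfix 0 (by decide), hfix 3 (by decide)]
      exact e_0_3
    · show T.picMatrix (τ 1) (τ 0) = 1
      rw [hfix 1 (by decide), hfix 0 (by decide)]
      exact e_1_0
    · show T.picMatrix (τ 1) (τ 2) = 0
      rw [hfix 1 (by decide), hfix 2 (by decide)]
      exact e_1_2
    · show T.picMatrix (τ 1) (τ 3) = 1
      rw [hfix 1 (by decide), hfix 3 (by decide)]
      exact e_1_3
    · show T.picMatrix (τ 2) (τ 0) = 1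
      rw [hfix 2 (by decide), hfix 0 (by decide)]
      exact e_2_0
    · show T.picMatrix (τ 2) (τ 1) = 0
      rw [hfix 2 (by decide), hfix 1 (by decide)]
      exact e_2_1
    · show T.picMatrix (τ 2) (τ 3) = 0
      rw [hfix 2 (by decide), hfix 3 (by decide)]
      exact e_2_3
    · show T.picMatrix (τ 3) (τ 0) = 0
      rw [hfix 3 (by decide), hfix 0 (by decide)]
      exact e_3_0
    · show T.picMatrix (τ 3) (τ 1) = 2
      rw [hfix 3 (by decide), hfix 1 (by decide)]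
      exact e_3_1
    · show T.picMatrix (τ 3) (τ 2) = 0
      rw [hfix 3 (by decide), hfix 2 (by decide)]
      exact e_3_2

theorem ex_147 (T : Models.NumericalType 5)
    (hG : NTGood T)
    (hmax : ∀ j, T.m j ≤ T.m 0)
    (e_0_1 : T.picMatrix 0 1 = 1)
    (e_0_2 : T.picMatrix 0 2 = 2)
    (e_0_3 : T.picMatrix 0 3 = 0)
    (e_1_0 : T.picMatrix 1 0 = 1)
    (e_1_2 : T.picMatrix 1 2 = 0)
    (e_1_3 : T.picMatrix 1 3 = 1)
    (e_2_0 : T.picMatrix 2 0 = 1)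
    (e_2_1 : T.picMatrix 2 1 = 0)
    (e_2_3 : T.picMatrix 2 3 = 0)
    (e_3_0 : T.picMatrix 3 0 = 0)
    (e_3_1 : T.picMatrix 3 1 = 2)
    (e_3_2 : T.picMatrix 3 2 = 0)
    (cl : ∀ a b : Fin 5, a.val < 1 → 5 ≤ b.val → T.picMatrix a b = 0)
    (z : ∀ a : Fin 5, a.val < 1 → T.picMatrix a 4 = 0)
    (hne : T.picMatrix 1 4 ≠ 0) :
    Goal T := by
  have e_0_4 : T.picMatrix 0 4 = 0 := z 0 (by decide)
  have e_4_0 : T.picMatrix 4 0 = 0 := nt_pic_zero_symm T 0 4 e_0_4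
  obtain ⟨hg0, hdA, hdP, hnn, hrow, hsym, hpair⟩ := ntgood_data T (by norm_num) hG
  have hm_0 := T.m_pos 0
  have hw_0 := T.w_pos 0
  have hm_1 := T.m_pos 1
  have hw_1 := T.w_pos 1
  have hm_2 := T.m_pos 2
  have hw_2 := T.w_pos 2
  have hm_3 := T.m_pos 3
  have hw_3 := T.w_pos 3
  have hm_4 := T.m_pos 4
  have hw_4 := T.w_pos 4
  have hx_1 := hmax 1
  have hx_2 := hmax 2
  have hx_3 := hmax 3
  have hx_4 := hmax 4
  have N_1_4 := mul_nonneg (hnn 1 4 (by decide)) (T.m_pos 4).le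
  have N_4_1 := mul_nonneg (hnn 4 1 (by decide)) (T.m_pos 1).le
  have N_2_4 := mul_nonneg (hnn 2 4 (by decide)) (T.m_pos 4).le
  have N_4_2 := mul_nonneg (hnn 4 2 (by decide)) (T.m_pos 2).le
  have N_3_4 := mul_nonneg (hnn 3 4 (by decide)) (T.m_pos 4).le
  have N_4_3 := mul_nonneg (hnn 4 3 (by decide)) (T.m_pos 3).le
  have R_0 := hrow 0
  rw [Fin.sum_univ_five, hdP 0, e_0_1, e_0_2, e_0_3, e_0_4] at R_0
  have R_1 := hrow 1
  rw [Fin.sum_univ_five, hdP 1, e_1_0, e_1_2, e_1_3] at R_1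
  have R_2 := hrow 2
  rw [Fin.sum_univ_five, hdP 2, e_2_0, e_2_1, e_2_3] at R_2
  have R_3 := hrow 3
  rw [Fin.sum_univ_five, hdP 3, e_3_0, e_3_1, e_3_2] at R_3
  have R_4 := hrow 4
  rw [Fin.sum_univ_five, hdP 4, e_4_0] at R_4
  have S_0_1 := hsym 0 1
  rw [e_0_1, e_1_0] at S_0_1
  have S_0_2 := hsym 0 2
  rw [e_0_2, e_2_0] at S_0_2
  have S_0_3 := hsym 0 3
  rw [e_0_3, e_3_0] at S_0_3
  have S_0_4 := hsym 0 4
  rw [e_0_4, e_4_0] at S_0_4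
  have S_1_2 := hsym 1 2
  rw [e_1_2, e_2_1] at S_1_2
  have S_1_3 := hsym 1 3
  rw [e_1_3, e_3_1] at S_1_3
  have S_1_4 := hsym 1 4
  have S_2_3 := hsym 2 3
  rw [e_2_3, e_3_2] at S_2_3
  have S_2_4 := hsym 2 4
  have S_3_4 := hsym 3 4
  have Q_1 := hpair 1 4 (by decide)
  have Q_2 := hpair 2 4 (by decide)
  have Q_3 := hpair 3 4 (by decide)
  generalize e_1_4 : T.picMatrix 1 4 = x_1 at *
  generalize e_4_1 : T.picMatrix 4 1 = y_1 at *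
  generalize e_2_4 : T.picMatrix 2 4 = x_2 at *
  generalize e_4_2 : T.picMatrix 4 2 = y_2 at *
  generalize e_3_4 : T.picMatrix 3 4 = x_3 at *
  generalize e_4_3 : T.picMatrix 4 3 = y_3 at *
  rcases Q_1 with ⟨rfl, rfl⟩ | ⟨rfl, rfl⟩ | ⟨rfl, rfl⟩ | ⟨rfl, rfl⟩ | ⟨rfl, rfl⟩ | ⟨rfl, rfl⟩ | ⟨rfl, rfl⟩ | ⟨rfl, rfl⟩ | ⟨rfl, rfl⟩
  · exact absurd rfl hne
  · omega
  · omega
  · omega
  · omega
  · omega
  · omega
  · omega
  · omega

theorem nd_141 (T : Models.NumericalType 5)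
    (hG : NTGood T)
    (hmax : ∀ j, T.m j ≤ T.m 0)
    (e_0_1 : T.picMatrix 0 1 = 1)
    (e_0_2 : T.picMatrix 0 2 = 2)
    (e_0_3 : T.picMatrix 0 3 = 0)
    (e_1_0 : T.picMatrix 1 0 = 1)
    (e_1_2 : T.picMatrix 1 2 = 0)
    (e_1_3 : T.picMatrix 1 3 = 1)
    (e_2_0 : T.picMatrix 2 0 = 1)
    (e_2_1 : T.picMatrix 2 1 = 0)
    (e_2_3 : T.picMatrix 2 3 = 0)
    (e_3_0 : T.picMatrix 3 0 = 0)
    (e_3_1 : T.picMatrix 3 1 = 2)
    (e_3_2 : T.picMatrix 3 2 = 0)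
    (cl : ∀ a b : Fin 5, a.val < 1 → 4 ≤ b.val → T.picMatrix a b = 0) :
    Goal T := by
  by_cases hc : ∀ b : Fin 5, 4 ≤ b.val → T.picMatrix 1 b = 0
  · exact nd_142 T hG hmax e_0_1 e_0_2 e_0_3 e_1_0 e_1_2 e_1_3 e_2_0 e_2_1 e_2_3 e_3_0 e_3_1 e_3_2 (nt_cl_succ T 4 1 1 rfl cl hc)
  · obtain ⟨τ, hfix, cl', z, hne⟩ := nt_wlog_step T 4 (by norm_num) 1 (by norm_num) 1 (by decide) cl hc
    apply goal_relabel T τ
    refine ex_147 (ntRelabel T τ) (hG.relabel τ) ?_ ?_ ?_ ?_ ?_ ?_ ?_ ?_ ?_ ?_ ?_ ?_ ?_ cl' z hne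
    · intro j
      show T.m (τ j) ≤ T.m (τ 0)
      rw [hfix 0 (by decide)]
      exact hmax _
    · show T.picMatrix (τ 0) (τ 1) = 1
      rw [hfix 0 (by decide), hfix 1 (by decide)]
      exact e_0_1
    · show T.picMatrix (τ 0) (τ 2) = 2
      rw [hfix 0 (by decide), hfix 2 (by decide)]
      exact e_0_2
    · show T.picMatrix (τ 0) (τ 3) = 0
      rw [hfix 0 (by decide), hfix 3 (by decide)]
      exact e_0_3
    · show T.picMatrix (τ 1) (τ 0) = 1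
      rw [hfix 1 (by decide), hfix 0 (by decide)]
      exact e_1_0
    · show T.picMatrix (τ 1) (τ 2) = 0
      rw [hfix 1 (by decide), hfix 2 (by decide)]
      exact e_1_2
    · show T.picMatrix (τ 1) (τ 3) = 1
      rw [hfix 1 (by decide), hfix 3 (by decide)]
      exact e_1_3
    · show T.picMatrix (τ 2) (τ 0) = 1
      rw [hfix 2 (by decide), hfix 0 (by decide)]
      exact e_2_0
    · show T.picMatrix (τ 2) (τ 1) = 0
      rw [hfix 2 (by decide), hfix 1 (by decide)]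
      exact e_2_1
    · show T.picMatrix (τ 2) (τ 3) = 0
      rw [hfix 2 (by decide), hfix 3 (by decide)]
      exact e_2_3
    · show T.picMatrix (τ 3) (τ 0) = 0
      rw [hfix 3 (by decide), hfix 0 (by decide)]
      exact e_3_0
    · show T.picMatrix (τ 3) (τ 1) = 2
      rw [hfix 3 (by decide), hfix 1 (by decide)]
      exact e_3_1
    · show T.picMatrix (τ 3) (τ 2) = 0
      rw [hfix 3 (by decide), hfix 2 (by decide)]
      exact e_3_2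

theorem nd_151 (T : Models.NumericalType 5)
    (hG : NTGood T)
    (hmax : ∀ j, T.m j ≤ T.m 0)
    (e_0_1 : T.picMatrix 0 1 = 1)
    (e_0_2 : T.picMatrix 0 2 = 2)
    (e_0_3 : T.picMatrix 0 3 = 0)
    (e_1_0 : T.picMatrix 1 0 = 1)
    (e_1_2 : T.picMatrix 1 2 = 0)
    (e_1_3 : T.picMatrix 1 3 = 2)
    (e_2_0 : T.picMatrix 2 0 = 1)
    (e_2_1 : T.picMatrix 2 1 = 0)
    (e_2_3 : T.picMatrix 2 3 = 0)
    (e_3_0 : T.picMatrix 3 0 = 0)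
    (e_3_1 : T.picMatrix 3 1 = 1)
    (e_3_2 : T.picMatrix 3 2 = 0)
    (cl : ∀ a b : Fin 5, a.val < 4 → 4 ≤ b.val → T.picMatrix a b = 0) :
    Goal T := by
  exact (nt_closed_false T 4 (by norm_num) (by norm_num) cl).elim

theorem ex_152 (T : Models.NumericalType 5)
    (hG : NTGood T)
    (hmax : ∀ j, T.m j ≤ T.m 0)
    (e_0_1 : T.picMatrix 0 1 = 1)
    (e_0_2 : T.picMatrix 0 2 = 2)
    (e_0_3 : T.picMatrix 0 3 = 0)
    (e_1_0 : T.picMatrix 1 0 = 1)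
    (e_1_2 : T.picMatrix 1 2 = 0)
    (e_1_3 : T.picMatrix 1 3 = 2)
    (e_2_0 : T.picMatrix 2 0 = 1)
    (e_2_1 : T.picMatrix 2 1 = 0)
    (e_2_3 : T.picMatrix 2 3 = 0)
    (e_3_0 : T.picMatrix 3 0 = 0)
    (e_3_1 : T.picMatrix 3 1 = 1)
    (e_3_2 : T.picMatrix 3 2 = 0)
    (cl : ∀ a b : Fin 5, a.val < 3 → 5 ≤ b.val → T.picMatrix a b = 0)
    (z : ∀ a : Fin 5, a.val < 3 → T.picMatrix a 4 = 0)
    (hne : T.picMatrix 3 4 ≠ 0) :
    Goal T := by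
  have e_0_4 : T.picMatrix 0 4 = 0 := z 0 (by decide)
  have e_4_0 : T.picMatrix 4 0 = 0 := nt_pic_zero_symm T 0 4 e_0_4
  have e_1_4 : T.picMatrix 1 4 = 0 := z 1 (by decide)
  have e_4_1 : T.picMatrix 4 1 = 0 := nt_pic_zero_symm T 1 4 e_1_4
  have e_2_4 : T.picMatrix 2 4 = 0 := z 2 (by decide)
  have e_4_2 : T.picMatrix 4 2 = 0 := nt_pic_zero_symm T 2 4 e_2_4
  obtain ⟨hg0, hdA, hdP, hnn, hrow, hsym, hpair⟩ := ntgood_data T (by norm_num) hG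
  have hm_0 := T.m_pos 0
  have hw_0 := T.w_pos 0
  have hm_1 := T.m_pos 1
  have hw_1 := T.w_pos 1
  have hm_2 := T.m_pos 2
  have hw_2 := T.w_pos 2
  have hm_3 := T.m_pos 3
  have hw_3 := T.w_pos 3
  have hm_4 := T.m_pos 4
  have hw_4 := T.w_pos 4
  have hx_1 := hmax 1
  have hx_2 := hmax 2
  have hx_3 := hmax 3
  have hx_4 := hmax 4
  have N_3_4 := mul_nonneg (hnn 3 4 (by decide)) (T.m_pos 4).le
  have N_4_3 := mul_nonneg (hnn 4 3 (by decide)) (T.m_pos 3).le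
  have R_0 := hrow 0
  rw [Fin.sum_univ_five, hdP 0, e_0_1, e_0_2, e_0_3, e_0_4] at R_0
  have R_1 := hrow 1
  rw [Fin.sum_univ_five, hdP 1, e_1_0, e_1_2, e_1_3, e_1_4] at R_1
  have R_2 := hrow 2
  rw [Fin.sum_univ_five, hdP 2, e_2_0, e_2_1, e_2_3, e_2_4] at R_2
  have R_3 := hrow 3
  rw [Fin.sum_univ_five, hdP 3, e_3_0, e_3_1, e_3_2] at R_3
  have R_4 := hrow 4
  rw [Fin.sum_univ_five, hdP 4, e_4_0, e_4_1, e_4_2] at R_4
  have S_0_1 := hsym 0 1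
  rw [e_0_1, e_1_0] at S_0_1
  have S_0_2 := hsym 0 2
  rw [e_0_2, e_2_0] at S_0_2
  have S_0_3 := hsym 0 3
  rw [e_0_3, e_3_0] at S_0_3
  have S_0_4 := hsym 0 4
  rw [e_0_4, e_4_0] at S_0_4
  have S_1_2 := hsym 1 2
  rw [e_1_2, e_2_1] at S_1_2
  have S_1_3 := hsym 1 3
  rw [e_1_3, e_3_1] at S_1_3
  have S_1_4 := hsym 1 4
  rw [e_1_4, e_4_1] at S_1_4
  have S_2_3 := hsym 2 3
  rw [e_2_3, e_3_2] at S_2_3
  have S_2_4 := hsym 2 4
  rw [e_2_4, e_4_2] at S_2_4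
  have S_3_4 := hsym 3 4
  have Q_3 := hpair 3 4 (by decide)
  generalize e_3_4 : T.picMatrix 3 4 = x_3 at *
  generalize e_4_3 : T.picMatrix 4 3 = y_3 at *
  rcases Q_3 with ⟨rfl, rfl⟩ | ⟨rfl, rfl⟩ | ⟨rfl, rfl⟩ | ⟨rfl, rfl⟩ | ⟨rfl, rfl⟩ | ⟨rfl, rfl⟩ | ⟨rfl, rfl⟩ | ⟨rfl, rfl⟩ | ⟨rfl, rfl⟩
  · exact absurd rfl hne
  · -- (3,4) = (1,1)
    omega
  · -- (3,4) = (1,2)
    omega
  · -- (3,4) = (2,1)
    omega
  · -- (3,4) = (1,3)
    omega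
  · -- (3,4) = (3,1)
    omega
  · -- (3,4) = (1,4)
    omega
  · -- (3,4) = (4,1)
    omega
  · -- (3,4) = (2,2)
    omega

theorem nd_150 (T : Models.NumericalType 5)
    (hG : NTGood T)
    (hmax : ∀ j, T.m j ≤ T.m 0)
    (e_0_1 : T.picMatrix 0 1 = 1)
    (e_0_2 : T.picMatrix 0 2 = 2)
    (e_0_3 : T.picMatrix 0 3 = 0)
    (e_1_0 : T.picMatrix 1 0 = 1)
    (e_1_2 : T.picMatrix 1 2 = 0)
    (e_1_3 : T.picMatrix 1 3 = 2)
    (e_2_0 : T.picMatrix 2 0 = 1)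
    (e_2_1 : T.picMatrix 2 1 = 0)
    (e_2_3 : T.picMatrix 2 3 = 0)
    (e_3_0 : T.picMatrix 3 0 = 0)
    (e_3_1 : T.picMatrix 3 1 = 1)
    (e_3_2 : T.picMatrix 3 2 = 0)
    (cl : ∀ a b : Fin 5, a.val < 3 → 4 ≤ b.val → T.picMatrix a b = 0) :
    Goal T := by
  by_cases hc : ∀ b : Fin 5, 4 ≤ b.val → T.picMatrix 3 b = 0
  · exact nd_151 T hG hmax e_0_1 e_0_2 e_0_3 e_1_0 e_1_2 e_1_3 e_2_0 e_2_1 e_2_3 e_3_0 e_3_1 e_3_2 (nt_cl_succ T 4 3 3 rfl cl hc)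
  · obtain ⟨τ, hfix, cl', z, hne⟩ := nt_wlog_step T 4 (by norm_num) 3 (by norm_num) 3 (by decide) cl hc
    apply goal_relabel T τ
    refine ex_152 (ntRelabel T τ) (hG.relabel τ) ?_ ?_ ?_ ?_ ?_ ?_ ?_ ?_ ?_ ?_ ?_ ?_ ?_ cl' z hne
    · intro j
      show T.m (τ j) ≤ T.m (τ 0)
      rw [hfix 0 (by decide)]
      exact hmax _
    · show T.picMatrix (τ 0) (τ 1) = 1
      rw [hfix 0 (by decide), hfix 1 (by decide)]
      exact e_0_1
    · show T.picMatrix (τ 0) (τ 2) = 2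
      rw [hfix 0 (by decide), hfix 2 (by decide)]
      exact e_0_2
    · show T.picMatrix (τ 0) (τ 3) = 0
      rw [hfix 0 (by decide), hfix 3 (by decide)]
      exact e_0_3
    · show T.picMatrix (τ 1) (τ 0) = 1
      rw [hfix 1 (by decide), hfix 0 (by decide)]
      exact e_1_0
    · show T.picMatrix (τ 1) (τ 2) = 0
      rw [hfix 1 (by decide), hfix 2 (by decide)]
      exact e_1_2
    · show T.picMatrix (τ 1) (τ 3) = 2
      rw [hfix 1 (by decide), hfix 3 (by decide)]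
      exact e_1_3
    · show T.picMatrix (τ 2) (τ 0) = 1
      rw [hfix 2 (by decide), hfix 0 (by decide)]
      exact e_2_0
    · show T.picMatrix (τ 2) (τ 1) = 0
      rw [hfix 2 (by decide), hfix 1 (by decide)]
      exact e_2_1
    · show T.picMatrix (τ 2) (τ 3) = 0
      rw [hfix 2 (by decide), hfix 3 (by decide)]
      exact e_2_3
    · show T.picMatrix (τ 3) (τ 0) = 0
      rw [hfix 3 (by decide), hfix 0 (by decide)]
      exact e_3_0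
    · show T.picMatrix (τ 3) (τ 1) = 1
      rw [hfix 3 (by decide), hfix 1 (by decide)]
      exact e_3_1
    · show T.picMatrix (τ 3) (τ 2) = 0
      rw [hfix 3 (by decide), hfix 2 (by decide)]
      exact e_3_2

theorem ex_153 (T : Models.NumericalType 5)
    (hG : NTGood T)
    (hmax : ∀ j, T.m j ≤ T.m 0)
    (e_0_1 : T.picMatrix 0 1 = 1)
    (e_0_2 : T.picMatrix 0 2 = 2)
    (e_0_3 : T.picMatrix 0 3 = 0)
    (e_1_0 : T.picMatrix 1 0 = 1)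
    (e_1_2 : T.picMatrix 1 2 = 0)
    (e_1_3 : T.picMatrix 1 3 = 2)
    (e_2_0 : T.picMatrix 2 0 = 1)
    (e_2_1 : T.picMatrix 2 1 = 0)
    (e_2_3 : T.picMatrix 2 3 = 0)
    (e_3_0 : T.picMatrix 3 0 = 0)
    (e_3_1 : T.picMatrix 3 1 = 1)
    (e_3_2 : T.picMatrix 3 2 = 0)
    (cl : ∀ a b : Fin 5, a.val < 2 → 5 ≤ b.val → T.picMatrix a b = 0)
    (z : ∀ a : Fin 5, a.val < 2 → T.picMatrix a 4 = 0)
    (hne : T.picMatrix 2 4 ≠ 0) :
    Goal T := by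
  have e_0_4 : T.picMatrix 0 4 = 0 := z 0 (by decide)
  have e_4_0 : T.picMatrix 4 0 = 0 := nt_pic_zero_symm T 0 4 e_0_4
  have e_1_4 : T.picMatrix 1 4 = 0 := z 1 (by decide)
  have e_4_1 : T.picMatrix 4 1 = 0 := nt_pic_zero_symm T 1 4 e_1_4
  obtain ⟨hg0, hdA, hdP, hnn, hrow, hsym, hpair⟩ := ntgood_data T (by norm_num) hG
  have hm_0 := T.m_pos 0
  have hw_0 := T.w_pos 0
  have hm_1 := T.m_pos 1
  have hw_1 := T.w_pos 1
  have hm_2 := T.m_pos 2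
  have hw_2 := T.w_pos 2
  have hm_3 := T.m_pos 3
  have hw_3 := T.w_pos 3
  have hm_4 := T.m_pos 4
  have hw_4 := T.w_pos 4
  have hx_1 := hmax 1
  have hx_2 := hmax 2
  have hx_3 := hmax 3
  have hx_4 := hmax 4
  have N_2_4 := mul_nonneg (hnn 2 4 (by decide)) (T.m_pos 4).le
  have N_4_2 := mul_nonneg (hnn 4 2 (by decide)) (T.m_pos 2).le
  have N_3_4 := mul_nonneg (hnn 3 4 (by decide)) (T.m_pos 4).le
  have N_4_3 := mul_nonneg (hnn 4 3 (by decide)) (T.m_pos 3).le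
  have R_0 := hrow 0
  rw [Fin.sum_univ_five, hdP 0, e_0_1, e_0_2, e_0_3, e_0_4] at R_0
  have R_1 := hrow 1
  rw [Fin.sum_univ_five, hdP 1, e_1_0, e_1_2, e_1_3, e_1_4] at R_1
  have R_2 := hrow 2
  rw [Fin.sum_univ_five, hdP 2, e_2_0, e_2_1, e_2_3] at R_2
  have R_3 := hrow 3
  rw [Fin.sum_univ_five, hdP 3, e_3_0, e_3_1, e_3_2] at R_3
  have R_4 := hrow 4
  rw [Fin.sum_univ_five, hdP 4, e_4_0, e_4_1] at R_4
  have S_0_1 := hsym 0 1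
  rw [e_0_1, e_1_0] at S_0_1
  have S_0_2 := hsym 0 2
  rw [e_0_2, e_2_0] at S_0_2
  have S_0_3 := hsym 0 3
  rw [e_0_3, e_3_0] at S_0_3
  have S_0_4 := hsym 0 4
  rw [e_0_4, e_4_0] at S_0_4
  have S_1_2 := hsym 1 2
  rw [e_1_2, e_2_1] at S_1_2
  have S_1_3 := hsym 1 3
  rw [e_1_3, e_3_1] at S_1_3
  have S_1_4 := hsym 1 4
  rw [e_1_4, e_4_1] at S_1_4
  have S_2_3 := hsym 2 3
  rw [e_2_3, e_3_2] at S_2_3
  have S_2_4 := hsym 2 4
  have S_3_4 := hsym 3 4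
  have Q_2 := hpair 2 4 (by decide)
  have Q_3 := hpair 3 4 (by decide)
  generalize e_2_4 : T.picMatrix 2 4 = x_2 at *
  generalize e_4_2 : T.picMatrix 4 2 = y_2 at *
  generalize e_3_4 : T.picMatrix 3 4 = x_3 at *
  generalize e_4_3 : T.picMatrix 4 3 = y_3 at *
  rcases Q_2 with ⟨rfl, rfl⟩ | ⟨rfl, rfl⟩ | ⟨rfl, rfl⟩ | ⟨rfl, rfl⟩ | ⟨rfl, rfl⟩ | ⟨rfl, rfl⟩ | ⟨rfl, rfl⟩ | ⟨rfl, rfl⟩ | ⟨rfl, rfl⟩
  · exact absurd rfl hne
  · omega
  · omega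
  · omega
  · omega
  · omega
  · omega
  · omega
  · omega

theorem nd_149 (T : Models.NumericalType 5)
    (hG : NTGood T)
    (hmax : ∀ j, T.m j ≤ T.m 0)
    (e_0_1 : T.picMatrix 0 1 = 1)
    (e_0_2 : T.picMatrix 0 2 = 2)
    (e_0_3 : T.picMatrix 0 3 = 0)
    (e_1_0 : T.picMatrix 1 0 = 1)
    (e_1_2 : T.picMatrix 1 2 = 0)
    (e_1_3 : T.picMatrix 1 3 = 2)
    (e_2_0 : T.picMatrix 2 0 = 1)
    (e_2_1 : T.picMatrix 2 1 = 0)
    (e_2_3 : T.picMatrix 2 3 = 0)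
    (e_3_0 : T.picMatrix 3 0 = 0)
    (e_3_1 : T.picMatrix 3 1 = 1)
    (e_3_2 : T.picMatrix 3 2 = 0)
    (cl : ∀ a b : Fin 5, a.val < 2 → 4 ≤ b.val → T.picMatrix a b = 0) :
    Goal T := by
  by_cases hc : ∀ b : Fin 5, 4 ≤ b.val → T.picMatrix 2 b = 0
  · exact nd_150 T hG hmax e_0_1 e_0_2 e_0_3 e_1_0 e_1_2 e_1_3 e_2_0 e_2_1 e_2_3 e_3_0 e_3_1 e_3_2 (nt_cl_succ T 4 2 2 rfl cl hc)
  · obtain ⟨τ, hfix, cl', z, hne⟩ := nt_wlog_step T 4 (by norm_num) 2 (by norm_num) 2 (by decide) cl hc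
    apply goal_relabel T τ
    refine ex_153 (ntRelabel T τ) (hG.relabel τ) ?_ ?_ ?_ ?_ ?_ ?_ ?_ ?_ ?_ ?_ ?_ ?_ ?_ cl' z hne
    · intro j
      show T.m (τ j) ≤ T.m (τ 0)
      rw [hfix 0 (by decide)]
      exact hmax _
    · show T.picMatrix (τ 0) (τ 1) = 1
      rw [hfix 0 (by decide), hfix 1 (by decide)]
      exact e_0_1
    · show T.picMatrix (τ 0) (τ 2) = 2
      rw [hfix 0 (by decide), hfix 2 (by decide)]
      exact e_0_2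
    · show T.picMatrix (τ 0) (τ 3) = 0
      rw [hfix 0 (by decide), hfix 3 (by decide)]
      exact e_0_3
    · show T.picMatrix (τ 1) (τ 0) = 1
      rw [hfix 1 (by decide), hfix 0 (by decide)]
      exact e_1_0
    · show T.picMatrix (τ 1) (τ 2) = 0
      rw [hfix 1 (by decide), hfix 2 (by decide)]
      exact e_1_2
    · show T.picMatrix (τ 1) (τ 3) = 2
      rw [hfix 1 (by decide), hfix 3 (by decide)]
      exact e_1_3
    · show T.picMatrix (τ 2) (τ 0) = 1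
      rw [hfix 2 (by decide), hfix 0 (by decide)]
      exact e_2_0
    · show T.picMatrix (τ 2) (τ 1) = 0
      rw [hfix 2 (by decide), hfix 1 (by decide)]
      exact e_2_1
    · show T.picMatrix (τ 2) (τ 3) = 0
      rw [hfix 2 (by decide), hfix 3 (by decide)]
      exact e_2_3
    · show T.picMatrix (τ 3) (τ 0) = 0
      rw [hfix 3 (by decide), hfix 0 (by decide)]
      exact e_3_0
    · show T.picMatrix (τ 3) (τ 1) = 1
      rw [hfix 3 (by decide), hfix 1 (by decide)]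
      exact e_3_1
    · show T.picMatrix (τ 3) (τ 2) = 0
      rw [hfix 3 (by decide), hfix 2 (by decide)]
      exact e_3_2

theorem ex_154 (T : Models.NumericalType 5)
    (hG : NTGood T)
    (hmax : ∀ j, T.m j ≤ T.m 0)
    (e_0_1 : T.picMatrix 0 1 = 1)
    (e_0_2 : T.picMatrix 0 2 = 2)
    (e_0_3 : T.picMatrix 0 3 = 0)
    (e_1_0 : T.picMatrix 1 0 = 1)
    (e_1_2 : T.picMatrix 1 2 = 0)
    (e_1_3 : T.picMatrix 1 3 = 2)
    (e_2_0 : T.picMatrix 2 0 = 1)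
    (e_2_1 : T.picMatrix 2 1 = 0)
    (e_2_3 : T.picMatrix 2 3 = 0)
    (e_3_0 : T.picMatrix 3 0 = 0)
    (e_3_1 : T.picMatrix 3 1 = 1)
    (e_3_2 : T.picMatrix 3 2 = 0)
    (cl : ∀ a b : Fin 5, a.val < 1 → 5 ≤ b.val → T.picMatrix a b = 0)
    (z : ∀ a : Fin 5, a.val < 1 → T.picMatrix a 4 = 0)
    (hne : T.picMatrix 1 4 ≠ 0) :
    Goal T := by
  have e_0_4 : T.picMatrix 0 4 = 0 := z 0 (by decide)
  have e_4_0 : T.picMatrix 4 0 = 0 := nt_pic_zero_symm T 0 4 e_0_4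
  obtain ⟨hg0, hdA, hdP, hnn, hrow, hsym, hpair⟩ := ntgood_data T (by norm_num) hG
  have hm_0 := T.m_pos 0
  have hw_0 := T.w_pos 0
  have hm_1 := T.m_pos 1
  have hw_1 := T.w_pos 1
  have hm_2 := T.m_pos 2
  have hw_2 := T.w_pos 2
  have hm_3 := T.m_pos 3
  have hw_3 := T.w_pos 3
  have hm_4 := T.m_pos 4
  have hw_4 := T.w_pos 4
  have hx_1 := hmax 1
  have hx_2 := hmax 2
  have hx_3 := hmax 3
  have hx_4 := hmax 4
  have N_1_4 := mul_nonneg (hnn 1 4 (by decide)) (T.m_pos 4).le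
  have N_4_1 := mul_nonneg (hnn 4 1 (by decide)) (T.m_pos 1).le
  have N_2_4 := mul_nonneg (hnn 2 4 (by decide)) (T.m_pos 4).le
  have N_4_2 := mul_nonneg (hnn 4 2 (by decide)) (T.m_pos 2).le
  have N_3_4 := mul_nonneg (hnn 3 4 (by decide)) (T.m_pos 4).le
  have N_4_3 := mul_nonneg (hnn 4 3 (by decide)) (T.m_pos 3).le
  have R_0 := hrow 0
  rw [Fin.sum_univ_five, hdP 0, e_0_1, e_0_2, e_0_3, e_0_4] at R_0
  have R_1 := hrow 1
  rw [Fin.sum_univ_five, hdP 1, e_1_0, e_1_2, e_1_3] at R_1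
  have R_2 := hrow 2
  rw [Fin.sum_univ_five, hdP 2, e_2_0, e_2_1, e_2_3] at R_2
  have R_3 := hrow 3
  rw [Fin.sum_univ_five, hdP 3, e_3_0, e_3_1, e_3_2] at R_3
  have R_4 := hrow 4
  rw [Fin.sum_univ_five, hdP 4, e_4_0] at R_4
  have S_0_1 := hsym 0 1
  rw [e_0_1, e_1_0] at S_0_1
  have S_0_2 := hsym 0 2
  rw [e_0_2, e_2_0] at S_0_2
  have S_0_3 := hsym 0 3
  rw [e_0_3, e_3_0] at S_0_3
  have S_0_4 := hsym 0 4
  rw [e_0_4, e_4_0] at S_0_4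
  have S_1_2 := hsym 1 2
  rw [e_1_2, e_2_1] at S_1_2
  have S_1_3 := hsym 1 3
  rw [e_1_3, e_3_1] at S_1_3
  have S_1_4 := hsym 1 4
  have S_2_3 := hsym 2 3
  rw [e_2_3, e_3_2] at S_2_3
  have S_2_4 := hsym 2 4
  have S_3_4 := hsym 3 4
  have Q_1 := hpair 1 4 (by decide)
  have Q_2 := hpair 2 4 (by decide)
  have Q_3 := hpair 3 4 (by decide)
  generalize e_1_4 : T.picMatrix 1 4 = x_1 at *
  generalize e_4_1 : T.picMatrix 4 1 = y_1 at *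
  generalize e_2_4 : T.picMatrix 2 4 = x_2 at *
  generalize e_4_2 : T.picMatrix 4 2 = y_2 at *
  generalize e_3_4 : T.picMatrix 3 4 = x_3 at *
  generalize e_4_3 : T.picMatrix 4 3 = y_3 at *
  rcases Q_1 with ⟨rfl, rfl⟩ | ⟨rfl, rfl⟩ | ⟨rfl, rfl⟩ | ⟨rfl, rfl⟩ | ⟨rfl, rfl⟩ | ⟨rfl, rfl⟩ | ⟨rfl, rfl⟩ | ⟨rfl, rfl⟩ | ⟨rfl, rfl⟩
  · exact absurd rfl hne
  · omega
  · omega
  · omega
  · omega
  · omega
  · omega
  · omega
  · omega

theorem nd_148 (T : Models.NumericalType 5)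
    (hG : NTGood T)
    (hmax : ∀ j, T.m j ≤ T.m 0)
    (e_0_1 : T.picMatrix 0 1 = 1)
    (e_0_2 : T.picMatrix 0 2 = 2)
    (e_0_3 : T.picMatrix 0 3 = 0)
    (e_1_0 : T.picMatrix 1 0 = 1)
    (e_1_2 : T.picMatrix 1 2 = 0)
    (e_1_3 : T.picMatrix 1 3 = 2)
    (e_2_0 : T.picMatrix 2 0 = 1)
    (e_2_1 : T.picMatrix 2 1 = 0)
    (e_2_3 : T.picMatrix 2 3 = 0)
    (e_3_0 : T.picMatrix 3 0 = 0)
    (e_3_1 : T.picMatrix 3 1 = 1)
    (e_3_2 : T.picMatrix 3 2 = 0)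
    (cl : ∀ a b : Fin 5, a.val < 1 → 4 ≤ b.val → T.picMatrix a b = 0) :
    Goal T := by
  by_cases hc : ∀ b : Fin 5, 4 ≤ b.val → T.picMatrix 1 b = 0
  · exact nd_149 T hG hmax e_0_1 e_0_2 e_0_3 e_1_0 e_1_2 e_1_3 e_2_0 e_2_1 e_2_3 e_3_0 e_3_1 e_3_2 (nt_cl_succ T 4 1 1 rfl cl hc)
  · obtain ⟨τ, hfix, cl', z, hne⟩ := nt_wlog_step T 4 (by norm_num) 1 (by norm_num) 1 (by decide) cl hc
    apply goal_relabel T τ
    refine ex_154 (ntRelabel T τ) (hG.relabel τ) ?_ ?_ ?_ ?_ ?_ ?_ ?_ ?_ ?_ ?_ ?_ ?_ ?_ cl' z hne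
    · intro j
      show T.m (τ j) ≤ T.m (τ 0)
      rw [hfix 0 (by decide)]
      exact hmax _
    · show T.picMatrix (τ 0) (τ 1) = 1
      rw [hfix 0 (by decide), hfix 1 (by decide)]
      exact e_0_1
    · show T.picMatrix (τ 0) (τ 2) = 2
      rw [hfix 0 (by decide), hfix 2 (by decide)]
      exact e_0_2
    · show T.picMatrix (τ 0) (τ 3) = 0
      rw [hfix 0 (by decide), hfix 3 (by decide)]
      exact e_0_3
    · show T.picMatrix (τ 1) (τ 0) = 1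
      rw [hfix 1 (by decide), hfix 0 (by decide)]
      exact e_1_0
    · show T.picMatrix (τ 1) (τ 2) = 0
      rw [hfix 1 (by decide), hfix 2 (by decide)]
      exact e_1_2
    · show T.picMatrix (τ 1) (τ 3) = 2
      rw [hfix 1 (by decide), hfix 3 (by decide)]
      exact e_1_3
    · show T.picMatrix (τ 2) (τ 0) = 1
      rw [hfix 2 (by decide), hfix 0 (by decide)]
      exact e_2_0
    · show T.picMatrix (τ 2) (τ 1) = 0
      rw [hfix 2 (by decide), hfix 1 (by decide)]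
      exact e_2_1
    · show T.picMatrix (τ 2) (τ 3) = 0
      rw [hfix 2 (by decide), hfix 3 (by decide)]
      exact e_2_3
    · show T.picMatrix (τ 3) (τ 0) = 0
      rw [hfix 3 (by decide), hfix 0 (by decide)]
      exact e_3_0
    · show T.picMatrix (τ 3) (τ 1) = 1
      rw [hfix 3 (by decide), hfix 1 (by decide)]
      exact e_3_1
    · show T.picMatrix (τ 3) (τ 2) = 0
      rw [hfix 3 (by decide), hfix 2 (by decide)]
      exact e_3_2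

theorem ex_129 (T : Models.NumericalType 5)
    (hG : NTGood T)
    (hmax : ∀ j, T.m j ≤ T.m 0)
    (e_0_1 : T.picMatrix 0 1 = 1)
    (e_0_2 : T.picMatrix 0 2 = 2)
    (e_1_0 : T.picMatrix 1 0 = 1)
    (e_1_2 : T.picMatrix 1 2 = 0)
    (e_2_0 : T.picMatrix 2 0 = 1)
    (e_2_1 : T.picMatrix 2 1 = 0)
    (cl : ∀ a b : Fin 5, a.val < 1 → 4 ≤ b.val → T.picMatrix a b = 0)
    (z : ∀ a : Fin 5, a.val < 1 → T.picMatrix a 3 = 0)
    (hne : T.picMatrix 1 3 ≠ 0) :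
    Goal T := by
  have e_0_3 : T.picMatrix 0 3 = 0 := z 0 (by decide)
  have e_3_0 : T.picMatrix 3 0 = 0 := nt_pic_zero_symm T 0 3 e_0_3
  obtain ⟨hg0, hdA, hdP, hnn, hrow, hsym, hpair⟩ := ntgood_data T (by norm_num) hG
  have hm_0 := T.m_pos 0
  have hw_0 := T.w_pos 0
  have hm_1 := T.m_pos 1
  have hw_1 := T.w_pos 1
  have hm_2 := T.m_pos 2
  have hw_2 := T.w_pos 2
  have hm_3 := T.m_pos 3
  have hw_3 := T.w_pos 3
  have hx_1 := hmax 1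
  have hx_2 := hmax 2
  have hx_3 := hmax 3
  have Z_0_4 := cl 0 4 (by decide) (by decide)
  have N_1_4 := mul_nonneg (hnn 1 4 (by decide)) (T.m_pos 4).le
  have N_2_4 := mul_nonneg (hnn 2 4 (by decide)) (T.m_pos 4).le
  have N_3_4 := mul_nonneg (hnn 3 4 (by decide)) (T.m_pos 4).le
  have N_1_3 := mul_nonneg (hnn 1 3 (by decide)) (T.m_pos 3).le
  have N_3_1 := mul_nonneg (hnn 3 1 (by decide)) (T.m_pos 1).le
  have N_2_3 := mul_nonneg (hnn 2 3 (by decide)) (T.m_pos 3).le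
  have N_3_2 := mul_nonneg (hnn 3 2 (by decide)) (T.m_pos 2).le
  have R_0 := hrow 0
  rw [Fin.sum_univ_five, hdP 0, e_0_1, e_0_2, e_0_3, Z_0_4] at R_0
  have R_1 := hrow 1
  rw [Fin.sum_univ_five, hdP 1, e_1_0, e_1_2] at R_1
  have R_2 := hrow 2
  rw [Fin.sum_univ_five, hdP 2, e_2_0, e_2_1] at R_2
  have R_3 := hrow 3
  rw [Fin.sum_univ_five, hdP 3, e_3_0] at R_3
  have S_0_1 := hsym 0 1
  rw [e_0_1, e_1_0] at S_0_1
  have S_0_2 := hsym 0 2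
  rw [e_0_2, e_2_0] at S_0_2
  have S_0_3 := hsym 0 3
  rw [e_0_3, e_3_0] at S_0_3
  have S_1_2 := hsym 1 2
  rw [e_1_2, e_2_1] at S_1_2
  have S_1_3 := hsym 1 3
  have S_2_3 := hsym 2 3
  have Q_1 := hpair 1 3 (by decide)
  have Q_2 := hpair 2 3 (by decide)
  generalize e_1_3 : T.picMatrix 1 3 = x_1 at *
  generalize e_3_1 : T.picMatrix 3 1 = y_1 at *
  generalize e_2_3 : T.picMatrix 2 3 = x_2 at *
  generalize e_3_2 : T.picMatrix 3 2 = y_2 at *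
  rcases Q_1 with ⟨rfl, rfl⟩ | ⟨rfl, rfl⟩ | ⟨rfl, rfl⟩ | ⟨rfl, rfl⟩ | ⟨rfl, rfl⟩ | ⟨rfl, rfl⟩ | ⟨rfl, rfl⟩ | ⟨rfl, rfl⟩ | ⟨rfl, rfl⟩
  · exact absurd rfl hne
  · -- (1,3) = (1,1)
    rcases Q_2 with ⟨rfl, rfl⟩ | ⟨rfl, rfl⟩ | ⟨rfl, rfl⟩ | ⟨rfl, rfl⟩ | ⟨rfl, rfl⟩ | ⟨rfl, rfl⟩ | ⟨rfl, rfl⟩ | ⟨rfl, rfl⟩ | ⟨rfl, rfl⟩
    · -- (2,3) = (0,0)
      exact nd_130 T hG hmax e_0_1 e_0_2 e_0_3 e_1_0 e_1_2 e_1_3 e_2_0 e_2_1 e_2_3 e_3_0 e_3_1 e_3_2 cl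
    · -- (2,3) = (1,1)
      omega
    · -- (2,3) = (1,2)
      omega
    · -- (2,3) = (2,1)
      omega
    · -- (2,3) = (1,3)
      omega
    · -- (2,3) = (3,1)
      omega
    · -- (2,3) = (1,4)
      omega
    · -- (2,3) = (4,1)
      omega
    · -- (2,3) = (2,2)
      omega
  · -- (1,3) = (1,2)
    rcases Q_2 with ⟨rfl, rfl⟩ | ⟨rfl, rfl⟩ | ⟨rfl, rfl⟩ | ⟨rfl, rfl⟩ | ⟨rfl, rfl⟩ | ⟨rfl, rfl⟩ | ⟨rfl, rfl⟩ | ⟨rfl, rfl⟩ | ⟨rfl, rfl⟩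
    · -- (2,3) = (0,0)
      exact nd_141 T hG hmax e_0_1 e_0_2 e_0_3 e_1_0 e_1_2 e_1_3 e_2_0 e_2_1 e_2_3 e_3_0 e_3_1 e_3_2 cl
    · -- (2,3) = (1,1)
      omega
    · -- (2,3) = (1,2)
      omega
    · -- (2,3) = (2,1)
      omega
    · -- (2,3) = (1,3)
      omega
    · -- (2,3) = (3,1)
      omega
    · -- (2,3) = (1,4)
      omega
    · -- (2,3) = (4,1)
      omega
    · -- (2,3) = (2,2)
      omega
  · -- (1,3) = (2,1)
    rcases Q_2 with ⟨rfl, rfl⟩ | ⟨rfl, rfl⟩ | ⟨rfl, rfl⟩ | ⟨rfl, rfl⟩ | ⟨rfl, rfl⟩ | ⟨rfl, rfl⟩ | ⟨rfl, rfl⟩ | ⟨rfl, rfl⟩ | ⟨rfl, rfl⟩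
    · -- (2,3) = (0,0)
      exact nd_148 T hG hmax e_0_1 e_0_2 e_0_3 e_1_0 e_1_2 e_1_3 e_2_0 e_2_1 e_2_3 e_3_0 e_3_1 e_3_2 cl
    · -- (2,3) = (1,1)
      omega
    · -- (2,3) = (1,2)
      omega
    · -- (2,3) = (2,1)
      omega
    · -- (2,3) = (1,3)
      omega
    · -- (2,3) = (3,1)
      omega
    · -- (2,3) = (1,4)
      omega
    · -- (2,3) = (4,1)
      omega
    · -- (2,3) = (2,2)
      omega
  · omega
  · omega
  · omega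
  · omega
  · omega

theorem nd_119 (T : Models.NumericalType 5)
    (hG : NTGood T)
    (hmax : ∀ j, T.m j ≤ T.m 0)
    (e_0_1 : T.picMatrix 0 1 = 1)
    (e_0_2 : T.picMatrix 0 2 = 2)
    (e_1_0 : T.picMatrix 1 0 = 1)
    (e_1_2 : T.picMatrix 1 2 = 0)
    (e_2_0 : T.picMatrix 2 0 = 1)
    (e_2_1 : T.picMatrix 2 1 = 0)
    (cl : ∀ a b : Fin 5, a.val < 1 → 3 ≤ b.val → T.picMatrix a b = 0) :
    Goal T := by
  by_cases hc : ∀ b : Fin 5, 3 ≤ b.val → T.picMatrix 1 b = 0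
  · exact nd_120 T hG hmax e_0_1 e_0_2 e_1_0 e_1_2 e_2_0 e_2_1 (nt_cl_succ T 3 1 1 rfl cl hc)
  · obtain ⟨τ, hfix, cl', z, hne⟩ := nt_wlog_step T 3 (by norm_num) 1 (by norm_num) 1 (by decide) cl hc
    apply goal_relabel T τ
    refine ex_129 (ntRelabel T τ) (hG.relabel τ) ?_ ?_ ?_ ?_ ?_ ?_ ?_ cl' z hne
    · intro j
      show T.m (τ j) ≤ T.m (τ 0)
      rw [hfix 0 (by decide)]
      exact hmax _
    · show T.picMatrix (τ 0) (τ 1) = 1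
      rw [hfix 0 (by decide), hfix 1 (by decide)]
      exact e_0_1
    · show T.picMatrix (τ 0) (τ 2) = 2
      rw [hfix 0 (by decide), hfix 2 (by decide)]
      exact e_0_2
    · show T.picMatrix (τ 1) (τ 0) = 1
      rw [hfix 1 (by decide), hfix 0 (by decide)]
      exact e_1_0
    · show T.picMatrix (τ 1) (τ 2) = 0
      rw [hfix 1 (by decide), hfix 2 (by decide)]
      exact e_1_2
    · show T.picMatrix (τ 2) (τ 0) = 1
      rw [hfix 2 (by decide), hfix 0 (by decide)]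
      exact e_2_0
    · show T.picMatrix (τ 2) (τ 1) = 0
      rw [hfix 2 (by decide), hfix 1 (by decide)]
      exact e_2_1

theorem nd_160 (T : Models.NumericalType 5)
    (hG : NTGood T)
    (hmax : ∀ j, T.m j ≤ T.m 0)
    (e_0_1 : T.picMatrix 0 1 = 1)
    (e_0_2 : T.picMatrix 0 2 = 2)
    (e_0_3 : T.picMatrix 0 3 = 1)
    (e_1_0 : T.picMatrix 1 0 = 1)
    (e_1_2 : T.picMatrix 1 2 = 0)
    (e_1_3 : T.picMatrix 1 3 = 0)
    (e_2_0 : T.picMatrix 2 0 = 1)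
    (e_2_1 : T.picMatrix 2 1 = 0)
    (e_2_3 : T.picMatrix 2 3 = 0)
    (e_3_0 : T.picMatrix 3 0 = 1)
    (e_3_1 : T.picMatrix 3 1 = 0)
    (e_3_2 : T.picMatrix 3 2 = 0)
    (cl : ∀ a b : Fin 5, a.val < 4 → 4 ≤ b.val → T.picMatrix a b = 0) :
    Goal T := by
  exact (nt_closed_false T 4 (by norm_num) (by norm_num) cl).elim

theorem ex_161 (T : Models.NumericalType 5)
    (hG : NTGood T)
    (hmax : ∀ j, T.m j ≤ T.m 0)
    (e_0_1 : T.picMatrix 0 1 = 1)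
    (e_0_2 : T.picMatrix 0 2 = 2)
    (e_0_3 : T.picMatrix 0 3 = 1)
    (e_1_0 : T.picMatrix 1 0 = 1)
    (e_1_2 : T.picMatrix 1 2 = 0)
    (e_1_3 : T.picMatrix 1 3 = 0)
    (e_2_0 : T.picMatrix 2 0 = 1)
    (e_2_1 : T.picMatrix 2 1 = 0)
    (e_2_3 : T.picMatrix 2 3 = 0)
    (e_3_0 : T.picMatrix 3 0 = 1)
    (e_3_1 : T.picMatrix 3 1 = 0)
    (e_3_2 : T.picMatrix 3 2 = 0)
    (cl : ∀ a b : Fin 5, a.val < 3 → 5 ≤ b.val → T.picMatrix a b = 0)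
    (z : ∀ a : Fin 5, a.val < 3 → T.picMatrix a 4 = 0)
    (hne : T.picMatrix 3 4 ≠ 0) :
    Goal T := by
  have e_0_4 : T.picMatrix 0 4 = 0 := z 0 (by decide)
  have e_4_0 : T.picMatrix 4 0 = 0 := nt_pic_zero_symm T 0 4 e_0_4
  have e_1_4 : T.picMatrix 1 4 = 0 := z 1 (by decide)
  have e_4_1 : T.picMatrix 4 1 = 0 := nt_pic_zero_symm T 1 4 e_1_4
  have e_2_4 : T.picMatrix 2 4 = 0 := z 2 (by decide)
  have e_4_2 : T.picMatrix 4 2 = 0 := nt_pic_zero_symm T 2 4 e_2_4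
  obtain ⟨hg0, hdA, hdP, hnn, hrow, hsym, hpair⟩ := ntgood_data T (by norm_num) hG
  have hm_0 := T.m_pos 0
  have hw_0 := T.w_pos 0
  have hm_1 := T.m_pos 1
  have hw_1 := T.w_pos 1
  have hm_2 := T.m_pos 2
  have hw_2 := T.w_pos 2
  have hm_3 := T.m_pos 3
  have hw_3 := T.w_pos 3
  have hm_4 := T.m_pos 4
  have hw_4 := T.w_pos 4
  have hx_1 := hmax 1
  have hx_2 := hmax 2
  have hx_3 := hmax 3
  have hx_4 := hmax 4
  have N_3_4 := mul_nonneg (hnn 3 4 (by decide)) (T.m_pos 4).le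
  have N_4_3 := mul_nonneg (hnn 4 3 (by decide)) (T.m_pos 3).le
  have R_0 := hrow 0
  rw [Fin.sum_univ_five, hdP 0, e_0_1, e_0_2, e_0_3, e_0_4] at R_0
  have R_1 := hrow 1
  rw [Fin.sum_univ_five, hdP 1, e_1_0, e_1_2, e_1_3, e_1_4] at R_1
  have R_2 := hrow 2
  rw [Fin.sum_univ_five, hdP 2, e_2_0, e_2_1, e_2_3, e_2_4] at R_2
  have R_3 := hrow 3
  rw [Fin.sum_univ_five, hdP 3, e_3_0, e_3_1, e_3_2] at R_3
  have R_4 := hrow 4
  rw [Fin.sum_univ_five, hdP 4, e_4_0, e_4_1, e_4_2] at R_4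
  have S_0_1 := hsym 0 1
  rw [e_0_1, e_1_0] at S_0_1
  have S_0_2 := hsym 0 2
  rw [e_0_2, e_2_0] at S_0_2
  have S_0_3 := hsym 0 3
  rw [e_0_3, e_3_0] at S_0_3
  have S_0_4 := hsym 0 4
  rw [e_0_4, e_4_0] at S_0_4
  have S_1_2 := hsym 1 2
  rw [e_1_2, e_2_1] at S_1_2
  have S_1_3 := hsym 1 3
  rw [e_1_3, e_3_1] at S_1_3
  have S_1_4 := hsym 1 4
  rw [e_1_4, e_4_1] at S_1_4
  have S_2_3 := hsym 2 3
  rw [e_2_3, e_3_2] at S_2_3
  have S_2_4 := hsym 2 4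
  rw [e_2_4, e_4_2] at S_2_4
  have S_3_4 := hsym 3 4
  have Q_3 := hpair 3 4 (by decide)
  generalize e_3_4 : T.picMatrix 3 4 = x_3 at *
  generalize e_4_3 : T.picMatrix 4 3 = y_3 at *
  rcases Q_3 with ⟨rfl, rfl⟩ | ⟨rfl, rfl⟩ | ⟨rfl, rfl⟩ | ⟨rfl, rfl⟩ | ⟨rfl, rfl⟩ | ⟨rfl, rfl⟩ | ⟨rfl, rfl⟩ | ⟨rfl, rfl⟩ | ⟨rfl, rfl⟩
  · exact absurd rfl hne
  · -- (3,4) = (1,1)
    omega
  · -- (3,4) = (1,2)
    omega
  · -- (3,4) = (2,1)
    omega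
  · -- (3,4) = (1,3)
    omega
  · -- (3,4) = (3,1)
    omega
  · -- (3,4) = (1,4)
    omega
  · -- (3,4) = (4,1)
    omega
  · -- (3,4) = (2,2)
    omega

theorem nd_159 (T : Models.NumericalType 5)
    (hG : NTGood T)
    (hmax : ∀ j, T.m j ≤ T.m 0)
    (e_0_1 : T.picMatrix 0 1 = 1)
    (e_0_2 : T.picMatrix 0 2 = 2)
    (e_0_3 : T.picMatrix 0 3 = 1)
    (e_1_0 : T.picMatrix 1 0 = 1)
    (e_1_2 : T.picMatrix 1 2 = 0)
    (e_1_3 : T.picMatrix 1 3 = 0)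
    (e_2_0 : T.picMatrix 2 0 = 1)
    (e_2_1 : T.picMatrix 2 1 = 0)
    (e_2_3 : T.picMatrix 2 3 = 0)
    (e_3_0 : T.picMatrix 3 0 = 1)
    (e_3_1 : T.picMatrix 3 1 = 0)
    (e_3_2 : T.picMatrix 3 2 = 0)
    (cl : ∀ a b : Fin 5, a.val < 3 → 4 ≤ b.val → T.picMatrix a b = 0) :
    Goal T := by
  by_cases hc : ∀ b : Fin 5, 4 ≤ b.val → T.picMatrix 3 b = 0
  · exact nd_160 T hG hmax e_0_1 e_0_2 e_0_3 e_1_0 e_1_2 e_1_3 e_2_0 e_2_1 e_2_3 e_3_0 e_3_1 e_3_2 (nt_cl_succ T 4 3 3 rfl cl hc)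
  · obtain ⟨τ, hfix, cl', z, hne⟩ := nt_wlog_step T 4 (by norm_num) 3 (by norm_num) 3 (by decide) cl hc
    apply goal_relabel T τ
    refine ex_161 (ntRelabel T τ) (hG.relabel τ) ?_ ?_ ?_ ?_ ?_ ?_ ?_ ?_ ?_ ?_ ?_ ?_ ?_ cl' z hne
    · intro j
      show T.m (τ j) ≤ T.m (τ 0)
      rw [hfix 0 (by decide)]
      exact hmax _
    · show T.picMatrix (τ 0) (τ 1) = 1
      rw [hfix 0 (by decide), hfix 1 (by decide)]
      exact e_0_1
    · show T.picMatrix (τ 0) (τ 2) = 2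
      rw [hfix 0 (by decide), hfix 2 (by decide)]
      exact e_0_2
    · show T.picMatrix (τ 0) (τ 3) = 1
      rw [hfix 0 (by decide), hfix 3 (by decide)]
      exact e_0_3
    · show T.picMatrix (τ 1) (τ 0) = 1
      rw [hfix 1 (by decide), hfix 0 (by decide)]
      exact e_1_0
    · show T.picMatrix (τ 1) (τ 2) = 0
      rw [hfix 1 (by decide), hfix 2 (by decide)]
      exact e_1_2
    · show T.picMatrix (τ 1) (τ 3) = 0
      rw [hfix 1 (by decide), hfix 3 (by decide)]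
      exact e_1_3
    · show T.picMatrix (τ 2) (τ 0) = 1
      rw [hfix 2 (by decide), hfix 0 (by decide)]
      exact e_2_0
    · show T.picMatrix (τ 2) (τ 1) = 0
      rw [hfix 2 (by decide), hfix 1 (by decide)]
      exact e_2_1
    · show T.picMatrix (τ 2) (τ 3) = 0
      rw [hfix 2 (by decide), hfix 3 (by decide)]
      exact e_2_3
    · show T.picMatrix (τ 3) (τ 0) = 1
      rw [hfix 3 (by decide), hfix 0 (by decide)]
      exact e_3_0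
    · show T.picMatrix (τ 3) (τ 1) = 0
      rw [hfix 3 (by decide), hfix 1 (by decide)]
      exact e_3_1
    · show T.picMatrix (τ 3) (τ 2) = 0
      rw [hfix 3 (by decide), hfix 2 (by decide)]
      exact e_3_2

theorem ex_162 (T : Models.NumericalType 5)
    (hG : NTGood T)
    (hmax : ∀ j, T.m j ≤ T.m 0)
    (e_0_1 : T.picMatrix 0 1 = 1)
    (e_0_2 : T.picMatrix 0 2 = 2)
    (e_0_3 : T.picMatrix 0 3 = 1)
    (e_1_0 : T.picMatrix 1 0 = 1)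
    (e_1_2 : T.picMatrix 1 2 = 0)
    (e_1_3 : T.picMatrix 1 3 = 0)
    (e_2_0 : T.picMatrix 2 0 = 1)
    (e_2_1 : T.picMatrix 2 1 = 0)
    (e_2_3 : T.picMatrix 2 3 = 0)
    (e_3_0 : T.picMatrix 3 0 = 1)
    (e_3_1 : T.picMatrix 3 1 = 0)
    (e_3_2 : T.picMatrix 3 2 = 0)
    (cl : ∀ a b : Fin 5, a.val < 2 → 5 ≤ b.val → T.picMatrix a b = 0)
    (z : ∀ a : Fin 5, a.val < 2 → T.picMatrix a 4 = 0)
    (hne : T.picMatrix 2 4 ≠ 0) :
    Goal T := by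
  have e_0_4 : T.picMatrix 0 4 = 0 := z 0 (by decide)
  have e_4_0 : T.picMatrix 4 0 = 0 := nt_pic_zero_symm T 0 4 e_0_4
  have e_1_4 : T.picMatrix 1 4 = 0 := z 1 (by decide)
  have e_4_1 : T.picMatrix 4 1 = 0 := nt_pic_zero_symm T 1 4 e_1_4
  obtain ⟨hg0, hdA, hdP, hnn, hrow, hsym, hpair⟩ := ntgood_data T (by norm_num) hG
  have hm_0 := T.m_pos 0
  have hw_0 := T.w_pos 0
  have hm_1 := T.m_pos 1
  have hw_1 := T.w_pos 1
  have hm_2 := T.m_pos 2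
  have hw_2 := T.w_pos 2
  have hm_3 := T.m_pos 3
  have hw_3 := T.w_pos 3
  have hm_4 := T.m_pos 4
  have hw_4 := T.w_pos 4
  have hx_1 := hmax 1
  have hx_2 := hmax 2
  have hx_3 := hmax 3
  have hx_4 := hmax 4
  have N_2_4 := mul_nonneg (hnn 2 4 (by decide)) (T.m_pos 4).le
  have N_4_2 := mul_nonneg (hnn 4 2 (by decide)) (T.m_pos 2).le
  have N_3_4 := mul_nonneg (hnn 3 4 (by decide)) (T.m_pos 4).le
  have N_4_3 := mul_nonneg (hnn 4 3 (by decide)) (T.m_pos 3).le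
  have R_0 := hrow 0
  rw [Fin.sum_univ_five, hdP 0, e_0_1, e_0_2, e_0_3, e_0_4] at R_0
  have R_1 := hrow 1
  rw [Fin.sum_univ_five, hdP 1, e_1_0, e_1_2, e_1_3, e_1_4] at R_1
  have R_2 := hrow 2
  rw [Fin.sum_univ_five, hdP 2, e_2_0, e_2_1, e_2_3] at R_2
  have R_3 := hrow 3
  rw [Fin.sum_univ_five, hdP 3, e_3_0, e_3_1, e_3_2] at R_3
  have R_4 := hrow 4
  rw [Fin.sum_univ_five, hdP 4, e_4_0, e_4_1] at R_4
  have S_0_1 := hsym 0 1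
  rw [e_0_1, e_1_0] at S_0_1
  have S_0_2 := hsym 0 2
  rw [e_0_2, e_2_0] at S_0_2
  have S_0_3 := hsym 0 3
  rw [e_0_3, e_3_0] at S_0_3
  have S_0_4 := hsym 0 4
  rw [e_0_4, e_4_0] at S_0_4
  have S_1_2 := hsym 1 2
  rw [e_1_2, e_2_1] at S_1_2
  have S_1_3 := hsym 1 3
  rw [e_1_3, e_3_1] at S_1_3
  have S_1_4 := hsym 1 4
  rw [e_1_4, e_4_1] at S_1_4
  have S_2_3 := hsym 2 3
  rw [e_2_3, e_3_2] at S_2_3
  have S_2_4 := hsym 2 4
  have S_3_4 := hsym 3 4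
  have Q_2 := hpair 2 4 (by decide)
  have Q_3 := hpair 3 4 (by decide)
  generalize e_2_4 : T.picMatrix 2 4 = x_2 at *
  generalize e_4_2 : T.picMatrix 4 2 = y_2 at *
  generalize e_3_4 : T.picMatrix 3 4 = x_3 at *
  generalize e_4_3 : T.picMatrix 4 3 = y_3 at *
  rcases Q_2 with ⟨rfl, rfl⟩ | ⟨rfl, rfl⟩ | ⟨rfl, rfl⟩ | ⟨rfl, rfl⟩ | ⟨rfl, rfl⟩ | ⟨rfl, rfl⟩ | ⟨rfl, rfl⟩ | ⟨rfl, rfl⟩ | ⟨rfl, rfl⟩
  · exact absurd rfl hne
  · omega
  · omega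
  · omega
  · omega
  · omega
  · omega
  · omega
  · omega

theorem nd_158 (T : Models.NumericalType 5)
    (hG : NTGood T)
    (hmax : ∀ j, T.m j ≤ T.m 0)
    (e_0_1 : T.picMatrix 0 1 = 1)
    (e_0_2 : T.picMatrix 0 2 = 2)
    (e_0_3 : T.picMatrix 0 3 = 1)
    (e_1_0 : T.picMatrix 1 0 = 1)
    (e_1_2 : T.picMatrix 1 2 = 0)
    (e_1_3 : T.picMatrix 1 3 = 0)
    (e_2_0 : T.picMatrix 2 0 = 1)
    (e_2_1 : T.picMatrix 2 1 = 0)
    (e_2_3 : T.picMatrix 2 3 = 0)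
    (e_3_0 : T.picMatrix 3 0 = 1)
    (e_3_1 : T.picMatrix 3 1 = 0)
    (e_3_2 : T.picMatrix 3 2 = 0)
    (cl : ∀ a b : Fin 5, a.val < 2 → 4 ≤ b.val → T.picMatrix a b = 0) :
    Goal T := by
  by_cases hc : ∀ b : Fin 5, 4 ≤ b.val → T.picMatrix 2 b = 0
  · exact nd_159 T hG hmax e_0_1 e_0_2 e_0_3 e_1_0 e_1_2 e_1_3 e_2_0 e_2_1 e_2_3 e_3_0 e_3_1 e_3_2 (nt_cl_succ T 4 2 2 rfl cl hc)
  · obtain ⟨τ, hfix, cl', z, hne⟩ := nt_wlog_step T 4 (by norm_num) 2 (by norm_num) 2 (by decide) cl hc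
    apply goal_relabel T τ
    refine ex_162 (ntRelabel T τ) (hG.relabel τ) ?_ ?_ ?_ ?_ ?_ ?_ ?_ ?_ ?_ ?_ ?_ ?_ ?_ cl' z hne
    · intro j
      show T.m (τ j) ≤ T.m (τ 0)
      rw [hfix 0 (by decide)]
      exact hmax _
    · show T.picMatrix (τ 0) (τ 1) = 1
      rw [hfix 0 (by decide), hfix 1 (by decide)]
      exact e_0_1
    · show T.picMatrix (τ 0) (τ 2) = 2
      rw [hfix 0 (by decide), hfix 2 (by decide)]
      exact e_0_2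
    · show T.picMatrix (τ 0) (τ 3) = 1
      rw [hfix 0 (by decide), hfix 3 (by decide)]
      exact e_0_3
    · show T.picMatrix (τ 1) (τ 0) = 1
      rw [hfix 1 (by decide), hfix 0 (by decide)]
      exact e_1_0
    · show T.picMatrix (τ 1) (τ 2) = 0
      rw [hfix 1 (by decide), hfix 2 (by decide)]
      exact e_1_2
    · show T.picMatrix (τ 1) (τ 3) = 0
      rw [hfix 1 (by decide), hfix 3 (by decide)]
      exact e_1_3
    · show T.picMatrix (τ 2) (τ 0) = 1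
      rw [hfix 2 (by decide), hfix 0 (by decide)]
      exact e_2_0
    · show T.picMatrix (τ 2) (τ 1) = 0
      rw [hfix 2 (by decide), hfix 1 (by decide)]
      exact e_2_1
    · show T.picMatrix (τ 2) (τ 3) = 0
      rw [hfix 2 (by decide), hfix 3 (by decide)]
      exact e_2_3
    · show T.picMatrix (τ 3) (τ 0) = 1
      rw [hfix 3 (by decide), hfix 0 (by decide)]
      exact e_3_0
    · show T.picMatrix (τ 3) (τ 1) = 0
      rw [hfix 3 (by decide), hfix 1 (by decide)]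
      exact e_3_1
    · show T.picMatrix (τ 3) (τ 2) = 0
      rw [hfix 3 (by decide), hfix 2 (by decide)]
      exact e_3_2

theorem ex_163 (T : Models.NumericalType 5)
    (hG : NTGood T)
    (hmax : ∀ j, T.m j ≤ T.m 0)
    (e_0_1 : T.picMatrix 0 1 = 1)
    (e_0_2 : T.picMatrix 0 2 = 2)
    (e_0_3 : T.picMatrix 0 3 = 1)
    (e_1_0 : T.picMatrix 1 0 = 1)
    (e_1_2 : T.picMatrix 1 2 = 0)
    (e_1_3 : T.picMatrix 1 3 = 0)
    (e_2_0 : T.picMatrix 2 0 = 1)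
    (e_2_1 : T.picMatrix 2 1 = 0)
    (e_2_3 : T.picMatrix 2 3 = 0)
    (e_3_0 : T.picMatrix 3 0 = 1)
    (e_3_1 : T.picMatrix 3 1 = 0)
    (e_3_2 : T.picMatrix 3 2 = 0)
    (cl : ∀ a b : Fin 5, a.val < 1 → 5 ≤ b.val → T.picMatrix a b = 0)
    (z : ∀ a : Fin 5, a.val < 1 → T.picMatrix a 4 = 0)
    (hne : T.picMatrix 1 4 ≠ 0) :
    Goal T := by
  have e_0_4 : T.picMatrix 0 4 = 0 := z 0 (by decide)
  have e_4_0 : T.picMatrix 4 0 = 0 := nt_pic_zero_symm T 0 4 e_0_4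
  obtain ⟨hg0, hdA, hdP, hnn, hrow, hsym, hpair⟩ := ntgood_data T (by norm_num) hG
  have hm_0 := T.m_pos 0
  have hw_0 := T.w_pos 0
  have hm_1 := T.m_pos 1
  have hw_1 := T.w_pos 1
  have hm_2 := T.m_pos 2
  have hw_2 := T.w_pos 2
  have hm_3 := T.m_pos 3
  have hw_3 := T.w_pos 3
  have hm_4 := T.m_pos 4
  have hw_4 := T.w_pos 4
  have hx_1 := hmax 1
  have hx_2 := hmax 2
  have hx_3 := hmax 3
  have hx_4 := hmax 4
  have N_1_4 := mul_nonneg (hnn 1 4 (by decide)) (T.m_pos 4).le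
  have N_4_1 := mul_nonneg (hnn 4 1 (by decide)) (T.m_pos 1).le
  have N_2_4 := mul_nonneg (hnn 2 4 (by decide)) (T.m_pos 4).le
  have N_4_2 := mul_nonneg (hnn 4 2 (by decide)) (T.m_pos 2).le
  have N_3_4 := mul_nonneg (hnn 3 4 (by decide)) (T.m_pos 4).le
  have N_4_3 := mul_nonneg (hnn 4 3 (by decide)) (T.m_pos 3).le
  have R_0 := hrow 0
  rw [Fin.sum_univ_five, hdP 0, e_0_1, e_0_2, e_0_3, e_0_4] at R_0
  have R_1 := hrow 1
  rw [Fin.sum_univ_five, hdP 1, e_1_0, e_1_2, e_1_3] at R_1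
  have R_2 := hrow 2
  rw [Fin.sum_univ_five, hdP 2, e_2_0, e_2_1, e_2_3] at R_2
  have R_3 := hrow 3
  rw [Fin.sum_univ_five, hdP 3, e_3_0, e_3_1, e_3_2] at R_3
  have R_4 := hrow 4
  rw [Fin.sum_univ_five, hdP 4, e_4_0] at R_4
  have S_0_1 := hsym 0 1
  rw [e_0_1, e_1_0] at S_0_1
  have S_0_2 := hsym 0 2
  rw [e_0_2, e_2_0] at S_0_2
  have S_0_3 := hsym 0 3
  rw [e_0_3, e_3_0] at S_0_3
  have S_0_4 := hsym 0 4
  rw [e_0_4, e_4_0] at S_0_4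
  have S_1_2 := hsym 1 2
  rw [e_1_2, e_2_1] at S_1_2
  have S_1_3 := hsym 1 3
  rw [e_1_3, e_3_1] at S_1_3
  have S_1_4 := hsym 1 4
  have S_2_3 := hsym 2 3
  rw [e_2_3, e_3_2] at S_2_3
  have S_2_4 := hsym 2 4
  have S_3_4 := hsym 3 4
  have Q_1 := hpair 1 4 (by decide)
  have Q_2 := hpair 2 4 (by decide)
  have Q_3 := hpair 3 4 (by decide)
  generalize e_1_4 : T.picMatrix 1 4 = x_1 at *
  generalize e_4_1 : T.picMatrix 4 1 = y_1 at *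
  generalize e_2_4 : T.picMatrix 2 4 = x_2 at *
  generalize e_4_2 : T.picMatrix 4 2 = y_2 at *
  generalize e_3_4 : T.picMatrix 3 4 = x_3 at *
  generalize e_4_3 : T.picMatrix 4 3 = y_3 at *
  rcases Q_1 with ⟨rfl, rfl⟩ | ⟨rfl, rfl⟩ | ⟨rfl, rfl⟩ | ⟨rfl, rfl⟩ | ⟨rfl, rfl⟩ | ⟨rfl, rfl⟩ | ⟨rfl, rfl⟩ | ⟨rfl, rfl⟩ | ⟨rfl, rfl⟩
  · exact absurd rfl hne
  · omega
  · omega
  · omega
  · omega
  · omega
  · omega
  · omega
  · omega

theorem nd_157 (T : Models.NumericalType 5)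
    (hG : NTGood T)
    (hmax : ∀ j, T.m j ≤ T.m 0)
    (e_0_1 : T.picMatrix 0 1 = 1)
    (e_0_2 : T.picMatrix 0 2 = 2)
    (e_0_3 : T.picMatrix 0 3 = 1)
    (e_1_0 : T.picMatrix 1 0 = 1)
    (e_1_2 : T.picMatrix 1 2 = 0)
    (e_1_3 : T.picMatrix 1 3 = 0)
    (e_2_0 : T.picMatrix 2 0 = 1)
    (e_2_1 : T.picMatrix 2 1 = 0)
    (e_2_3 : T.picMatrix 2 3 = 0)
    (e_3_0 : T.picMatrix 3 0 = 1)
    (e_3_1 : T.picMatrix 3 1 = 0)
    (e_3_2 : T.picMatrix 3 2 = 0)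
    (cl : ∀ a b : Fin 5, a.val < 1 → 4 ≤ b.val → T.picMatrix a b = 0) :
    Goal T := by
  by_cases hc : ∀ b : Fin 5, 4 ≤ b.val → T.picMatrix 1 b = 0
  · exact nd_158 T hG hmax e_0_1 e_0_2 e_0_3 e_1_0 e_1_2 e_1_3 e_2_0 e_2_1 e_2_3 e_3_0 e_3_1 e_3_2 (nt_cl_succ T 4 1 1 rfl cl hc)
  · obtain ⟨τ, hfix, cl', z, hne⟩ := nt_wlog_step T 4 (by norm_num) 1 (by norm_num) 1 (by decide) cl hc
    apply goal_relabel T τ
    refine ex_163 (ntRelabel T τ) (hG.relabel τ) ?_ ?_ ?_ ?_ ?_ ?_ ?_ ?_ ?_ ?_ ?_ ?_ ?_ cl' z hne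
    · intro j
      show T.m (τ j) ≤ T.m (τ 0)
      rw [hfix 0 (by decide)]
      exact hmax _
    · show T.picMatrix (τ 0) (τ 1) = 1
      rw [hfix 0 (by decide), hfix 1 (by decide)]
      exact e_0_1
    · show T.picMatrix (τ 0) (τ 2) = 2
      rw [hfix 0 (by decide), hfix 2 (by decide)]
      exact e_0_2
    · show T.picMatrix (τ 0) (τ 3) = 1
      rw [hfix 0 (by decide), hfix 3 (by decide)]
      exact e_0_3
    · show T.picMatrix (τ 1) (τ 0) = 1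
      rw [hfix 1 (by decide), hfix 0 (by decide)]
      exact e_1_0
    · show T.picMatrix (τ 1) (τ 2) = 0
      rw [hfix 1 (by decide), hfix 2 (by decide)]
      exact e_1_2
    · show T.picMatrix (τ 1) (τ 3) = 0
      rw [hfix 1 (by decide), hfix 3 (by decide)]
      exact e_1_3
    · show T.picMatrix (τ 2) (τ 0) = 1
      rw [hfix 2 (by decide), hfix 0 (by decide)]
      exact e_2_0
    · show T.picMatrix (τ 2) (τ 1) = 0
      rw [hfix 2 (by decide), hfix 1 (by decide)]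
      exact e_2_1
    · show T.picMatrix (τ 2) (τ 3) = 0
      rw [hfix 2 (by decide), hfix 3 (by decide)]
      exact e_2_3
    · show T.picMatrix (τ 3) (τ 0) = 1
      rw [hfix 3 (by decide), hfix 0 (by decide)]
      exact e_3_0
    · show T.picMatrix (τ 3) (τ 1) = 0
      rw [hfix 3 (by decide), hfix 1 (by decide)]
      exact e_3_1
    · show T.picMatrix (τ 3) (τ 2) = 0
      rw [hfix 3 (by decide), hfix 2 (by decide)]
      exact e_3_2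

theorem ex_164 (T : Models.NumericalType 5)
    (hG : NTGood T)
    (hmax : ∀ j, T.m j ≤ T.m 0)
    (e_0_1 : T.picMatrix 0 1 = 1)
    (e_0_2 : T.picMatrix 0 2 = 2)
    (e_0_3 : T.picMatrix 0 3 = 1)
    (e_1_0 : T.picMatrix 1 0 = 1)
    (e_1_2 : T.picMatrix 1 2 = 0)
    (e_1_3 : T.picMatrix 1 3 = 0)
    (e_2_0 : T.picMatrix 2 0 = 1)
    (e_2_1 : T.picMatrix 2 1 = 0)
    (e_2_3 : T.picMatrix 2 3 = 0)
    (e_3_0 : T.picMatrix 3 0 = 1)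
    (e_3_1 : T.picMatrix 3 1 = 0)
    (e_3_2 : T.picMatrix 3 2 = 0)
    (cl : ∀ a b : Fin 5, a.val < 0 → 5 ≤ b.val → T.picMatrix a b = 0)
    (z : ∀ a : Fin 5, a.val < 0 → T.picMatrix a 4 = 0)
    (hne : T.picMatrix 0 4 ≠ 0) :
    Goal T := by
  obtain ⟨hg0, hdA, hdP, hnn, hrow, hsym, hpair⟩ := ntgood_data T (by norm_num) hG
  have hm_0 := T.m_pos 0
  have hw_0 := T.w_pos 0
  have hm_1 := T.m_pos 1
  have hw_1 := T.w_pos 1
  have hm_2 := T.m_pos 2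
  have hw_2 := T.w_pos 2
  have hm_3 := T.m_pos 3
  have hw_3 := T.w_pos 3
  have hm_4 := T.m_pos 4
  have hw_4 := T.w_pos 4
  have hx_1 := hmax 1
  have hx_2 := hmax 2
  have hx_3 := hmax 3
  have hx_4 := hmax 4
  have N_0_4 := mul_nonneg (hnn 0 4 (by decide)) (T.m_pos 4).le
  have N_4_0 := mul_nonneg (hnn 4 0 (by decide)) (T.m_pos 0).le
  have N_1_4 := mul_nonneg (hnn 1 4 (by decide)) (T.m_pos 4).le
  have N_4_1 := mul_nonneg (hnn 4 1 (by decide)) (T.m_pos 1).le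
  have N_2_4 := mul_nonneg (hnn 2 4 (by decide)) (T.m_pos 4).le
  have N_4_2 := mul_nonneg (hnn 4 2 (by decide)) (T.m_pos 2).le
  have N_3_4 := mul_nonneg (hnn 3 4 (by decide)) (T.m_pos 4).le
  have N_4_3 := mul_nonneg (hnn 4 3 (by decide)) (T.m_pos 3).le
  have R_0 := hrow 0
  rw [Fin.sum_univ_five, hdP 0, e_0_1, e_0_2, e_0_3] at R_0
  have R_1 := hrow 1
  rw [Fin.sum_univ_five, hdP 1, e_1_0, e_1_2, e_1_3] at R_1
  have R_2 := hrow 2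
  rw [Fin.sum_univ_five, hdP 2, e_2_0, e_2_1, e_2_3] at R_2
  have R_3 := hrow 3
  rw [Fin.sum_univ_five, hdP 3, e_3_0, e_3_1, e_3_2] at R_3
  have R_4 := hrow 4
  rw [Fin.sum_univ_five, hdP 4] at R_4
  have S_0_1 := hsym 0 1
  rw [e_0_1, e_1_0] at S_0_1
  have S_0_2 := hsym 0 2
  rw [e_0_2, e_2_0] at S_0_2
  have S_0_3 := hsym 0 3
  rw [e_0_3, e_3_0] at S_0_3
  have S_0_4 := hsym 0 4
  have S_1_2 := hsym 1 2
  rw [e_1_2, e_2_1] at S_1_2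
  have S_1_3 := hsym 1 3
  rw [e_1_3, e_3_1] at S_1_3
  have S_1_4 := hsym 1 4
  have S_2_3 := hsym 2 3
  rw [e_2_3, e_3_2] at S_2_3
  have S_2_4 := hsym 2 4
  have S_3_4 := hsym 3 4
  have Q_0 := hpair 0 4 (by decide)
  have Q_1 := hpair 1 4 (by decide)
  have Q_2 := hpair 2 4 (by decide)
  have Q_3 := hpair 3 4 (by decide)
  generalize e_0_4 : T.picMatrix 0 4 = x_0 at *
  generalize e_4_0 : T.picMatrix 4 0 = y_0 at *
  generalize e_1_4 : T.picMatrix 1 4 = x_1 at *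
  generalize e_4_1 : T.picMatrix 4 1 = y_1 at *
  generalize e_2_4 : T.picMatrix 2 4 = x_2 at *
  generalize e_4_2 : T.picMatrix 4 2 = y_2 at *
  generalize e_3_4 : T.picMatrix 3 4 = x_3 at *
  generalize e_4_3 : T.picMatrix 4 3 = y_3 at *
  rcases Q_0 with ⟨rfl, rfl⟩ | ⟨rfl, rfl⟩ | ⟨rfl, rfl⟩ | ⟨rfl, rfl⟩ | ⟨rfl, rfl⟩ | ⟨rfl, rfl⟩ | ⟨rfl, rfl⟩ | ⟨rfl, rfl⟩ | ⟨rfl, rfl⟩
  · exact absurd rfl hne
  · omega
  · omega
  · omega
  · omega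
  · omega
  · omega
  · omega
  · omega

theorem nd_156 (T : Models.NumericalType 5)
    (hG : NTGood T)
    (hmax : ∀ j, T.m j ≤ T.m 0)
    (e_0_1 : T.picMatrix 0 1 = 1)
    (e_0_2 : T.picMatrix 0 2 = 2)
    (e_0_3 : T.picMatrix 0 3 = 1)
    (e_1_0 : T.picMatrix 1 0 = 1)
    (e_1_2 : T.picMatrix 1 2 = 0)
    (e_1_3 : T.picMatrix 1 3 = 0)
    (e_2_0 : T.picMatrix 2 0 = 1)
    (e_2_1 : T.picMatrix 2 1 = 0)
    (e_2_3 : T.picMatrix 2 3 = 0)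
    (e_3_0 : T.picMatrix 3 0 = 1)
    (e_3_1 : T.picMatrix 3 1 = 0)
    (e_3_2 : T.picMatrix 3 2 = 0)
    (cl : ∀ a b : Fin 5, a.val < 0 → 4 ≤ b.val → T.picMatrix a b = 0) :
    Goal T := by
  by_cases hc : ∀ b : Fin 5, 4 ≤ b.val → T.picMatrix 0 b = 0
  · exact nd_157 T hG hmax e_0_1 e_0_2 e_0_3 e_1_0 e_1_2 e_1_3 e_2_0 e_2_1 e_2_3 e_3_0 e_3_1 e_3_2 (nt_cl_succ T 4 0 0 rfl cl hc)
  · obtain ⟨τ, hfix, cl', z, hne⟩ := nt_wlog_step T 4 (by norm_num) 0 (by norm_num) 0 (by decide) cl hc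
    apply goal_relabel T τ
    refine ex_164 (ntRelabel T τ) (hG.relabel τ) ?_ ?_ ?_ ?_ ?_ ?_ ?_ ?_ ?_ ?_ ?_ ?_ ?_ cl' z hne
    · intro j
      show T.m (τ j) ≤ T.m (τ 0)
      rw [hfix 0 (by decide)]
      exact hmax _
    · show T.picMatrix (τ 0) (τ 1) = 1
      rw [hfix 0 (by decide), hfix 1 (by decide)]
      exact e_0_1
    · show T.picMatrix (τ 0) (τ 2) = 2
      rw [hfix 0 (by decide), hfix 2 (by decide)]
      exact e_0_2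
    · show T.picMatrix (τ 0) (τ 3) = 1
      rw [hfix 0 (by decide), hfix 3 (by decide)]
      exact e_0_3
    · show T.picMatrix (τ 1) (τ 0) = 1
      rw [hfix 1 (by decide), hfix 0 (by decide)]
      exact e_1_0
    · show T.picMatrix (τ 1) (τ 2) = 0
      rw [hfix 1 (by decide), hfix 2 (by decide)]
      exact e_1_2
    · show T.picMatrix (τ 1) (τ 3) = 0
      rw [hfix 1 (by decide), hfix 3 (by decide)]
      exact e_1_3
    · show T.picMatrix (τ 2) (τ 0) = 1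
      rw [hfix 2 (by decide), hfix 0 (by decide)]
      exact e_2_0
    · show T.picMatrix (τ 2) (τ 1) = 0
      rw [hfix 2 (by decide), hfix 1 (by decide)]
      exact e_2_1
    · show T.picMatrix (τ 2) (τ 3) = 0
      rw [hfix 2 (by decide), hfix 3 (by decide)]
      exact e_2_3
    · show T.picMatrix (τ 3) (τ 0) = 1
      rw [hfix 3 (by decide), hfix 0 (by decide)]
      exact e_3_0
    · show T.picMatrix (τ 3) (τ 1) = 0
      rw [hfix 3 (by decide), hfix 1 (by decide)]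
      exact e_3_1
    · show T.picMatrix (τ 3) (τ 2) = 0
      rw [hfix 3 (by decide), hfix 2 (by decide)]
      exact e_3_2

theorem ex_155 (T : Models.NumericalType 5)
    (hG : NTGood T)
    (hmax : ∀ j, T.m j ≤ T.m 0)
    (e_0_1 : T.picMatrix 0 1 = 1)
    (e_0_2 : T.picMatrix 0 2 = 2)
    (e_1_0 : T.picMatrix 1 0 = 1)
    (e_1_2 : T.picMatrix 1 2 = 0)
    (e_2_0 : T.picMatrix 2 0 = 1)
    (e_2_1 : T.picMatrix 2 1 = 0)
    (cl : ∀ a b : Fin 5, a.val < 0 → 4 ≤ b.val → T.picMatrix a b = 0)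
    (z : ∀ a : Fin 5, a.val < 0 → T.picMatrix a 3 = 0)
    (hne : T.picMatrix 0 3 ≠ 0) :
    Goal T := by
  obtain ⟨hg0, hdA, hdP, hnn, hrow, hsym, hpair⟩ := ntgood_data T (by norm_num) hG
  have hm_0 := T.m_pos 0
  have hw_0 := T.w_pos 0
  have hm_1 := T.m_pos 1
  have hw_1 := T.w_pos 1
  have hm_2 := T.m_pos 2
  have hw_2 := T.w_pos 2
  have hm_3 := T.m_pos 3
  have hw_3 := T.w_pos 3
  have hx_1 := hmax 1
  have hx_2 := hmax 2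
  have hx_3 := hmax 3
  have N_0_4 := mul_nonneg (hnn 0 4 (by decide)) (T.m_pos 4).le
  have N_1_4 := mul_nonneg (hnn 1 4 (by decide)) (T.m_pos 4).le
  have N_2_4 := mul_nonneg (hnn 2 4 (by decide)) (T.m_pos 4).le
  have N_3_4 := mul_nonneg (hnn 3 4 (by decide)) (T.m_pos 4).le
  have N_0_3 := mul_nonneg (hnn 0 3 (by decide)) (T.m_pos 3).le
  have N_3_0 := mul_nonneg (hnn 3 0 (by decide)) (T.m_pos 0).le
  have N_1_3 := mul_nonneg (hnn 1 3 (by decide)) (T.m_pos 3).le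
  have N_3_1 := mul_nonneg (hnn 3 1 (by decide)) (T.m_pos 1).le
  have N_2_3 := mul_nonneg (hnn 2 3 (by decide)) (T.m_pos 3).le
  have N_3_2 := mul_nonneg (hnn 3 2 (by decide)) (T.m_pos 2).le
  have R_0 := hrow 0
  rw [Fin.sum_univ_five, hdP 0, e_0_1, e_0_2] at R_0
  have R_1 := hrow 1
  rw [Fin.sum_univ_five, hdP 1, e_1_0, e_1_2] at R_1
  have R_2 := hrow 2
  rw [Fin.sum_univ_five, hdP 2, e_2_0, e_2_1] at R_2
  have R_3 := hrow 3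
  rw [Fin.sum_univ_five, hdP 3] at R_3
  have S_0_1 := hsym 0 1
  rw [e_0_1, e_1_0] at S_0_1
  have S_0_2 := hsym 0 2
  rw [e_0_2, e_2_0] at S_0_2
  have S_0_3 := hsym 0 3
  have S_1_2 := hsym 1 2
  rw [e_1_2, e_2_1] at S_1_2
  have S_1_3 := hsym 1 3
  have S_2_3 := hsym 2 3
  have Q_0 := hpair 0 3 (by decide)
  have Q_1 := hpair 1 3 (by decide)
  have Q_2 := hpair 2 3 (by decide)
  generalize e_0_3 : T.picMatrix 0 3 = x_0 at *
  generalize e_3_0 : T.picMatrix 3 0 = y_0 at *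
  generalize e_1_3 : T.picMatrix 1 3 = x_1 at *
  generalize e_3_1 : T.picMatrix 3 1 = y_1 at *
  generalize e_2_3 : T.picMatrix 2 3 = x_2 at *
  generalize e_3_2 : T.picMatrix 3 2 = y_2 at *
  rcases Q_0 with ⟨rfl, rfl⟩ | ⟨rfl, rfl⟩ | ⟨rfl, rfl⟩ | ⟨rfl, rfl⟩ | ⟨rfl, rfl⟩ | ⟨rfl, rfl⟩ | ⟨rfl, rfl⟩ | ⟨rfl, rfl⟩ | ⟨rfl, rfl⟩
  · exact absurd rfl hne
  · -- (0,3) = (1,1)
    rcases Q_1 with ⟨rfl, rfl⟩ | ⟨rfl, rfl⟩ | ⟨rfl, rfl⟩ | ⟨rfl, rfl⟩ | ⟨rfl, rfl⟩ | ⟨rfl, rfl⟩ | ⟨rfl, rfl⟩ | ⟨rfl, rfl⟩ | ⟨rfl, rfl⟩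
    · -- (1,3) = (0,0)
      rcases Q_2 with ⟨rfl, rfl⟩ | ⟨rfl, rfl⟩ | ⟨rfl, rfl⟩ | ⟨rfl, rfl⟩ | ⟨rfl, rfl⟩ | ⟨rfl, rfl⟩ | ⟨rfl, rfl⟩ | ⟨rfl, rfl⟩ | ⟨rfl, rfl⟩
      · -- (2,3) = (0,0)
        exact nd_156 T hG hmax e_0_1 e_0_2 e_0_3 e_1_0 e_1_2 e_1_3 e_2_0 e_2_1 e_2_3 e_3_0 e_3_1 e_3_2 cl
      · -- (2,3) = (1,1)
        omega
      · -- (2,3) = (1,2)
        omega
      · -- (2,3) = (2,1)
        omega
      · -- (2,3) = (1,3)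
        omega
      · -- (2,3) = (3,1)
        omega
      · -- (2,3) = (1,4)
        omega
      · -- (2,3) = (4,1)
        omega
      · -- (2,3) = (2,2)
        omega
    · omega
    · omega
    · omega
    · omega
    · omega
    · omega
    · omega
    · omega
  · omega
  · omega
  · omega
  · omega
  · omega
  · omega
  · omega

theorem nd_118 (T : Models.NumericalType 5)
    (hG : NTGood T)
    (hmax : ∀ j, T.m j ≤ T.m 0)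
    (e_0_1 : T.picMatrix 0 1 = 1)
    (e_0_2 : T.picMatrix 0 2 = 2)
    (e_1_0 : T.picMatrix 1 0 = 1)
    (e_1_2 : T.picMatrix 1 2 = 0)
    (e_2_0 : T.picMatrix 2 0 = 1)
    (e_2_1 : T.picMatrix 2 1 = 0)
    (cl : ∀ a b : Fin 5, a.val < 0 → 3 ≤ b.val → T.picMatrix a b = 0) :
    Goal T := by
  by_cases hc : ∀ b : Fin 5, 3 ≤ b.val → T.picMatrix 0 b = 0
  · exact nd_119 T hG hmax e_0_1 e_0_2 e_1_0 e_1_2 e_2_0 e_2_1 (nt_cl_succ T 3 0 0 rfl cl hc)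
  · obtain ⟨τ, hfix, cl', z, hne⟩ := nt_wlog_step T 3 (by norm_num) 0 (by norm_num) 0 (by decide) cl hc
    apply goal_relabel T τ
    refine ex_155 (ntRelabel T τ) (hG.relabel τ) ?_ ?_ ?_ ?_ ?_ ?_ ?_ cl' z hne
    · intro j
      show T.m (τ j) ≤ T.m (τ 0)
      rw [hfix 0 (by decide)]
      exact hmax _
    · show T.picMatrix (τ 0) (τ 1) = 1
      rw [hfix 0 (by decide), hfix 1 (by decide)]
      exact e_0_1
    · show T.picMatrix (τ 0) (τ 2) = 2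
      rw [hfix 0 (by decide), hfix 2 (by decide)]
      exact e_0_2
    · show T.picMatrix (τ 1) (τ 0) = 1
      rw [hfix 1 (by decide), hfix 0 (by decide)]
      exact e_1_0
    · show T.picMatrix (τ 1) (τ 2) = 0
      rw [hfix 1 (by decide), hfix 2 (by decide)]
      exact e_1_2
    · show T.picMatrix (τ 2) (τ 0) = 1
      rw [hfix 2 (by decide), hfix 0 (by decide)]
      exact e_2_0
    · show T.picMatrix (τ 2) (τ 1) = 0
      rw [hfix 2 (by decide), hfix 1 (by decide)]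
      exact e_2_1

theorem nd_168 (T : Models.NumericalType 5)
    (hG : NTGood T)
    (hmax : ∀ j, T.m j ≤ T.m 0)
    (e_0_1 : T.picMatrix 0 1 = 1)
    (e_0_2 : T.picMatrix 0 2 = 3)
    (e_1_0 : T.picMatrix 1 0 = 1)
    (e_1_2 : T.picMatrix 1 2 = 0)
    (e_2_0 : T.picMatrix 2 0 = 1)
    (e_2_1 : T.picMatrix 2 1 = 0)
    (cl : ∀ a b : Fin 5, a.val < 3 → 3 ≤ b.val → T.picMatrix a b = 0) :
    Goal T := by
  exact (nt_closed_false T 3 (by norm_num) (by norm_num) cl).elim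

theorem ex_169 (T : Models.NumericalType 5)
    (hG : NTGood T)
    (hmax : ∀ j, T.m j ≤ T.m 0)
    (e_0_1 : T.picMatrix 0 1 = 1)
    (e_0_2 : T.picMatrix 0 2 = 3)
    (e_1_0 : T.picMatrix 1 0 = 1)
    (e_1_2 : T.picMatrix 1 2 = 0)
    (e_2_0 : T.picMatrix 2 0 = 1)
    (e_2_1 : T.picMatrix 2 1 = 0)
    (cl : ∀ a b : Fin 5, a.val < 2 → 4 ≤ b.val → T.picMatrix a b = 0)
    (z : ∀ a : Fin 5, a.val < 2 → T.picMatrix a 3 = 0)
    (hne : T.picMatrix 2 3 ≠ 0) :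
    Goal T := by
  have e_0_3 : T.picMatrix 0 3 = 0 := z 0 (by decide)
  have e_3_0 : T.picMatrix 3 0 = 0 := nt_pic_zero_symm T 0 3 e_0_3
  have e_1_3 : T.picMatrix 1 3 = 0 := z 1 (by decide)
  have e_3_1 : T.picMatrix 3 1 = 0 := nt_pic_zero_symm T 1 3 e_1_3
  obtain ⟨hg0, hdA, hdP, hnn, hrow, hsym, hpair⟩ := ntgood_data T (by norm_num) hG
  have hm_0 := T.m_pos 0
  have hw_0 := T.w_pos 0
  have hm_1 := T.m_pos 1
  have hw_1 := T.w_pos 1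
  have hm_2 := T.m_pos 2
  have hw_2 := T.w_pos 2
  have hm_3 := T.m_pos 3
  have hw_3 := T.w_pos 3
  have hx_1 := hmax 1
  have hx_2 := hmax 2
  have hx_3 := hmax 3
  have Z_0_4 := cl 0 4 (by decide) (by decide)
  have Z_1_4 := cl 1 4 (by decide) (by decide)
  have N_2_4 := mul_nonneg (hnn 2 4 (by decide)) (T.m_pos 4).le
  have N_3_4 := mul_nonneg (hnn 3 4 (by decide)) (T.m_pos 4).le
  have N_2_3 := mul_nonneg (hnn 2 3 (by decide)) (T.m_pos 3).le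
  have N_3_2 := mul_nonneg (hnn 3 2 (by decide)) (T.m_pos 2).le
  have R_0 := hrow 0
  rw [Fin.sum_univ_five, hdP 0, e_0_1, e_0_2, e_0_3, Z_0_4] at R_0
  have R_1 := hrow 1
  rw [Fin.sum_univ_five, hdP 1, e_1_0, e_1_2, e_1_3, Z_1_4] at R_1
  have R_2 := hrow 2
  rw [Fin.sum_univ_five, hdP 2, e_2_0, e_2_1] at R_2
  have R_3 := hrow 3
  rw [Fin.sum_univ_five, hdP 3, e_3_0, e_3_1] at R_3
  have S_0_1 := hsym 0 1
  rw [e_0_1, e_1_0] at S_0_1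
  have S_0_2 := hsym 0 2
  rw [e_0_2, e_2_0] at S_0_2
  have S_0_3 := hsym 0 3
  rw [e_0_3, e_3_0] at S_0_3
  have S_1_2 := hsym 1 2
  rw [e_1_2, e_2_1] at S_1_2
  have S_1_3 := hsym 1 3
  rw [e_1_3, e_3_1] at S_1_3
  have S_2_3 := hsym 2 3
  have Q_2 := hpair 2 3 (by decide)
  generalize e_2_3 : T.picMatrix 2 3 = x_2 at *
  generalize e_3_2 : T.picMatrix 3 2 = y_2 at *
  rcases Q_2 with ⟨rfl, rfl⟩ | ⟨rfl, rfl⟩ | ⟨rfl, rfl⟩ | ⟨rfl, rfl⟩ | ⟨rfl, rfl⟩ | ⟨rfl, rfl⟩ | ⟨rfl, rfl⟩ | ⟨rfl, rfl⟩ | ⟨rfl, rfl⟩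
  · exact absurd rfl hne
  · -- (2,3) = (1,1)
    omega
  · -- (2,3) = (1,2)
    omega
  · -- (2,3) = (2,1)
    omega
  · -- (2,3) = (1,3)
    omega
  · -- (2,3) = (3,1)
    omega
  · -- (2,3) = (1,4)
    omega
  · -- (2,3) = (4,1)
    omega
  · -- (2,3) = (2,2)
    omega

theorem nd_167 (T : Models.NumericalType 5)
    (hG : NTGood T)
    (hmax : ∀ j, T.m j ≤ T.m 0)
    (e_0_1 : T.picMatrix 0 1 = 1)
    (e_0_2 : T.picMatrix 0 2 = 3)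
    (e_1_0 : T.picMatrix 1 0 = 1)
    (e_1_2 : T.picMatrix 1 2 = 0)
    (e_2_0 : T.picMatrix 2 0 = 1)
    (e_2_1 : T.picMatrix 2 1 = 0)
    (cl : ∀ a b : Fin 5, a.val < 2 → 3 ≤ b.val → T.picMatrix a b = 0) :
    Goal T := by
  by_cases hc : ∀ b : Fin 5, 3 ≤ b.val → T.picMatrix 2 b = 0
  · exact nd_168 T hG hmax e_0_1 e_0_2 e_1_0 e_1_2 e_2_0 e_2_1 (nt_cl_succ T 3 2 2 rfl cl hc)
  · obtain ⟨τ, hfix, cl', z, hne⟩ := nt_wlog_step T 3 (by norm_num) 2 (by norm_num) 2 (by decide) cl hc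
    apply goal_relabel T τ
    refine ex_169 (ntRelabel T τ) (hG.relabel τ) ?_ ?_ ?_ ?_ ?_ ?_ ?_ cl' z hne
    · intro j
      show T.m (τ j) ≤ T.m (τ 0)
      rw [hfix 0 (by decide)]
      exact hmax _
    · show T.picMatrix (τ 0) (τ 1) = 1
      rw [hfix 0 (by decide), hfix 1 (by decide)]
      exact e_0_1
    · show T.picMatrix (τ 0) (τ 2) = 3
      rw [hfix 0 (by decide), hfix 2 (by decide)]
      exact e_0_2
    · show T.picMatrix (τ 1) (τ 0) = 1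
      rw [hfix 1 (by decide), hfix 0 (by decide)]
      exact e_1_0
    · show T.picMatrix (τ 1) (τ 2) = 0
      rw [hfix 1 (by decide), hfix 2 (by decide)]
      exact e_1_2
    · show T.picMatrix (τ 2) (τ 0) = 1
      rw [hfix 2 (by decide), hfix 0 (by decide)]
      exact e_2_0
    · show T.picMatrix (τ 2) (τ 1) = 0
      rw [hfix 2 (by decide), hfix 1 (by decide)]
      exact e_2_1

theorem ex_170 (T : Models.NumericalType 5)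
    (hG : NTGood T)
    (hmax : ∀ j, T.m j ≤ T.m 0)
    (e_0_1 : T.picMatrix 0 1 = 1)
    (e_0_2 : T.picMatrix 0 2 = 3)
    (e_1_0 : T.picMatrix 1 0 = 1)
    (e_1_2 : T.picMatrix 1 2 = 0)
    (e_2_0 : T.picMatrix 2 0 = 1)
    (e_2_1 : T.picMatrix 2 1 = 0)
    (cl : ∀ a b : Fin 5, a.val < 1 → 4 ≤ b.val → T.picMatrix a b = 0)
    (z : ∀ a : Fin 5, a.val < 1 → T.picMatrix a 3 = 0)
    (hne : T.picMatrix 1 3 ≠ 0) :
    Goal T := by
  have e_0_3 : T.picMatrix 0 3 = 0 := z 0 (by decide)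
  have e_3_0 : T.picMatrix 3 0 = 0 := nt_pic_zero_symm T 0 3 e_0_3
  obtain ⟨hg0, hdA, hdP, hnn, hrow, hsym, hpair⟩ := ntgood_data T (by norm_num) hG
  have hm_0 := T.m_pos 0
  have hw_0 := T.w_pos 0
  have hm_1 := T.m_pos 1
  have hw_1 := T.w_pos 1
  have hm_2 := T.m_pos 2
  have hw_2 := T.w_pos 2
  have hm_3 := T.m_pos 3
  have hw_3 := T.w_pos 3
  have hx_1 := hmax 1
  have hx_2 := hmax 2
  have hx_3 := hmax 3
  have Z_0_4 := cl 0 4 (by decide) (by decide)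
  have N_1_4 := mul_nonneg (hnn 1 4 (by decide)) (T.m_pos 4).le
  have N_2_4 := mul_nonneg (hnn 2 4 (by decide)) (T.m_pos 4).le
  have N_3_4 := mul_nonneg (hnn 3 4 (by decide)) (T.m_pos 4).le
  have N_1_3 := mul_nonneg (hnn 1 3 (by decide)) (T.m_pos 3).le
  have N_3_1 := mul_nonneg (hnn 3 1 (by decide)) (T.m_pos 1).le
  have N_2_3 := mul_nonneg (hnn 2 3 (by decide)) (T.m_pos 3).le
  have N_3_2 := mul_nonneg (hnn 3 2 (by decide)) (T.m_pos 2).le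
  have R_0 := hrow 0
  rw [Fin.sum_univ_five, hdP 0, e_0_1, e_0_2, e_0_3, Z_0_4] at R_0
  have R_1 := hrow 1
  rw [Fin.sum_univ_five, hdP 1, e_1_0, e_1_2] at R_1
  have R_2 := hrow 2
  rw [Fin.sum_univ_five, hdP 2, e_2_0, e_2_1] at R_2
  have R_3 := hrow 3
  rw [Fin.sum_univ_five, hdP 3, e_3_0] at R_3
  have S_0_1 := hsym 0 1
  rw [e_0_1, e_1_0] at S_0_1
  have S_0_2 := hsym 0 2
  rw [e_0_2, e_2_0] at S_0_2
  have S_0_3 := hsym 0 3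
  rw [e_0_3, e_3_0] at S_0_3
  have S_1_2 := hsym 1 2
  rw [e_1_2, e_2_1] at S_1_2
  have S_1_3 := hsym 1 3
  have S_2_3 := hsym 2 3
  have Q_1 := hpair 1 3 (by decide)
  have Q_2 := hpair 2 3 (by decide)
  generalize e_1_3 : T.picMatrix 1 3 = x_1 at *
  generalize e_3_1 : T.picMatrix 3 1 = y_1 at *
  generalize e_2_3 : T.picMatrix 2 3 = x_2 at *
  generalize e_3_2 : T.picMatrix 3 2 = y_2 at *
  rcases Q_1 with ⟨rfl, rfl⟩ | ⟨rfl, rfl⟩ | ⟨rfl, rfl⟩ | ⟨rfl, rfl⟩ | ⟨rfl, rfl⟩ | ⟨rfl, rfl⟩ | ⟨rfl, rfl⟩ | ⟨rfl, rfl⟩ | ⟨rfl, rfl⟩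
  · exact absurd rfl hne
  · omega
  · omega
  · omega
  · omega
  · omega
  · omega
  · omega
  · omega

theorem nd_166 (T : Models.NumericalType 5)
    (hG : NTGood T)
    (hmax : ∀ j, T.m j ≤ T.m 0)
    (e_0_1 : T.picMatrix 0 1 = 1)
    (e_0_2 : T.picMatrix 0 2 = 3)
    (e_1_0 : T.picMatrix 1 0 = 1)
    (e_1_2 : T.picMatrix 1 2 = 0)
    (e_2_0 : T.picMatrix 2 0 = 1)
    (e_2_1 : T.picMatrix 2 1 = 0)
    (cl : ∀ a b : Fin 5, a.val < 1 → 3 ≤ b.val → T.picMatrix a b = 0) :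
    Goal T := by
  by_cases hc : ∀ b : Fin 5, 3 ≤ b.val → T.picMatrix 1 b = 0
  · exact nd_167 T hG hmax e_0_1 e_0_2 e_1_0 e_1_2 e_2_0 e_2_1 (nt_cl_succ T 3 1 1 rfl cl hc)
  · obtain ⟨τ, hfix, cl', z, hne⟩ := nt_wlog_step T 3 (by norm_num) 1 (by norm_num) 1 (by decide) cl hc
    apply goal_relabel T τ
    refine ex_170 (ntRelabel T τ) (hG.relabel τ) ?_ ?_ ?_ ?_ ?_ ?_ ?_ cl' z hne
    · intro j
      show T.m (τ j) ≤ T.m (τ 0)
      rw [hfix 0 (by decide)]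
      exact hmax _
    · show T.picMatrix (τ 0) (τ 1) = 1
      rw [hfix 0 (by decide), hfix 1 (by decide)]
      exact e_0_1
    · show T.picMatrix (τ 0) (τ 2) = 3
      rw [hfix 0 (by decide), hfix 2 (by decide)]
      exact e_0_2
    · show T.picMatrix (τ 1) (τ 0) = 1
      rw [hfix 1 (by decide), hfix 0 (by decide)]
      exact e_1_0
    · show T.picMatrix (τ 1) (τ 2) = 0
      rw [hfix 1 (by decide), hfix 2 (by decide)]
      exact e_1_2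
    · show T.picMatrix (τ 2) (τ 0) = 1
      rw [hfix 2 (by decide), hfix 0 (by decide)]
      exact e_2_0
    · show T.picMatrix (τ 2) (τ 1) = 0
      rw [hfix 2 (by decide), hfix 1 (by decide)]
      exact e_2_1

theorem ex_171 (T : Models.NumericalType 5)
    (hG : NTGood T)
    (hmax : ∀ j, T.m j ≤ T.m 0)
    (e_0_1 : T.picMatrix 0 1 = 1)
    (e_0_2 : T.picMatrix 0 2 = 3)
    (e_1_0 : T.picMatrix 1 0 = 1)
    (e_1_2 : T.picMatrix 1 2 = 0)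
    (e_2_0 : T.picMatrix 2 0 = 1)
    (e_2_1 : T.picMatrix 2 1 = 0)
    (cl : ∀ a b : Fin 5, a.val < 0 → 4 ≤ b.val → T.picMatrix a b = 0)
    (z : ∀ a : Fin 5, a.val < 0 → T.picMatrix a 3 = 0)
    (hne : T.picMatrix 0 3 ≠ 0) :
    Goal T := by
  obtain ⟨hg0, hdA, hdP, hnn, hrow, hsym, hpair⟩ := ntgood_data T (by norm_num) hG
  have hm_0 := T.m_pos 0
  have hw_0 := T.w_pos 0
  have hm_1 := T.m_pos 1
  have hw_1 := T.w_pos 1
  have hm_2 := T.m_pos 2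
  have hw_2 := T.w_pos 2
  have hm_3 := T.m_pos 3
  have hw_3 := T.w_pos 3
  have hx_1 := hmax 1
  have hx_2 := hmax 2
  have hx_3 := hmax 3
  have N_0_4 := mul_nonneg (hnn 0 4 (by decide)) (T.m_pos 4).le
  have N_1_4 := mul_nonneg (hnn 1 4 (by decide)) (T.m_pos 4).le
  have N_2_4 := mul_nonneg (hnn 2 4 (by decide)) (T.m_pos 4).le
  have N_3_4 := mul_nonneg (hnn 3 4 (by decide)) (T.m_pos 4).le
  have N_0_3 := mul_nonneg (hnn 0 3 (by decide)) (T.m_pos 3).le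
  have N_3_0 := mul_nonneg (hnn 3 0 (by decide)) (T.m_pos 0).le
  have N_1_3 := mul_nonneg (hnn 1 3 (by decide)) (T.m_pos 3).le
  have N_3_1 := mul_nonneg (hnn 3 1 (by decide)) (T.m_pos 1).le
  have N_2_3 := mul_nonneg (hnn 2 3 (by decide)) (T.m_pos 3).le
  have N_3_2 := mul_nonneg (hnn 3 2 (by decide)) (T.m_pos 2).le
  have R_0 := hrow 0
  rw [Fin.sum_univ_five, hdP 0, e_0_1, e_0_2] at R_0
  have R_1 := hrow 1
  rw [Fin.sum_univ_five, hdP 1, e_1_0, e_1_2] at R_1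
  have R_2 := hrow 2
  rw [Fin.sum_univ_five, hdP 2, e_2_0, e_2_1] at R_2
  have R_3 := hrow 3
  rw [Fin.sum_univ_five, hdP 3] at R_3
  have S_0_1 := hsym 0 1
  rw [e_0_1, e_1_0] at S_0_1
  have S_0_2 := hsym 0 2
  rw [e_0_2, e_2_0] at S_0_2
  have S_0_3 := hsym 0 3
  have S_1_2 := hsym 1 2
  rw [e_1_2, e_2_1] at S_1_2
  have S_1_3 := hsym 1 3
  have S_2_3 := hsym 2 3
  have Q_0 := hpair 0 3 (by decide)
  have Q_1 := hpair 1 3 (by decide)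
  have Q_2 := hpair 2 3 (by decide)
  generalize e_0_3 : T.picMatrix 0 3 = x_0 at *
  generalize e_3_0 : T.picMatrix 3 0 = y_0 at *
  generalize e_1_3 : T.picMatrix 1 3 = x_1 at *
  generalize e_3_1 : T.picMatrix 3 1 = y_1 at *
  generalize e_2_3 : T.picMatrix 2 3 = x_2 at *
  generalize e_3_2 : T.picMatrix 3 2 = y_2 at *
  rcases Q_0 with ⟨rfl, rfl⟩ | ⟨rfl, rfl⟩ | ⟨rfl, rfl⟩ | ⟨rfl, rfl⟩ | ⟨rfl, rfl⟩ | ⟨rfl, rfl⟩ | ⟨rfl, rfl⟩ | ⟨rfl, rfl⟩ | ⟨rfl, rfl⟩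
  · exact absurd rfl hne
  · omega
  · omega
  · omega
  · omega
  · omega
  · omega
  · omega
  · omega

theorem nd_165 (T : Models.NumericalType 5)
    (hG : NTGood T)
    (hmax : ∀ j, T.m j ≤ T.m 0)
    (e_0_1 : T.picMatrix 0 1 = 1)
    (e_0_2 : T.picMatrix 0 2 = 3)
    (e_1_0 : T.picMatrix 1 0 = 1)
    (e_1_2 : T.picMatrix 1 2 = 0)
    (e_2_0 : T.picMatrix 2 0 = 1)
    (e_2_1 : T.picMatrix 2 1 = 0)
    (cl : ∀ a b : Fin 5, a.val < 0 → 3 ≤ b.val → T.picMatrix a b = 0) :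
    Goal T := by
  by_cases hc : ∀ b : Fin 5, 3 ≤ b.val → T.picMatrix 0 b = 0
  · exact nd_166 T hG hmax e_0_1 e_0_2 e_1_0 e_1_2 e_2_0 e_2_1 (nt_cl_succ T 3 0 0 rfl cl hc)
  · obtain ⟨τ, hfix, cl', z, hne⟩ := nt_wlog_step T 3 (by norm_num) 0 (by norm_num) 0 (by decide) cl hc
    apply goal_relabel T τ
    refine ex_171 (ntRelabel T τ) (hG.relabel τ) ?_ ?_ ?_ ?_ ?_ ?_ ?_ cl' z hne
    · intro j
      show T.m (τ j) ≤ T.m (τ 0)
      rw [hfix 0 (by decide)]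
      exact hmax _
    · show T.picMatrix (τ 0) (τ 1) = 1
      rw [hfix 0 (by decide), hfix 1 (by decide)]
      exact e_0_1
    · show T.picMatrix (τ 0) (τ 2) = 3
      rw [hfix 0 (by decide), hfix 2 (by decide)]
      exact e_0_2
    · show T.picMatrix (τ 1) (τ 0) = 1
      rw [hfix 1 (by decide), hfix 0 (by decide)]
      exact e_1_0
    · show T.picMatrix (τ 1) (τ 2) = 0
      rw [hfix 1 (by decide), hfix 2 (by decide)]
      exact e_1_2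
    · show T.picMatrix (τ 2) (τ 0) = 1
      rw [hfix 2 (by decide), hfix 0 (by decide)]
      exact e_2_0
    · show T.picMatrix (τ 2) (τ 1) = 0
      rw [hfix 2 (by decide), hfix 1 (by decide)]
      exact e_2_1

theorem nd_212 (T : Models.NumericalType 5)
    (hG : NTGood T)
    (hmax : ∀ j, T.m j ≤ T.m 0)
    (e_0_1 : T.picMatrix 0 1 = 1)
    (e_0_2 : T.picMatrix 0 2 = 1)
    (e_1_0 : T.picMatrix 1 0 = 2)
    (e_1_2 : T.picMatrix 1 2 = 0)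
    (e_2_0 : T.picMatrix 2 0 = 2)
    (e_2_1 : T.picMatrix 2 1 = 0)
    (cl : ∀ a b : Fin 5, a.val < 3 → 3 ≤ b.val → T.picMatrix a b = 0) :
    Goal T := by
  exact (nt_closed_false T 3 (by norm_num) (by norm_num) cl).elim

theorem ex_213 (T : Models.NumericalType 5)
    (hG : NTGood T)
    (hmax : ∀ j, T.m j ≤ T.m 0)
    (e_0_1 : T.picMatrix 0 1 = 1)
    (e_0_2 : T.picMatrix 0 2 = 1)
    (e_1_0 : T.picMatrix 1 0 = 2)
    (e_1_2 : T.picMatrix 1 2 = 0)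
    (e_2_0 : T.picMatrix 2 0 = 2)
    (e_2_1 : T.picMatrix 2 1 = 0)
    (cl : ∀ a b : Fin 5, a.val < 2 → 4 ≤ b.val → T.picMatrix a b = 0)
    (z : ∀ a : Fin 5, a.val < 2 → T.picMatrix a 3 = 0)
    (hne : T.picMatrix 2 3 ≠ 0) :
    Goal T := by
  have e_0_3 : T.picMatrix 0 3 = 0 := z 0 (by decide)
  have e_3_0 : T.picMatrix 3 0 = 0 := nt_pic_zero_symm T 0 3 e_0_3
  have e_1_3 : T.picMatrix 1 3 = 0 := z 1 (by decide)
  have e_3_1 : T.picMatrix 3 1 = 0 := nt_pic_zero_symm T 1 3 e_1_3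
  obtain ⟨hg0, hdA, hdP, hnn, hrow, hsym, hpair⟩ := ntgood_data T (by norm_num) hG
  have hm_0 := T.m_pos 0
  have hw_0 := T.w_pos 0
  have hm_1 := T.m_pos 1
  have hw_1 := T.w_pos 1
  have hm_2 := T.m_pos 2
  have hw_2 := T.w_pos 2
  have hm_3 := T.m_pos 3
  have hw_3 := T.w_pos 3
  have hx_1 := hmax 1
  have hx_2 := hmax 2
  have hx_3 := hmax 3
  have Z_0_4 := cl 0 4 (by decide) (by decide)
  have Z_1_4 := cl 1 4 (by decide) (by decide)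
  have N_2_4 := mul_nonneg (hnn 2 4 (by decide)) (T.m_pos 4).le
  have N_3_4 := mul_nonneg (hnn 3 4 (by decide)) (T.m_pos 4).le
  have N_2_3 := mul_nonneg (hnn 2 3 (by decide)) (T.m_pos 3).le
  have N_3_2 := mul_nonneg (hnn 3 2 (by decide)) (T.m_pos 2).le
  have R_0 := hrow 0
  rw [Fin.sum_univ_five, hdP 0, e_0_1, e_0_2, e_0_3, Z_0_4] at R_0
  have R_1 := hrow 1
  rw [Fin.sum_univ_five, hdP 1, e_1_0, e_1_2, e_1_3, Z_1_4] at R_1
  have R_2 := hrow 2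
  rw [Fin.sum_univ_five, hdP 2, e_2_0, e_2_1] at R_2
  have R_3 := hrow 3
  rw [Fin.sum_univ_five, hdP 3, e_3_0, e_3_1] at R_3
  have S_0_1 := hsym 0 1
  rw [e_0_1, e_1_0] at S_0_1
  have S_0_2 := hsym 0 2
  rw [e_0_2, e_2_0] at S_0_2
  have S_0_3 := hsym 0 3
  rw [e_0_3, e_3_0] at S_0_3
  have S_1_2 := hsym 1 2
  rw [e_1_2, e_2_1] at S_1_2
  have S_1_3 := hsym 1 3
  rw [e_1_3, e_3_1] at S_1_3
  have S_2_3 := hsym 2 3
  have Q_2 := hpair 2 3 (by decide)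
  generalize e_2_3 : T.picMatrix 2 3 = x_2 at *
  generalize e_3_2 : T.picMatrix 3 2 = y_2 at *
  rcases Q_2 with ⟨rfl, rfl⟩ | ⟨rfl, rfl⟩ | ⟨rfl, rfl⟩ | ⟨rfl, rfl⟩ | ⟨rfl, rfl⟩ | ⟨rfl, rfl⟩ | ⟨rfl, rfl⟩ | ⟨rfl, rfl⟩ | ⟨rfl, rfl⟩
  · exact absurd rfl hne
  · -- (2,3) = (1,1)
    omega
  · -- (2,3) = (1,2)
    omega
  · -- (2,3) = (2,1)
    omega
  · -- (2,3) = (1,3)
    omega
  · -- (2,3) = (3,1)
    omega
  · -- (2,3) = (1,4)
    omega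
  · -- (2,3) = (4,1)
    omega
  · -- (2,3) = (2,2)
    omega

theorem nd_211 (T : Models.NumericalType 5)
    (hG : NTGood T)
    (hmax : ∀ j, T.m j ≤ T.m 0)
    (e_0_1 : T.picMatrix 0 1 = 1)
    (e_0_2 : T.picMatrix 0 2 = 1)
    (e_1_0 : T.picMatrix 1 0 = 2)
    (e_1_2 : T.picMatrix 1 2 = 0)
    (e_2_0 : T.picMatrix 2 0 = 2)
    (e_2_1 : T.picMatrix 2 1 = 0)
    (cl : ∀ a b : Fin 5, a.val < 2 → 3 ≤ b.val → T.picMatrix a b = 0) :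
    Goal T := by
  by_cases hc : ∀ b : Fin 5, 3 ≤ b.val → T.picMatrix 2 b = 0
  · exact nd_212 T hG hmax e_0_1 e_0_2 e_1_0 e_1_2 e_2_0 e_2_1 (nt_cl_succ T 3 2 2 rfl cl hc)
  · obtain ⟨τ, hfix, cl', z, hne⟩ := nt_wlog_step T 3 (by norm_num) 2 (by norm_num) 2 (by decide) cl hc
    apply goal_relabel T τ
    refine ex_213 (ntRelabel T τ) (hG.relabel τ) ?_ ?_ ?_ ?_ ?_ ?_ ?_ cl' z hne
    · intro j
      show T.m (τ j) ≤ T.m (τ 0)
      rw [hfix 0 (by decide)]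
      exact hmax _
    · show T.picMatrix (τ 0) (τ 1) = 1
      rw [hfix 0 (by decide), hfix 1 (by decide)]
      exact e_0_1
    · show T.picMatrix (τ 0) (τ 2) = 1
      rw [hfix 0 (by decide), hfix 2 (by decide)]
      exact e_0_2
    · show T.picMatrix (τ 1) (τ 0) = 2
      rw [hfix 1 (by decide), hfix 0 (by decide)]
      exact e_1_0
    · show T.picMatrix (τ 1) (τ 2) = 0
      rw [hfix 1 (by decide), hfix 2 (by decide)]
      exact e_1_2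
    · show T.picMatrix (τ 2) (τ 0) = 2
      rw [hfix 2 (by decide), hfix 0 (by decide)]
      exact e_2_0
    · show T.picMatrix (τ 2) (τ 1) = 0
      rw [hfix 2 (by decide), hfix 1 (by decide)]
      exact e_2_1

theorem ex_214 (T : Models.NumericalType 5)
    (hG : NTGood T)
    (hmax : ∀ j, T.m j ≤ T.m 0)
    (e_0_1 : T.picMatrix 0 1 = 1)
    (e_0_2 : T.picMatrix 0 2 = 1)
    (e_1_0 : T.picMatrix 1 0 = 2)
    (e_1_2 : T.picMatrix 1 2 = 0)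
    (e_2_0 : T.picMatrix 2 0 = 2)
    (e_2_1 : T.picMatrix 2 1 = 0)
    (cl : ∀ a b : Fin 5, a.val < 1 → 4 ≤ b.val → T.picMatrix a b = 0)
    (z : ∀ a : Fin 5, a.val < 1 → T.picMatrix a 3 = 0)
    (hne : T.picMatrix 1 3 ≠ 0) :
    Goal T := by
  have e_0_3 : T.picMatrix 0 3 = 0 := z 0 (by decide)
  have e_3_0 : T.picMatrix 3 0 = 0 := nt_pic_zero_symm T 0 3 e_0_3
  obtain ⟨hg0, hdA, hdP, hnn, hrow, hsym, hpair⟩ := ntgood_data T (by norm_num) hG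
  have hm_0 := T.m_pos 0
  have hw_0 := T.w_pos 0
  have hm_1 := T.m_pos 1
  have hw_1 := T.w_pos 1
  have hm_2 := T.m_pos 2
  have hw_2 := T.w_pos 2
  have hm_3 := T.m_pos 3
  have hw_3 := T.w_pos 3
  have hx_1 := hmax 1
  have hx_2 := hmax 2
  have hx_3 := hmax 3
  have Z_0_4 := cl 0 4 (by decide) (by decide)
  have N_1_4 := mul_nonneg (hnn 1 4 (by decide)) (T.m_pos 4).le
  have N_2_4 := mul_nonneg (hnn 2 4 (by decide)) (T.m_pos 4).le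
  have N_3_4 := mul_nonneg (hnn 3 4 (by decide)) (T.m_pos 4).le
  have N_1_3 := mul_nonneg (hnn 1 3 (by decide)) (T.m_pos 3).le
  have N_3_1 := mul_nonneg (hnn 3 1 (by decide)) (T.m_pos 1).le
  have N_2_3 := mul_nonneg (hnn 2 3 (by decide)) (T.m_pos 3).le
  have N_3_2 := mul_nonneg (hnn 3 2 (by decide)) (T.m_pos 2).le
  have R_0 := hrow 0
  rw [Fin.sum_univ_five, hdP 0, e_0_1, e_0_2, e_0_3, Z_0_4] at R_0
  have R_1 := hrow 1
  rw [Fin.sum_univ_five, hdP 1, e_1_0, e_1_2] at R_1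
  have R_2 := hrow 2
  rw [Fin.sum_univ_five, hdP 2, e_2_0, e_2_1] at R_2
  have R_3 := hrow 3
  rw [Fin.sum_univ_five, hdP 3, e_3_0] at R_3
  have S_0_1 := hsym 0 1
  rw [e_0_1, e_1_0] at S_0_1
  have S_0_2 := hsym 0 2
  rw [e_0_2, e_2_0] at S_0_2
  have S_0_3 := hsym 0 3
  rw [e_0_3, e_3_0] at S_0_3
  have S_1_2 := hsym 1 2
  rw [e_1_2, e_2_1] at S_1_2
  have S_1_3 := hsym 1 3
  have S_2_3 := hsym 2 3
  have Q_1 := hpair 1 3 (by decide)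
  have Q_2 := hpair 2 3 (by decide)
  generalize e_1_3 : T.picMatrix 1 3 = x_1 at *
  generalize e_3_1 : T.picMatrix 3 1 = y_1 at *
  generalize e_2_3 : T.picMatrix 2 3 = x_2 at *
  generalize e_3_2 : T.picMatrix 3 2 = y_2 at *
  rcases Q_1 with ⟨rfl, rfl⟩ | ⟨rfl, rfl⟩ | ⟨rfl, rfl⟩ | ⟨rfl, rfl⟩ | ⟨rfl, rfl⟩ | ⟨rfl, rfl⟩ | ⟨rfl, rfl⟩ | ⟨rfl, rfl⟩ | ⟨rfl, rfl⟩
  · exact absurd rfl hne
  · omega
  · omega
  · omega
  · omega
  · omega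
  · omega
  · omega
  · omega

theorem nd_210 (T : Models.NumericalType 5)
    (hG : NTGood T)
    (hmax : ∀ j, T.m j ≤ T.m 0)
    (e_0_1 : T.picMatrix 0 1 = 1)
    (e_0_2 : T.picMatrix 0 2 = 1)
    (e_1_0 : T.picMatrix 1 0 = 2)
    (e_1_2 : T.picMatrix 1 2 = 0)
    (e_2_0 : T.picMatrix 2 0 = 2)
    (e_2_1 : T.picMatrix 2 1 = 0)
    (cl : ∀ a b : Fin 5, a.val < 1 → 3 ≤ b.val → T.picMatrix a b = 0) :
    Goal T := by
  by_cases hc : ∀ b : Fin 5, 3 ≤ b.val → T.picMatrix 1 b = 0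
  · exact nd_211 T hG hmax e_0_1 e_0_2 e_1_0 e_1_2 e_2_0 e_2_1 (nt_cl_succ T 3 1 1 rfl cl hc)
  · obtain ⟨τ, hfix, cl', z, hne⟩ := nt_wlog_step T 3 (by norm_num) 1 (by norm_num) 1 (by decide) cl hc
    apply goal_relabel T τ
    refine ex_214 (ntRelabel T τ) (hG.relabel τ) ?_ ?_ ?_ ?_ ?_ ?_ ?_ cl' z hne
    · intro j
      show T.m (τ j) ≤ T.m (τ 0)
      rw [hfix 0 (by decide)]
      exact hmax _
    · show T.picMatrix (τ 0) (τ 1) = 1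
      rw [hfix 0 (by decide), hfix 1 (by decide)]
      exact e_0_1
    · show T.picMatrix (τ 0) (τ 2) = 1
      rw [hfix 0 (by decide), hfix 2 (by decide)]
      exact e_0_2
    · show T.picMatrix (τ 1) (τ 0) = 2
      rw [hfix 1 (by decide), hfix 0 (by decide)]
      exact e_1_0
    · show T.picMatrix (τ 1) (τ 2) = 0
      rw [hfix 1 (by decide), hfix 2 (by decide)]
      exact e_1_2
    · show T.picMatrix (τ 2) (τ 0) = 2
      rw [hfix 2 (by decide), hfix 0 (by decide)]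
      exact e_2_0
    · show T.picMatrix (τ 2) (τ 1) = 0
      rw [hfix 2 (by decide), hfix 1 (by decide)]
      exact e_2_1

theorem ex_215 (T : Models.NumericalType 5)
    (hG : NTGood T)
    (hmax : ∀ j, T.m j ≤ T.m 0)
    (e_0_1 : T.picMatrix 0 1 = 1)
    (e_0_2 : T.picMatrix 0 2 = 1)
    (e_1_0 : T.picMatrix 1 0 = 2)
    (e_1_2 : T.picMatrix 1 2 = 0)
    (e_2_0 : T.picMatrix 2 0 = 2)
    (e_2_1 : T.picMatrix 2 1 = 0)
    (cl : ∀ a b : Fin 5, a.val < 0 → 4 ≤ b.val → T.picMatrix a b = 0)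
    (z : ∀ a : Fin 5, a.val < 0 → T.picMatrix a 3 = 0)
    (hne : T.picMatrix 0 3 ≠ 0) :
    Goal T := by
  obtain ⟨hg0, hdA, hdP, hnn, hrow, hsym, hpair⟩ := ntgood_data T (by norm_num) hG
  have hm_0 := T.m_pos 0
  have hw_0 := T.w_pos 0
  have hm_1 := T.m_pos 1
  have hw_1 := T.w_pos 1
  have hm_2 := T.m_pos 2
  have hw_2 := T.w_pos 2
  have hm_3 := T.m_pos 3
  have hw_3 := T.w_pos 3
  have hx_1 := hmax 1
  have hx_2 := hmax 2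
  have hx_3 := hmax 3
  have N_0_4 := mul_nonneg (hnn 0 4 (by decide)) (T.m_pos 4).le
  have N_1_4 := mul_nonneg (hnn 1 4 (by decide)) (T.m_pos 4).le
  have N_2_4 := mul_nonneg (hnn 2 4 (by decide)) (T.m_pos 4).le
  have N_3_4 := mul_nonneg (hnn 3 4 (by decide)) (T.m_pos 4).le
  have N_0_3 := mul_nonneg (hnn 0 3 (by decide)) (T.m_pos 3).le
  have N_3_0 := mul_nonneg (hnn 3 0 (by decide)) (T.m_pos 0).le
  have N_1_3 := mul_nonneg (hnn 1 3 (by decide)) (T.m_pos 3).le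
  have N_3_1 := mul_nonneg (hnn 3 1 (by decide)) (T.m_pos 1).le
  have N_2_3 := mul_nonneg (hnn 2 3 (by decide)) (T.m_pos 3).le
  have N_3_2 := mul_nonneg (hnn 3 2 (by decide)) (T.m_pos 2).le
  have R_0 := hrow 0
  rw [Fin.sum_univ_five, hdP 0, e_0_1, e_0_2] at R_0
  have R_1 := hrow 1
  rw [Fin.sum_univ_five, hdP 1, e_1_0, e_1_2] at R_1
  have R_2 := hrow 2
  rw [Fin.sum_univ_five, hdP 2, e_2_0, e_2_1] at R_2
  have R_3 := hrow 3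
  rw [Fin.sum_univ_five, hdP 3] at R_3
  have S_0_1 := hsym 0 1
  rw [e_0_1, e_1_0] at S_0_1
  have S_0_2 := hsym 0 2
  rw [e_0_2, e_2_0] at S_0_2
  have S_0_3 := hsym 0 3
  have S_1_2 := hsym 1 2
  rw [e_1_2, e_2_1] at S_1_2
  have S_1_3 := hsym 1 3
  have S_2_3 := hsym 2 3
  have Q_0 := hpair 0 3 (by decide)
  have Q_1 := hpair 1 3 (by decide)
  have Q_2 := hpair 2 3 (by decide)
  generalize e_0_3 : T.picMatrix 0 3 = x_0 at *
  generalize e_3_0 : T.picMatrix 3 0 = y_0 at *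
  generalize e_1_3 : T.picMatrix 1 3 = x_1 at *
  generalize e_3_1 : T.picMatrix 3 1 = y_1 at *
  generalize e_2_3 : T.picMatrix 2 3 = x_2 at *
  generalize e_3_2 : T.picMatrix 3 2 = y_2 at *
  rcases Q_0 with ⟨rfl, rfl⟩ | ⟨rfl, rfl⟩ | ⟨rfl, rfl⟩ | ⟨rfl, rfl⟩ | ⟨rfl, rfl⟩ | ⟨rfl, rfl⟩ | ⟨rfl, rfl⟩ | ⟨rfl, rfl⟩ | ⟨rfl, rfl⟩
  · exact absurd rfl hne
  · omega
  · omega
  · omega
  · omega
  · omega
  · omega
  · omega
  · omega

theorem nd_209 (T : Models.NumericalType 5)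
    (hG : NTGood T)
    (hmax : ∀ j, T.m j ≤ T.m 0)
    (e_0_1 : T.picMatrix 0 1 = 1)
    (e_0_2 : T.picMatrix 0 2 = 1)
    (e_1_0 : T.picMatrix 1 0 = 2)
    (e_1_2 : T.picMatrix 1 2 = 0)
    (e_2_0 : T.picMatrix 2 0 = 2)
    (e_2_1 : T.picMatrix 2 1 = 0)
    (cl : ∀ a b : Fin 5, a.val < 0 → 3 ≤ b.val → T.picMatrix a b = 0) :
    Goal T := by
  by_cases hc : ∀ b : Fin 5, 3 ≤ b.val → T.picMatrix 0 b = 0
  · exact nd_210 T hG hmax e_0_1 e_0_2 e_1_0 e_1_2 e_2_0 e_2_1 (nt_cl_succ T 3 0 0 rfl cl hc)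
  · obtain ⟨τ, hfix, cl', z, hne⟩ := nt_wlog_step T 3 (by norm_num) 0 (by norm_num) 0 (by decide) cl hc
    apply goal_relabel T τ
    refine ex_215 (ntRelabel T τ) (hG.relabel τ) ?_ ?_ ?_ ?_ ?_ ?_ ?_ cl' z hne
    · intro j
      show T.m (τ j) ≤ T.m (τ 0)
      rw [hfix 0 (by decide)]
      exact hmax _
    · show T.picMatrix (τ 0) (τ 1) = 1
      rw [hfix 0 (by decide), hfix 1 (by decide)]
      exact e_0_1
    · show T.picMatrix (τ 0) (τ 2) = 1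
      rw [hfix 0 (by decide), hfix 2 (by decide)]
      exact e_0_2
    · show T.picMatrix (τ 1) (τ 0) = 2
      rw [hfix 1 (by decide), hfix 0 (by decide)]
      exact e_1_0
    · show T.picMatrix (τ 1) (τ 2) = 0
      rw [hfix 1 (by decide), hfix 2 (by decide)]
      exact e_1_2
    · show T.picMatrix (τ 2) (τ 0) = 2
      rw [hfix 2 (by decide), hfix 0 (by decide)]
      exact e_2_0
    · show T.picMatrix (τ 2) (τ 1) = 0
      rw [hfix 2 (by decide), hfix 1 (by decide)]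
      exact e_2_1

theorem nd_219 (T : Models.NumericalType 5)
    (hG : NTGood T)
    (hmax : ∀ j, T.m j ≤ T.m 0)
    (e_0_1 : T.picMatrix 0 1 = 1)
    (e_0_2 : T.picMatrix 0 2 = 2)
    (e_1_0 : T.picMatrix 1 0 = 2)
    (e_1_2 : T.picMatrix 1 2 = 0)
    (e_2_0 : T.picMatrix 2 0 = 1)
    (e_2_1 : T.picMatrix 2 1 = 0)
    (cl : ∀ a b : Fin 5, a.val < 3 → 3 ≤ b.val → T.picMatrix a b = 0) :
    Goal T := by
  exact (nt_closed_false T 3 (by norm_num) (by norm_num) cl).elim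

theorem ex_220 (T : Models.NumericalType 5)
    (hG : NTGood T)
    (hmax : ∀ j, T.m j ≤ T.m 0)
    (e_0_1 : T.picMatrix 0 1 = 1)
    (e_0_2 : T.picMatrix 0 2 = 2)
    (e_1_0 : T.picMatrix 1 0 = 2)
    (e_1_2 : T.picMatrix 1 2 = 0)
    (e_2_0 : T.picMatrix 2 0 = 1)
    (e_2_1 : T.picMatrix 2 1 = 0)
    (cl : ∀ a b : Fin 5, a.val < 2 → 4 ≤ b.val → T.picMatrix a b = 0)
    (z : ∀ a : Fin 5, a.val < 2 → T.picMatrix a 3 = 0)
    (hne : T.picMatrix 2 3 ≠ 0) :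
    Goal T := by
  have e_0_3 : T.picMatrix 0 3 = 0 := z 0 (by decide)
  have e_3_0 : T.picMatrix 3 0 = 0 := nt_pic_zero_symm T 0 3 e_0_3
  have e_1_3 : T.picMatrix 1 3 = 0 := z 1 (by decide)
  have e_3_1 : T.picMatrix 3 1 = 0 := nt_pic_zero_symm T 1 3 e_1_3
  obtain ⟨hg0, hdA, hdP, hnn, hrow, hsym, hpair⟩ := ntgood_data T (by norm_num) hG
  have hm_0 := T.m_pos 0
  have hw_0 := T.w_pos 0
  have hm_1 := T.m_pos 1
  have hw_1 := T.w_pos 1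
  have hm_2 := T.m_pos 2
  have hw_2 := T.w_pos 2
  have hm_3 := T.m_pos 3
  have hw_3 := T.w_pos 3
  have hx_1 := hmax 1
  have hx_2 := hmax 2
  have hx_3 := hmax 3
  have Z_0_4 := cl 0 4 (by decide) (by decide)
  have Z_1_4 := cl 1 4 (by decide) (by decide)
  have N_2_4 := mul_nonneg (hnn 2 4 (by decide)) (T.m_pos 4).le
  have N_3_4 := mul_nonneg (hnn 3 4 (by decide)) (T.m_pos 4).le
  have N_2_3 := mul_nonneg (hnn 2 3 (by decide)) (T.m_pos 3).le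
  have N_3_2 := mul_nonneg (hnn 3 2 (by decide)) (T.m_pos 2).le
  have R_0 := hrow 0
  rw [Fin.sum_univ_five, hdP 0, e_0_1, e_0_2, e_0_3, Z_0_4] at R_0
  have R_1 := hrow 1
  rw [Fin.sum_univ_five, hdP 1, e_1_0, e_1_2, e_1_3, Z_1_4] at R_1
  have R_2 := hrow 2
  rw [Fin.sum_univ_five, hdP 2, e_2_0, e_2_1] at R_2
  have R_3 := hrow 3
  rw [Fin.sum_univ_five, hdP 3, e_3_0, e_3_1] at R_3
  have S_0_1 := hsym 0 1
  rw [e_0_1, e_1_0] at S_0_1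
  have S_0_2 := hsym 0 2
  rw [e_0_2, e_2_0] at S_0_2
  have S_0_3 := hsym 0 3
  rw [e_0_3, e_3_0] at S_0_3
  have S_1_2 := hsym 1 2
  rw [e_1_2, e_2_1] at S_1_2
  have S_1_3 := hsym 1 3
  rw [e_1_3, e_3_1] at S_1_3
  have S_2_3 := hsym 2 3
  have Q_2 := hpair 2 3 (by decide)
  generalize e_2_3 : T.picMatrix 2 3 = x_2 at *
  generalize e_3_2 : T.picMatrix 3 2 = y_2 at *
  rcases Q_2 with ⟨rfl, rfl⟩ | ⟨rfl, rfl⟩ | ⟨rfl, rfl⟩ | ⟨rfl, rfl⟩ | ⟨rfl, rfl⟩ | ⟨rfl, rfl⟩ | ⟨rfl, rfl⟩ | ⟨rfl, rfl⟩ | ⟨rfl, rfl⟩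
  · exact absurd rfl hne
  · -- (2,3) = (1,1)
    omega
  · -- (2,3) = (1,2)
    omega
  · -- (2,3) = (2,1)
    omega
  · -- (2,3) = (1,3)
    omega
  · -- (2,3) = (3,1)
    omega
  · -- (2,3) = (1,4)
    omega
  · -- (2,3) = (4,1)
    omega
  · -- (2,3) = (2,2)
    omega

theorem nd_218 (T : Models.NumericalType 5)
    (hG : NTGood T)
    (hmax : ∀ j, T.m j ≤ T.m 0)
    (e_0_1 : T.picMatrix 0 1 = 1)
    (e_0_2 : T.picMatrix 0 2 = 2)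
    (e_1_0 : T.picMatrix 1 0 = 2)
    (e_1_2 : T.picMatrix 1 2 = 0)
    (e_2_0 : T.picMatrix 2 0 = 1)
    (e_2_1 : T.picMatrix 2 1 = 0)
    (cl : ∀ a b : Fin 5, a.val < 2 → 3 ≤ b.val → T.picMatrix a b = 0) :
    Goal T := by
  by_cases hc : ∀ b : Fin 5, 3 ≤ b.val → T.picMatrix 2 b = 0
  · exact nd_219 T hG hmax e_0_1 e_0_2 e_1_0 e_1_2 e_2_0 e_2_1 (nt_cl_succ T 3 2 2 rfl cl hc)
  · obtain ⟨τ, hfix, cl', z, hne⟩ := nt_wlog_step T 3 (by norm_num) 2 (by norm_num) 2 (by decide) cl hc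
    apply goal_relabel T τ
    refine ex_220 (ntRelabel T τ) (hG.relabel τ) ?_ ?_ ?_ ?_ ?_ ?_ ?_ cl' z hne
    · intro j
      show T.m (τ j) ≤ T.m (τ 0)
      rw [hfix 0 (by decide)]
      exact hmax _
    · show T.picMatrix (τ 0) (τ 1) = 1
      rw [hfix 0 (by decide), hfix 1 (by decide)]
      exact e_0_1
    · show T.picMatrix (τ 0) (τ 2) = 2
      rw [hfix 0 (by decide), hfix 2 (by decide)]
      exact e_0_2
    · show T.picMatrix (τ 1) (τ 0) = 2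
      rw [hfix 1 (by decide), hfix 0 (by decide)]
      exact e_1_0
    · show T.picMatrix (τ 1) (τ 2) = 0
      rw [hfix 1 (by decide), hfix 2 (by decide)]
      exact e_1_2
    · show T.picMatrix (τ 2) (τ 0) = 1
      rw [hfix 2 (by decide), hfix 0 (by decide)]
      exact e_2_0
    · show T.picMatrix (τ 2) (τ 1) = 0
      rw [hfix 2 (by decide), hfix 1 (by decide)]
      exact e_2_1

theorem ex_221 (T : Models.NumericalType 5)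
    (hG : NTGood T)
    (hmax : ∀ j, T.m j ≤ T.m 0)
    (e_0_1 : T.picMatrix 0 1 = 1)
    (e_0_2 : T.picMatrix 0 2 = 2)
    (e_1_0 : T.picMatrix 1 0 = 2)
    (e_1_2 : T.picMatrix 1 2 = 0)
    (e_2_0 : T.picMatrix 2 0 = 1)
    (e_2_1 : T.picMatrix 2 1 = 0)
    (cl : ∀ a b : Fin 5, a.val < 1 → 4 ≤ b.val → T.picMatrix a b = 0)
    (z : ∀ a : Fin 5, a.val < 1 → T.picMatrix a 3 = 0)
    (hne : T.picMatrix 1 3 ≠ 0) :
    Goal T := by
  have e_0_3 : T.picMatrix 0 3 = 0 := z 0 (by decide)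
  have e_3_0 : T.picMatrix 3 0 = 0 := nt_pic_zero_symm T 0 3 e_0_3
  obtain ⟨hg0, hdA, hdP, hnn, hrow, hsym, hpair⟩ := ntgood_data T (by norm_num) hG
  have hm_0 := T.m_pos 0
  have hw_0 := T.w_pos 0
  have hm_1 := T.m_pos 1
  have hw_1 := T.w_pos 1
  have hm_2 := T.m_pos 2
  have hw_2 := T.w_pos 2
  have hm_3 := T.m_pos 3
  have hw_3 := T.w_pos 3
  have hx_1 := hmax 1
  have hx_2 := hmax 2
  have hx_3 := hmax 3
  have Z_0_4 := cl 0 4 (by decide) (by decide)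
  have N_1_4 := mul_nonneg (hnn 1 4 (by decide)) (T.m_pos 4).le
  have N_2_4 := mul_nonneg (hnn 2 4 (by decide)) (T.m_pos 4).le
  have N_3_4 := mul_nonneg (hnn 3 4 (by decide)) (T.m_pos 4).le
  have N_1_3 := mul_nonneg (hnn 1 3 (by decide)) (T.m_pos 3).le
  have N_3_1 := mul_nonneg (hnn 3 1 (by decide)) (T.m_pos 1).le
  have N_2_3 := mul_nonneg (hnn 2 3 (by decide)) (T.m_pos 3).le
  have N_3_2 := mul_nonneg (hnn 3 2 (by decide)) (T.m_pos 2).le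
  have R_0 := hrow 0
  rw [Fin.sum_univ_five, hdP 0, e_0_1, e_0_2, e_0_3, Z_0_4] at R_0
  have R_1 := hrow 1
  rw [Fin.sum_univ_five, hdP 1, e_1_0, e_1_2] at R_1
  have R_2 := hrow 2
  rw [Fin.sum_univ_five, hdP 2, e_2_0, e_2_1] at R_2
  have R_3 := hrow 3
  rw [Fin.sum_univ_five, hdP 3, e_3_0] at R_3
  have S_0_1 := hsym 0 1
  rw [e_0_1, e_1_0] at S_0_1
  have S_0_2 := hsym 0 2
  rw [e_0_2, e_2_0] at S_0_2
  have S_0_3 := hsym 0 3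
  rw [e_0_3, e_3_0] at S_0_3
  have S_1_2 := hsym 1 2
  rw [e_1_2, e_2_1] at S_1_2
  have S_1_3 := hsym 1 3
  have S_2_3 := hsym 2 3
  have Q_1 := hpair 1 3 (by decide)
  have Q_2 := hpair 2 3 (by decide)
  generalize e_1_3 : T.picMatrix 1 3 = x_1 at *
  generalize e_3_1 : T.picMatrix 3 1 = y_1 at *
  generalize e_2_3 : T.picMatrix 2 3 = x_2 at *
  generalize e_3_2 : T.picMatrix 3 2 = y_2 at *
  rcases Q_1 with ⟨rfl, rfl⟩ | ⟨rfl, rfl⟩ | ⟨rfl, rfl⟩ | ⟨rfl, rfl⟩ | ⟨rfl, rfl⟩ | ⟨rfl, rfl⟩ | ⟨rfl, rfl⟩ | ⟨rfl, rfl⟩ | ⟨rfl, rfl⟩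
  · exact absurd rfl hne
  · omega
  · omega
  · omega
  · omega
  · omega
  · omega
  · omega
  · omega

theorem nd_217 (T : Models.NumericalType 5)
    (hG : NTGood T)
    (hmax : ∀ j, T.m j ≤ T.m 0)
    (e_0_1 : T.picMatrix 0 1 = 1)
    (e_0_2 : T.picMatrix 0 2 = 2)
    (e_1_0 : T.picMatrix 1 0 = 2)
    (e_1_2 : T.picMatrix 1 2 = 0)
    (e_2_0 : T.picMatrix 2 0 = 1)
    (e_2_1 : T.picMatrix 2 1 = 0)
    (cl : ∀ a b : Fin 5, a.val < 1 → 3 ≤ b.val → T.picMatrix a b = 0) :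
    Goal T := by
  by_cases hc : ∀ b : Fin 5, 3 ≤ b.val → T.picMatrix 1 b = 0
  · exact nd_218 T hG hmax e_0_1 e_0_2 e_1_0 e_1_2 e_2_0 e_2_1 (nt_cl_succ T 3 1 1 rfl cl hc)
  · obtain ⟨τ, hfix, cl', z, hne⟩ := nt_wlog_step T 3 (by norm_num) 1 (by norm_num) 1 (by decide) cl hc
    apply goal_relabel T τ
    refine ex_221 (ntRelabel T τ) (hG.relabel τ) ?_ ?_ ?_ ?_ ?_ ?_ ?_ cl' z hne
    · intro j
      show T.m (τ j) ≤ T.m (τ 0)
      rw [hfix 0 (by decide)]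
      exact hmax _
    · show T.picMatrix (τ 0) (τ 1) = 1
      rw [hfix 0 (by decide), hfix 1 (by decide)]
      exact e_0_1
    · show T.picMatrix (τ 0) (τ 2) = 2
      rw [hfix 0 (by decide), hfix 2 (by decide)]
      exact e_0_2
    · show T.picMatrix (τ 1) (τ 0) = 2
      rw [hfix 1 (by decide), hfix 0 (by decide)]
      exact e_1_0
    · show T.picMatrix (τ 1) (τ 2) = 0
      rw [hfix 1 (by decide), hfix 2 (by decide)]
      exact e_1_2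
    · show T.picMatrix (τ 2) (τ 0) = 1
      rw [hfix 2 (by decide), hfix 0 (by decide)]
      exact e_2_0
    · show T.picMatrix (τ 2) (τ 1) = 0
      rw [hfix 2 (by decide), hfix 1 (by decide)]
      exact e_2_1

theorem ex_222 (T : Models.NumericalType 5)
    (hG : NTGood T)
    (hmax : ∀ j, T.m j ≤ T.m 0)
    (e_0_1 : T.picMatrix 0 1 = 1)
    (e_0_2 : T.picMatrix 0 2 = 2)
    (e_1_0 : T.picMatrix 1 0 = 2)
    (e_1_2 : T.picMatrix 1 2 = 0)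
    (e_2_0 : T.picMatrix 2 0 = 1)
    (e_2_1 : T.picMatrix 2 1 = 0)
    (cl : ∀ a b : Fin 5, a.val < 0 → 4 ≤ b.val → T.picMatrix a b = 0)
    (z : ∀ a : Fin 5, a.val < 0 → T.picMatrix a 3 = 0)
    (hne : T.picMatrix 0 3 ≠ 0) :
    Goal T := by
  obtain ⟨hg0, hdA, hdP, hnn, hrow, hsym, hpair⟩ := ntgood_data T (by norm_num) hG
  have hm_0 := T.m_pos 0
  have hw_0 := T.w_pos 0
  have hm_1 := T.m_pos 1
  have hw_1 := T.w_pos 1
  have hm_2 := T.m_pos 2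
  have hw_2 := T.w_pos 2
  have hm_3 := T.m_pos 3
  have hw_3 := T.w_pos 3
  have hx_1 := hmax 1
  have hx_2 := hmax 2
  have hx_3 := hmax 3
  have N_0_4 := mul_nonneg (hnn 0 4 (by decide)) (T.m_pos 4).le
  have N_1_4 := mul_nonneg (hnn 1 4 (by decide)) (T.m_pos 4).le
  have N_2_4 := mul_nonneg (hnn 2 4 (by decide)) (T.m_pos 4).le
  have N_3_4 := mul_nonneg (hnn 3 4 (by decide)) (T.m_pos 4).le
  have N_0_3 := mul_nonneg (hnn 0 3 (by decide)) (T.m_pos 3).le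
  have N_3_0 := mul_nonneg (hnn 3 0 (by decide)) (T.m_pos 0).le
  have N_1_3 := mul_nonneg (hnn 1 3 (by decide)) (T.m_pos 3).le
  have N_3_1 := mul_nonneg (hnn 3 1 (by decide)) (T.m_pos 1).le
  have N_2_3 := mul_nonneg (hnn 2 3 (by decide)) (T.m_pos 3).le
  have N_3_2 := mul_nonneg (hnn 3 2 (by decide)) (T.m_pos 2).le
  have R_0 := hrow 0
  rw [Fin.sum_univ_five, hdP 0, e_0_1, e_0_2] at R_0
  have R_1 := hrow 1
  rw [Fin.sum_univ_five, hdP 1, e_1_0, e_1_2] at R_1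
  have R_2 := hrow 2
  rw [Fin.sum_univ_five, hdP 2, e_2_0, e_2_1] at R_2
  have R_3 := hrow 3
  rw [Fin.sum_univ_five, hdP 3] at R_3
  have S_0_1 := hsym 0 1
  rw [e_0_1, e_1_0] at S_0_1
  have S_0_2 := hsym 0 2
  rw [e_0_2, e_2_0] at S_0_2
  have S_0_3 := hsym 0 3
  have S_1_2 := hsym 1 2
  rw [e_1_2, e_2_1] at S_1_2
  have S_1_3 := hsym 1 3
  have S_2_3 := hsym 2 3
  have Q_0 := hpair 0 3 (by decide)
  have Q_1 := hpair 1 3 (by decide)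
  have Q_2 := hpair 2 3 (by decide)
  generalize e_0_3 : T.picMatrix 0 3 = x_0 at *
  generalize e_3_0 : T.picMatrix 3 0 = y_0 at *
  generalize e_1_3 : T.picMatrix 1 3 = x_1 at *
  generalize e_3_1 : T.picMatrix 3 1 = y_1 at *
  generalize e_2_3 : T.picMatrix 2 3 = x_2 at *
  generalize e_3_2 : T.picMatrix 3 2 = y_2 at *
  rcases Q_0 with ⟨rfl, rfl⟩ | ⟨rfl, rfl⟩ | ⟨rfl, rfl⟩ | ⟨rfl, rfl⟩ | ⟨rfl, rfl⟩ | ⟨rfl, rfl⟩ | ⟨rfl, rfl⟩ | ⟨rfl, rfl⟩ | ⟨rfl, rfl⟩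
  · exact absurd rfl hne
  · omega
  · omega
  · omega
  · omega
  · omega
  · omega
  · omega
  · omega

theorem nd_216 (T : Models.NumericalType 5)
    (hG : NTGood T)
    (hmax : ∀ j, T.m j ≤ T.m 0)
    (e_0_1 : T.picMatrix 0 1 = 1)
    (e_0_2 : T.picMatrix 0 2 = 2)
    (e_1_0 : T.picMatrix 1 0 = 2)
    (e_1_2 : T.picMatrix 1 2 = 0)
    (e_2_0 : T.picMatrix 2 0 = 1)
    (e_2_1 : T.picMatrix 2 1 = 0)
    (cl : ∀ a b : Fin 5, a.val < 0 → 3 ≤ b.val → T.picMatrix a b = 0) :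
    Goal T := by
  by_cases hc : ∀ b : Fin 5, 3 ≤ b.val → T.picMatrix 0 b = 0
  · exact nd_217 T hG hmax e_0_1 e_0_2 e_1_0 e_1_2 e_2_0 e_2_1 (nt_cl_succ T 3 0 0 rfl cl hc)
  · obtain ⟨τ, hfix, cl', z, hne⟩ := nt_wlog_step T 3 (by norm_num) 0 (by norm_num) 0 (by decide) cl hc
    apply goal_relabel T τ
    refine ex_222 (ntRelabel T τ) (hG.relabel τ) ?_ ?_ ?_ ?_ ?_ ?_ ?_ cl' z hne
    · intro j
      show T.m (τ j) ≤ T.m (τ 0)
      rw [hfix 0 (by decide)]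
      exact hmax _
    · show T.picMatrix (τ 0) (τ 1) = 1
      rw [hfix 0 (by decide), hfix 1 (by decide)]
      exact e_0_1
    · show T.picMatrix (τ 0) (τ 2) = 2
      rw [hfix 0 (by decide), hfix 2 (by decide)]
      exact e_0_2
    · show T.picMatrix (τ 1) (τ 0) = 2
      rw [hfix 1 (by decide), hfix 0 (by decide)]
      exact e_1_0
    · show T.picMatrix (τ 1) (τ 2) = 0
      rw [hfix 1 (by decide), hfix 2 (by decide)]
      exact e_1_2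
    · show T.picMatrix (τ 2) (τ 0) = 1
      rw [hfix 2 (by decide), hfix 0 (by decide)]
      exact e_2_0
    · show T.picMatrix (τ 2) (τ 1) = 0
      rw [hfix 2 (by decide), hfix 1 (by decide)]
      exact e_2_1

theorem nd_259 (T : Models.NumericalType 5)
    (hG : NTGood T)
    (hmax : ∀ j, T.m j ≤ T.m 0)
    (e_0_1 : T.picMatrix 0 1 = 2)
    (e_0_2 : T.picMatrix 0 2 = 0)
    (e_1_0 : T.picMatrix 1 0 = 1)
    (e_1_2 : T.picMatrix 1 2 = 1)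
    (e_2_0 : T.picMatrix 2 0 = 0)
    (e_2_1 : T.picMatrix 2 1 = 2)
    (cl : ∀ a b : Fin 5, a.val < 3 → 3 ≤ b.val → T.picMatrix a b = 0) :
    Goal T := by
  exact (nt_closed_false T 3 (by norm_num) (by norm_num) cl).elim

theorem ex_260 (T : Models.NumericalType 5)
    (hG : NTGood T)
    (hmax : ∀ j, T.m j ≤ T.m 0)
    (e_0_1 : T.picMatrix 0 1 = 2)
    (e_0_2 : T.picMatrix 0 2 = 0)
    (e_1_0 : T.picMatrix 1 0 = 1)
    (e_1_2 : T.picMatrix 1 2 = 1)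
    (e_2_0 : T.picMatrix 2 0 = 0)
    (e_2_1 : T.picMatrix 2 1 = 2)
    (cl : ∀ a b : Fin 5, a.val < 2 → 4 ≤ b.val → T.picMatrix a b = 0)
    (z : ∀ a : Fin 5, a.val < 2 → T.picMatrix a 3 = 0)
    (hne : T.picMatrix 2 3 ≠ 0) :
    Goal T := by
  have e_0_3 : T.picMatrix 0 3 = 0 := z 0 (by decide)
  have e_3_0 : T.picMatrix 3 0 = 0 := nt_pic_zero_symm T 0 3 e_0_3
  have e_1_3 : T.picMatrix 1 3 = 0 := z 1 (by decide)
  have e_3_1 : T.picMatrix 3 1 = 0 := nt_pic_zero_symm T 1 3 e_1_3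
  obtain ⟨hg0, hdA, hdP, hnn, hrow, hsym, hpair⟩ := ntgood_data T (by norm_num) hG
  have hm_0 := T.m_pos 0
  have hw_0 := T.w_pos 0
  have hm_1 := T.m_pos 1
  have hw_1 := T.w_pos 1
  have hm_2 := T.m_pos 2
  have hw_2 := T.w_pos 2
  have hm_3 := T.m_pos 3
  have hw_3 := T.w_pos 3
  have hx_1 := hmax 1
  have hx_2 := hmax 2
  have hx_3 := hmax 3
  have Z_0_4 := cl 0 4 (by decide) (by decide)
  have Z_1_4 := cl 1 4 (by decide) (by decide)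
  have N_2_4 := mul_nonneg (hnn 2 4 (by decide)) (T.m_pos 4).le
  have N_3_4 := mul_nonneg (hnn 3 4 (by decide)) (T.m_pos 4).le
  have N_2_3 := mul_nonneg (hnn 2 3 (by decide)) (T.m_pos 3).le
  have N_3_2 := mul_nonneg (hnn 3 2 (by decide)) (T.m_pos 2).le
  have R_0 := hrow 0
  rw [Fin.sum_univ_five, hdP 0, e_0_1, e_0_2, e_0_3, Z_0_4] at R_0
  have R_1 := hrow 1
  rw [Fin.sum_univ_five, hdP 1, e_1_0, e_1_2, e_1_3, Z_1_4] at R_1
  have R_2 := hrow 2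
  rw [Fin.sum_univ_five, hdP 2, e_2_0, e_2_1] at R_2
  have R_3 := hrow 3
  rw [Fin.sum_univ_five, hdP 3, e_3_0, e_3_1] at R_3
  have S_0_1 := hsym 0 1
  rw [e_0_1, e_1_0] at S_0_1
  have S_0_2 := hsym 0 2
  rw [e_0_2, e_2_0] at S_0_2
  have S_0_3 := hsym 0 3
  rw [e_0_3, e_3_0] at S_0_3
  have S_1_2 := hsym 1 2
  rw [e_1_2, e_2_1] at S_1_2
  have S_1_3 := hsym 1 3
  rw [e_1_3, e_3_1] at S_1_3
  have S_2_3 := hsym 2 3
  have Q_2 := hpair 2 3 (by decide)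
  generalize e_2_3 : T.picMatrix 2 3 = x_2 at *
  generalize e_3_2 : T.picMatrix 3 2 = y_2 at *
  rcases Q_2 with ⟨rfl, rfl⟩ | ⟨rfl, rfl⟩ | ⟨rfl, rfl⟩ | ⟨rfl, rfl⟩ | ⟨rfl, rfl⟩ | ⟨rfl, rfl⟩ | ⟨rfl, rfl⟩ | ⟨rfl, rfl⟩ | ⟨rfl, rfl⟩
  · exact absurd rfl hne
  · -- (2,3) = (1,1)
    omega
  · -- (2,3) = (1,2)
    omega
  · -- (2,3) = (2,1)
    omega
  · -- (2,3) = (1,3)
    omega
  · -- (2,3) = (3,1)
    omega
  · -- (2,3) = (1,4)
    omega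
  · -- (2,3) = (4,1)
    omega
  · -- (2,3) = (2,2)
    omega

theorem nd_258 (T : Models.NumericalType 5)
    (hG : NTGood T)
    (hmax : ∀ j, T.m j ≤ T.m 0)
    (e_0_1 : T.picMatrix 0 1 = 2)
    (e_0_2 : T.picMatrix 0 2 = 0)
    (e_1_0 : T.picMatrix 1 0 = 1)
    (e_1_2 : T.picMatrix 1 2 = 1)
    (e_2_0 : T.picMatrix 2 0 = 0)
    (e_2_1 : T.picMatrix 2 1 = 2)
    (cl : ∀ a b : Fin 5, a.val < 2 → 3 ≤ b.val → T.picMatrix a b = 0) :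
    Goal T := by
  by_cases hc : ∀ b : Fin 5, 3 ≤ b.val → T.picMatrix 2 b = 0
  · exact nd_259 T hG hmax e_0_1 e_0_2 e_1_0 e_1_2 e_2_0 e_2_1 (nt_cl_succ T 3 2 2 rfl cl hc)
  · obtain ⟨τ, hfix, cl', z, hne⟩ := nt_wlog_step T 3 (by norm_num) 2 (by norm_num) 2 (by decide) cl hc
    apply goal_relabel T τ
    refine ex_260 (ntRelabel T τ) (hG.relabel τ) ?_ ?_ ?_ ?_ ?_ ?_ ?_ cl' z hne
    · intro j
      show T.m (τ j) ≤ T.m (τ 0)
      rw [hfix 0 (by decide)]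
      exact hmax _
    · show T.picMatrix (τ 0) (τ 1) = 2
      rw [hfix 0 (by decide), hfix 1 (by decide)]
      exact e_0_1
    · show T.picMatrix (τ 0) (τ 2) = 0
      rw [hfix 0 (by decide), hfix 2 (by decide)]
      exact e_0_2
    · show T.picMatrix (τ 1) (τ 0) = 1
      rw [hfix 1 (by decide), hfix 0 (by decide)]
      exact e_1_0
    · show T.picMatrix (τ 1) (τ 2) = 1
      rw [hfix 1 (by decide), hfix 2 (by decide)]
      exact e_1_2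
    · show T.picMatrix (τ 2) (τ 0) = 0
      rw [hfix 2 (by decide), hfix 0 (by decide)]
      exact e_2_0
    · show T.picMatrix (τ 2) (τ 1) = 2
      rw [hfix 2 (by decide), hfix 1 (by decide)]
      exact e_2_1

theorem ex_261 (T : Models.NumericalType 5)
    (hG : NTGood T)
    (hmax : ∀ j, T.m j ≤ T.m 0)
    (e_0_1 : T.picMatrix 0 1 = 2)
    (e_0_2 : T.picMatrix 0 2 = 0)
    (e_1_0 : T.picMatrix 1 0 = 1)
    (e_1_2 : T.picMatrix 1 2 = 1)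
    (e_2_0 : T.picMatrix 2 0 = 0)
    (e_2_1 : T.picMatrix 2 1 = 2)
    (cl : ∀ a b : Fin 5, a.val < 1 → 4 ≤ b.val → T.picMatrix a b = 0)
    (z : ∀ a : Fin 5, a.val < 1 → T.picMatrix a 3 = 0)
    (hne : T.picMatrix 1 3 ≠ 0) :
    Goal T := by
  have e_0_3 : T.picMatrix 0 3 = 0 := z 0 (by decide)
  have e_3_0 : T.picMatrix 3 0 = 0 := nt_pic_zero_symm T 0 3 e_0_3
  obtain ⟨hg0, hdA, hdP, hnn, hrow, hsym, hpair⟩ := ntgood_data T (by norm_num) hG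
  have hm_0 := T.m_pos 0
  have hw_0 := T.w_pos 0
  have hm_1 := T.m_pos 1
  have hw_1 := T.w_pos 1
  have hm_2 := T.m_pos 2
  have hw_2 := T.w_pos 2
  have hm_3 := T.m_pos 3
  have hw_3 := T.w_pos 3
  have hx_1 := hmax 1
  have hx_2 := hmax 2
  have hx_3 := hmax 3
  have Z_0_4 := cl 0 4 (by decide) (by decide)
  have N_1_4 := mul_nonneg (hnn 1 4 (by decide)) (T.m_pos 4).le
  have N_2_4 := mul_nonneg (hnn 2 4 (by decide)) (T.m_pos 4).le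
  have N_3_4 := mul_nonneg (hnn 3 4 (by decide)) (T.m_pos 4).le
  have N_1_3 := mul_nonneg (hnn 1 3 (by decide)) (T.m_pos 3).le
  have N_3_1 := mul_nonneg (hnn 3 1 (by decide)) (T.m_pos 1).le
  have N_2_3 := mul_nonneg (hnn 2 3 (by decide)) (T.m_pos 3).le
  have N_3_2 := mul_nonneg (hnn 3 2 (by decide)) (T.m_pos 2).le
  have R_0 := hrow 0
  rw [Fin.sum_univ_five, hdP 0, e_0_1, e_0_2, e_0_3, Z_0_4] at R_0
  have R_1 := hrow 1
  rw [Fin.sum_univ_five, hdP 1, e_1_0, e_1_2] at R_1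
  have R_2 := hrow 2
  rw [Fin.sum_univ_five, hdP 2, e_2_0, e_2_1] at R_2
  have R_3 := hrow 3
  rw [Fin.sum_univ_five, hdP 3, e_3_0] at R_3
  have S_0_1 := hsym 0 1
  rw [e_0_1, e_1_0] at S_0_1
  have S_0_2 := hsym 0 2
  rw [e_0_2, e_2_0] at S_0_2
  have S_0_3 := hsym 0 3
  rw [e_0_3, e_3_0] at S_0_3
  have S_1_2 := hsym 1 2
  rw [e_1_2, e_2_1] at S_1_2
  have S_1_3 := hsym 1 3
  have S_2_3 := hsym 2 3
  have Q_1 := hpair 1 3 (by decide)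
  have Q_2 := hpair 2 3 (by decide)
  generalize e_1_3 : T.picMatrix 1 3 = x_1 at *
  generalize e_3_1 : T.picMatrix 3 1 = y_1 at *
  generalize e_2_3 : T.picMatrix 2 3 = x_2 at *
  generalize e_3_2 : T.picMatrix 3 2 = y_2 at *
  rcases Q_1 with ⟨rfl, rfl⟩ | ⟨rfl, rfl⟩ | ⟨rfl, rfl⟩ | ⟨rfl, rfl⟩ | ⟨rfl, rfl⟩ | ⟨rfl, rfl⟩ | ⟨rfl, rfl⟩ | ⟨rfl, rfl⟩ | ⟨rfl, rfl⟩
  · exact absurd rfl hne
  · omega
  · omega
  · omega
  · omega
  · omega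
  · omega
  · omega
  · omega

theorem nd_257 (T : Models.NumericalType 5)
    (hG : NTGood T)
    (hmax : ∀ j, T.m j ≤ T.m 0)
    (e_0_1 : T.picMatrix 0 1 = 2)
    (e_0_2 : T.picMatrix 0 2 = 0)
    (e_1_0 : T.picMatrix 1 0 = 1)
    (e_1_2 : T.picMatrix 1 2 = 1)
    (e_2_0 : T.picMatrix 2 0 = 0)
    (e_2_1 : T.picMatrix 2 1 = 2)
    (cl : ∀ a b : Fin 5, a.val < 1 → 3 ≤ b.val → T.picMatrix a b = 0) :
    Goal T := by
  by_cases hc : ∀ b : Fin 5, 3 ≤ b.val → T.picMatrix 1 b = 0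
  · exact nd_258 T hG hmax e_0_1 e_0_2 e_1_0 e_1_2 e_2_0 e_2_1 (nt_cl_succ T 3 1 1 rfl cl hc)
  · obtain ⟨τ, hfix, cl', z, hne⟩ := nt_wlog_step T 3 (by norm_num) 1 (by norm_num) 1 (by decide) cl hc
    apply goal_relabel T τ
    refine ex_261 (ntRelabel T τ) (hG.relabel τ) ?_ ?_ ?_ ?_ ?_ ?_ ?_ cl' z hne
    · intro j
      show T.m (τ j) ≤ T.m (τ 0)
      rw [hfix 0 (by decide)]
      exact hmax _
    · show T.picMatrix (τ 0) (τ 1) = 2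
      rw [hfix 0 (by decide), hfix 1 (by decide)]
      exact e_0_1
    · show T.picMatrix (τ 0) (τ 2) = 0
      rw [hfix 0 (by decide), hfix 2 (by decide)]
      exact e_0_2
    · show T.picMatrix (τ 1) (τ 0) = 1
      rw [hfix 1 (by decide), hfix 0 (by decide)]
      exact e_1_0
    · show T.picMatrix (τ 1) (τ 2) = 1
      rw [hfix 1 (by decide), hfix 2 (by decide)]
      exact e_1_2
    · show T.picMatrix (τ 2) (τ 0) = 0
      rw [hfix 2 (by decide), hfix 0 (by decide)]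
      exact e_2_0
    · show T.picMatrix (τ 2) (τ 1) = 2
      rw [hfix 2 (by decide), hfix 1 (by decide)]
      exact e_2_1

theorem nd_314 (T : Models.NumericalType 5)
    (hG : NTGood T)
    (hmax : ∀ j, T.m j ≤ T.m 0)
    (e_0_1 : T.picMatrix 0 1 = 2)
    (e_0_2 : T.picMatrix 0 2 = 1)
    (e_1_0 : T.picMatrix 1 0 = 1)
    (e_1_2 : T.picMatrix 1 2 = 0)
    (e_2_0 : T.picMatrix 2 0 = 2)
    (e_2_1 : T.picMatrix 2 1 = 0)
    (cl : ∀ a b : Fin 5, a.val < 3 → 3 ≤ b.val → T.picMatrix a b = 0) :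
    Goal T := by
  exact (nt_closed_false T 3 (by norm_num) (by norm_num) cl).elim

theorem ex_315 (T : Models.NumericalType 5)
    (hG : NTGood T)
    (hmax : ∀ j, T.m j ≤ T.m 0)
    (e_0_1 : T.picMatrix 0 1 = 2)
    (e_0_2 : T.picMatrix 0 2 = 1)
    (e_1_0 : T.picMatrix 1 0 = 1)
    (e_1_2 : T.picMatrix 1 2 = 0)
    (e_2_0 : T.picMatrix 2 0 = 2)
    (e_2_1 : T.picMatrix 2 1 = 0)
    (cl : ∀ a b : Fin 5, a.val < 2 → 4 ≤ b.val → T.picMatrix a b = 0)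
    (z : ∀ a : Fin 5, a.val < 2 → T.picMatrix a 3 = 0)
    (hne : T.picMatrix 2 3 ≠ 0) :
    Goal T := by
  have e_0_3 : T.picMatrix 0 3 = 0 := z 0 (by decide)
  have e_3_0 : T.picMatrix 3 0 = 0 := nt_pic_zero_symm T 0 3 e_0_3
  have e_1_3 : T.picMatrix 1 3 = 0 := z 1 (by decide)
  have e_3_1 : T.picMatrix 3 1 = 0 := nt_pic_zero_symm T 1 3 e_1_3
  obtain ⟨hg0, hdA, hdP, hnn, hrow, hsym, hpair⟩ := ntgood_data T (by norm_num) hG
  have hm_0 := T.m_pos 0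
  have hw_0 := T.w_pos 0
  have hm_1 := T.m_pos 1
  have hw_1 := T.w_pos 1
  have hm_2 := T.m_pos 2
  have hw_2 := T.w_pos 2
  have hm_3 := T.m_pos 3
  have hw_3 := T.w_pos 3
  have hx_1 := hmax 1
  have hx_2 := hmax 2
  have hx_3 := hmax 3
  have Z_0_4 := cl 0 4 (by decide) (by decide)
  have Z_1_4 := cl 1 4 (by decide) (by decide)
  have N_2_4 := mul_nonneg (hnn 2 4 (by decide)) (T.m_pos 4).le
  have N_3_4 := mul_nonneg (hnn 3 4 (by decide)) (T.m_pos 4).le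
  have N_2_3 := mul_nonneg (hnn 2 3 (by decide)) (T.m_pos 3).le
  have N_3_2 := mul_nonneg (hnn 3 2 (by decide)) (T.m_pos 2).le
  have R_0 := hrow 0
  rw [Fin.sum_univ_five, hdP 0, e_0_1, e_0_2, e_0_3, Z_0_4] at R_0
  have R_1 := hrow 1
  rw [Fin.sum_univ_five, hdP 1, e_1_0, e_1_2, e_1_3, Z_1_4] at R_1
  have R_2 := hrow 2
  rw [Fin.sum_univ_five, hdP 2, e_2_0, e_2_1] at R_2
  have R_3 := hrow 3
  rw [Fin.sum_univ_five, hdP 3, e_3_0, e_3_1] at R_3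
  have S_0_1 := hsym 0 1
  rw [e_0_1, e_1_0] at S_0_1
  have S_0_2 := hsym 0 2
  rw [e_0_2, e_2_0] at S_0_2
  have S_0_3 := hsym 0 3
  rw [e_0_3, e_3_0] at S_0_3
  have S_1_2 := hsym 1 2
  rw [e_1_2, e_2_1] at S_1_2
  have S_1_3 := hsym 1 3
  rw [e_1_3, e_3_1] at S_1_3
  have S_2_3 := hsym 2 3
  have Q_2 := hpair 2 3 (by decide)
  generalize e_2_3 : T.picMatrix 2 3 = x_2 at *
  generalize e_3_2 : T.picMatrix 3 2 = y_2 at *
  rcases Q_2 with ⟨rfl, rfl⟩ | ⟨rfl, rfl⟩ | ⟨rfl, rfl⟩ | ⟨rfl, rfl⟩ | ⟨rfl, rfl⟩ | ⟨rfl, rfl⟩ | ⟨rfl, rfl⟩ | ⟨rfl, rfl⟩ | ⟨rfl, rfl⟩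
  · exact absurd rfl hne
  · -- (2,3) = (1,1)
    omega
  · -- (2,3) = (1,2)
    omega
  · -- (2,3) = (2,1)
    omega
  · -- (2,3) = (1,3)
    omega
  · -- (2,3) = (3,1)
    omega
  · -- (2,3) = (1,4)
    omega
  · -- (2,3) = (4,1)
    omega
  · -- (2,3) = (2,2)
    omega

theorem nd_313 (T : Models.NumericalType 5)
    (hG : NTGood T)
    (hmax : ∀ j, T.m j ≤ T.m 0)
    (e_0_1 : T.picMatrix 0 1 = 2)
    (e_0_2 : T.picMatrix 0 2 = 1)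
    (e_1_0 : T.picMatrix 1 0 = 1)
    (e_1_2 : T.picMatrix 1 2 = 0)
    (e_2_0 : T.picMatrix 2 0 = 2)
    (e_2_1 : T.picMatrix 2 1 = 0)
    (cl : ∀ a b : Fin 5, a.val < 2 → 3 ≤ b.val → T.picMatrix a b = 0) :
    Goal T := by
  by_cases hc : ∀ b : Fin 5, 3 ≤ b.val → T.picMatrix 2 b = 0
  · exact nd_314 T hG hmax e_0_1 e_0_2 e_1_0 e_1_2 e_2_0 e_2_1 (nt_cl_succ T 3 2 2 rfl cl hc)
  · obtain ⟨τ, hfix, cl', z, hne⟩ := nt_wlog_step T 3 (by norm_num) 2 (by norm_num) 2 (by decide) cl hc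
    apply goal_relabel T τ
    refine ex_315 (ntRelabel T τ) (hG.relabel τ) ?_ ?_ ?_ ?_ ?_ ?_ ?_ cl' z hne
    · intro j
      show T.m (τ j) ≤ T.m (τ 0)
      rw [hfix 0 (by decide)]
      exact hmax _
    · show T.picMatrix (τ 0) (τ 1) = 2
      rw [hfix 0 (by decide), hfix 1 (by decide)]
      exact e_0_1
    · show T.picMatrix (τ 0) (τ 2) = 1
      rw [hfix 0 (by decide), hfix 2 (by decide)]
      exact e_0_2
    · show T.picMatrix (τ 1) (τ 0) = 1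
      rw [hfix 1 (by decide), hfix 0 (by decide)]
      exact e_1_0
    · show T.picMatrix (τ 1) (τ 2) = 0
      rw [hfix 1 (by decide), hfix 2 (by decide)]
      exact e_1_2
    · show T.picMatrix (τ 2) (τ 0) = 2
      rw [hfix 2 (by decide), hfix 0 (by decide)]
      exact e_2_0
    · show T.picMatrix (τ 2) (τ 1) = 0
      rw [hfix 2 (by decide), hfix 1 (by decide)]
      exact e_2_1

theorem ex_316 (T : Models.NumericalType 5)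
    (hG : NTGood T)
    (hmax : ∀ j, T.m j ≤ T.m 0)
    (e_0_1 : T.picMatrix 0 1 = 2)
    (e_0_2 : T.picMatrix 0 2 = 1)
    (e_1_0 : T.picMatrix 1 0 = 1)
    (e_1_2 : T.picMatrix 1 2 = 0)
    (e_2_0 : T.picMatrix 2 0 = 2)
    (e_2_1 : T.picMatrix 2 1 = 0)
    (cl : ∀ a b : Fin 5, a.val < 1 → 4 ≤ b.val → T.picMatrix a b = 0)
    (z : ∀ a : Fin 5, a.val < 1 → T.picMatrix a 3 = 0)
    (hne : T.picMatrix 1 3 ≠ 0) :
    Goal T := by
  have e_0_3 : T.picMatrix 0 3 = 0 := z 0 (by decide)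
  have e_3_0 : T.picMatrix 3 0 = 0 := nt_pic_zero_symm T 0 3 e_0_3
  obtain ⟨hg0, hdA, hdP, hnn, hrow, hsym, hpair⟩ := ntgood_data T (by norm_num) hG
  have hm_0 := T.m_pos 0
  have hw_0 := T.w_pos 0
  have hm_1 := T.m_pos 1
  have hw_1 := T.w_pos 1
  have hm_2 := T.m_pos 2
  have hw_2 := T.w_pos 2
  have hm_3 := T.m_pos 3
  have hw_3 := T.w_pos 3
  have hx_1 := hmax 1
  have hx_2 := hmax 2
  have hx_3 := hmax 3
  have Z_0_4 := cl 0 4 (by decide) (by decide)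
  have N_1_4 := mul_nonneg (hnn 1 4 (by decide)) (T.m_pos 4).le
  have N_2_4 := mul_nonneg (hnn 2 4 (by decide)) (T.m_pos 4).le
  have N_3_4 := mul_nonneg (hnn 3 4 (by decide)) (T.m_pos 4).le
  have N_1_3 := mul_nonneg (hnn 1 3 (by decide)) (T.m_pos 3).le
  have N_3_1 := mul_nonneg (hnn 3 1 (by decide)) (T.m_pos 1).le
  have N_2_3 := mul_nonneg (hnn 2 3 (by decide)) (T.m_pos 3).le
  have N_3_2 := mul_nonneg (hnn 3 2 (by decide)) (T.m_pos 2).le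
  have R_0 := hrow 0
  rw [Fin.sum_univ_five, hdP 0, e_0_1, e_0_2, e_0_3, Z_0_4] at R_0
  have R_1 := hrow 1
  rw [Fin.sum_univ_five, hdP 1, e_1_0, e_1_2] at R_1
  have R_2 := hrow 2
  rw [Fin.sum_univ_five, hdP 2, e_2_0, e_2_1] at R_2
  have R_3 := hrow 3
  rw [Fin.sum_univ_five, hdP 3, e_3_0] at R_3
  have S_0_1 := hsym 0 1
  rw [e_0_1, e_1_0] at S_0_1
  have S_0_2 := hsym 0 2
  rw [e_0_2, e_2_0] at S_0_2
  have S_0_3 := hsym 0 3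
  rw [e_0_3, e_3_0] at S_0_3
  have S_1_2 := hsym 1 2
  rw [e_1_2, e_2_1] at S_1_2
  have S_1_3 := hsym 1 3
  have S_2_3 := hsym 2 3
  have Q_1 := hpair 1 3 (by decide)
  have Q_2 := hpair 2 3 (by decide)
  generalize e_1_3 : T.picMatrix 1 3 = x_1 at *
  generalize e_3_1 : T.picMatrix 3 1 = y_1 at *
  generalize e_2_3 : T.picMatrix 2 3 = x_2 at *
  generalize e_3_2 : T.picMatrix 3 2 = y_2 at *
  rcases Q_1 with ⟨rfl, rfl⟩ | ⟨rfl, rfl⟩ | ⟨rfl, rfl⟩ | ⟨rfl, rfl⟩ | ⟨rfl, rfl⟩ | ⟨rfl, rfl⟩ | ⟨rfl, rfl⟩ | ⟨rfl, rfl⟩ | ⟨rfl, rfl⟩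
  · exact absurd rfl hne
  · omega
  · omega
  · omega
  · omega
  · omega
  · omega
  · omega
  · omega

theorem nd_312 (T : Models.NumericalType 5)
    (hG : NTGood T)
    (hmax : ∀ j, T.m j ≤ T.m 0)
    (e_0_1 : T.picMatrix 0 1 = 2)
    (e_0_2 : T.picMatrix 0 2 = 1)
    (e_1_0 : T.picMatrix 1 0 = 1)
    (e_1_2 : T.picMatrix 1 2 = 0)
    (e_2_0 : T.picMatrix 2 0 = 2)
    (e_2_1 : T.picMatrix 2 1 = 0)
    (cl : ∀ a b : Fin 5, a.val < 1 → 3 ≤ b.val → T.picMatrix a b = 0) :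
    Goal T := by
  by_cases hc : ∀ b : Fin 5, 3 ≤ b.val → T.picMatrix 1 b = 0
  · exact nd_313 T hG hmax e_0_1 e_0_2 e_1_0 e_1_2 e_2_0 e_2_1 (nt_cl_succ T 3 1 1 rfl cl hc)
  · obtain ⟨τ, hfix, cl', z, hne⟩ := nt_wlog_step T 3 (by norm_num) 1 (by norm_num) 1 (by decide) cl hc
    apply goal_relabel T τ
    refine ex_316 (ntRelabel T τ) (hG.relabel τ) ?_ ?_ ?_ ?_ ?_ ?_ ?_ cl' z hne
    · intro j
      show T.m (τ j) ≤ T.m (τ 0)
      rw [hfix 0 (by decide)]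
      exact hmax _
    · show T.picMatrix (τ 0) (τ 1) = 2
      rw [hfix 0 (by decide), hfix 1 (by decide)]
      exact e_0_1
    · show T.picMatrix (τ 0) (τ 2) = 1
      rw [hfix 0 (by decide), hfix 2 (by decide)]
      exact e_0_2
    · show T.picMatrix (τ 1) (τ 0) = 1
      rw [hfix 1 (by decide), hfix 0 (by decide)]
      exact e_1_0
    · show T.picMatrix (τ 1) (τ 2) = 0
      rw [hfix 1 (by decide), hfix 2 (by decide)]
      exact e_1_2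
    · show T.picMatrix (τ 2) (τ 0) = 2
      rw [hfix 2 (by decide), hfix 0 (by decide)]
      exact e_2_0
    · show T.picMatrix (τ 2) (τ 1) = 0
      rw [hfix 2 (by decide), hfix 1 (by decide)]
      exact e_2_1

theorem ex_317 (T : Models.NumericalType 5)
    (hG : NTGood T)
    (hmax : ∀ j, T.m j ≤ T.m 0)
    (e_0_1 : T.picMatrix 0 1 = 2)
    (e_0_2 : T.picMatrix 0 2 = 1)
    (e_1_0 : T.picMatrix 1 0 = 1)
    (e_1_2 : T.picMatrix 1 2 = 0)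
    (e_2_0 : T.picMatrix 2 0 = 2)
    (e_2_1 : T.picMatrix 2 1 = 0)
    (cl : ∀ a b : Fin 5, a.val < 0 → 4 ≤ b.val → T.picMatrix a b = 0)
    (z : ∀ a : Fin 5, a.val < 0 → T.picMatrix a 3 = 0)
    (hne : T.picMatrix 0 3 ≠ 0) :
    Goal T := by
  obtain ⟨hg0, hdA, hdP, hnn, hrow, hsym, hpair⟩ := ntgood_data T (by norm_num) hG
  have hm_0 := T.m_pos 0
  have hw_0 := T.w_pos 0
  have hm_1 := T.m_pos 1
  have hw_1 := T.w_pos 1
  have hm_2 := T.m_pos 2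
  have hw_2 := T.w_pos 2
  have hm_3 := T.m_pos 3
  have hw_3 := T.w_pos 3
  have hx_1 := hmax 1
  have hx_2 := hmax 2
  have hx_3 := hmax 3
  have N_0_4 := mul_nonneg (hnn 0 4 (by decide)) (T.m_pos 4).le
  have N_1_4 := mul_nonneg (hnn 1 4 (by decide)) (T.m_pos 4).le
  have N_2_4 := mul_nonneg (hnn 2 4 (by decide)) (T.m_pos 4).le
  have N_3_4 := mul_nonneg (hnn 3 4 (by decide)) (T.m_pos 4).le
  have N_0_3 := mul_nonneg (hnn 0 3 (by decide)) (T.m_pos 3).le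
  have N_3_0 := mul_nonneg (hnn 3 0 (by decide)) (T.m_pos 0).le
  have N_1_3 := mul_nonneg (hnn 1 3 (by decide)) (T.m_pos 3).le
  have N_3_1 := mul_nonneg (hnn 3 1 (by decide)) (T.m_pos 1).le
  have N_2_3 := mul_nonneg (hnn 2 3 (by decide)) (T.m_pos 3).le
  have N_3_2 := mul_nonneg (hnn 3 2 (by decide)) (T.m_pos 2).le
  have R_0 := hrow 0
  rw [Fin.sum_univ_five, hdP 0, e_0_1, e_0_2] at R_0
  have R_1 := hrow 1
  rw [Fin.sum_univ_five, hdP 1, e_1_0, e_1_2] at R_1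
  have R_2 := hrow 2
  rw [Fin.sum_univ_five, hdP 2, e_2_0, e_2_1] at R_2
  have R_3 := hrow 3
  rw [Fin.sum_univ_five, hdP 3] at R_3
  have S_0_1 := hsym 0 1
  rw [e_0_1, e_1_0] at S_0_1
  have S_0_2 := hsym 0 2
  rw [e_0_2, e_2_0] at S_0_2
  have S_0_3 := hsym 0 3
  have S_1_2 := hsym 1 2
  rw [e_1_2, e_2_1] at S_1_2
  have S_1_3 := hsym 1 3
  have S_2_3 := hsym 2 3
  have Q_0 := hpair 0 3 (by decide)
  have Q_1 := hpair 1 3 (by decide)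
  have Q_2 := hpair 2 3 (by decide)
  generalize e_0_3 : T.picMatrix 0 3 = x_0 at *
  generalize e_3_0 : T.picMatrix 3 0 = y_0 at *
  generalize e_1_3 : T.picMatrix 1 3 = x_1 at *
  generalize e_3_1 : T.picMatrix 3 1 = y_1 at *
  generalize e_2_3 : T.picMatrix 2 3 = x_2 at *
  generalize e_3_2 : T.picMatrix 3 2 = y_2 at *
  rcases Q_0 with ⟨rfl, rfl⟩ | ⟨rfl, rfl⟩ | ⟨rfl, rfl⟩ | ⟨rfl, rfl⟩ | ⟨rfl, rfl⟩ | ⟨rfl, rfl⟩ | ⟨rfl, rfl⟩ | ⟨rfl, rfl⟩ | ⟨rfl, rfl⟩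
  · exact absurd rfl hne
  · omega
  · omega
  · omega
  · omega
  · omega
  · omega
  · omega
  · omega

theorem nd_311 (T : Models.NumericalType 5)
    (hG : NTGood T)
    (hmax : ∀ j, T.m j ≤ T.m 0)
    (e_0_1 : T.picMatrix 0 1 = 2)
    (e_0_2 : T.picMatrix 0 2 = 1)
    (e_1_0 : T.picMatrix 1 0 = 1)
    (e_1_2 : T.picMatrix 1 2 = 0)
    (e_2_0 : T.picMatrix 2 0 = 2)
    (e_2_1 : T.picMatrix 2 1 = 0)
    (cl : ∀ a b : Fin 5, a.val < 0 → 3 ≤ b.val → T.picMatrix a b = 0) :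
    Goal T := by
  by_cases hc : ∀ b : Fin 5, 3 ≤ b.val → T.picMatrix 0 b = 0
  · exact nd_312 T hG hmax e_0_1 e_0_2 e_1_0 e_1_2 e_2_0 e_2_1 (nt_cl_succ T 3 0 0 rfl cl hc)
  · obtain ⟨τ, hfix, cl', z, hne⟩ := nt_wlog_step T 3 (by norm_num) 0 (by norm_num) 0 (by decide) cl hc
    apply goal_relabel T τ
    refine ex_317 (ntRelabel T τ) (hG.relabel τ) ?_ ?_ ?_ ?_ ?_ ?_ ?_ cl' z hne
    · intro j
      show T.m (τ j) ≤ T.m (τ 0)
      rw [hfix 0 (by decide)]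
      exact hmax _
    · show T.picMatrix (τ 0) (τ 1) = 2
      rw [hfix 0 (by decide), hfix 1 (by decide)]
      exact e_0_1
    · show T.picMatrix (τ 0) (τ 2) = 1
      rw [hfix 0 (by decide), hfix 2 (by decide)]
      exact e_0_2
    · show T.picMatrix (τ 1) (τ 0) = 1
      rw [hfix 1 (by decide), hfix 0 (by decide)]
      exact e_1_0
    · show T.picMatrix (τ 1) (τ 2) = 0
      rw [hfix 1 (by decide), hfix 2 (by decide)]
      exact e_1_2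
    · show T.picMatrix (τ 2) (τ 0) = 2
      rw [hfix 2 (by decide), hfix 0 (by decide)]
      exact e_2_0
    · show T.picMatrix (τ 2) (τ 1) = 0
      rw [hfix 2 (by decide), hfix 1 (by decide)]
      exact e_2_1

theorem nd_321 (T : Models.NumericalType 5)
    (hG : NTGood T)
    (hmax : ∀ j, T.m j ≤ T.m 0)
    (e_0_1 : T.picMatrix 0 1 = 2)
    (e_0_2 : T.picMatrix 0 2 = 2)
    (e_1_0 : T.picMatrix 1 0 = 1)
    (e_1_2 : T.picMatrix 1 2 = 0)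
    (e_2_0 : T.picMatrix 2 0 = 1)
    (e_2_1 : T.picMatrix 2 1 = 0)
    (cl : ∀ a b : Fin 5, a.val < 3 → 3 ≤ b.val → T.picMatrix a b = 0) :
    Goal T := by
  exact (nt_closed_false T 3 (by norm_num) (by norm_num) cl).elim

theorem ex_322 (T : Models.NumericalType 5)
    (hG : NTGood T)
    (hmax : ∀ j, T.m j ≤ T.m 0)
    (e_0_1 : T.picMatrix 0 1 = 2)
    (e_0_2 : T.picMatrix 0 2 = 2)
    (e_1_0 : T.picMatrix 1 0 = 1)
    (e_1_2 : T.picMatrix 1 2 = 0)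
    (e_2_0 : T.picMatrix 2 0 = 1)
    (e_2_1 : T.picMatrix 2 1 = 0)
    (cl : ∀ a b : Fin 5, a.val < 2 → 4 ≤ b.val → T.picMatrix a b = 0)
    (z : ∀ a : Fin 5, a.val < 2 → T.picMatrix a 3 = 0)
    (hne : T.picMatrix 2 3 ≠ 0) :
    Goal T := by
  have e_0_3 : T.picMatrix 0 3 = 0 := z 0 (by decide)
  have e_3_0 : T.picMatrix 3 0 = 0 := nt_pic_zero_symm T 0 3 e_0_3
  have e_1_3 : T.picMatrix 1 3 = 0 := z 1 (by decide)
  have e_3_1 : T.picMatrix 3 1 = 0 := nt_pic_zero_symm T 1 3 e_1_3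
  obtain ⟨hg0, hdA, hdP, hnn, hrow, hsym, hpair⟩ := ntgood_data T (by norm_num) hG
  have hm_0 := T.m_pos 0
  have hw_0 := T.w_pos 0
  have hm_1 := T.m_pos 1
  have hw_1 := T.w_pos 1
  have hm_2 := T.m_pos 2
  have hw_2 := T.w_pos 2
  have hm_3 := T.m_pos 3
  have hw_3 := T.w_pos 3
  have hx_1 := hmax 1
  have hx_2 := hmax 2
  have hx_3 := hmax 3
  have Z_0_4 := cl 0 4 (by decide) (by decide)
  have Z_1_4 := cl 1 4 (by decide) (by decide)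
  have N_2_4 := mul_nonneg (hnn 2 4 (by decide)) (T.m_pos 4).le
  have N_3_4 := mul_nonneg (hnn 3 4 (by decide)) (T.m_pos 4).le
  have N_2_3 := mul_nonneg (hnn 2 3 (by decide)) (T.m_pos 3).le
  have N_3_2 := mul_nonneg (hnn 3 2 (by decide)) (T.m_pos 2).le
  have R_0 := hrow 0
  rw [Fin.sum_univ_five, hdP 0, e_0_1, e_0_2, e_0_3, Z_0_4] at R_0
  have R_1 := hrow 1
  rw [Fin.sum_univ_five, hdP 1, e_1_0, e_1_2, e_1_3, Z_1_4] at R_1
  have R_2 := hrow 2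
  rw [Fin.sum_univ_five, hdP 2, e_2_0, e_2_1] at R_2
  have R_3 := hrow 3
  rw [Fin.sum_univ_five, hdP 3, e_3_0, e_3_1] at R_3
  have S_0_1 := hsym 0 1
  rw [e_0_1, e_1_0] at S_0_1
  have S_0_2 := hsym 0 2
  rw [e_0_2, e_2_0] at S_0_2
  have S_0_3 := hsym 0 3
  rw [e_0_3, e_3_0] at S_0_3
  have S_1_2 := hsym 1 2
  rw [e_1_2, e_2_1] at S_1_2
  have S_1_3 := hsym 1 3
  rw [e_1_3, e_3_1] at S_1_3
  have S_2_3 := hsym 2 3
  have Q_2 := hpair 2 3 (by decide)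
  generalize e_2_3 : T.picMatrix 2 3 = x_2 at *
  generalize e_3_2 : T.picMatrix 3 2 = y_2 at *
  rcases Q_2 with ⟨rfl, rfl⟩ | ⟨rfl, rfl⟩ | ⟨rfl, rfl⟩ | ⟨rfl, rfl⟩ | ⟨rfl, rfl⟩ | ⟨rfl, rfl⟩ | ⟨rfl, rfl⟩ | ⟨rfl, rfl⟩ | ⟨rfl, rfl⟩
  · exact absurd rfl hne
  · -- (2,3) = (1,1)
    omega
  · -- (2,3) = (1,2)
    omega
  · -- (2,3) = (2,1)
    omega
  · -- (2,3) = (1,3)
    omega
  · -- (2,3) = (3,1)
    omega
  · -- (2,3) = (1,4)
    omega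
  · -- (2,3) = (4,1)
    omega
  · -- (2,3) = (2,2)
    omega

theorem nd_320 (T : Models.NumericalType 5)
    (hG : NTGood T)
    (hmax : ∀ j, T.m j ≤ T.m 0)
    (e_0_1 : T.picMatrix 0 1 = 2)
    (e_0_2 : T.picMatrix 0 2 = 2)
    (e_1_0 : T.picMatrix 1 0 = 1)
    (e_1_2 : T.picMatrix 1 2 = 0)
    (e_2_0 : T.picMatrix 2 0 = 1)
    (e_2_1 : T.picMatrix 2 1 = 0)
    (cl : ∀ a b : Fin 5, a.val < 2 → 3 ≤ b.val → T.picMatrix a b = 0) :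
    Goal T := by
  by_cases hc : ∀ b : Fin 5, 3 ≤ b.val → T.picMatrix 2 b = 0
  · exact nd_321 T hG hmax e_0_1 e_0_2 e_1_0 e_1_2 e_2_0 e_2_1 (nt_cl_succ T 3 2 2 rfl cl hc)
  · obtain ⟨τ, hfix, cl', z, hne⟩ := nt_wlog_step T 3 (by norm_num) 2 (by norm_num) 2 (by decide) cl hc
    apply goal_relabel T τ
    refine ex_322 (ntRelabel T τ) (hG.relabel τ) ?_ ?_ ?_ ?_ ?_ ?_ ?_ cl' z hne
    · intro j
      show T.m (τ j) ≤ T.m (τ 0)
      rw [hfix 0 (by decide)]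
      exact hmax _
    · show T.picMatrix (τ 0) (τ 1) = 2
      rw [hfix 0 (by decide), hfix 1 (by decide)]
      exact e_0_1
    · show T.picMatrix (τ 0) (τ 2) = 2
      rw [hfix 0 (by decide), hfix 2 (by decide)]
      exact e_0_2
    · show T.picMatrix (τ 1) (τ 0) = 1
      rw [hfix 1 (by decide), hfix 0 (by decide)]
      exact e_1_0
    · show T.picMatrix (τ 1) (τ 2) = 0
      rw [hfix 1 (by decide), hfix 2 (by decide)]
      exact e_1_2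
    · show T.picMatrix (τ 2) (τ 0) = 1
      rw [hfix 2 (by decide), hfix 0 (by decide)]
      exact e_2_0
    · show T.picMatrix (τ 2) (τ 1) = 0
      rw [hfix 2 (by decide), hfix 1 (by decide)]
      exact e_2_1

theorem ex_323 (T : Models.NumericalType 5)
    (hG : NTGood T)
    (hmax : ∀ j, T.m j ≤ T.m 0)
    (e_0_1 : T.picMatrix 0 1 = 2)
    (e_0_2 : T.picMatrix 0 2 = 2)
    (e_1_0 : T.picMatrix 1 0 = 1)
    (e_1_2 : T.picMatrix 1 2 = 0)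
    (e_2_0 : T.picMatrix 2 0 = 1)
    (e_2_1 : T.picMatrix 2 1 = 0)
    (cl : ∀ a b : Fin 5, a.val < 1 → 4 ≤ b.val → T.picMatrix a b = 0)
    (z : ∀ a : Fin 5, a.val < 1 → T.picMatrix a 3 = 0)
    (hne : T.picMatrix 1 3 ≠ 0) :
    Goal T := by
  have e_0_3 : T.picMatrix 0 3 = 0 := z 0 (by decide)
  have e_3_0 : T.picMatrix 3 0 = 0 := nt_pic_zero_symm T 0 3 e_0_3
  obtain ⟨hg0, hdA, hdP, hnn, hrow, hsym, hpair⟩ := ntgood_data T (by norm_num) hG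
  have hm_0 := T.m_pos 0
  have hw_0 := T.w_pos 0
  have hm_1 := T.m_pos 1
  have hw_1 := T.w_pos 1
  have hm_2 := T.m_pos 2
  have hw_2 := T.w_pos 2
  have hm_3 := T.m_pos 3
  have hw_3 := T.w_pos 3
  have hx_1 := hmax 1
  have hx_2 := hmax 2
  have hx_3 := hmax 3
  have Z_0_4 := cl 0 4 (by decide) (by decide)
  have N_1_4 := mul_nonneg (hnn 1 4 (by decide)) (T.m_pos 4).le
  have N_2_4 := mul_nonneg (hnn 2 4 (by decide)) (T.m_pos 4).le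
  have N_3_4 := mul_nonneg (hnn 3 4 (by decide)) (T.m_pos 4).le
  have N_1_3 := mul_nonneg (hnn 1 3 (by decide)) (T.m_pos 3).le
  have N_3_1 := mul_nonneg (hnn 3 1 (by decide)) (T.m_pos 1).le
  have N_2_3 := mul_nonneg (hnn 2 3 (by decide)) (T.m_pos 3).le
  have N_3_2 := mul_nonneg (hnn 3 2 (by decide)) (T.m_pos 2).le
  have R_0 := hrow 0
  rw [Fin.sum_univ_five, hdP 0, e_0_1, e_0_2, e_0_3, Z_0_4] at R_0
  have R_1 := hrow 1
  rw [Fin.sum_univ_five, hdP 1, e_1_0, e_1_2] at R_1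
  have R_2 := hrow 2
  rw [Fin.sum_univ_five, hdP 2, e_2_0, e_2_1] at R_2
  have R_3 := hrow 3
  rw [Fin.sum_univ_five, hdP 3, e_3_0] at R_3
  have S_0_1 := hsym 0 1
  rw [e_0_1, e_1_0] at S_0_1
  have S_0_2 := hsym 0 2
  rw [e_0_2, e_2_0] at S_0_2
  have S_0_3 := hsym 0 3
  rw [e_0_3, e_3_0] at S_0_3
  have S_1_2 := hsym 1 2
  rw [e_1_2, e_2_1] at S_1_2
  have S_1_3 := hsym 1 3
  have S_2_3 := hsym 2 3
  have Q_1 := hpair 1 3 (by decide)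
  have Q_2 := hpair 2 3 (by decide)
  generalize e_1_3 : T.picMatrix 1 3 = x_1 at *
  generalize e_3_1 : T.picMatrix 3 1 = y_1 at *
  generalize e_2_3 : T.picMatrix 2 3 = x_2 at *
  generalize e_3_2 : T.picMatrix 3 2 = y_2 at *
  rcases Q_1 with ⟨rfl, rfl⟩ | ⟨rfl, rfl⟩ | ⟨rfl, rfl⟩ | ⟨rfl, rfl⟩ | ⟨rfl, rfl⟩ | ⟨rfl, rfl⟩ | ⟨rfl, rfl⟩ | ⟨rfl, rfl⟩ | ⟨rfl, rfl⟩
  · exact absurd rfl hne
  · omega
  · omega
  · omega
  · omega
  · omega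
  · omega
  · omega
  · omega

theorem nd_319 (T : Models.NumericalType 5)
    (hG : NTGood T)
    (hmax : ∀ j, T.m j ≤ T.m 0)
    (e_0_1 : T.picMatrix 0 1 = 2)
    (e_0_2 : T.picMatrix 0 2 = 2)
    (e_1_0 : T.picMatrix 1 0 = 1)
    (e_1_2 : T.picMatrix 1 2 = 0)
    (e_2_0 : T.picMatrix 2 0 = 1)
    (e_2_1 : T.picMatrix 2 1 = 0)
    (cl : ∀ a b : Fin 5, a.val < 1 → 3 ≤ b.val → T.picMatrix a b = 0) :
    Goal T := by
  by_cases hc : ∀ b : Fin 5, 3 ≤ b.val → T.picMatrix 1 b = 0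
  · exact nd_320 T hG hmax e_0_1 e_0_2 e_1_0 e_1_2 e_2_0 e_2_1 (nt_cl_succ T 3 1 1 rfl cl hc)
  · obtain ⟨τ, hfix, cl', z, hne⟩ := nt_wlog_step T 3 (by norm_num) 1 (by norm_num) 1 (by decide) cl hc
    apply goal_relabel T τ
    refine ex_323 (ntRelabel T τ) (hG.relabel τ) ?_ ?_ ?_ ?_ ?_ ?_ ?_ cl' z hne
    · intro j
      show T.m (τ j) ≤ T.m (τ 0)
      rw [hfix 0 (by decide)]
      exact hmax _
    · show T.picMatrix (τ 0) (τ 1) = 2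
      rw [hfix 0 (by decide), hfix 1 (by decide)]
      exact e_0_1
    · show T.picMatrix (τ 0) (τ 2) = 2
      rw [hfix 0 (by decide), hfix 2 (by decide)]
      exact e_0_2
    · show T.picMatrix (τ 1) (τ 0) = 1
      rw [hfix 1 (by decide), hfix 0 (by decide)]
      exact e_1_0
    · show T.picMatrix (τ 1) (τ 2) = 0
      rw [hfix 1 (by decide), hfix 2 (by decide)]
      exact e_1_2
    · show T.picMatrix (τ 2) (τ 0) = 1
      rw [hfix 2 (by decide), hfix 0 (by decide)]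
      exact e_2_0
    · show T.picMatrix (τ 2) (τ 1) = 0
      rw [hfix 2 (by decide), hfix 1 (by decide)]
      exact e_2_1

theorem ex_324 (T : Models.NumericalType 5)
    (hG : NTGood T)
    (hmax : ∀ j, T.m j ≤ T.m 0)
    (e_0_1 : T.picMatrix 0 1 = 2)
    (e_0_2 : T.picMatrix 0 2 = 2)
    (e_1_0 : T.picMatrix 1 0 = 1)
    (e_1_2 : T.picMatrix 1 2 = 0)
    (e_2_0 : T.picMatrix 2 0 = 1)
    (e_2_1 : T.picMatrix 2 1 = 0)
    (cl : ∀ a b : Fin 5, a.val < 0 → 4 ≤ b.val → T.picMatrix a b = 0)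
    (z : ∀ a : Fin 5, a.val < 0 → T.picMatrix a 3 = 0)
    (hne : T.picMatrix 0 3 ≠ 0) :
    Goal T := by
  obtain ⟨hg0, hdA, hdP, hnn, hrow, hsym, hpair⟩ := ntgood_data T (by norm_num) hG
  have hm_0 := T.m_pos 0
  have hw_0 := T.w_pos 0
  have hm_1 := T.m_pos 1
  have hw_1 := T.w_pos 1
  have hm_2 := T.m_pos 2
  have hw_2 := T.w_pos 2
  have hm_3 := T.m_pos 3
  have hw_3 := T.w_pos 3
  have hx_1 := hmax 1
  have hx_2 := hmax 2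
  have hx_3 := hmax 3
  have N_0_4 := mul_nonneg (hnn 0 4 (by decide)) (T.m_pos 4).le
  have N_1_4 := mul_nonneg (hnn 1 4 (by decide)) (T.m_pos 4).le
  have N_2_4 := mul_nonneg (hnn 2 4 (by decide)) (T.m_pos 4).le
  have N_3_4 := mul_nonneg (hnn 3 4 (by decide)) (T.m_pos 4).le
  have N_0_3 := mul_nonneg (hnn 0 3 (by decide)) (T.m_pos 3).le
  have N_3_0 := mul_nonneg (hnn 3 0 (by decide)) (T.m_pos 0).le
  have N_1_3 := mul_nonneg (hnn 1 3 (by decide)) (T.m_pos 3).le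
  have N_3_1 := mul_nonneg (hnn 3 1 (by decide)) (T.m_pos 1).le
  have N_2_3 := mul_nonneg (hnn 2 3 (by decide)) (T.m_pos 3).le
  have N_3_2 := mul_nonneg (hnn 3 2 (by decide)) (T.m_pos 2).le
  have R_0 := hrow 0
  rw [Fin.sum_univ_five, hdP 0, e_0_1, e_0_2] at R_0
  have R_1 := hrow 1
  rw [Fin.sum_univ_five, hdP 1, e_1_0, e_1_2] at R_1
  have R_2 := hrow 2
  rw [Fin.sum_univ_five, hdP 2, e_2_0, e_2_1] at R_2
  have R_3 := hrow 3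
  rw [Fin.sum_univ_five, hdP 3] at R_3
  have S_0_1 := hsym 0 1
  rw [e_0_1, e_1_0] at S_0_1
  have S_0_2 := hsym 0 2
  rw [e_0_2, e_2_0] at S_0_2
  have S_0_3 := hsym 0 3
  have S_1_2 := hsym 1 2
  rw [e_1_2, e_2_1] at S_1_2
  have S_1_3 := hsym 1 3
  have S_2_3 := hsym 2 3
  have Q_0 := hpair 0 3 (by decide)
  have Q_1 := hpair 1 3 (by decide)
  have Q_2 := hpair 2 3 (by decide)
  generalize e_0_3 : T.picMatrix 0 3 = x_0 at *
  generalize e_3_0 : T.picMatrix 3 0 = y_0 at *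
  generalize e_1_3 : T.picMatrix 1 3 = x_1 at *
  generalize e_3_1 : T.picMatrix 3 1 = y_1 at *
  generalize e_2_3 : T.picMatrix 2 3 = x_2 at *
  generalize e_3_2 : T.picMatrix 3 2 = y_2 at *
  rcases Q_0 with ⟨rfl, rfl⟩ | ⟨rfl, rfl⟩ | ⟨rfl, rfl⟩ | ⟨rfl, rfl⟩ | ⟨rfl, rfl⟩ | ⟨rfl, rfl⟩ | ⟨rfl, rfl⟩ | ⟨rfl, rfl⟩ | ⟨rfl, rfl⟩
  · exact absurd rfl hne
  · omega
  · omega
  · omega
  · omega
  · omega
  · omega
  · omega
  · omega

theorem nd_318 (T : Models.NumericalType 5)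
    (hG : NTGood T)
    (hmax : ∀ j, T.m j ≤ T.m 0)
    (e_0_1 : T.picMatrix 0 1 = 2)
    (e_0_2 : T.picMatrix 0 2 = 2)
    (e_1_0 : T.picMatrix 1 0 = 1)
    (e_1_2 : T.picMatrix 1 2 = 0)
    (e_2_0 : T.picMatrix 2 0 = 1)
    (e_2_1 : T.picMatrix 2 1 = 0)
    (cl : ∀ a b : Fin 5, a.val < 0 → 3 ≤ b.val → T.picMatrix a b = 0) :
    Goal T := by
  by_cases hc : ∀ b : Fin 5, 3 ≤ b.val → T.picMatrix 0 b = 0
  · exact nd_319 T hG hmax e_0_1 e_0_2 e_1_0 e_1_2 e_2_0 e_2_1 (nt_cl_succ T 3 0 0 rfl cl hc)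
  · obtain ⟨τ, hfix, cl', z, hne⟩ := nt_wlog_step T 3 (by norm_num) 0 (by norm_num) 0 (by decide) cl hc
    apply goal_relabel T τ
    refine ex_324 (ntRelabel T τ) (hG.relabel τ) ?_ ?_ ?_ ?_ ?_ ?_ ?_ cl' z hne
    · intro j
      show T.m (τ j) ≤ T.m (τ 0)
      rw [hfix 0 (by decide)]
      exact hmax _
    · show T.picMatrix (τ 0) (τ 1) = 2
      rw [hfix 0 (by decide), hfix 1 (by decide)]
      exact e_0_1
    · show T.picMatrix (τ 0) (τ 2) = 2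
      rw [hfix 0 (by decide), hfix 2 (by decide)]
      exact e_0_2
    · show T.picMatrix (τ 1) (τ 0) = 1
      rw [hfix 1 (by decide), hfix 0 (by decide)]
      exact e_1_0
    · show T.picMatrix (τ 1) (τ 2) = 0
      rw [hfix 1 (by decide), hfix 2 (by decide)]
      exact e_1_2
    · show T.picMatrix (τ 2) (τ 0) = 1
      rw [hfix 2 (by decide), hfix 0 (by decide)]
      exact e_2_0
    · show T.picMatrix (τ 2) (τ 1) = 0
      rw [hfix 2 (by decide), hfix 1 (by decide)]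
      exact e_2_1

theorem nd_331 (T : Models.NumericalType 5)
    (hG : NTGood T)
    (hmax : ∀ j, T.m j ≤ T.m 0)
    (e_0_1 : T.picMatrix 0 1 = 3)
    (e_0_2 : T.picMatrix 0 2 = 0)
    (e_1_0 : T.picMatrix 1 0 = 1)
    (e_1_2 : T.picMatrix 1 2 = 1)
    (e_2_0 : T.picMatrix 2 0 = 0)
    (e_2_1 : T.picMatrix 2 1 = 1)
    (cl : ∀ a b : Fin 5, a.val < 3 → 3 ≤ b.val → T.picMatrix a b = 0) :
    Goal T := by
  exact (nt_closed_false T 3 (by norm_num) (by norm_num) cl).elim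

theorem ex_332 (T : Models.NumericalType 5)
    (hG : NTGood T)
    (hmax : ∀ j, T.m j ≤ T.m 0)
    (e_0_1 : T.picMatrix 0 1 = 3)
    (e_0_2 : T.picMatrix 0 2 = 0)
    (e_1_0 : T.picMatrix 1 0 = 1)
    (e_1_2 : T.picMatrix 1 2 = 1)
    (e_2_0 : T.picMatrix 2 0 = 0)
    (e_2_1 : T.picMatrix 2 1 = 1)
    (cl : ∀ a b : Fin 5, a.val < 2 → 4 ≤ b.val → T.picMatrix a b = 0)
    (z : ∀ a : Fin 5, a.val < 2 → T.picMatrix a 3 = 0)
    (hne : T.picMatrix 2 3 ≠ 0) :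
    Goal T := by
  have e_0_3 : T.picMatrix 0 3 = 0 := z 0 (by decide)
  have e_3_0 : T.picMatrix 3 0 = 0 := nt_pic_zero_symm T 0 3 e_0_3
  have e_1_3 : T.picMatrix 1 3 = 0 := z 1 (by decide)
  have e_3_1 : T.picMatrix 3 1 = 0 := nt_pic_zero_symm T 1 3 e_1_3
  obtain ⟨hg0, hdA, hdP, hnn, hrow, hsym, hpair⟩ := ntgood_data T (by norm_num) hG
  have hm_0 := T.m_pos 0
  have hw_0 := T.w_pos 0
  have hm_1 := T.m_pos 1
  have hw_1 := T.w_pos 1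
  have hm_2 := T.m_pos 2
  have hw_2 := T.w_pos 2
  have hm_3 := T.m_pos 3
  have hw_3 := T.w_pos 3
  have hx_1 := hmax 1
  have hx_2 := hmax 2
  have hx_3 := hmax 3
  have Z_0_4 := cl 0 4 (by decide) (by decide)
  have Z_1_4 := cl 1 4 (by decide) (by decide)
  have N_2_4 := mul_nonneg (hnn 2 4 (by decide)) (T.m_pos 4).le
  have N_3_4 := mul_nonneg (hnn 3 4 (by decide)) (T.m_pos 4).le
  have N_2_3 := mul_nonneg (hnn 2 3 (by decide)) (T.m_pos 3).le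
  have N_3_2 := mul_nonneg (hnn 3 2 (by decide)) (T.m_pos 2).le
  have R_0 := hrow 0
  rw [Fin.sum_univ_five, hdP 0, e_0_1, e_0_2, e_0_3, Z_0_4] at R_0
  have R_1 := hrow 1
  rw [Fin.sum_univ_five, hdP 1, e_1_0, e_1_2, e_1_3, Z_1_4] at R_1
  have R_2 := hrow 2
  rw [Fin.sum_univ_five, hdP 2, e_2_0, e_2_1] at R_2
  have R_3 := hrow 3
  rw [Fin.sum_univ_five, hdP 3, e_3_0, e_3_1] at R_3
  have S_0_1 := hsym 0 1
  rw [e_0_1, e_1_0] at S_0_1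
  have S_0_2 := hsym 0 2
  rw [e_0_2, e_2_0] at S_0_2
  have S_0_3 := hsym 0 3
  rw [e_0_3, e_3_0] at S_0_3
  have S_1_2 := hsym 1 2
  rw [e_1_2, e_2_1] at S_1_2
  have S_1_3 := hsym 1 3
  rw [e_1_3, e_3_1] at S_1_3
  have S_2_3 := hsym 2 3
  have Q_2 := hpair 2 3 (by decide)
  generalize e_2_3 : T.picMatrix 2 3 = x_2 at *
  generalize e_3_2 : T.picMatrix 3 2 = y_2 at *
  rcases Q_2 with ⟨rfl, rfl⟩ | ⟨rfl, rfl⟩ | ⟨rfl, rfl⟩ | ⟨rfl, rfl⟩ | ⟨rfl, rfl⟩ | ⟨rfl, rfl⟩ | ⟨rfl, rfl⟩ | ⟨rfl, rfl⟩ | ⟨rfl, rfl⟩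
  · exact absurd rfl hne
  · -- (2,3) = (1,1)
    omega
  · -- (2,3) = (1,2)
    omega
  · -- (2,3) = (2,1)
    omega
  · -- (2,3) = (1,3)
    omega
  · -- (2,3) = (3,1)
    omega
  · -- (2,3) = (1,4)
    omega
  · -- (2,3) = (4,1)
    omega
  · -- (2,3) = (2,2)
    omega

theorem nd_330 (T : Models.NumericalType 5)
    (hG : NTGood T)
    (hmax : ∀ j, T.m j ≤ T.m 0)
    (e_0_1 : T.picMatrix 0 1 = 3)
    (e_0_2 : T.picMatrix 0 2 = 0)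
    (e_1_0 : T.picMatrix 1 0 = 1)
    (e_1_2 : T.picMatrix 1 2 = 1)
    (e_2_0 : T.picMatrix 2 0 = 0)
    (e_2_1 : T.picMatrix 2 1 = 1)
    (cl : ∀ a b : Fin 5, a.val < 2 → 3 ≤ b.val → T.picMatrix a b = 0) :
    Goal T := by
  by_cases hc : ∀ b : Fin 5, 3 ≤ b.val → T.picMatrix 2 b = 0
  · exact nd_331 T hG hmax e_0_1 e_0_2 e_1_0 e_1_2 e_2_0 e_2_1 (nt_cl_succ T 3 2 2 rfl cl hc)
  · obtain ⟨τ, hfix, cl', z, hne⟩ := nt_wlog_step T 3 (by norm_num) 2 (by norm_num) 2 (by decide) cl hc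
    apply goal_relabel T τ
    refine ex_332 (ntRelabel T τ) (hG.relabel τ) ?_ ?_ ?_ ?_ ?_ ?_ ?_ cl' z hne
    · intro j
      show T.m (τ j) ≤ T.m (τ 0)
      rw [hfix 0 (by decide)]
      exact hmax _
    · show T.picMatrix (τ 0) (τ 1) = 3
      rw [hfix 0 (by decide), hfix 1 (by decide)]
      exact e_0_1
    · show T.picMatrix (τ 0) (τ 2) = 0
      rw [hfix 0 (by decide), hfix 2 (by decide)]
      exact e_0_2
    · show T.picMatrix (τ 1) (τ 0) = 1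
      rw [hfix 1 (by decide), hfix 0 (by decide)]
      exact e_1_0
    · show T.picMatrix (τ 1) (τ 2) = 1
      rw [hfix 1 (by decide), hfix 2 (by decide)]
      exact e_1_2
    · show T.picMatrix (τ 2) (τ 0) = 0
      rw [hfix 2 (by decide), hfix 0 (by decide)]
      exact e_2_0
    · show T.picMatrix (τ 2) (τ 1) = 1
      rw [hfix 2 (by decide), hfix 1 (by decide)]
      exact e_2_1

theorem ex_333 (T : Models.NumericalType 5)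
    (hG : NTGood T)
    (hmax : ∀ j, T.m j ≤ T.m 0)
    (e_0_1 : T.picMatrix 0 1 = 3)
    (e_0_2 : T.picMatrix 0 2 = 0)
    (e_1_0 : T.picMatrix 1 0 = 1)
    (e_1_2 : T.picMatrix 1 2 = 1)
    (e_2_0 : T.picMatrix 2 0 = 0)
    (e_2_1 : T.picMatrix 2 1 = 1)
    (cl : ∀ a b : Fin 5, a.val < 1 → 4 ≤ b.val → T.picMatrix a b = 0)
    (z : ∀ a : Fin 5, a.val < 1 → T.picMatrix a 3 = 0)
    (hne : T.picMatrix 1 3 ≠ 0) :
    Goal T := by
  have e_0_3 : T.picMatrix 0 3 = 0 := z 0 (by decide)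
  have e_3_0 : T.picMatrix 3 0 = 0 := nt_pic_zero_symm T 0 3 e_0_3
  obtain ⟨hg0, hdA, hdP, hnn, hrow, hsym, hpair⟩ := ntgood_data T (by norm_num) hG
  have hm_0 := T.m_pos 0
  have hw_0 := T.w_pos 0
  have hm_1 := T.m_pos 1
  have hw_1 := T.w_pos 1
  have hm_2 := T.m_pos 2
  have hw_2 := T.w_pos 2
  have hm_3 := T.m_pos 3
  have hw_3 := T.w_pos 3
  have hx_1 := hmax 1
  have hx_2 := hmax 2
  have hx_3 := hmax 3
  have Z_0_4 := cl 0 4 (by decide) (by decide)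
  have N_1_4 := mul_nonneg (hnn 1 4 (by decide)) (T.m_pos 4).le
  have N_2_4 := mul_nonneg (hnn 2 4 (by decide)) (T.m_pos 4).le
  have N_3_4 := mul_nonneg (hnn 3 4 (by decide)) (T.m_pos 4).le
  have N_1_3 := mul_nonneg (hnn 1 3 (by decide)) (T.m_pos 3).le
  have N_3_1 := mul_nonneg (hnn 3 1 (by decide)) (T.m_pos 1).le
  have N_2_3 := mul_nonneg (hnn 2 3 (by decide)) (T.m_pos 3).le
  have N_3_2 := mul_nonneg (hnn 3 2 (by decide)) (T.m_pos 2).le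
  have R_0 := hrow 0
  rw [Fin.sum_univ_five, hdP 0, e_0_1, e_0_2, e_0_3, Z_0_4] at R_0
  have R_1 := hrow 1
  rw [Fin.sum_univ_five, hdP 1, e_1_0, e_1_2] at R_1
  have R_2 := hrow 2
  rw [Fin.sum_univ_five, hdP 2, e_2_0, e_2_1] at R_2
  have R_3 := hrow 3
  rw [Fin.sum_univ_five, hdP 3, e_3_0] at R_3
  have S_0_1 := hsym 0 1
  rw [e_0_1, e_1_0] at S_0_1
  have S_0_2 := hsym 0 2
  rw [e_0_2, e_2_0] at S_0_2
  have S_0_3 := hsym 0 3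
  rw [e_0_3, e_3_0] at S_0_3
  have S_1_2 := hsym 1 2
  rw [e_1_2, e_2_1] at S_1_2
  have S_1_3 := hsym 1 3
  have S_2_3 := hsym 2 3
  have Q_1 := hpair 1 3 (by decide)
  have Q_2 := hpair 2 3 (by decide)
  generalize e_1_3 : T.picMatrix 1 3 = x_1 at *
  generalize e_3_1 : T.picMatrix 3 1 = y_1 at *
  generalize e_2_3 : T.picMatrix 2 3 = x_2 at *
  generalize e_3_2 : T.picMatrix 3 2 = y_2 at *
  rcases Q_1 with ⟨rfl, rfl⟩ | ⟨rfl, rfl⟩ | ⟨rfl, rfl⟩ | ⟨rfl, rfl⟩ | ⟨rfl, rfl⟩ | ⟨rfl, rfl⟩ | ⟨rfl, rfl⟩ | ⟨rfl, rfl⟩ | ⟨rfl, rfl⟩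
  · exact absurd rfl hne
  · omega
  · omega
  · omega
  · omega
  · omega
  · omega
  · omega
  · omega

theorem nd_329 (T : Models.NumericalType 5)
    (hG : NTGood T)
    (hmax : ∀ j, T.m j ≤ T.m 0)
    (e_0_1 : T.picMatrix 0 1 = 3)
    (e_0_2 : T.picMatrix 0 2 = 0)
    (e_1_0 : T.picMatrix 1 0 = 1)
    (e_1_2 : T.picMatrix 1 2 = 1)
    (e_2_0 : T.picMatrix 2 0 = 0)
    (e_2_1 : T.picMatrix 2 1 = 1)
    (cl : ∀ a b : Fin 5, a.val < 1 → 3 ≤ b.val → T.picMatrix a b = 0) :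
    Goal T := by
  by_cases hc : ∀ b : Fin 5, 3 ≤ b.val → T.picMatrix 1 b = 0
  · exact nd_330 T hG hmax e_0_1 e_0_2 e_1_0 e_1_2 e_2_0 e_2_1 (nt_cl_succ T 3 1 1 rfl cl hc)
  · obtain ⟨τ, hfix, cl', z, hne⟩ := nt_wlog_step T 3 (by norm_num) 1 (by norm_num) 1 (by decide) cl hc
    apply goal_relabel T τ
    refine ex_333 (ntRelabel T τ) (hG.relabel τ) ?_ ?_ ?_ ?_ ?_ ?_ ?_ cl' z hne
    · intro j
      show T.m (τ j) ≤ T.m (τ 0)
      rw [hfix 0 (by decide)]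
      exact hmax _
    · show T.picMatrix (τ 0) (τ 1) = 3
      rw [hfix 0 (by decide), hfix 1 (by decide)]
      exact e_0_1
    · show T.picMatrix (τ 0) (τ 2) = 0
      rw [hfix 0 (by decide), hfix 2 (by decide)]
      exact e_0_2
    · show T.picMatrix (τ 1) (τ 0) = 1
      rw [hfix 1 (by decide), hfix 0 (by decide)]
      exact e_1_0
    · show T.picMatrix (τ 1) (τ 2) = 1
      rw [hfix 1 (by decide), hfix 2 (by decide)]
      exact e_1_2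
    · show T.picMatrix (τ 2) (τ 0) = 0
      rw [hfix 2 (by decide), hfix 0 (by decide)]
      exact e_2_0
    · show T.picMatrix (τ 2) (τ 1) = 1
      rw [hfix 2 (by decide), hfix 1 (by decide)]
      exact e_2_1

end Groth.Agent.Lib.helper4.G5
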