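import Groth.Agent.Lib.helper4.G5.Defs

/-!
# Genus one classification on 5 indices: generated case analysis, part 2 (helper4)
-/

set_option autoImplicit false
set_option maxHeartbeats 1000000
set_option linter.unusedVariables false

namespace Groth.Agent.Lib.helper4.G5

open Groth.Agent.Lib.helper4

theorem nd_76 (T : Models.NumericalType 5)
    (hG : NTGood T)
    (hmax : ∀ j, T.m j ≤ T.m 0)
    (e_0_1 : T.picMatrix 0 1 = 1)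
    (e_0_2 : T.picMatrix 0 2 = 1)
    (e_1_0 : T.picMatrix 1 0 = 1)
    (e_1_2 : T.picMatrix 1 2 = 1)
    (e_2_0 : T.picMatrix 2 0 = 1)
    (e_2_1 : T.picMatrix 2 1 = 1)
    (cl : ∀ a b : Fin 5, a.val < 3 → 3 ≤ b.val → T.picMatrix a b = 0) :
    Goal T := by
  exact (nt_closed_false T 3 (by norm_num) (by norm_num) cl).elim

theorem ex_77 (T : Models.NumericalType 5)
    (hG : NTGood T)
    (hmax : ∀ j, T.m j ≤ T.m 0)
    (e_0_1 : T.picMatrix 0 1 = 1)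
    (e_0_2 : T.picMatrix 0 2 = 1)
    (e_1_0 : T.picMatrix 1 0 = 1)
    (e_1_2 : T.picMatrix 1 2 = 1)
    (e_2_0 : T.picMatrix 2 0 = 1)
    (e_2_1 : T.picMatrix 2 1 = 1)
    (cl : ∀ a b : Fin 5, a.val < 2 → 4 ≤ b.val → T.picMatrix a b = 0)
    (z : ∀ a : Fin 5, a.val < 2 → T.picMatrix a 3 = 0)
    (hne : T.picMatrix 2 3 ≠ 0) :
    Goal T := by
  have e_0_3 : T.picMatrix 0 3 = 0 := z 0 (by decide)
  have e_3_0 : T.picMatrix 3 0 = 0 := nt_pic_zero_symm T 0 3 e_0_3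
  have e_1_3 : T.picMatrix 1 3 = 0 := z 1 (by decide)
  have e_3_1 : T.picMatrix 3 1 = 0 := nt_pic_zero_symm T 1 3 e_1_3
  obtain ⟨hg0, hdA, hdP, hnn, hrow, hsym, hpair⟩ := ntgood_data T (by norm_num) hG
  have hm_0 := T.m_pos 0
  have hw_0 := T.w_pos 0
  have hm_1 := T.m_pos 1
  have hw_1 := T.w_pos 1
  have hm_2 := T.m_pos 2
  have hw_2 := T.w_pos 2
  have hm_3 := T.m_pos 3
  have hw_3 := T.w_pos 3
  have hx_1 := hmax 1
  have hx_2 := hmax 2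
  have hx_3 := hmax 3
  have Z_0_4 := cl 0 4 (by decide) (by decide)
  have Z_1_4 := cl 1 4 (by decide) (by decide)
  have N_2_4 := mul_nonneg (hnn 2 4 (by decide)) (T.m_pos 4).le
  have N_3_4 := mul_nonneg (hnn 3 4 (by decide)) (T.m_pos 4).le
  have N_2_3 := mul_nonneg (hnn 2 3 (by decide)) (T.m_pos 3).le
  have N_3_2 := mul_nonneg (hnn 3 2 (by decide)) (T.m_pos 2).le
  have R_0 := hrow 0
  rw [Fin.sum_univ_five, hdP 0, e_0_1, e_0_2, e_0_3, Z_0_4] at R_0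
  have R_1 := hrow 1
  rw [Fin.sum_univ_five, hdP 1, e_1_0, e_1_2, e_1_3, Z_1_4] at R_1
  have R_2 := hrow 2
  rw [Fin.sum_univ_five, hdP 2, e_2_0, e_2_1] at R_2
  have R_3 := hrow 3
  rw [Fin.sum_univ_five, hdP 3, e_3_0, e_3_1] at R_3
  have S_0_1 := hsym 0 1
  rw [e_0_1, e_1_0] at S_0_1
  have S_0_2 := hsym 0 2
  rw [e_0_2, e_2_0] at S_0_2
  have S_0_3 := hsym 0 3
  rw [e_0_3, e_3_0] at S_0_3
  have S_1_2 := hsym 1 2
  rw [e_1_2, e_2_1] at S_1_2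
  have S_1_3 := hsym 1 3
  rw [e_1_3, e_3_1] at S_1_3
  have S_2_3 := hsym 2 3
  have Q_2 := hpair 2 3 (by decide)
  generalize e_2_3 : T.picMatrix 2 3 = x_2 at *
  generalize e_3_2 : T.picMatrix 3 2 = y_2 at *
  rcases Q_2 with ⟨rfl, rfl⟩ | ⟨rfl, rfl⟩ | ⟨rfl, rfl⟩ | ⟨rfl, rfl⟩ | ⟨rfl, rfl⟩ | ⟨rfl, rfl⟩ | ⟨rfl, rfl⟩ | ⟨rfl, rfl⟩ | ⟨rfl, rfl⟩
  · exact absurd rfl hne
  · -- (2,3) = (1,1)
    omega
  · -- (2,3) = (1,2)
    omega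
  · -- (2,3) = (2,1)
    omega
  · -- (2,3) = (1,3)
    omega
  · -- (2,3) = (3,1)
    omega
  · -- (2,3) = (1,4)
    omega
  · -- (2,3) = (4,1)
    omega
  · -- (2,3) = (2,2)
    omega

theorem nd_75 (T : Models.NumericalType 5)
    (hG : NTGood T)
    (hmax : ∀ j, T.m j ≤ T.m 0)
    (e_0_1 : T.picMatrix 0 1 = 1)
    (e_0_2 : T.picMatrix 0 2 = 1)
    (e_1_0 : T.picMatrix 1 0 = 1)
    (e_1_2 : T.picMatrix 1 2 = 1)
    (e_2_0 : T.picMatrix 2 0 = 1)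
    (e_2_1 : T.picMatrix 2 1 = 1)
    (cl : ∀ a b : Fin 5, a.val < 2 → 3 ≤ b.val → T.picMatrix a b = 0) :
    Goal T := by
  by_cases hc : ∀ b : Fin 5, 3 ≤ b.val → T.picMatrix 2 b = 0
  · exact nd_76 T hG hmax e_0_1 e_0_2 e_1_0 e_1_2 e_2_0 e_2_1 (nt_cl_succ T 3 2 2 rfl cl hc)
  · obtain ⟨τ, hfix, cl', z, hne⟩ := nt_wlog_step T 3 (by norm_num) 2 (by norm_num) 2 (by decide) cl hc
    apply goal_relabel T τ
    refine ex_77 (ntRelabel T τ) (hG.relabel τ) ?_ ?_ ?_ ?_ ?_ ?_ ?_ cl' z hne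
    · intro j
      show T.m (τ j) ≤ T.m (τ 0)
      rw [hfix 0 (by decide)]
      exact hmax _
    · show T.picMatrix (τ 0) (τ 1) = 1
      rw [hfix 0 (by decide), hfix 1 (by decide)]
      exact e_0_1
    · show T.picMatrix (τ 0) (τ 2) = 1
      rw [hfix 0 (by decide), hfix 2 (by decide)]
      exact e_0_2
    · show T.picMatrix (τ 1) (τ 0) = 1
      rw [hfix 1 (by decide), hfix 0 (by decide)]
      exact e_1_0
    · show T.picMatrix (τ 1) (τ 2) = 1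
      rw [hfix 1 (by decide), hfix 2 (by decide)]
      exact e_1_2
    · show T.picMatrix (τ 2) (τ 0) = 1
      rw [hfix 2 (by decide), hfix 0 (by decide)]
      exact e_2_0
    · show T.picMatrix (τ 2) (τ 1) = 1
      rw [hfix 2 (by decide), hfix 1 (by decide)]
      exact e_2_1

theorem ex_78 (T : Models.NumericalType 5)
    (hG : NTGood T)
    (hmax : ∀ j, T.m j ≤ T.m 0)
    (e_0_1 : T.picMatrix 0 1 = 1)
    (e_0_2 : T.picMatrix 0 2 = 1)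
    (e_1_0 : T.picMatrix 1 0 = 1)
    (e_1_2 : T.picMatrix 1 2 = 1)
    (e_2_0 : T.picMatrix 2 0 = 1)
    (e_2_1 : T.picMatrix 2 1 = 1)
    (cl : ∀ a b : Fin 5, a.val < 1 → 4 ≤ b.val → T.picMatrix a b = 0)
    (z : ∀ a : Fin 5, a.val < 1 → T.picMatrix a 3 = 0)
    (hne : T.picMatrix 1 3 ≠ 0) :
    Goal T := by
  have e_0_3 : T.picMatrix 0 3 = 0 := z 0 (by decide)
  have e_3_0 : T.picMatrix 3 0 = 0 := nt_pic_zero_symm T 0 3 e_0_3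
  obtain ⟨hg0, hdA, hdP, hnn, hrow, hsym, hpair⟩ := ntgood_data T (by norm_num) hG
  have hm_0 := T.m_pos 0
  have hw_0 := T.w_pos 0
  have hm_1 := T.m_pos 1
  have hw_1 := T.w_pos 1
  have hm_2 := T.m_pos 2
  have hw_2 := T.w_pos 2
  have hm_3 := T.m_pos 3
  have hw_3 := T.w_pos 3
  have hx_1 := hmax 1
  have hx_2 := hmax 2
  have hx_3 := hmax 3
  have Z_0_4 := cl 0 4 (by decide) (by decide)
  have N_1_4 := mul_nonneg (hnn 1 4 (by decide)) (T.m_pos 4).le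
  have N_2_4 := mul_nonneg (hnn 2 4 (by decide)) (T.m_pos 4).le
  have N_3_4 := mul_nonneg (hnn 3 4 (by decide)) (T.m_pos 4).le
  have N_1_3 := mul_nonneg (hnn 1 3 (by decide)) (T.m_pos 3).le
  have N_3_1 := mul_nonneg (hnn 3 1 (by decide)) (T.m_pos 1).le
  have N_2_3 := mul_nonneg (hnn 2 3 (by decide)) (T.m_pos 3).le
  have N_3_2 := mul_nonneg (hnn 3 2 (by decide)) (T.m_pos 2).le
  have R_0 := hrow 0
  rw [Fin.sum_univ_five, hdP 0, e_0_1, e_0_2, e_0_3, Z_0_4] at R_0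
  have R_1 := hrow 1
  rw [Fin.sum_univ_five, hdP 1, e_1_0, e_1_2] at R_1
  have R_2 := hrow 2
  rw [Fin.sum_univ_five, hdP 2, e_2_0, e_2_1] at R_2
  have R_3 := hrow 3
  rw [Fin.sum_univ_five, hdP 3, e_3_0] at R_3
  have S_0_1 := hsym 0 1
  rw [e_0_1, e_1_0] at S_0_1
  have S_0_2 := hsym 0 2
  rw [e_0_2, e_2_0] at S_0_2
  have S_0_3 := hsym 0 3
  rw [e_0_3, e_3_0] at S_0_3
  have S_1_2 := hsym 1 2
  rw [e_1_2, e_2_1] at S_1_2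
  have S_1_3 := hsym 1 3
  have S_2_3 := hsym 2 3
  have Q_1 := hpair 1 3 (by decide)
  have Q_2 := hpair 2 3 (by decide)
  generalize e_1_3 : T.picMatrix 1 3 = x_1 at *
  generalize e_3_1 : T.picMatrix 3 1 = y_1 at *
  generalize e_2_3 : T.picMatrix 2 3 = x_2 at *
  generalize e_3_2 : T.picMatrix 3 2 = y_2 at *
  rcases Q_1 with ⟨rfl, rfl⟩ | ⟨rfl, rfl⟩ | ⟨rfl, rfl⟩ | ⟨rfl, rfl⟩ | ⟨rfl, rfl⟩ | ⟨rfl, rfl⟩ | ⟨rfl, rfl⟩ | ⟨rfl, rfl⟩ | ⟨rfl, rfl⟩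
  · exact absurd rfl hne
  · omega
  · omega
  · omega
  · omega
  · omega
  · omega
  · omega
  · omega

theorem nd_74 (T : Models.NumericalType 5)
    (hG : NTGood T)
    (hmax : ∀ j, T.m j ≤ T.m 0)
    (e_0_1 : T.picMatrix 0 1 = 1)
    (e_0_2 : T.picMatrix 0 2 = 1)
    (e_1_0 : T.picMatrix 1 0 = 1)
    (e_1_2 : T.picMatrix 1 2 = 1)
    (e_2_0 : T.picMatrix 2 0 = 1)
    (e_2_1 : T.picMatrix 2 1 = 1)
    (cl : ∀ a b : Fin 5, a.val < 1 → 3 ≤ b.val → T.picMatrix a b = 0) :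
    Goal T := by
  by_cases hc : ∀ b : Fin 5, 3 ≤ b.val → T.picMatrix 1 b = 0
  · exact nd_75 T hG hmax e_0_1 e_0_2 e_1_0 e_1_2 e_2_0 e_2_1 (nt_cl_succ T 3 1 1 rfl cl hc)
  · obtain ⟨τ, hfix, cl', z, hne⟩ := nt_wlog_step T 3 (by norm_num) 1 (by norm_num) 1 (by decide) cl hc
    apply goal_relabel T τ
    refine ex_78 (ntRelabel T τ) (hG.relabel τ) ?_ ?_ ?_ ?_ ?_ ?_ ?_ cl' z hne
    · intro j
      show T.m (τ j) ≤ T.m (τ 0)
      rw [hfix 0 (by decide)]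
      exact hmax _
    · show T.picMatrix (τ 0) (τ 1) = 1
      rw [hfix 0 (by decide), hfix 1 (by decide)]
      exact e_0_1
    · show T.picMatrix (τ 0) (τ 2) = 1
      rw [hfix 0 (by decide), hfix 2 (by decide)]
      exact e_0_2
    · show T.picMatrix (τ 1) (τ 0) = 1
      rw [hfix 1 (by decide), hfix 0 (by decide)]
      exact e_1_0
    · show T.picMatrix (τ 1) (τ 2) = 1
      rw [hfix 1 (by decide), hfix 2 (by decide)]
      exact e_1_2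
    · show T.picMatrix (τ 2) (τ 0) = 1
      rw [hfix 2 (by decide), hfix 0 (by decide)]
      exact e_2_0
    · show T.picMatrix (τ 2) (τ 1) = 1
      rw [hfix 2 (by decide), hfix 1 (by decide)]
      exact e_2_1

theorem ex_79 (T : Models.NumericalType 5)
    (hG : NTGood T)
    (hmax : ∀ j, T.m j ≤ T.m 0)
    (e_0_1 : T.picMatrix 0 1 = 1)
    (e_0_2 : T.picMatrix 0 2 = 1)
    (e_1_0 : T.picMatrix 1 0 = 1)
    (e_1_2 : T.picMatrix 1 2 = 1)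
    (e_2_0 : T.picMatrix 2 0 = 1)
    (e_2_1 : T.picMatrix 2 1 = 1)
    (cl : ∀ a b : Fin 5, a.val < 0 → 4 ≤ b.val → T.picMatrix a b = 0)
    (z : ∀ a : Fin 5, a.val < 0 → T.picMatrix a 3 = 0)
    (hne : T.picMatrix 0 3 ≠ 0) :
    Goal T := by
  obtain ⟨hg0, hdA, hdP, hnn, hrow, hsym, hpair⟩ := ntgood_data T (by norm_num) hG
  have hm_0 := T.m_pos 0
  have hw_0 := T.w_pos 0
  have hm_1 := T.m_pos 1
  have hw_1 := T.w_pos 1
  have hm_2 := T.m_pos 2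
  have hw_2 := T.w_pos 2
  have hm_3 := T.m_pos 3
  have hw_3 := T.w_pos 3
  have hx_1 := hmax 1
  have hx_2 := hmax 2
  have hx_3 := hmax 3
  have N_0_4 := mul_nonneg (hnn 0 4 (by decide)) (T.m_pos 4).le
  have N_1_4 := mul_nonneg (hnn 1 4 (by decide)) (T.m_pos 4).le
  have N_2_4 := mul_nonneg (hnn 2 4 (by decide)) (T.m_pos 4).le
  have N_3_4 := mul_nonneg (hnn 3 4 (by decide)) (T.m_pos 4).le
  have N_0_3 := mul_nonneg (hnn 0 3 (by decide)) (T.m_pos 3).le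
  have N_3_0 := mul_nonneg (hnn 3 0 (by decide)) (T.m_pos 0).le
  have N_1_3 := mul_nonneg (hnn 1 3 (by decide)) (T.m_pos 3).le
  have N_3_1 := mul_nonneg (hnn 3 1 (by decide)) (T.m_pos 1).le
  have N_2_3 := mul_nonneg (hnn 2 3 (by decide)) (T.m_pos 3).le
  have N_3_2 := mul_nonneg (hnn 3 2 (by decide)) (T.m_pos 2).le
  have R_0 := hrow 0
  rw [Fin.sum_univ_five, hdP 0, e_0_1, e_0_2] at R_0
  have R_1 := hrow 1
  rw [Fin.sum_univ_five, hdP 1, e_1_0, e_1_2] at R_1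
  have R_2 := hrow 2
  rw [Fin.sum_univ_five, hdP 2, e_2_0, e_2_1] at R_2
  have R_3 := hrow 3
  rw [Fin.sum_univ_five, hdP 3] at R_3
  have S_0_1 := hsym 0 1
  rw [e_0_1, e_1_0] at S_0_1
  have S_0_2 := hsym 0 2
  rw [e_0_2, e_2_0] at S_0_2
  have S_0_3 := hsym 0 3
  have S_1_2 := hsym 1 2
  rw [e_1_2, e_2_1] at S_1_2
  have S_1_3 := hsym 1 3
  have S_2_3 := hsym 2 3
  have Q_0 := hpair 0 3 (by decide)
  have Q_1 := hpair 1 3 (by decide)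
  have Q_2 := hpair 2 3 (by decide)
  generalize e_0_3 : T.picMatrix 0 3 = x_0 at *
  generalize e_3_0 : T.picMatrix 3 0 = y_0 at *
  generalize e_1_3 : T.picMatrix 1 3 = x_1 at *
  generalize e_3_1 : T.picMatrix 3 1 = y_1 at *
  generalize e_2_3 : T.picMatrix 2 3 = x_2 at *
  generalize e_3_2 : T.picMatrix 3 2 = y_2 at *
  rcases Q_0 with ⟨rfl, rfl⟩ | ⟨rfl, rfl⟩ | ⟨rfl, rfl⟩ | ⟨rfl, rfl⟩ | ⟨rfl, rfl⟩ | ⟨rfl, rfl⟩ | ⟨rfl, rfl⟩ | ⟨rfl, rfl⟩ | ⟨rfl, rfl⟩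
  · exact absurd rfl hne
  · omega
  · omega
  · omega
  · omega
  · omega
  · omega
  · omega
  · omega

theorem nd_73 (T : Models.NumericalType 5)
    (hG : NTGood T)
    (hmax : ∀ j, T.m j ≤ T.m 0)
    (e_0_1 : T.picMatrix 0 1 = 1)
    (e_0_2 : T.picMatrix 0 2 = 1)
    (e_1_0 : T.picMatrix 1 0 = 1)
    (e_1_2 : T.picMatrix 1 2 = 1)
    (e_2_0 : T.picMatrix 2 0 = 1)
    (e_2_1 : T.picMatrix 2 1 = 1)
    (cl : ∀ a b : Fin 5, a.val < 0 → 3 ≤ b.val → T.picMatrix a b = 0) :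
    Goal T := by
  by_cases hc : ∀ b : Fin 5, 3 ≤ b.val → T.picMatrix 0 b = 0
  · exact nd_74 T hG hmax e_0_1 e_0_2 e_1_0 e_1_2 e_2_0 e_2_1 (nt_cl_succ T 3 0 0 rfl cl hc)
  · obtain ⟨τ, hfix, cl', z, hne⟩ := nt_wlog_step T 3 (by norm_num) 0 (by norm_num) 0 (by decide) cl hc
    apply goal_relabel T τ
    refine ex_79 (ntRelabel T τ) (hG.relabel τ) ?_ ?_ ?_ ?_ ?_ ?_ ?_ cl' z hne
    · intro j
      show T.m (τ j) ≤ T.m (τ 0)
      rw [hfix 0 (by decide)]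
      exact hmax _
    · show T.picMatrix (τ 0) (τ 1) = 1
      rw [hfix 0 (by decide), hfix 1 (by decide)]
      exact e_0_1
    · show T.picMatrix (τ 0) (τ 2) = 1
      rw [hfix 0 (by decide), hfix 2 (by decide)]
      exact e_0_2
    · show T.picMatrix (τ 1) (τ 0) = 1
      rw [hfix 1 (by decide), hfix 0 (by decide)]
      exact e_1_0
    · show T.picMatrix (τ 1) (τ 2) = 1
      rw [hfix 1 (by decide), hfix 2 (by decide)]
      exact e_1_2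
    · show T.picMatrix (τ 2) (τ 0) = 1
      rw [hfix 2 (by decide), hfix 0 (by decide)]
      exact e_2_0
    · show T.picMatrix (τ 2) (τ 1) = 1
      rw [hfix 2 (by decide), hfix 1 (by decide)]
      exact e_2_1

theorem nd_229 (T : Models.NumericalType 5)
    (hG : NTGood T)
    (hmax : ∀ j, T.m j ≤ T.m 0)
    (e_0_1 : T.picMatrix 0 1 = 2)
    (e_0_2 : T.picMatrix 0 2 = 0)
    (e_1_0 : T.picMatrix 1 0 = 1)
    (e_1_2 : T.picMatrix 1 2 = 1)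
    (e_2_0 : T.picMatrix 2 0 = 0)
    (e_2_1 : T.picMatrix 2 1 = 1)
    (cl : ∀ a b : Fin 5, a.val < 3 → 3 ≤ b.val → T.picMatrix a b = 0) :
    Goal T := by
  obtain ⟨hg0, hdA, hdP, hnn, hrow, hsym, hpair⟩ := ntgood_data T (by norm_num) hG
  have hm_0 := T.m_pos 0
  have hw_0 := T.w_pos 0
  have hm_1 := T.m_pos 1
  have hw_1 := T.w_pos 1
  have hm_2 := T.m_pos 2
  have hw_2 := T.w_pos 2
  have hx_1 := hmax 1
  have hx_2 := hmax 2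
  have Z_0_3 := cl 0 3 (by decide) (by decide)
  have Z_0_4 := cl 0 4 (by decide) (by decide)
  have Z_1_3 := cl 1 3 (by decide) (by decide)
  have Z_1_4 := cl 1 4 (by decide) (by decide)
  have Z_2_3 := cl 2 3 (by decide) (by decide)
  have Z_2_4 := cl 2 4 (by decide) (by decide)
  have R_0 := hrow 0
  rw [Fin.sum_univ_five, hdP 0, e_0_1, e_0_2, Z_0_3, Z_0_4] at R_0
  have R_1 := hrow 1
  rw [Fin.sum_univ_five, hdP 1, e_1_0, e_1_2, Z_1_3, Z_1_4] at R_1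
  have R_2 := hrow 2
  rw [Fin.sum_univ_five, hdP 2, e_2_0, e_2_1, Z_2_3, Z_2_4] at R_2
  have S_0_1 := hsym 0 1
  rw [e_0_1, e_1_0] at S_0_1
  have S_0_2 := hsym 0 2
  rw [e_0_2, e_2_0] at S_0_2
  have S_1_2 := hsym 1 2
  rw [e_1_2, e_2_1] at S_1_2
  exfalso
  omega

theorem nd_233 (T : Models.NumericalType 5)
    (hG : NTGood T)
    (hmax : ∀ j, T.m j ≤ T.m 0)
    (e_0_1 : T.picMatrix 0 1 = 2)
    (e_0_2 : T.picMatrix 0 2 = 0)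
    (e_0_3 : T.picMatrix 0 3 = 0)
    (e_1_0 : T.picMatrix 1 0 = 1)
    (e_1_2 : T.picMatrix 1 2 = 1)
    (e_1_3 : T.picMatrix 1 3 = 0)
    (e_2_0 : T.picMatrix 2 0 = 0)
    (e_2_1 : T.picMatrix 2 1 = 1)
    (e_2_3 : T.picMatrix 2 3 = 1)
    (e_3_0 : T.picMatrix 3 0 = 0)
    (e_3_1 : T.picMatrix 3 1 = 0)
    (e_3_2 : T.picMatrix 3 2 = 1)
    (cl : ∀ a b : Fin 5, a.val < 4 → 4 ≤ b.val → T.picMatrix a b = 0) :
    Goal T := by
  obtain ⟨hg0, hdA, hdP, hnn, hrow, hsym, hpair⟩ := ntgood_data T (by norm_num) hG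
  have hm_0 := T.m_pos 0
  have hw_0 := T.w_pos 0
  have hm_1 := T.m_pos 1
  have hw_1 := T.w_pos 1
  have hm_2 := T.m_pos 2
  have hw_2 := T.w_pos 2
  have hm_3 := T.m_pos 3
  have hw_3 := T.w_pos 3
  have hx_1 := hmax 1
  have hx_2 := hmax 2
  have hx_3 := hmax 3
  have Z_0_4 := cl 0 4 (by decide) (by decide)
  have Z_1_4 := cl 1 4 (by decide) (by decide)
  have Z_2_4 := cl 2 4 (by decide) (by decide)
  have Z_3_4 := cl 3 4 (by decide) (by decide)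
  have R_0 := hrow 0
  rw [Fin.sum_univ_five, hdP 0, e_0_1, e_0_2, e_0_3, Z_0_4] at R_0
  have R_1 := hrow 1
  rw [Fin.sum_univ_five, hdP 1, e_1_0, e_1_2, e_1_3, Z_1_4] at R_1
  have R_2 := hrow 2
  rw [Fin.sum_univ_five, hdP 2, e_2_0, e_2_1, e_2_3, Z_2_4] at R_2
  have R_3 := hrow 3
  rw [Fin.sum_univ_five, hdP 3, e_3_0, e_3_1, e_3_2, Z_3_4] at R_3
  have S_0_1 := hsym 0 1
  rw [e_0_1, e_1_0] at S_0_1
  have S_0_2 := hsym 0 2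
  rw [e_0_2, e_2_0] at S_0_2
  have S_0_3 := hsym 0 3
  rw [e_0_3, e_3_0] at S_0_3
  have S_1_2 := hsym 1 2
  rw [e_1_2, e_2_1] at S_1_2
  have S_1_3 := hsym 1 3
  rw [e_1_3, e_3_1] at S_1_3
  have S_2_3 := hsym 2 3
  rw [e_2_3, e_3_2] at S_2_3
  exfalso
  omega

theorem nd_235 (T : Models.NumericalType 5)
    (hG : NTGood T)
    (hmax : ∀ j, T.m j ≤ T.m 0)
    (e_0_1 : T.picMatrix 0 1 = 2)
    (e_0_2 : T.picMatrix 0 2 = 0)
    (e_0_3 : T.picMatrix 0 3 = 0)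
    (e_0_4 : T.picMatrix 0 4 = 0)
    (e_1_0 : T.picMatrix 1 0 = 1)
    (e_1_2 : T.picMatrix 1 2 = 1)
    (e_1_3 : T.picMatrix 1 3 = 0)
    (e_1_4 : T.picMatrix 1 4 = 0)
    (e_2_0 : T.picMatrix 2 0 = 0)
    (e_2_1 : T.picMatrix 2 1 = 1)
    (e_2_3 : T.picMatrix 2 3 = 1)
    (e_2_4 : T.picMatrix 2 4 = 0)
    (e_3_0 : T.picMatrix 3 0 = 0)
    (e_3_1 : T.picMatrix 3 1 = 0)
    (e_3_2 : T.picMatrix 3 2 = 1)
    (e_3_4 : T.picMatrix 3 4 = 1)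
    (e_4_0 : T.picMatrix 4 0 = 0)
    (e_4_1 : T.picMatrix 4 1 = 0)
    (e_4_2 : T.picMatrix 4 2 = 0)
    (e_4_3 : T.picMatrix 4 3 = 2)
    (cl : ∀ a b : Fin 5, a.val < 3 → 5 ≤ b.val → T.picMatrix a b = 0) :
    Goal T := by
  obtain ⟨hg0, hdA, hdP, hnn, hrow, hsym, hpair⟩ := ntgood_data T (by norm_num) hG
  have hm_0 := T.m_pos 0
  have hw_0 := T.w_pos 0
  have hm_1 := T.m_pos 1
  have hw_1 := T.w_pos 1
  have hm_2 := T.m_pos 2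
  have hw_2 := T.w_pos 2
  have hm_3 := T.m_pos 3
  have hw_3 := T.w_pos 3
  have hm_4 := T.m_pos 4
  have hw_4 := T.w_pos 4
  have hx_1 := hmax 1
  have hx_2 := hmax 2
  have hx_3 := hmax 3
  have hx_4 := hmax 4
  have R_0 := hrow 0
  rw [Fin.sum_univ_five, hdP 0, e_0_1, e_0_2, e_0_3, e_0_4] at R_0
  have R_1 := hrow 1
  rw [Fin.sum_univ_five, hdP 1, e_1_0, e_1_2, e_1_3, e_1_4] at R_1
  have R_2 := hrow 2
  rw [Fin.sum_univ_five, hdP 2, e_2_0, e_2_1, e_2_3, e_2_4] at R_2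
  have R_3 := hrow 3
  rw [Fin.sum_univ_five, hdP 3, e_3_0, e_3_1, e_3_2, e_3_4] at R_3
  have R_4 := hrow 4
  rw [Fin.sum_univ_five, hdP 4, e_4_0, e_4_1, e_4_2, e_4_3] at R_4
  have S_0_1 := hsym 0 1
  rw [e_0_1, e_1_0] at S_0_1
  have S_0_2 := hsym 0 2
  rw [e_0_2, e_2_0] at S_0_2
  have S_0_3 := hsym 0 3
  rw [e_0_3, e_3_0] at S_0_3
  have S_0_4 := hsym 0 4
  rw [e_0_4, e_4_0] at S_0_4
  have S_1_2 := hsym 1 2
  rw [e_1_2, e_2_1] at S_1_2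
  have S_1_3 := hsym 1 3
  rw [e_1_3, e_3_1] at S_1_3
  have S_1_4 := hsym 1 4
  rw [e_1_4, e_4_1] at S_1_4
  have S_2_3 := hsym 2 3
  rw [e_2_3, e_3_2] at S_2_3
  have S_2_4 := hsym 2 4
  rw [e_2_4, e_4_2] at S_2_4
  have S_3_4 := hsym 3 4
  rw [e_3_4, e_4_3] at S_3_4
  have D_0 := hdA 0
  have A_0_1 := nt_a_eq T 0 1
  rw [e_0_1] at A_0_1
  have A_0_2 := nt_a_eq T 0 2
  rw [e_0_2] at A_0_2
  have A_0_3 := nt_a_eq T 0 3
  rw [e_0_3] at A_0_3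
  have A_0_4 := nt_a_eq T 0 4
  rw [e_0_4] at A_0_4
  have D_1 := hdA 1
  have A_1_0 := nt_a_eq T 1 0
  rw [e_1_0] at A_1_0
  have A_1_2 := nt_a_eq T 1 2
  rw [e_1_2] at A_1_2
  have A_1_3 := nt_a_eq T 1 3
  rw [e_1_3] at A_1_3
  have A_1_4 := nt_a_eq T 1 4
  rw [e_1_4] at A_1_4
  have D_2 := hdA 2
  have A_2_0 := nt_a_eq T 2 0
  rw [e_2_0] at A_2_0
  have A_2_1 := nt_a_eq T 2 1
  rw [e_2_1] at A_2_1
  have A_2_3 := nt_a_eq T 2 3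
  rw [e_2_3] at A_2_3
  have A_2_4 := nt_a_eq T 2 4
  rw [e_2_4] at A_2_4
  have D_3 := hdA 3
  have A_3_0 := nt_a_eq T 3 0
  rw [e_3_0] at A_3_0
  have A_3_1 := nt_a_eq T 3 1
  rw [e_3_1] at A_3_1
  have A_3_2 := nt_a_eq T 3 2
  rw [e_3_2] at A_3_2
  have A_3_4 := nt_a_eq T 3 4
  rw [e_3_4] at A_3_4
  have D_4 := hdA 4
  have A_4_0 := nt_a_eq T 4 0
  rw [e_4_0] at A_4_0
  have A_4_1 := nt_a_eq T 4 1
  rw [e_4_1] at A_4_1
  have A_4_2 := nt_a_eq T 4 2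
  rw [e_4_2] at A_4_2
  have A_4_3 := nt_a_eq T 4 3
  rw [e_4_3] at A_4_3
  refine goal_of_indices T hg0 0 1 2 3 4 (by decide) (T.m 0) (T.w 0) ?_
  unfold Goali
  exact Or.inr (Or.inr (Or.inr (Or.inr (Or.inl ⟨by omega, by omega, by omega, by omega, by omega, by omega, by omega, by omega, by omega, by omega, by omega, by omega, by omega, by omega, by omega, by omega, by omega, by omega, by omega, by omega, by omega, by omega, by omega, by omega, by omega⟩))))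

theorem nd_236 (T : Models.NumericalType 5)
    (hG : NTGood T)
    (hmax : ∀ j, T.m j ≤ T.m 0)
    (e_0_1 : T.picMatrix 0 1 = 2)
    (e_0_2 : T.picMatrix 0 2 = 0)
    (e_0_3 : T.picMatrix 0 3 = 0)
    (e_0_4 : T.picMatrix 0 4 = 0)
    (e_1_0 : T.picMatrix 1 0 = 1)
    (e_1_2 : T.picMatrix 1 2 = 1)
    (e_1_3 : T.picMatrix 1 3 = 0)
    (e_1_4 : T.picMatrix 1 4 = 0)
    (e_2_0 : T.picMatrix 2 0 = 0)
    (e_2_1 : T.picMatrix 2 1 = 1)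
    (e_2_3 : T.picMatrix 2 3 = 1)
    (e_2_4 : T.picMatrix 2 4 = 0)
    (e_3_0 : T.picMatrix 3 0 = 0)
    (e_3_1 : T.picMatrix 3 1 = 0)
    (e_3_2 : T.picMatrix 3 2 = 1)
    (e_3_4 : T.picMatrix 3 4 = 2)
    (e_4_0 : T.picMatrix 4 0 = 0)
    (e_4_1 : T.picMatrix 4 1 = 0)
    (e_4_2 : T.picMatrix 4 2 = 0)
    (e_4_3 : T.picMatrix 4 3 = 1)
    (cl : ∀ a b : Fin 5, a.val < 3 → 5 ≤ b.val → T.picMatrix a b = 0) :
    Goal T := by
  obtain ⟨hg0, hdA, hdP, hnn, hrow, hsym, hpair⟩ := ntgood_data T (by norm_num) hG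
  have hm_0 := T.m_pos 0
  have hw_0 := T.w_pos 0
  have hm_1 := T.m_pos 1
  have hw_1 := T.w_pos 1
  have hm_2 := T.m_pos 2
  have hw_2 := T.w_pos 2
  have hm_3 := T.m_pos 3
  have hw_3 := T.w_pos 3
  have hm_4 := T.m_pos 4
  have hw_4 := T.w_pos 4
  have hx_1 := hmax 1
  have hx_2 := hmax 2
  have hx_3 := hmax 3
  have hx_4 := hmax 4
  have R_0 := hrow 0
  rw [Fin.sum_univ_five, hdP 0, e_0_1, e_0_2, e_0_3, e_0_4] at R_0
  have R_1 := hrow 1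
  rw [Fin.sum_univ_five, hdP 1, e_1_0, e_1_2, e_1_3, e_1_4] at R_1
  have R_2 := hrow 2
  rw [Fin.sum_univ_five, hdP 2, e_2_0, e_2_1, e_2_3, e_2_4] at R_2
  have R_3 := hrow 3
  rw [Fin.sum_univ_five, hdP 3, e_3_0, e_3_1, e_3_2, e_3_4] at R_3
  have R_4 := hrow 4
  rw [Fin.sum_univ_five, hdP 4, e_4_0, e_4_1, e_4_2, e_4_3] at R_4
  have S_0_1 := hsym 0 1
  rw [e_0_1, e_1_0] at S_0_1
  have S_0_2 := hsym 0 2
  rw [e_0_2, e_2_0] at S_0_2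
  have S_0_3 := hsym 0 3
  rw [e_0_3, e_3_0] at S_0_3
  have S_0_4 := hsym 0 4
  rw [e_0_4, e_4_0] at S_0_4
  have S_1_2 := hsym 1 2
  rw [e_1_2, e_2_1] at S_1_2
  have S_1_3 := hsym 1 3
  rw [e_1_3, e_3_1] at S_1_3
  have S_1_4 := hsym 1 4
  rw [e_1_4, e_4_1] at S_1_4
  have S_2_3 := hsym 2 3
  rw [e_2_3, e_3_2] at S_2_3
  have S_2_4 := hsym 2 4
  rw [e_2_4, e_4_2] at S_2_4
  have S_3_4 := hsym 3 4
  rw [e_3_4, e_4_3] at S_3_4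
  have D_0 := hdA 0
  have A_0_1 := nt_a_eq T 0 1
  rw [e_0_1] at A_0_1
  have A_0_2 := nt_a_eq T 0 2
  rw [e_0_2] at A_0_2
  have A_0_3 := nt_a_eq T 0 3
  rw [e_0_3] at A_0_3
  have A_0_4 := nt_a_eq T 0 4
  rw [e_0_4] at A_0_4
  have D_1 := hdA 1
  have A_1_0 := nt_a_eq T 1 0
  rw [e_1_0] at A_1_0
  have A_1_2 := nt_a_eq T 1 2
  rw [e_1_2] at A_1_2
  have A_1_3 := nt_a_eq T 1 3
  rw [e_1_3] at A_1_3
  have A_1_4 := nt_a_eq T 1 4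
  rw [e_1_4] at A_1_4
  have D_2 := hdA 2
  have A_2_0 := nt_a_eq T 2 0
  rw [e_2_0] at A_2_0
  have A_2_1 := nt_a_eq T 2 1
  rw [e_2_1] at A_2_1
  have A_2_3 := nt_a_eq T 2 3
  rw [e_2_3] at A_2_3
  have A_2_4 := nt_a_eq T 2 4
  rw [e_2_4] at A_2_4
  have D_3 := hdA 3
  have A_3_0 := nt_a_eq T 3 0
  rw [e_3_0] at A_3_0
  have A_3_1 := nt_a_eq T 3 1
  rw [e_3_1] at A_3_1
  have A_3_2 := nt_a_eq T 3 2
  rw [e_3_2] at A_3_2
  have A_3_4 := nt_a_eq T 3 4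
  rw [e_3_4] at A_3_4
  have D_4 := hdA 4
  have A_4_0 := nt_a_eq T 4 0
  rw [e_4_0] at A_4_0
  have A_4_1 := nt_a_eq T 4 1
  rw [e_4_1] at A_4_1
  have A_4_2 := nt_a_eq T 4 2
  rw [e_4_2] at A_4_2
  have A_4_3 := nt_a_eq T 4 3
  rw [e_4_3] at A_4_3
  refine goal_of_indices T hg0 0 1 2 3 4 (by decide) (T.m 4) (T.w 0) ?_
  unfold Goali
  exact Or.inr (Or.inr (Or.inr (Or.inl ⟨by omega, by omega, by omega, by omega, by omega, by omega, by omega, by omega, by omega, by omega, by omega, by omega, by omega, by omega, by omega, by omega, by omega, by omega, by omega, by omega, by omega, by omega, by omega, by omega, by omega⟩)))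

theorem ex_234 (T : Models.NumericalType 5)
    (hG : NTGood T)
    (hmax : ∀ j, T.m j ≤ T.m 0)
    (e_0_1 : T.picMatrix 0 1 = 2)
    (e_0_2 : T.picMatrix 0 2 = 0)
    (e_0_3 : T.picMatrix 0 3 = 0)
    (e_1_0 : T.picMatrix 1 0 = 1)
    (e_1_2 : T.picMatrix 1 2 = 1)
    (e_1_3 : T.picMatrix 1 3 = 0)
    (e_2_0 : T.picMatrix 2 0 = 0)
    (e_2_1 : T.picMatrix 2 1 = 1)
    (e_2_3 : T.picMatrix 2 3 = 1)
    (e_3_0 : T.picMatrix 3 0 = 0)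
    (e_3_1 : T.picMatrix 3 1 = 0)
    (e_3_2 : T.picMatrix 3 2 = 1)
    (cl : ∀ a b : Fin 5, a.val < 3 → 5 ≤ b.val → T.picMatrix a b = 0)
    (z : ∀ a : Fin 5, a.val < 3 → T.picMatrix a 4 = 0)
    (hne : T.picMatrix 3 4 ≠ 0) :
    Goal T := by
  have e_0_4 : T.picMatrix 0 4 = 0 := z 0 (by decide)
  have e_4_0 : T.picMatrix 4 0 = 0 := nt_pic_zero_symm T 0 4 e_0_4
  have e_1_4 : T.picMatrix 1 4 = 0 := z 1 (by decide)
  have e_4_1 : T.picMatrix 4 1 = 0 := nt_pic_zero_symm T 1 4 e_1_4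
  have e_2_4 : T.picMatrix 2 4 = 0 := z 2 (by decide)
  have e_4_2 : T.picMatrix 4 2 = 0 := nt_pic_zero_symm T 2 4 e_2_4
  obtain ⟨hg0, hdA, hdP, hnn, hrow, hsym, hpair⟩ := ntgood_data T (by norm_num) hG
  have hm_0 := T.m_pos 0
  have hw_0 := T.w_pos 0
  have hm_1 := T.m_pos 1
  have hw_1 := T.w_pos 1
  have hm_2 := T.m_pos 2
  have hw_2 := T.w_pos 2
  have hm_3 := T.m_pos 3
  have hw_3 := T.w_pos 3
  have hm_4 := T.m_pos 4
  have hw_4 := T.w_pos 4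
  have hx_1 := hmax 1
  have hx_2 := hmax 2
  have hx_3 := hmax 3
  have hx_4 := hmax 4
  have N_3_4 := mul_nonneg (hnn 3 4 (by decide)) (T.m_pos 4).le
  have N_4_3 := mul_nonneg (hnn 4 3 (by decide)) (T.m_pos 3).le
  have R_0 := hrow 0
  rw [Fin.sum_univ_five, hdP 0, e_0_1, e_0_2, e_0_3, e_0_4] at R_0
  have R_1 := hrow 1
  rw [Fin.sum_univ_five, hdP 1, e_1_0, e_1_2, e_1_3, e_1_4] at R_1
  have R_2 := hrow 2
  rw [Fin.sum_univ_five, hdP 2, e_2_0, e_2_1, e_2_3, e_2_4] at R_2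
  have R_3 := hrow 3
  rw [Fin.sum_univ_five, hdP 3, e_3_0, e_3_1, e_3_2] at R_3
  have R_4 := hrow 4
  rw [Fin.sum_univ_five, hdP 4, e_4_0, e_4_1, e_4_2] at R_4
  have S_0_1 := hsym 0 1
  rw [e_0_1, e_1_0] at S_0_1
  have S_0_2 := hsym 0 2
  rw [e_0_2, e_2_0] at S_0_2
  have S_0_3 := hsym 0 3
  rw [e_0_3, e_3_0] at S_0_3
  have S_0_4 := hsym 0 4
  rw [e_0_4, e_4_0] at S_0_4
  have S_1_2 := hsym 1 2
  rw [e_1_2, e_2_1] at S_1_2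
  have S_1_3 := hsym 1 3
  rw [e_1_3, e_3_1] at S_1_3
  have S_1_4 := hsym 1 4
  rw [e_1_4, e_4_1] at S_1_4
  have S_2_3 := hsym 2 3
  rw [e_2_3, e_3_2] at S_2_3
  have S_2_4 := hsym 2 4
  rw [e_2_4, e_4_2] at S_2_4
  have S_3_4 := hsym 3 4
  have Q_3 := hpair 3 4 (by decide)
  generalize e_3_4 : T.picMatrix 3 4 = x_3 at *
  generalize e_4_3 : T.picMatrix 4 3 = y_3 at *
  rcases Q_3 with ⟨rfl, rfl⟩ | ⟨rfl, rfl⟩ | ⟨rfl, rfl⟩ | ⟨rfl, rfl⟩ | ⟨rfl, rfl⟩ | ⟨rfl, rfl⟩ | ⟨rfl, rfl⟩ | ⟨rfl, rfl⟩ | ⟨rfl, rfl⟩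
  · exact absurd rfl hne
  · -- (3,4) = (1,1)
    omega
  · -- (3,4) = (1,2)
    exact nd_235 T hG hmax e_0_1 e_0_2 e_0_3 e_0_4 e_1_0 e_1_2 e_1_3 e_1_4 e_2_0 e_2_1 e_2_3 e_2_4 e_3_0 e_3_1 e_3_2 e_3_4 e_4_0 e_4_1 e_4_2 e_4_3 cl
  · -- (3,4) = (2,1)
    exact nd_236 T hG hmax e_0_1 e_0_2 e_0_3 e_0_4 e_1_0 e_1_2 e_1_3 e_1_4 e_2_0 e_2_1 e_2_3 e_2_4 e_3_0 e_3_1 e_3_2 e_3_4 e_4_0 e_4_1 e_4_2 e_4_3 cl
  · -- (3,4) = (1,3)
    omega
  · -- (3,4) = (3,1)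
    omega
  · -- (3,4) = (1,4)
    omega
  · -- (3,4) = (4,1)
    omega
  · -- (3,4) = (2,2)
    omega

theorem nd_232 (T : Models.NumericalType 5)
    (hG : NTGood T)
    (hmax : ∀ j, T.m j ≤ T.m 0)
    (e_0_1 : T.picMatrix 0 1 = 2)
    (e_0_2 : T.picMatrix 0 2 = 0)
    (e_0_3 : T.picMatrix 0 3 = 0)
    (e_1_0 : T.picMatrix 1 0 = 1)
    (e_1_2 : T.picMatrix 1 2 = 1)
    (e_1_3 : T.picMatrix 1 3 = 0)
    (e_2_0 : T.picMatrix 2 0 = 0)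
    (e_2_1 : T.picMatrix 2 1 = 1)
    (e_2_3 : T.picMatrix 2 3 = 1)
    (e_3_0 : T.picMatrix 3 0 = 0)
    (e_3_1 : T.picMatrix 3 1 = 0)
    (e_3_2 : T.picMatrix 3 2 = 1)
    (cl : ∀ a b : Fin 5, a.val < 3 → 4 ≤ b.val → T.picMatrix a b = 0) :
    Goal T := by
  by_cases hc : ∀ b : Fin 5, 4 ≤ b.val → T.picMatrix 3 b = 0
  · exact nd_233 T hG hmax e_0_1 e_0_2 e_0_3 e_1_0 e_1_2 e_1_3 e_2_0 e_2_1 e_2_3 e_3_0 e_3_1 e_3_2 (nt_cl_succ T 4 3 3 rfl cl hc)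
  · obtain ⟨τ, hfix, cl', z, hne⟩ := nt_wlog_step T 4 (by norm_num) 3 (by norm_num) 3 (by decide) cl hc
    apply goal_relabel T τ
    refine ex_234 (ntRelabel T τ) (hG.relabel τ) ?_ ?_ ?_ ?_ ?_ ?_ ?_ ?_ ?_ ?_ ?_ ?_ ?_ cl' z hne
    · intro j
      show T.m (τ j) ≤ T.m (τ 0)
      rw [hfix 0 (by decide)]
      exact hmax _
    · show T.picMatrix (τ 0) (τ 1) = 2
      rw [hfix 0 (by decide), hfix 1 (by decide)]
      exact e_0_1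
    · show T.picMatrix (τ 0) (τ 2) = 0
      rw [hfix 0 (by decide), hfix 2 (by decide)]
      exact e_0_2
    · show T.picMatrix (τ 0) (τ 3) = 0
      rw [hfix 0 (by decide), hfix 3 (by decide)]
      exact e_0_3
    · show T.picMatrix (τ 1) (τ 0) = 1
      rw [hfix 1 (by decide), hfix 0 (by decide)]
      exact e_1_0
    · show T.picMatrix (τ 1) (τ 2) = 1
      rw [hfix 1 (by decide), hfix 2 (by decide)]
      exact e_1_2
    · show T.picMatrix (τ 1) (τ 3) = 0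
      rw [hfix 1 (by decide), hfix 3 (by decide)]
      exact e_1_3
    · show T.picMatrix (τ 2) (τ 0) = 0
      rw [hfix 2 (by decide), hfix 0 (by decide)]
      exact e_2_0
    · show T.picMatrix (τ 2) (τ 1) = 1
      rw [hfix 2 (by decide), hfix 1 (by decide)]
      exact e_2_1
    · show T.picMatrix (τ 2) (τ 3) = 1
      rw [hfix 2 (by decide), hfix 3 (by decide)]
      exact e_2_3
    · show T.picMatrix (τ 3) (τ 0) = 0
      rw [hfix 3 (by decide), hfix 0 (by decide)]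
      exact e_3_0
    · show T.picMatrix (τ 3) (τ 1) = 0
      rw [hfix 3 (by decide), hfix 1 (by decide)]
      exact e_3_1
    · show T.picMatrix (τ 3) (τ 2) = 1
      rw [hfix 3 (by decide), hfix 2 (by decide)]
      exact e_3_2

theorem nd_238 (T : Models.NumericalType 5)
    (hG : NTGood T)
    (hmax : ∀ j, T.m j ≤ T.m 0)
    (e_0_1 : T.picMatrix 0 1 = 2)
    (e_0_2 : T.picMatrix 0 2 = 0)
    (e_0_3 : T.picMatrix 0 3 = 0)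
    (e_0_4 : T.picMatrix 0 4 = 0)
    (e_1_0 : T.picMatrix 1 0 = 1)
    (e_1_2 : T.picMatrix 1 2 = 1)
    (e_1_3 : T.picMatrix 1 3 = 0)
    (e_1_4 : T.picMatrix 1 4 = 0)
    (e_2_0 : T.picMatrix 2 0 = 0)
    (e_2_1 : T.picMatrix 2 1 = 1)
    (e_2_3 : T.picMatrix 2 3 = 1)
    (e_2_4 : T.picMatrix 2 4 = 1)
    (e_3_0 : T.picMatrix 3 0 = 0)
    (e_3_1 : T.picMatrix 3 1 = 0)
    (e_3_2 : T.picMatrix 3 2 = 1)
    (e_3_4 : T.picMatrix 3 4 = 0)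
    (e_4_0 : T.picMatrix 4 0 = 0)
    (e_4_1 : T.picMatrix 4 1 = 0)
    (e_4_2 : T.picMatrix 4 2 = 1)
    (e_4_3 : T.picMatrix 4 3 = 0)
    (cl : ∀ a b : Fin 5, a.val < 2 → 5 ≤ b.val → T.picMatrix a b = 0) :
    Goal T := by
  obtain ⟨hg0, hdA, hdP, hnn, hrow, hsym, hpair⟩ := ntgood_data T (by norm_num) hG
  have hm_0 := T.m_pos 0
  have hw_0 := T.w_pos 0
  have hm_1 := T.m_pos 1
  have hw_1 := T.w_pos 1
  have hm_2 := T.m_pos 2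
  have hw_2 := T.w_pos 2
  have hm_3 := T.m_pos 3
  have hw_3 := T.w_pos 3
  have hm_4 := T.m_pos 4
  have hw_4 := T.w_pos 4
  have hx_1 := hmax 1
  have hx_2 := hmax 2
  have hx_3 := hmax 3
  have hx_4 := hmax 4
  have R_0 := hrow 0
  rw [Fin.sum_univ_five, hdP 0, e_0_1, e_0_2, e_0_3, e_0_4] at R_0
  have R_1 := hrow 1
  rw [Fin.sum_univ_five, hdP 1, e_1_0, e_1_2, e_1_3, e_1_4] at R_1
  have R_2 := hrow 2
  rw [Fin.sum_univ_five, hdP 2, e_2_0, e_2_1, e_2_3, e_2_4] at R_2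
  have R_3 := hrow 3
  rw [Fin.sum_univ_five, hdP 3, e_3_0, e_3_1, e_3_2, e_3_4] at R_3
  have R_4 := hrow 4
  rw [Fin.sum_univ_five, hdP 4, e_4_0, e_4_1, e_4_2, e_4_3] at R_4
  have S_0_1 := hsym 0 1
  rw [e_0_1, e_1_0] at S_0_1
  have S_0_2 := hsym 0 2
  rw [e_0_2, e_2_0] at S_0_2
  have S_0_3 := hsym 0 3
  rw [e_0_3, e_3_0] at S_0_3
  have S_0_4 := hsym 0 4
  rw [e_0_4, e_4_0] at S_0_4
  have S_1_2 := hsym 1 2
  rw [e_1_2, e_2_1] at S_1_2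
  have S_1_3 := hsym 1 3
  rw [e_1_3, e_3_1] at S_1_3
  have S_1_4 := hsym 1 4
  rw [e_1_4, e_4_1] at S_1_4
  have S_2_3 := hsym 2 3
  rw [e_2_3, e_3_2] at S_2_3
  have S_2_4 := hsym 2 4
  rw [e_2_4, e_4_2] at S_2_4
  have S_3_4 := hsym 3 4
  rw [e_3_4, e_4_3] at S_3_4
  have D_0 := hdA 0
  have A_0_1 := nt_a_eq T 0 1
  rw [e_0_1] at A_0_1
  have A_0_2 := nt_a_eq T 0 2
  rw [e_0_2] at A_0_2
  have A_0_3 := nt_a_eq T 0 3
  rw [e_0_3] at A_0_3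
  have A_0_4 := nt_a_eq T 0 4
  rw [e_0_4] at A_0_4
  have D_1 := hdA 1
  have A_1_0 := nt_a_eq T 1 0
  rw [e_1_0] at A_1_0
  have A_1_2 := nt_a_eq T 1 2
  rw [e_1_2] at A_1_2
  have A_1_3 := nt_a_eq T 1 3
  rw [e_1_3] at A_1_3
  have A_1_4 := nt_a_eq T 1 4
  rw [e_1_4] at A_1_4
  have D_2 := hdA 2
  have A_2_0 := nt_a_eq T 2 0
  rw [e_2_0] at A_2_0
  have A_2_1 := nt_a_eq T 2 1
  rw [e_2_1] at A_2_1
  have A_2_3 := nt_a_eq T 2 3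
  rw [e_2_3] at A_2_3
  have A_2_4 := nt_a_eq T 2 4
  rw [e_2_4] at A_2_4
  have D_3 := hdA 3
  have A_3_0 := nt_a_eq T 3 0
  rw [e_3_0] at A_3_0
  have A_3_1 := nt_a_eq T 3 1
  rw [e_3_1] at A_3_1
  have A_3_2 := nt_a_eq T 3 2
  rw [e_3_2] at A_3_2
  have A_3_4 := nt_a_eq T 3 4
  rw [e_3_4] at A_3_4
  have D_4 := hdA 4
  have A_4_0 := nt_a_eq T 4 0
  rw [e_4_0] at A_4_0
  have A_4_1 := nt_a_eq T 4 1
  rw [e_4_1] at A_4_1
  have A_4_2 := nt_a_eq T 4 2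
  rw [e_4_2] at A_4_2
  have A_4_3 := nt_a_eq T 4 3
  rw [e_4_3] at A_4_3
  refine goal_of_indices T hg0 0 1 2 3 4 (by decide) (T.m 3) (T.w 0) ?_
  unfold Goali
  exact Or.inr (Or.inr (Or.inr (Or.inr (Or.inr (Or.inr (Or.inr (Or.inr (⟨by omega, by omega, by omega, by omega, by omega, by omega, by omega, by omega, by omega, by omega, by omega, by omega, by omega, by omega, by omega, by omega, by omega, by omega, by omega, by omega, by omega, by omega, by omega, by omega, by omega⟩))))))))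

theorem ex_237 (T : Models.NumericalType 5)
    (hG : NTGood T)
    (hmax : ∀ j, T.m j ≤ T.m 0)
    (e_0_1 : T.picMatrix 0 1 = 2)
    (e_0_2 : T.picMatrix 0 2 = 0)
    (e_0_3 : T.picMatrix 0 3 = 0)
    (e_1_0 : T.picMatrix 1 0 = 1)
    (e_1_2 : T.picMatrix 1 2 = 1)
    (e_1_3 : T.picMatrix 1 3 = 0)
    (e_2_0 : T.picMatrix 2 0 = 0)
    (e_2_1 : T.picMatrix 2 1 = 1)
    (e_2_3 : T.picMatrix 2 3 = 1)
    (e_3_0 : T.picMatrix 3 0 = 0)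
    (e_3_1 : T.picMatrix 3 1 = 0)
    (e_3_2 : T.picMatrix 3 2 = 1)
    (cl : ∀ a b : Fin 5, a.val < 2 → 5 ≤ b.val → T.picMatrix a b = 0)
    (z : ∀ a : Fin 5, a.val < 2 → T.picMatrix a 4 = 0)
    (hne : T.picMatrix 2 4 ≠ 0) :
    Goal T := by
  have e_0_4 : T.picMatrix 0 4 = 0 := z 0 (by decide)
  have e_4_0 : T.picMatrix 4 0 = 0 := nt_pic_zero_symm T 0 4 e_0_4
  have e_1_4 : T.picMatrix 1 4 = 0 := z 1 (by decide)
  have e_4_1 : T.picMatrix 4 1 = 0 := nt_pic_zero_symm T 1 4 e_1_4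
  obtain ⟨hg0, hdA, hdP, hnn, hrow, hsym, hpair⟩ := ntgood_data T (by norm_num) hG
  have hm_0 := T.m_pos 0
  have hw_0 := T.w_pos 0
  have hm_1 := T.m_pos 1
  have hw_1 := T.w_pos 1
  have hm_2 := T.m_pos 2
  have hw_2 := T.w_pos 2
  have hm_3 := T.m_pos 3
  have hw_3 := T.w_pos 3
  have hm_4 := T.m_pos 4
  have hw_4 := T.w_pos 4
  have hx_1 := hmax 1
  have hx_2 := hmax 2
  have hx_3 := hmax 3
  have hx_4 := hmax 4
  have N_2_4 := mul_nonneg (hnn 2 4 (by decide)) (T.m_pos 4).le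
  have N_4_2 := mul_nonneg (hnn 4 2 (by decide)) (T.m_pos 2).le
  have N_3_4 := mul_nonneg (hnn 3 4 (by decide)) (T.m_pos 4).le
  have N_4_3 := mul_nonneg (hnn 4 3 (by decide)) (T.m_pos 3).le
  have R_0 := hrow 0
  rw [Fin.sum_univ_five, hdP 0, e_0_1, e_0_2, e_0_3, e_0_4] at R_0
  have R_1 := hrow 1
  rw [Fin.sum_univ_five, hdP 1, e_1_0, e_1_2, e_1_3, e_1_4] at R_1
  have R_2 := hrow 2
  rw [Fin.sum_univ_five, hdP 2, e_2_0, e_2_1, e_2_3] at R_2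
  have R_3 := hrow 3
  rw [Fin.sum_univ_five, hdP 3, e_3_0, e_3_1, e_3_2] at R_3
  have R_4 := hrow 4
  rw [Fin.sum_univ_five, hdP 4, e_4_0, e_4_1] at R_4
  have S_0_1 := hsym 0 1
  rw [e_0_1, e_1_0] at S_0_1
  have S_0_2 := hsym 0 2
  rw [e_0_2, e_2_0] at S_0_2
  have S_0_3 := hsym 0 3
  rw [e_0_3, e_3_0] at S_0_3
  have S_0_4 := hsym 0 4
  rw [e_0_4, e_4_0] at S_0_4
  have S_1_2 := hsym 1 2
  rw [e_1_2, e_2_1] at S_1_2
  have S_1_3 := hsym 1 3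
  rw [e_1_3, e_3_1] at S_1_3
  have S_1_4 := hsym 1 4
  rw [e_1_4, e_4_1] at S_1_4
  have S_2_3 := hsym 2 3
  rw [e_2_3, e_3_2] at S_2_3
  have S_2_4 := hsym 2 4
  have S_3_4 := hsym 3 4
  have Q_2 := hpair 2 4 (by decide)
  have Q_3 := hpair 3 4 (by decide)
  generalize e_2_4 : T.picMatrix 2 4 = x_2 at *
  generalize e_4_2 : T.picMatrix 4 2 = y_2 at *
  generalize e_3_4 : T.picMatrix 3 4 = x_3 at *
  generalize e_4_3 : T.picMatrix 4 3 = y_3 at *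
  rcases Q_2 with ⟨rfl, rfl⟩ | ⟨rfl, rfl⟩ | ⟨rfl, rfl⟩ | ⟨rfl, rfl⟩ | ⟨rfl, rfl⟩ | ⟨rfl, rfl⟩ | ⟨rfl, rfl⟩ | ⟨rfl, rfl⟩ | ⟨rfl, rfl⟩
  · exact absurd rfl hne
  · -- (2,4) = (1,1)
    rcases Q_3 with ⟨rfl, rfl⟩ | ⟨rfl, rfl⟩ | ⟨rfl, rfl⟩ | ⟨rfl, rfl⟩ | ⟨rfl, rfl⟩ | ⟨rfl, rfl⟩ | ⟨rfl, rfl⟩ | ⟨rfl, rfl⟩ | ⟨rfl, rfl⟩
    · -- (3,4) = (0,0)
      exact nd_238 T hG hmax e_0_1 e_0_2 e_0_3 e_0_4 e_1_0 e_1_2 e_1_3 e_1_4 e_2_0 e_2_1 e_2_3 e_2_4 e_3_0 e_3_1 e_3_2 e_3_4 e_4_0 e_4_1 e_4_2 e_4_3 cl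
    · -- (3,4) = (1,1)
      omega
    · -- (3,4) = (1,2)
      omega
    · -- (3,4) = (2,1)
      omega
    · -- (3,4) = (1,3)
      omega
    · -- (3,4) = (3,1)
      omega
    · -- (3,4) = (1,4)
      omega
    · -- (3,4) = (4,1)
      omega
    · -- (3,4) = (2,2)
      omega
  · omega
  · omega
  · omega
  · omega
  · omega
  · omega
  · omega

theorem nd_231 (T : Models.NumericalType 5)
    (hG : NTGood T)
    (hmax : ∀ j, T.m j ≤ T.m 0)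
    (e_0_1 : T.picMatrix 0 1 = 2)
    (e_0_2 : T.picMatrix 0 2 = 0)
    (e_0_3 : T.picMatrix 0 3 = 0)
    (e_1_0 : T.picMatrix 1 0 = 1)
    (e_1_2 : T.picMatrix 1 2 = 1)
    (e_1_3 : T.picMatrix 1 3 = 0)
    (e_2_0 : T.picMatrix 2 0 = 0)
    (e_2_1 : T.picMatrix 2 1 = 1)
    (e_2_3 : T.picMatrix 2 3 = 1)
    (e_3_0 : T.picMatrix 3 0 = 0)
    (e_3_1 : T.picMatrix 3 1 = 0)
    (e_3_2 : T.picMatrix 3 2 = 1)
    (cl : ∀ a b : Fin 5, a.val < 2 → 4 ≤ b.val → T.picMatrix a b = 0) :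
    Goal T := by
  by_cases hc : ∀ b : Fin 5, 4 ≤ b.val → T.picMatrix 2 b = 0
  · exact nd_232 T hG hmax e_0_1 e_0_2 e_0_3 e_1_0 e_1_2 e_1_3 e_2_0 e_2_1 e_2_3 e_3_0 e_3_1 e_3_2 (nt_cl_succ T 4 2 2 rfl cl hc)
  · obtain ⟨τ, hfix, cl', z, hne⟩ := nt_wlog_step T 4 (by norm_num) 2 (by norm_num) 2 (by decide) cl hc
    apply goal_relabel T τ
    refine ex_237 (ntRelabel T τ) (hG.relabel τ) ?_ ?_ ?_ ?_ ?_ ?_ ?_ ?_ ?_ ?_ ?_ ?_ ?_ cl' z hne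
    · intro j
      show T.m (τ j) ≤ T.m (τ 0)
      rw [hfix 0 (by decide)]
      exact hmax _
    · show T.picMatrix (τ 0) (τ 1) = 2
      rw [hfix 0 (by decide), hfix 1 (by decide)]
      exact e_0_1
    · show T.picMatrix (τ 0) (τ 2) = 0
      rw [hfix 0 (by decide), hfix 2 (by decide)]
      exact e_0_2
    · show T.picMatrix (τ 0) (τ 3) = 0
      rw [hfix 0 (by decide), hfix 3 (by decide)]
      exact e_0_3
    · show T.picMatrix (τ 1) (τ 0) = 1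
      rw [hfix 1 (by decide), hfix 0 (by decide)]
      exact e_1_0
    · show T.picMatrix (τ 1) (τ 2) = 1
      rw [hfix 1 (by decide), hfix 2 (by decide)]
      exact e_1_2
    · show T.picMatrix (τ 1) (τ 3) = 0
      rw [hfix 1 (by decide), hfix 3 (by decide)]
      exact e_1_3
    · show T.picMatrix (τ 2) (τ 0) = 0
      rw [hfix 2 (by decide), hfix 0 (by decide)]
      exact e_2_0
    · show T.picMatrix (τ 2) (τ 1) = 1
      rw [hfix 2 (by decide), hfix 1 (by decide)]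
      exact e_2_1
    · show T.picMatrix (τ 2) (τ 3) = 1
      rw [hfix 2 (by decide), hfix 3 (by decide)]
      exact e_2_3
    · show T.picMatrix (τ 3) (τ 0) = 0
      rw [hfix 3 (by decide), hfix 0 (by decide)]
      exact e_3_0
    · show T.picMatrix (τ 3) (τ 1) = 0
      rw [hfix 3 (by decide), hfix 1 (by decide)]
      exact e_3_1
    · show T.picMatrix (τ 3) (τ 2) = 1
      rw [hfix 3 (by decide), hfix 2 (by decide)]
      exact e_3_2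

theorem nd_241 (T : Models.NumericalType 5)
    (hG : NTGood T)
    (hmax : ∀ j, T.m j ≤ T.m 0)
    (e_0_1 : T.picMatrix 0 1 = 2)
    (e_0_2 : T.picMatrix 0 2 = 0)
    (e_0_3 : T.picMatrix 0 3 = 0)
    (e_1_0 : T.picMatrix 1 0 = 1)
    (e_1_2 : T.picMatrix 1 2 = 1)
    (e_1_3 : T.picMatrix 1 3 = 0)
    (e_2_0 : T.picMatrix 2 0 = 0)
    (e_2_1 : T.picMatrix 2 1 = 1)
    (e_2_3 : T.picMatrix 2 3 = 1)
    (e_3_0 : T.picMatrix 3 0 = 0)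
    (e_3_1 : T.picMatrix 3 1 = 0)
    (e_3_2 : T.picMatrix 3 2 = 2)
    (cl : ∀ a b : Fin 5, a.val < 4 → 4 ≤ b.val → T.picMatrix a b = 0) :
    Goal T := by
  exact (nt_closed_false T 4 (by norm_num) (by norm_num) cl).elim

theorem ex_242 (T : Models.NumericalType 5)
    (hG : NTGood T)
    (hmax : ∀ j, T.m j ≤ T.m 0)
    (e_0_1 : T.picMatrix 0 1 = 2)
    (e_0_2 : T.picMatrix 0 2 = 0)
    (e_0_3 : T.picMatrix 0 3 = 0)
    (e_1_0 : T.picMatrix 1 0 = 1)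
    (e_1_2 : T.picMatrix 1 2 = 1)
    (e_1_3 : T.picMatrix 1 3 = 0)
    (e_2_0 : T.picMatrix 2 0 = 0)
    (e_2_1 : T.picMatrix 2 1 = 1)
    (e_2_3 : T.picMatrix 2 3 = 1)
    (e_3_0 : T.picMatrix 3 0 = 0)
    (e_3_1 : T.picMatrix 3 1 = 0)
    (e_3_2 : T.picMatrix 3 2 = 2)
    (cl : ∀ a b : Fin 5, a.val < 3 → 5 ≤ b.val → T.picMatrix a b = 0)
    (z : ∀ a : Fin 5, a.val < 3 → T.picMatrix a 4 = 0)
    (hne : T.picMatrix 3 4 ≠ 0) :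
    Goal T := by
  have e_0_4 : T.picMatrix 0 4 = 0 := z 0 (by decide)
  have e_4_0 : T.picMatrix 4 0 = 0 := nt_pic_zero_symm T 0 4 e_0_4
  have e_1_4 : T.picMatrix 1 4 = 0 := z 1 (by decide)
  have e_4_1 : T.picMatrix 4 1 = 0 := nt_pic_zero_symm T 1 4 e_1_4
  have e_2_4 : T.picMatrix 2 4 = 0 := z 2 (by decide)
  have e_4_2 : T.picMatrix 4 2 = 0 := nt_pic_zero_symm T 2 4 e_2_4
  obtain ⟨hg0, hdA, hdP, hnn, hrow, hsym, hpair⟩ := ntgood_data T (by norm_num) hG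
  have hm_0 := T.m_pos 0
  have hw_0 := T.w_pos 0
  have hm_1 := T.m_pos 1
  have hw_1 := T.w_pos 1
  have hm_2 := T.m_pos 2
  have hw_2 := T.w_pos 2
  have hm_3 := T.m_pos 3
  have hw_3 := T.w_pos 3
  have hm_4 := T.m_pos 4
  have hw_4 := T.w_pos 4
  have hx_1 := hmax 1
  have hx_2 := hmax 2
  have hx_3 := hmax 3
  have hx_4 := hmax 4
  have N_3_4 := mul_nonneg (hnn 3 4 (by decide)) (T.m_pos 4).le
  have N_4_3 := mul_nonneg (hnn 4 3 (by decide)) (T.m_pos 3).le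
  have R_0 := hrow 0
  rw [Fin.sum_univ_five, hdP 0, e_0_1, e_0_2, e_0_3, e_0_4] at R_0
  have R_1 := hrow 1
  rw [Fin.sum_univ_five, hdP 1, e_1_0, e_1_2, e_1_3, e_1_4] at R_1
  have R_2 := hrow 2
  rw [Fin.sum_univ_five, hdP 2, e_2_0, e_2_1, e_2_3, e_2_4] at R_2
  have R_3 := hrow 3
  rw [Fin.sum_univ_five, hdP 3, e_3_0, e_3_1, e_3_2] at R_3
  have R_4 := hrow 4
  rw [Fin.sum_univ_five, hdP 4, e_4_0, e_4_1, e_4_2] at R_4
  have S_0_1 := hsym 0 1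
  rw [e_0_1, e_1_0] at S_0_1
  have S_0_2 := hsym 0 2
  rw [e_0_2, e_2_0] at S_0_2
  have S_0_3 := hsym 0 3
  rw [e_0_3, e_3_0] at S_0_3
  have S_0_4 := hsym 0 4
  rw [e_0_4, e_4_0] at S_0_4
  have S_1_2 := hsym 1 2
  rw [e_1_2, e_2_1] at S_1_2
  have S_1_3 := hsym 1 3
  rw [e_1_3, e_3_1] at S_1_3
  have S_1_4 := hsym 1 4
  rw [e_1_4, e_4_1] at S_1_4
  have S_2_3 := hsym 2 3
  rw [e_2_3, e_3_2] at S_2_3
  have S_2_4 := hsym 2 4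
  rw [e_2_4, e_4_2] at S_2_4
  have S_3_4 := hsym 3 4
  have Q_3 := hpair 3 4 (by decide)
  generalize e_3_4 : T.picMatrix 3 4 = x_3 at *
  generalize e_4_3 : T.picMatrix 4 3 = y_3 at *
  rcases Q_3 with ⟨rfl, rfl⟩ | ⟨rfl, rfl⟩ | ⟨rfl, rfl⟩ | ⟨rfl, rfl⟩ | ⟨rfl, rfl⟩ | ⟨rfl, rfl⟩ | ⟨rfl, rfl⟩ | ⟨rfl, rfl⟩ | ⟨rfl, rfl⟩
  · exact absurd rfl hne
  · -- (3,4) = (1,1)
    omega
  · -- (3,4) = (1,2)
    omega
  · -- (3,4) = (2,1)
    omega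
  · -- (3,4) = (1,3)
    omega
  · -- (3,4) = (3,1)
    omega
  · -- (3,4) = (1,4)
    omega
  · -- (3,4) = (4,1)
    omega
  · -- (3,4) = (2,2)
    omega

theorem nd_240 (T : Models.NumericalType 5)
    (hG : NTGood T)
    (hmax : ∀ j, T.m j ≤ T.m 0)
    (e_0_1 : T.picMatrix 0 1 = 2)
    (e_0_2 : T.picMatrix 0 2 = 0)
    (e_0_3 : T.picMatrix 0 3 = 0)
    (e_1_0 : T.picMatrix 1 0 = 1)
    (e_1_2 : T.picMatrix 1 2 = 1)
    (e_1_3 : T.picMatrix 1 3 = 0)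
    (e_2_0 : T.picMatrix 2 0 = 0)
    (e_2_1 : T.picMatrix 2 1 = 1)
    (e_2_3 : T.picMatrix 2 3 = 1)
    (e_3_0 : T.picMatrix 3 0 = 0)
    (e_3_1 : T.picMatrix 3 1 = 0)
    (e_3_2 : T.picMatrix 3 2 = 2)
    (cl : ∀ a b : Fin 5, a.val < 3 → 4 ≤ b.val → T.picMatrix a b = 0) :
    Goal T := by
  by_cases hc : ∀ b : Fin 5, 4 ≤ b.val → T.picMatrix 3 b = 0
  · exact nd_241 T hG hmax e_0_1 e_0_2 e_0_3 e_1_0 e_1_2 e_1_3 e_2_0 e_2_1 e_2_3 e_3_0 e_3_1 e_3_2 (nt_cl_succ T 4 3 3 rfl cl hc)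
  · obtain ⟨τ, hfix, cl', z, hne⟩ := nt_wlog_step T 4 (by norm_num) 3 (by norm_num) 3 (by decide) cl hc
    apply goal_relabel T τ
    refine ex_242 (ntRelabel T τ) (hG.relabel τ) ?_ ?_ ?_ ?_ ?_ ?_ ?_ ?_ ?_ ?_ ?_ ?_ ?_ cl' z hne
    · intro j
      show T.m (τ j) ≤ T.m (τ 0)
      rw [hfix 0 (by decide)]
      exact hmax _
    · show T.picMatrix (τ 0) (τ 1) = 2
      rw [hfix 0 (by decide), hfix 1 (by decide)]
      exact e_0_1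
    · show T.picMatrix (τ 0) (τ 2) = 0
      rw [hfix 0 (by decide), hfix 2 (by decide)]
      exact e_0_2
    · show T.picMatrix (τ 0) (τ 3) = 0
      rw [hfix 0 (by decide), hfix 3 (by decide)]
      exact e_0_3
    · show T.picMatrix (τ 1) (τ 0) = 1
      rw [hfix 1 (by decide), hfix 0 (by decide)]
      exact e_1_0
    · show T.picMatrix (τ 1) (τ 2) = 1
      rw [hfix 1 (by decide), hfix 2 (by decide)]
      exact e_1_2
    · show T.picMatrix (τ 1) (τ 3) = 0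
      rw [hfix 1 (by decide), hfix 3 (by decide)]
      exact e_1_3
    · show T.picMatrix (τ 2) (τ 0) = 0
      rw [hfix 2 (by decide), hfix 0 (by decide)]
      exact e_2_0
    · show T.picMatrix (τ 2) (τ 1) = 1
      rw [hfix 2 (by decide), hfix 1 (by decide)]
      exact e_2_1
    · show T.picMatrix (τ 2) (τ 3) = 1
      rw [hfix 2 (by decide), hfix 3 (by decide)]
      exact e_2_3
    · show T.picMatrix (τ 3) (τ 0) = 0
      rw [hfix 3 (by decide), hfix 0 (by decide)]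
      exact e_3_0
    · show T.picMatrix (τ 3) (τ 1) = 0
      rw [hfix 3 (by decide), hfix 1 (by decide)]
      exact e_3_1
    · show T.picMatrix (τ 3) (τ 2) = 2
      rw [hfix 3 (by decide), hfix 2 (by decide)]
      exact e_3_2

theorem ex_243 (T : Models.NumericalType 5)
    (hG : NTGood T)
    (hmax : ∀ j, T.m j ≤ T.m 0)
    (e_0_1 : T.picMatrix 0 1 = 2)
    (e_0_2 : T.picMatrix 0 2 = 0)
    (e_0_3 : T.picMatrix 0 3 = 0)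
    (e_1_0 : T.picMatrix 1 0 = 1)
    (e_1_2 : T.picMatrix 1 2 = 1)
    (e_1_3 : T.picMatrix 1 3 = 0)
    (e_2_0 : T.picMatrix 2 0 = 0)
    (e_2_1 : T.picMatrix 2 1 = 1)
    (e_2_3 : T.picMatrix 2 3 = 1)
    (e_3_0 : T.picMatrix 3 0 = 0)
    (e_3_1 : T.picMatrix 3 1 = 0)
    (e_3_2 : T.picMatrix 3 2 = 2)
    (cl : ∀ a b : Fin 5, a.val < 2 → 5 ≤ b.val → T.picMatrix a b = 0)
    (z : ∀ a : Fin 5, a.val < 2 → T.picMatrix a 4 = 0)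
    (hne : T.picMatrix 2 4 ≠ 0) :
    Goal T := by
  have e_0_4 : T.picMatrix 0 4 = 0 := z 0 (by decide)
  have e_4_0 : T.picMatrix 4 0 = 0 := nt_pic_zero_symm T 0 4 e_0_4
  have e_1_4 : T.picMatrix 1 4 = 0 := z 1 (by decide)
  have e_4_1 : T.picMatrix 4 1 = 0 := nt_pic_zero_symm T 1 4 e_1_4
  obtain ⟨hg0, hdA, hdP, hnn, hrow, hsym, hpair⟩ := ntgood_data T (by norm_num) hG
  have hm_0 := T.m_pos 0
  have hw_0 := T.w_pos 0
  have hm_1 := T.m_pos 1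
  have hw_1 := T.w_pos 1
  have hm_2 := T.m_pos 2
  have hw_2 := T.w_pos 2
  have hm_3 := T.m_pos 3
  have hw_3 := T.w_pos 3
  have hm_4 := T.m_pos 4
  have hw_4 := T.w_pos 4
  have hx_1 := hmax 1
  have hx_2 := hmax 2
  have hx_3 := hmax 3
  have hx_4 := hmax 4
  have N_2_4 := mul_nonneg (hnn 2 4 (by decide)) (T.m_pos 4).le
  have N_4_2 := mul_nonneg (hnn 4 2 (by decide)) (T.m_pos 2).le
  have N_3_4 := mul_nonneg (hnn 3 4 (by decide)) (T.m_pos 4).le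
  have N_4_3 := mul_nonneg (hnn 4 3 (by decide)) (T.m_pos 3).le
  have R_0 := hrow 0
  rw [Fin.sum_univ_five, hdP 0, e_0_1, e_0_2, e_0_3, e_0_4] at R_0
  have R_1 := hrow 1
  rw [Fin.sum_univ_five, hdP 1, e_1_0, e_1_2, e_1_3, e_1_4] at R_1
  have R_2 := hrow 2
  rw [Fin.sum_univ_five, hdP 2, e_2_0, e_2_1, e_2_3] at R_2
  have R_3 := hrow 3
  rw [Fin.sum_univ_five, hdP 3, e_3_0, e_3_1, e_3_2] at R_3
  have R_4 := hrow 4
  rw [Fin.sum_univ_five, hdP 4, e_4_0, e_4_1] at R_4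
  have S_0_1 := hsym 0 1
  rw [e_0_1, e_1_0] at S_0_1
  have S_0_2 := hsym 0 2
  rw [e_0_2, e_2_0] at S_0_2
  have S_0_3 := hsym 0 3
  rw [e_0_3, e_3_0] at S_0_3
  have S_0_4 := hsym 0 4
  rw [e_0_4, e_4_0] at S_0_4
  have S_1_2 := hsym 1 2
  rw [e_1_2, e_2_1] at S_1_2
  have S_1_3 := hsym 1 3
  rw [e_1_3, e_3_1] at S_1_3
  have S_1_4 := hsym 1 4
  rw [e_1_4, e_4_1] at S_1_4
  have S_2_3 := hsym 2 3
  rw [e_2_3, e_3_2] at S_2_3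
  have S_2_4 := hsym 2 4
  have S_3_4 := hsym 3 4
  have Q_2 := hpair 2 4 (by decide)
  have Q_3 := hpair 3 4 (by decide)
  generalize e_2_4 : T.picMatrix 2 4 = x_2 at *
  generalize e_4_2 : T.picMatrix 4 2 = y_2 at *
  generalize e_3_4 : T.picMatrix 3 4 = x_3 at *
  generalize e_4_3 : T.picMatrix 4 3 = y_3 at *
  rcases Q_2 with ⟨rfl, rfl⟩ | ⟨rfl, rfl⟩ | ⟨rfl, rfl⟩ | ⟨rfl, rfl⟩ | ⟨rfl, rfl⟩ | ⟨rfl, rfl⟩ | ⟨rfl, rfl⟩ | ⟨rfl, rfl⟩ | ⟨rfl, rfl⟩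
  · exact absurd rfl hne
  · omega
  · omega
  · omega
  · omega
  · omega
  · omega
  · omega
  · omega

theorem nd_239 (T : Models.NumericalType 5)
    (hG : NTGood T)
    (hmax : ∀ j, T.m j ≤ T.m 0)
    (e_0_1 : T.picMatrix 0 1 = 2)
    (e_0_2 : T.picMatrix 0 2 = 0)
    (e_0_3 : T.picMatrix 0 3 = 0)
    (e_1_0 : T.picMatrix 1 0 = 1)
    (e_1_2 : T.picMatrix 1 2 = 1)
    (e_1_3 : T.picMatrix 1 3 = 0)
    (e_2_0 : T.picMatrix 2 0 = 0)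
    (e_2_1 : T.picMatrix 2 1 = 1)
    (e_2_3 : T.picMatrix 2 3 = 1)
    (e_3_0 : T.picMatrix 3 0 = 0)
    (e_3_1 : T.picMatrix 3 1 = 0)
    (e_3_2 : T.picMatrix 3 2 = 2)
    (cl : ∀ a b : Fin 5, a.val < 2 → 4 ≤ b.val → T.picMatrix a b = 0) :
    Goal T := by
  by_cases hc : ∀ b : Fin 5, 4 ≤ b.val → T.picMatrix 2 b = 0
  · exact nd_240 T hG hmax e_0_1 e_0_2 e_0_3 e_1_0 e_1_2 e_1_3 e_2_0 e_2_1 e_2_3 e_3_0 e_3_1 e_3_2 (nt_cl_succ T 4 2 2 rfl cl hc)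
  · obtain ⟨τ, hfix, cl', z, hne⟩ := nt_wlog_step T 4 (by norm_num) 2 (by norm_num) 2 (by decide) cl hc
    apply goal_relabel T τ
    refine ex_243 (ntRelabel T τ) (hG.relabel τ) ?_ ?_ ?_ ?_ ?_ ?_ ?_ ?_ ?_ ?_ ?_ ?_ ?_ cl' z hne
    · intro j
      show T.m (τ j) ≤ T.m (τ 0)
      rw [hfix 0 (by decide)]
      exact hmax _
    · show T.picMatrix (τ 0) (τ 1) = 2
      rw [hfix 0 (by decide), hfix 1 (by decide)]
      exact e_0_1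
    · show T.picMatrix (τ 0) (τ 2) = 0
      rw [hfix 0 (by decide), hfix 2 (by decide)]
      exact e_0_2
    · show T.picMatrix (τ 0) (τ 3) = 0
      rw [hfix 0 (by decide), hfix 3 (by decide)]
      exact e_0_3
    · show T.picMatrix (τ 1) (τ 0) = 1
      rw [hfix 1 (by decide), hfix 0 (by decide)]
      exact e_1_0
    · show T.picMatrix (τ 1) (τ 2) = 1
      rw [hfix 1 (by decide), hfix 2 (by decide)]
      exact e_1_2
    · show T.picMatrix (τ 1) (τ 3) = 0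
      rw [hfix 1 (by decide), hfix 3 (by decide)]
      exact e_1_3
    · show T.picMatrix (τ 2) (τ 0) = 0
      rw [hfix 2 (by decide), hfix 0 (by decide)]
      exact e_2_0
    · show T.picMatrix (τ 2) (τ 1) = 1
      rw [hfix 2 (by decide), hfix 1 (by decide)]
      exact e_2_1
    · show T.picMatrix (τ 2) (τ 3) = 1
      rw [hfix 2 (by decide), hfix 3 (by decide)]
      exact e_2_3
    · show T.picMatrix (τ 3) (τ 0) = 0
      rw [hfix 3 (by decide), hfix 0 (by decide)]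
      exact e_3_0
    · show T.picMatrix (τ 3) (τ 1) = 0
      rw [hfix 3 (by decide), hfix 1 (by decide)]
      exact e_3_1
    · show T.picMatrix (τ 3) (τ 2) = 2
      rw [hfix 3 (by decide), hfix 2 (by decide)]
      exact e_3_2

theorem nd_246 (T : Models.NumericalType 5)
    (hG : NTGood T)
    (hmax : ∀ j, T.m j ≤ T.m 0)
    (e_0_1 : T.picMatrix 0 1 = 2)
    (e_0_2 : T.picMatrix 0 2 = 0)
    (e_0_3 : T.picMatrix 0 3 = 0)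
    (e_1_0 : T.picMatrix 1 0 = 1)
    (e_1_2 : T.picMatrix 1 2 = 1)
    (e_1_3 : T.picMatrix 1 3 = 0)
    (e_2_0 : T.picMatrix 2 0 = 0)
    (e_2_1 : T.picMatrix 2 1 = 1)
    (e_2_3 : T.picMatrix 2 3 = 2)
    (e_3_0 : T.picMatrix 3 0 = 0)
    (e_3_1 : T.picMatrix 3 1 = 0)
    (e_3_2 : T.picMatrix 3 2 = 1)
    (cl : ∀ a b : Fin 5, a.val < 4 → 4 ≤ b.val → T.picMatrix a b = 0) :
    Goal T := by
  exact (nt_closed_false T 4 (by norm_num) (by norm_num) cl).elim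

theorem ex_247 (T : Models.NumericalType 5)
    (hG : NTGood T)
    (hmax : ∀ j, T.m j ≤ T.m 0)
    (e_0_1 : T.picMatrix 0 1 = 2)
    (e_0_2 : T.picMatrix 0 2 = 0)
    (e_0_3 : T.picMatrix 0 3 = 0)
    (e_1_0 : T.picMatrix 1 0 = 1)
    (e_1_2 : T.picMatrix 1 2 = 1)
    (e_1_3 : T.picMatrix 1 3 = 0)
    (e_2_0 : T.picMatrix 2 0 = 0)
    (e_2_1 : T.picMatrix 2 1 = 1)
    (e_2_3 : T.picMatrix 2 3 = 2)
    (e_3_0 : T.picMatrix 3 0 = 0)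
    (e_3_1 : T.picMatrix 3 1 = 0)
    (e_3_2 : T.picMatrix 3 2 = 1)
    (cl : ∀ a b : Fin 5, a.val < 3 → 5 ≤ b.val → T.picMatrix a b = 0)
    (z : ∀ a : Fin 5, a.val < 3 → T.picMatrix a 4 = 0)
    (hne : T.picMatrix 3 4 ≠ 0) :
    Goal T := by
  have e_0_4 : T.picMatrix 0 4 = 0 := z 0 (by decide)
  have e_4_0 : T.picMatrix 4 0 = 0 := nt_pic_zero_symm T 0 4 e_0_4
  have e_1_4 : T.picMatrix 1 4 = 0 := z 1 (by decide)
  have e_4_1 : T.picMatrix 4 1 = 0 := nt_pic_zero_symm T 1 4 e_1_4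
  have e_2_4 : T.picMatrix 2 4 = 0 := z 2 (by decide)
  have e_4_2 : T.picMatrix 4 2 = 0 := nt_pic_zero_symm T 2 4 e_2_4
  obtain ⟨hg0, hdA, hdP, hnn, hrow, hsym, hpair⟩ := ntgood_data T (by norm_num) hG
  have hm_0 := T.m_pos 0
  have hw_0 := T.w_pos 0
  have hm_1 := T.m_pos 1
  have hw_1 := T.w_pos 1
  have hm_2 := T.m_pos 2
  have hw_2 := T.w_pos 2
  have hm_3 := T.m_pos 3
  have hw_3 := T.w_pos 3
  have hm_4 := T.m_pos 4
  have hw_4 := T.w_pos 4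
  have hx_1 := hmax 1
  have hx_2 := hmax 2
  have hx_3 := hmax 3
  have hx_4 := hmax 4
  have N_3_4 := mul_nonneg (hnn 3 4 (by decide)) (T.m_pos 4).le
  have N_4_3 := mul_nonneg (hnn 4 3 (by decide)) (T.m_pos 3).le
  have R_0 := hrow 0
  rw [Fin.sum_univ_five, hdP 0, e_0_1, e_0_2, e_0_3, e_0_4] at R_0
  have R_1 := hrow 1
  rw [Fin.sum_univ_five, hdP 1, e_1_0, e_1_2, e_1_3, e_1_4] at R_1
  have R_2 := hrow 2
  rw [Fin.sum_univ_five, hdP 2, e_2_0, e_2_1, e_2_3, e_2_4] at R_2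
  have R_3 := hrow 3
  rw [Fin.sum_univ_five, hdP 3, e_3_0, e_3_1, e_3_2] at R_3
  have R_4 := hrow 4
  rw [Fin.sum_univ_five, hdP 4, e_4_0, e_4_1, e_4_2] at R_4
  have S_0_1 := hsym 0 1
  rw [e_0_1, e_1_0] at S_0_1
  have S_0_2 := hsym 0 2
  rw [e_0_2, e_2_0] at S_0_2
  have S_0_3 := hsym 0 3
  rw [e_0_3, e_3_0] at S_0_3
  have S_0_4 := hsym 0 4
  rw [e_0_4, e_4_0] at S_0_4
  have S_1_2 := hsym 1 2
  rw [e_1_2, e_2_1] at S_1_2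
  have S_1_3 := hsym 1 3
  rw [e_1_3, e_3_1] at S_1_3
  have S_1_4 := hsym 1 4
  rw [e_1_4, e_4_1] at S_1_4
  have S_2_3 := hsym 2 3
  rw [e_2_3, e_3_2] at S_2_3
  have S_2_4 := hsym 2 4
  rw [e_2_4, e_4_2] at S_2_4
  have S_3_4 := hsym 3 4
  have Q_3 := hpair 3 4 (by decide)
  generalize e_3_4 : T.picMatrix 3 4 = x_3 at *
  generalize e_4_3 : T.picMatrix 4 3 = y_3 at *
  rcases Q_3 with ⟨rfl, rfl⟩ | ⟨rfl, rfl⟩ | ⟨rfl, rfl⟩ | ⟨rfl, rfl⟩ | ⟨rfl, rfl⟩ | ⟨rfl, rfl⟩ | ⟨rfl, rfl⟩ | ⟨rfl, rfl⟩ | ⟨rfl, rfl⟩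
  · exact absurd rfl hne
  · -- (3,4) = (1,1)
    omega
  · -- (3,4) = (1,2)
    omega
  · -- (3,4) = (2,1)
    omega
  · -- (3,4) = (1,3)
    omega
  · -- (3,4) = (3,1)
    omega
  · -- (3,4) = (1,4)
    omega
  · -- (3,4) = (4,1)
    omega
  · -- (3,4) = (2,2)
    omega

theorem nd_245 (T : Models.NumericalType 5)
    (hG : NTGood T)
    (hmax : ∀ j, T.m j ≤ T.m 0)
    (e_0_1 : T.picMatrix 0 1 = 2)
    (e_0_2 : T.picMatrix 0 2 = 0)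
    (e_0_3 : T.picMatrix 0 3 = 0)
    (e_1_0 : T.picMatrix 1 0 = 1)
    (e_1_2 : T.picMatrix 1 2 = 1)
    (e_1_3 : T.picMatrix 1 3 = 0)
    (e_2_0 : T.picMatrix 2 0 = 0)
    (e_2_1 : T.picMatrix 2 1 = 1)
    (e_2_3 : T.picMatrix 2 3 = 2)
    (e_3_0 : T.picMatrix 3 0 = 0)
    (e_3_1 : T.picMatrix 3 1 = 0)
    (e_3_2 : T.picMatrix 3 2 = 1)
    (cl : ∀ a b : Fin 5, a.val < 3 → 4 ≤ b.val → T.picMatrix a b = 0) :
    Goal T := by
  by_cases hc : ∀ b : Fin 5, 4 ≤ b.val → T.picMatrix 3 b = 0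
  · exact nd_246 T hG hmax e_0_1 e_0_2 e_0_3 e_1_0 e_1_2 e_1_3 e_2_0 e_2_1 e_2_3 e_3_0 e_3_1 e_3_2 (nt_cl_succ T 4 3 3 rfl cl hc)
  · obtain ⟨τ, hfix, cl', z, hne⟩ := nt_wlog_step T 4 (by norm_num) 3 (by norm_num) 3 (by decide) cl hc
    apply goal_relabel T τ
    refine ex_247 (ntRelabel T τ) (hG.relabel τ) ?_ ?_ ?_ ?_ ?_ ?_ ?_ ?_ ?_ ?_ ?_ ?_ ?_ cl' z hne
    · intro j
      show T.m (τ j) ≤ T.m (τ 0)
      rw [hfix 0 (by decide)]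
      exact hmax _
    · show T.picMatrix (τ 0) (τ 1) = 2
      rw [hfix 0 (by decide), hfix 1 (by decide)]
      exact e_0_1
    · show T.picMatrix (τ 0) (τ 2) = 0
      rw [hfix 0 (by decide), hfix 2 (by decide)]
      exact e_0_2
    · show T.picMatrix (τ 0) (τ 3) = 0
      rw [hfix 0 (by decide), hfix 3 (by decide)]
      exact e_0_3
    · show T.picMatrix (τ 1) (τ 0) = 1
      rw [hfix 1 (by decide), hfix 0 (by decide)]
      exact e_1_0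
    · show T.picMatrix (τ 1) (τ 2) = 1
      rw [hfix 1 (by decide), hfix 2 (by decide)]
      exact e_1_2
    · show T.picMatrix (τ 1) (τ 3) = 0
      rw [hfix 1 (by decide), hfix 3 (by decide)]
      exact e_1_3
    · show T.picMatrix (τ 2) (τ 0) = 0
      rw [hfix 2 (by decide), hfix 0 (by decide)]
      exact e_2_0
    · show T.picMatrix (τ 2) (τ 1) = 1
      rw [hfix 2 (by decide), hfix 1 (by decide)]
      exact e_2_1
    · show T.picMatrix (τ 2) (τ 3) = 2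
      rw [hfix 2 (by decide), hfix 3 (by decide)]
      exact e_2_3
    · show T.picMatrix (τ 3) (τ 0) = 0
      rw [hfix 3 (by decide), hfix 0 (by decide)]
      exact e_3_0
    · show T.picMatrix (τ 3) (τ 1) = 0
      rw [hfix 3 (by decide), hfix 1 (by decide)]
      exact e_3_1
    · show T.picMatrix (τ 3) (τ 2) = 1
      rw [hfix 3 (by decide), hfix 2 (by decide)]
      exact e_3_2

theorem ex_248 (T : Models.NumericalType 5)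
    (hG : NTGood T)
    (hmax : ∀ j, T.m j ≤ T.m 0)
    (e_0_1 : T.picMatrix 0 1 = 2)
    (e_0_2 : T.picMatrix 0 2 = 0)
    (e_0_3 : T.picMatrix 0 3 = 0)
    (e_1_0 : T.picMatrix 1 0 = 1)
    (e_1_2 : T.picMatrix 1 2 = 1)
    (e_1_3 : T.picMatrix 1 3 = 0)
    (e_2_0 : T.picMatrix 2 0 = 0)
    (e_2_1 : T.picMatrix 2 1 = 1)
    (e_2_3 : T.picMatrix 2 3 = 2)
    (e_3_0 : T.picMatrix 3 0 = 0)
    (e_3_1 : T.picMatrix 3 1 = 0)
    (e_3_2 : T.picMatrix 3 2 = 1)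
    (cl : ∀ a b : Fin 5, a.val < 2 → 5 ≤ b.val → T.picMatrix a b = 0)
    (z : ∀ a : Fin 5, a.val < 2 → T.picMatrix a 4 = 0)
    (hne : T.picMatrix 2 4 ≠ 0) :
    Goal T := by
  have e_0_4 : T.picMatrix 0 4 = 0 := z 0 (by decide)
  have e_4_0 : T.picMatrix 4 0 = 0 := nt_pic_zero_symm T 0 4 e_0_4
  have e_1_4 : T.picMatrix 1 4 = 0 := z 1 (by decide)
  have e_4_1 : T.picMatrix 4 1 = 0 := nt_pic_zero_symm T 1 4 e_1_4
  obtain ⟨hg0, hdA, hdP, hnn, hrow, hsym, hpair⟩ := ntgood_data T (by norm_num) hG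
  have hm_0 := T.m_pos 0
  have hw_0 := T.w_pos 0
  have hm_1 := T.m_pos 1
  have hw_1 := T.w_pos 1
  have hm_2 := T.m_pos 2
  have hw_2 := T.w_pos 2
  have hm_3 := T.m_pos 3
  have hw_3 := T.w_pos 3
  have hm_4 := T.m_pos 4
  have hw_4 := T.w_pos 4
  have hx_1 := hmax 1
  have hx_2 := hmax 2
  have hx_3 := hmax 3
  have hx_4 := hmax 4
  have N_2_4 := mul_nonneg (hnn 2 4 (by decide)) (T.m_pos 4).le
  have N_4_2 := mul_nonneg (hnn 4 2 (by decide)) (T.m_pos 2).le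
  have N_3_4 := mul_nonneg (hnn 3 4 (by decide)) (T.m_pos 4).le
  have N_4_3 := mul_nonneg (hnn 4 3 (by decide)) (T.m_pos 3).le
  have R_0 := hrow 0
  rw [Fin.sum_univ_five, hdP 0, e_0_1, e_0_2, e_0_3, e_0_4] at R_0
  have R_1 := hrow 1
  rw [Fin.sum_univ_five, hdP 1, e_1_0, e_1_2, e_1_3, e_1_4] at R_1
  have R_2 := hrow 2
  rw [Fin.sum_univ_five, hdP 2, e_2_0, e_2_1, e_2_3] at R_2
  have R_3 := hrow 3
  rw [Fin.sum_univ_five, hdP 3, e_3_0, e_3_1, e_3_2] at R_3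
  have R_4 := hrow 4
  rw [Fin.sum_univ_five, hdP 4, e_4_0, e_4_1] at R_4
  have S_0_1 := hsym 0 1
  rw [e_0_1, e_1_0] at S_0_1
  have S_0_2 := hsym 0 2
  rw [e_0_2, e_2_0] at S_0_2
  have S_0_3 := hsym 0 3
  rw [e_0_3, e_3_0] at S_0_3
  have S_0_4 := hsym 0 4
  rw [e_0_4, e_4_0] at S_0_4
  have S_1_2 := hsym 1 2
  rw [e_1_2, e_2_1] at S_1_2
  have S_1_3 := hsym 1 3
  rw [e_1_3, e_3_1] at S_1_3
  have S_1_4 := hsym 1 4
  rw [e_1_4, e_4_1] at S_1_4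
  have S_2_3 := hsym 2 3
  rw [e_2_3, e_3_2] at S_2_3
  have S_2_4 := hsym 2 4
  have S_3_4 := hsym 3 4
  have Q_2 := hpair 2 4 (by decide)
  have Q_3 := hpair 3 4 (by decide)
  generalize e_2_4 : T.picMatrix 2 4 = x_2 at *
  generalize e_4_2 : T.picMatrix 4 2 = y_2 at *
  generalize e_3_4 : T.picMatrix 3 4 = x_3 at *
  generalize e_4_3 : T.picMatrix 4 3 = y_3 at *
  rcases Q_2 with ⟨rfl, rfl⟩ | ⟨rfl, rfl⟩ | ⟨rfl, rfl⟩ | ⟨rfl, rfl⟩ | ⟨rfl, rfl⟩ | ⟨rfl, rfl⟩ | ⟨rfl, rfl⟩ | ⟨rfl, rfl⟩ | ⟨rfl, rfl⟩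
  · exact absurd rfl hne
  · omega
  · omega
  · omega
  · omega
  · omega
  · omega
  · omega
  · omega

theorem nd_244 (T : Models.NumericalType 5)
    (hG : NTGood T)
    (hmax : ∀ j, T.m j ≤ T.m 0)
    (e_0_1 : T.picMatrix 0 1 = 2)
    (e_0_2 : T.picMatrix 0 2 = 0)
    (e_0_3 : T.picMatrix 0 3 = 0)
    (e_1_0 : T.picMatrix 1 0 = 1)
    (e_1_2 : T.picMatrix 1 2 = 1)
    (e_1_3 : T.picMatrix 1 3 = 0)
    (e_2_0 : T.picMatrix 2 0 = 0)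
    (e_2_1 : T.picMatrix 2 1 = 1)
    (e_2_3 : T.picMatrix 2 3 = 2)
    (e_3_0 : T.picMatrix 3 0 = 0)
    (e_3_1 : T.picMatrix 3 1 = 0)
    (e_3_2 : T.picMatrix 3 2 = 1)
    (cl : ∀ a b : Fin 5, a.val < 2 → 4 ≤ b.val → T.picMatrix a b = 0) :
    Goal T := by
  by_cases hc : ∀ b : Fin 5, 4 ≤ b.val → T.picMatrix 2 b = 0
  · exact nd_245 T hG hmax e_0_1 e_0_2 e_0_3 e_1_0 e_1_2 e_1_3 e_2_0 e_2_1 e_2_3 e_3_0 e_3_1 e_3_2 (nt_cl_succ T 4 2 2 rfl cl hc)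
  · obtain ⟨τ, hfix, cl', z, hne⟩ := nt_wlog_step T 4 (by norm_num) 2 (by norm_num) 2 (by decide) cl hc
    apply goal_relabel T τ
    refine ex_248 (ntRelabel T τ) (hG.relabel τ) ?_ ?_ ?_ ?_ ?_ ?_ ?_ ?_ ?_ ?_ ?_ ?_ ?_ cl' z hne
    · intro j
      show T.m (τ j) ≤ T.m (τ 0)
      rw [hfix 0 (by decide)]
      exact hmax _
    · show T.picMatrix (τ 0) (τ 1) = 2
      rw [hfix 0 (by decide), hfix 1 (by decide)]
      exact e_0_1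
    · show T.picMatrix (τ 0) (τ 2) = 0
      rw [hfix 0 (by decide), hfix 2 (by decide)]
      exact e_0_2
    · show T.picMatrix (τ 0) (τ 3) = 0
      rw [hfix 0 (by decide), hfix 3 (by decide)]
      exact e_0_3
    · show T.picMatrix (τ 1) (τ 0) = 1
      rw [hfix 1 (by decide), hfix 0 (by decide)]
      exact e_1_0
    · show T.picMatrix (τ 1) (τ 2) = 1
      rw [hfix 1 (by decide), hfix 2 (by decide)]
      exact e_1_2
    · show T.picMatrix (τ 1) (τ 3) = 0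
      rw [hfix 1 (by decide), hfix 3 (by decide)]
      exact e_1_3
    · show T.picMatrix (τ 2) (τ 0) = 0
      rw [hfix 2 (by decide), hfix 0 (by decide)]
      exact e_2_0
    · show T.picMatrix (τ 2) (τ 1) = 1
      rw [hfix 2 (by decide), hfix 1 (by decide)]
      exact e_2_1
    · show T.picMatrix (τ 2) (τ 3) = 2
      rw [hfix 2 (by decide), hfix 3 (by decide)]
      exact e_2_3
    · show T.picMatrix (τ 3) (τ 0) = 0
      rw [hfix 3 (by decide), hfix 0 (by decide)]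
      exact e_3_0
    · show T.picMatrix (τ 3) (τ 1) = 0
      rw [hfix 3 (by decide), hfix 1 (by decide)]
      exact e_3_1
    · show T.picMatrix (τ 3) (τ 2) = 1
      rw [hfix 3 (by decide), hfix 2 (by decide)]
      exact e_3_2

theorem ex_230 (T : Models.NumericalType 5)
    (hG : NTGood T)
    (hmax : ∀ j, T.m j ≤ T.m 0)
    (e_0_1 : T.picMatrix 0 1 = 2)
    (e_0_2 : T.picMatrix 0 2 = 0)
    (e_1_0 : T.picMatrix 1 0 = 1)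
    (e_1_2 : T.picMatrix 1 2 = 1)
    (e_2_0 : T.picMatrix 2 0 = 0)
    (e_2_1 : T.picMatrix 2 1 = 1)
    (cl : ∀ a b : Fin 5, a.val < 2 → 4 ≤ b.val → T.picMatrix a b = 0)
    (z : ∀ a : Fin 5, a.val < 2 → T.picMatrix a 3 = 0)
    (hne : T.picMatrix 2 3 ≠ 0) :
    Goal T := by
  have e_0_3 : T.picMatrix 0 3 = 0 := z 0 (by decide)
  have e_3_0 : T.picMatrix 3 0 = 0 := nt_pic_zero_symm T 0 3 e_0_3
  have e_1_3 : T.picMatrix 1 3 = 0 := z 1 (by decide)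
  have e_3_1 : T.picMatrix 3 1 = 0 := nt_pic_zero_symm T 1 3 e_1_3
  obtain ⟨hg0, hdA, hdP, hnn, hrow, hsym, hpair⟩ := ntgood_data T (by norm_num) hG
  have hm_0 := T.m_pos 0
  have hw_0 := T.w_pos 0
  have hm_1 := T.m_pos 1
  have hw_1 := T.w_pos 1
  have hm_2 := T.m_pos 2
  have hw_2 := T.w_pos 2
  have hm_3 := T.m_pos 3
  have hw_3 := T.w_pos 3
  have hx_1 := hmax 1
  have hx_2 := hmax 2
  have hx_3 := hmax 3
  have Z_0_4 := cl 0 4 (by decide) (by decide)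
  have Z_1_4 := cl 1 4 (by decide) (by decide)
  have N_2_4 := mul_nonneg (hnn 2 4 (by decide)) (T.m_pos 4).le
  have N_3_4 := mul_nonneg (hnn 3 4 (by decide)) (T.m_pos 4).le
  have N_2_3 := mul_nonneg (hnn 2 3 (by decide)) (T.m_pos 3).le
  have N_3_2 := mul_nonneg (hnn 3 2 (by decide)) (T.m_pos 2).le
  have R_0 := hrow 0
  rw [Fin.sum_univ_five, hdP 0, e_0_1, e_0_2, e_0_3, Z_0_4] at R_0
  have R_1 := hrow 1
  rw [Fin.sum_univ_five, hdP 1, e_1_0, e_1_2, e_1_3, Z_1_4] at R_1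
  have R_2 := hrow 2
  rw [Fin.sum_univ_five, hdP 2, e_2_0, e_2_1] at R_2
  have R_3 := hrow 3
  rw [Fin.sum_univ_five, hdP 3, e_3_0, e_3_1] at R_3
  have S_0_1 := hsym 0 1
  rw [e_0_1, e_1_0] at S_0_1
  have S_0_2 := hsym 0 2
  rw [e_0_2, e_2_0] at S_0_2
  have S_0_3 := hsym 0 3
  rw [e_0_3, e_3_0] at S_0_3
  have S_1_2 := hsym 1 2
  rw [e_1_2, e_2_1] at S_1_2
  have S_1_3 := hsym 1 3
  rw [e_1_3, e_3_1] at S_1_3
  have S_2_3 := hsym 2 3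
  have Q_2 := hpair 2 3 (by decide)
  generalize e_2_3 : T.picMatrix 2 3 = x_2 at *
  generalize e_3_2 : T.picMatrix 3 2 = y_2 at *
  rcases Q_2 with ⟨rfl, rfl⟩ | ⟨rfl, rfl⟩ | ⟨rfl, rfl⟩ | ⟨rfl, rfl⟩ | ⟨rfl, rfl⟩ | ⟨rfl, rfl⟩ | ⟨rfl, rfl⟩ | ⟨rfl, rfl⟩ | ⟨rfl, rfl⟩
  · exact absurd rfl hne
  · -- (2,3) = (1,1)
    exact nd_231 T hG hmax e_0_1 e_0_2 e_0_3 e_1_0 e_1_2 e_1_3 e_2_0 e_2_1 e_2_3 e_3_0 e_3_1 e_3_2 cl
  · -- (2,3) = (1,2)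
    exact nd_239 T hG hmax e_0_1 e_0_2 e_0_3 e_1_0 e_1_2 e_1_3 e_2_0 e_2_1 e_2_3 e_3_0 e_3_1 e_3_2 cl
  · -- (2,3) = (2,1)
    exact nd_244 T hG hmax e_0_1 e_0_2 e_0_3 e_1_0 e_1_2 e_1_3 e_2_0 e_2_1 e_2_3 e_3_0 e_3_1 e_3_2 cl
  · -- (2,3) = (1,3)
    omega
  · -- (2,3) = (3,1)
    omega
  · -- (2,3) = (1,4)
    omega
  · -- (2,3) = (4,1)
    omega
  · -- (2,3) = (2,2)
    omega

theorem nd_228 (T : Models.NumericalType 5)
    (hG : NTGood T)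
    (hmax : ∀ j, T.m j ≤ T.m 0)
    (e_0_1 : T.picMatrix 0 1 = 2)
    (e_0_2 : T.picMatrix 0 2 = 0)
    (e_1_0 : T.picMatrix 1 0 = 1)
    (e_1_2 : T.picMatrix 1 2 = 1)
    (e_2_0 : T.picMatrix 2 0 = 0)
    (e_2_1 : T.picMatrix 2 1 = 1)
    (cl : ∀ a b : Fin 5, a.val < 2 → 3 ≤ b.val → T.picMatrix a b = 0) :
    Goal T := by
  by_cases hc : ∀ b : Fin 5, 3 ≤ b.val → T.picMatrix 2 b = 0
  · exact nd_229 T hG hmax e_0_1 e_0_2 e_1_0 e_1_2 e_2_0 e_2_1 (nt_cl_succ T 3 2 2 rfl cl hc)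
  · obtain ⟨τ, hfix, cl', z, hne⟩ := nt_wlog_step T 3 (by norm_num) 2 (by norm_num) 2 (by decide) cl hc
    apply goal_relabel T τ
    refine ex_230 (ntRelabel T τ) (hG.relabel τ) ?_ ?_ ?_ ?_ ?_ ?_ ?_ cl' z hne
    · intro j
      show T.m (τ j) ≤ T.m (τ 0)
      rw [hfix 0 (by decide)]
      exact hmax _
    · show T.picMatrix (τ 0) (τ 1) = 2
      rw [hfix 0 (by decide), hfix 1 (by decide)]
      exact e_0_1
    · show T.picMatrix (τ 0) (τ 2) = 0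
      rw [hfix 0 (by decide), hfix 2 (by decide)]
      exact e_0_2
    · show T.picMatrix (τ 1) (τ 0) = 1
      rw [hfix 1 (by decide), hfix 0 (by decide)]
      exact e_1_0
    · show T.picMatrix (τ 1) (τ 2) = 1
      rw [hfix 1 (by decide), hfix 2 (by decide)]
      exact e_1_2
    · show T.picMatrix (τ 2) (τ 0) = 0
      rw [hfix 2 (by decide), hfix 0 (by decide)]
      exact e_2_0
    · show T.picMatrix (τ 2) (τ 1) = 1
      rw [hfix 2 (by decide), hfix 1 (by decide)]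
      exact e_2_1

theorem nd_253 (T : Models.NumericalType 5)
    (hG : NTGood T)
    (hmax : ∀ j, T.m j ≤ T.m 0)
    (e_0_1 : T.picMatrix 0 1 = 2)
    (e_0_2 : T.picMatrix 0 2 = 0)
    (e_0_3 : T.picMatrix 0 3 = 0)
    (e_1_0 : T.picMatrix 1 0 = 1)
    (e_1_2 : T.picMatrix 1 2 = 1)
    (e_1_3 : T.picMatrix 1 3 = 1)
    (e_2_0 : T.picMatrix 2 0 = 0)
    (e_2_1 : T.picMatrix 2 1 = 1)
    (e_2_3 : T.picMatrix 2 3 = 0)
    (e_3_0 : T.picMatrix 3 0 = 0)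
    (e_3_1 : T.picMatrix 3 1 = 1)
    (e_3_2 : T.picMatrix 3 2 = 0)
    (cl : ∀ a b : Fin 5, a.val < 4 → 4 ≤ b.val → T.picMatrix a b = 0) :
    Goal T := by
  exact (nt_closed_false T 4 (by norm_num) (by norm_num) cl).elim

theorem ex_254 (T : Models.NumericalType 5)
    (hG : NTGood T)
    (hmax : ∀ j, T.m j ≤ T.m 0)
    (e_0_1 : T.picMatrix 0 1 = 2)
    (e_0_2 : T.picMatrix 0 2 = 0)
    (e_0_3 : T.picMatrix 0 3 = 0)
    (e_1_0 : T.picMatrix 1 0 = 1)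
    (e_1_2 : T.picMatrix 1 2 = 1)
    (e_1_3 : T.picMatrix 1 3 = 1)
    (e_2_0 : T.picMatrix 2 0 = 0)
    (e_2_1 : T.picMatrix 2 1 = 1)
    (e_2_3 : T.picMatrix 2 3 = 0)
    (e_3_0 : T.picMatrix 3 0 = 0)
    (e_3_1 : T.picMatrix 3 1 = 1)
    (e_3_2 : T.picMatrix 3 2 = 0)
    (cl : ∀ a b : Fin 5, a.val < 3 → 5 ≤ b.val → T.picMatrix a b = 0)
    (z : ∀ a : Fin 5, a.val < 3 → T.picMatrix a 4 = 0)
    (hne : T.picMatrix 3 4 ≠ 0) :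
    Goal T := by
  have e_0_4 : T.picMatrix 0 4 = 0 := z 0 (by decide)
  have e_4_0 : T.picMatrix 4 0 = 0 := nt_pic_zero_symm T 0 4 e_0_4
  have e_1_4 : T.picMatrix 1 4 = 0 := z 1 (by decide)
  have e_4_1 : T.picMatrix 4 1 = 0 := nt_pic_zero_symm T 1 4 e_1_4
  have e_2_4 : T.picMatrix 2 4 = 0 := z 2 (by decide)
  have e_4_2 : T.picMatrix 4 2 = 0 := nt_pic_zero_symm T 2 4 e_2_4
  obtain ⟨hg0, hdA, hdP, hnn, hrow, hsym, hpair⟩ := ntgood_data T (by norm_num) hG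
  have hm_0 := T.m_pos 0
  have hw_0 := T.w_pos 0
  have hm_1 := T.m_pos 1
  have hw_1 := T.w_pos 1
  have hm_2 := T.m_pos 2
  have hw_2 := T.w_pos 2
  have hm_3 := T.m_pos 3
  have hw_3 := T.w_pos 3
  have hm_4 := T.m_pos 4
  have hw_4 := T.w_pos 4
  have hx_1 := hmax 1
  have hx_2 := hmax 2
  have hx_3 := hmax 3
  have hx_4 := hmax 4
  have N_3_4 := mul_nonneg (hnn 3 4 (by decide)) (T.m_pos 4).le
  have N_4_3 := mul_nonneg (hnn 4 3 (by decide)) (T.m_pos 3).le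
  have R_0 := hrow 0
  rw [Fin.sum_univ_five, hdP 0, e_0_1, e_0_2, e_0_3, e_0_4] at R_0
  have R_1 := hrow 1
  rw [Fin.sum_univ_five, hdP 1, e_1_0, e_1_2, e_1_3, e_1_4] at R_1
  have R_2 := hrow 2
  rw [Fin.sum_univ_five, hdP 2, e_2_0, e_2_1, e_2_3, e_2_4] at R_2
  have R_3 := hrow 3
  rw [Fin.sum_univ_five, hdP 3, e_3_0, e_3_1, e_3_2] at R_3
  have R_4 := hrow 4
  rw [Fin.sum_univ_five, hdP 4, e_4_0, e_4_1, e_4_2] at R_4
  have S_0_1 := hsym 0 1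
  rw [e_0_1, e_1_0] at S_0_1
  have S_0_2 := hsym 0 2
  rw [e_0_2, e_2_0] at S_0_2
  have S_0_3 := hsym 0 3
  rw [e_0_3, e_3_0] at S_0_3
  have S_0_4 := hsym 0 4
  rw [e_0_4, e_4_0] at S_0_4
  have S_1_2 := hsym 1 2
  rw [e_1_2, e_2_1] at S_1_2
  have S_1_3 := hsym 1 3
  rw [e_1_3, e_3_1] at S_1_3
  have S_1_4 := hsym 1 4
  rw [e_1_4, e_4_1] at S_1_4
  have S_2_3 := hsym 2 3
  rw [e_2_3, e_3_2] at S_2_3
  have S_2_4 := hsym 2 4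
  rw [e_2_4, e_4_2] at S_2_4
  have S_3_4 := hsym 3 4
  have Q_3 := hpair 3 4 (by decide)
  generalize e_3_4 : T.picMatrix 3 4 = x_3 at *
  generalize e_4_3 : T.picMatrix 4 3 = y_3 at *
  rcases Q_3 with ⟨rfl, rfl⟩ | ⟨rfl, rfl⟩ | ⟨rfl, rfl⟩ | ⟨rfl, rfl⟩ | ⟨rfl, rfl⟩ | ⟨rfl, rfl⟩ | ⟨rfl, rfl⟩ | ⟨rfl, rfl⟩ | ⟨rfl, rfl⟩
  · exact absurd rfl hne
  · -- (3,4) = (1,1)
    omega
  · -- (3,4) = (1,2)
    omega
  · -- (3,4) = (2,1)
    omega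
  · -- (3,4) = (1,3)
    omega
  · -- (3,4) = (3,1)
    omega
  · -- (3,4) = (1,4)
    omega
  · -- (3,4) = (4,1)
    omega
  · -- (3,4) = (2,2)
    omega

theorem nd_252 (T : Models.NumericalType 5)
    (hG : NTGood T)
    (hmax : ∀ j, T.m j ≤ T.m 0)
    (e_0_1 : T.picMatrix 0 1 = 2)
    (e_0_2 : T.picMatrix 0 2 = 0)
    (e_0_3 : T.picMatrix 0 3 = 0)
    (e_1_0 : T.picMatrix 1 0 = 1)
    (e_1_2 : T.picMatrix 1 2 = 1)
    (e_1_3 : T.picMatrix 1 3 = 1)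
    (e_2_0 : T.picMatrix 2 0 = 0)
    (e_2_1 : T.picMatrix 2 1 = 1)
    (e_2_3 : T.picMatrix 2 3 = 0)
    (e_3_0 : T.picMatrix 3 0 = 0)
    (e_3_1 : T.picMatrix 3 1 = 1)
    (e_3_2 : T.picMatrix 3 2 = 0)
    (cl : ∀ a b : Fin 5, a.val < 3 → 4 ≤ b.val → T.picMatrix a b = 0) :
    Goal T := by
  by_cases hc : ∀ b : Fin 5, 4 ≤ b.val → T.picMatrix 3 b = 0
  · exact nd_253 T hG hmax e_0_1 e_0_2 e_0_3 e_1_0 e_1_2 e_1_3 e_2_0 e_2_1 e_2_3 e_3_0 e_3_1 e_3_2 (nt_cl_succ T 4 3 3 rfl cl hc)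
  · obtain ⟨τ, hfix, cl', z, hne⟩ := nt_wlog_step T 4 (by norm_num) 3 (by norm_num) 3 (by decide) cl hc
    apply goal_relabel T τ
    refine ex_254 (ntRelabel T τ) (hG.relabel τ) ?_ ?_ ?_ ?_ ?_ ?_ ?_ ?_ ?_ ?_ ?_ ?_ ?_ cl' z hne
    · intro j
      show T.m (τ j) ≤ T.m (τ 0)
      rw [hfix 0 (by decide)]
      exact hmax _
    · show T.picMatrix (τ 0) (τ 1) = 2
      rw [hfix 0 (by decide), hfix 1 (by decide)]
      exact e_0_1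
    · show T.picMatrix (τ 0) (τ 2) = 0
      rw [hfix 0 (by decide), hfix 2 (by decide)]
      exact e_0_2
    · show T.picMatrix (τ 0) (τ 3) = 0
      rw [hfix 0 (by decide), hfix 3 (by decide)]
      exact e_0_3
    · show T.picMatrix (τ 1) (τ 0) = 1
      rw [hfix 1 (by decide), hfix 0 (by decide)]
      exact e_1_0
    · show T.picMatrix (τ 1) (τ 2) = 1
      rw [hfix 1 (by decide), hfix 2 (by decide)]
      exact e_1_2
    · show T.picMatrix (τ 1) (τ 3) = 1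
      rw [hfix 1 (by decide), hfix 3 (by decide)]
      exact e_1_3
    · show T.picMatrix (τ 2) (τ 0) = 0
      rw [hfix 2 (by decide), hfix 0 (by decide)]
      exact e_2_0
    · show T.picMatrix (τ 2) (τ 1) = 1
      rw [hfix 2 (by decide), hfix 1 (by decide)]
      exact e_2_1
    · show T.picMatrix (τ 2) (τ 3) = 0
      rw [hfix 2 (by decide), hfix 3 (by decide)]
      exact e_2_3
    · show T.picMatrix (τ 3) (τ 0) = 0
      rw [hfix 3 (by decide), hfix 0 (by decide)]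
      exact e_3_0
    · show T.picMatrix (τ 3) (τ 1) = 1
      rw [hfix 3 (by decide), hfix 1 (by decide)]
      exact e_3_1
    · show T.picMatrix (τ 3) (τ 2) = 0
      rw [hfix 3 (by decide), hfix 2 (by decide)]
      exact e_3_2

theorem ex_255 (T : Models.NumericalType 5)
    (hG : NTGood T)
    (hmax : ∀ j, T.m j ≤ T.m 0)
    (e_0_1 : T.picMatrix 0 1 = 2)
    (e_0_2 : T.picMatrix 0 2 = 0)
    (e_0_3 : T.picMatrix 0 3 = 0)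
    (e_1_0 : T.picMatrix 1 0 = 1)
    (e_1_2 : T.picMatrix 1 2 = 1)
    (e_1_3 : T.picMatrix 1 3 = 1)
    (e_2_0 : T.picMatrix 2 0 = 0)
    (e_2_1 : T.picMatrix 2 1 = 1)
    (e_2_3 : T.picMatrix 2 3 = 0)
    (e_3_0 : T.picMatrix 3 0 = 0)
    (e_3_1 : T.picMatrix 3 1 = 1)
    (e_3_2 : T.picMatrix 3 2 = 0)
    (cl : ∀ a b : Fin 5, a.val < 2 → 5 ≤ b.val → T.picMatrix a b = 0)
    (z : ∀ a : Fin 5, a.val < 2 → T.picMatrix a 4 = 0)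
    (hne : T.picMatrix 2 4 ≠ 0) :
    Goal T := by
  have e_0_4 : T.picMatrix 0 4 = 0 := z 0 (by decide)
  have e_4_0 : T.picMatrix 4 0 = 0 := nt_pic_zero_symm T 0 4 e_0_4
  have e_1_4 : T.picMatrix 1 4 = 0 := z 1 (by decide)
  have e_4_1 : T.picMatrix 4 1 = 0 := nt_pic_zero_symm T 1 4 e_1_4
  obtain ⟨hg0, hdA, hdP, hnn, hrow, hsym, hpair⟩ := ntgood_data T (by norm_num) hG
  have hm_0 := T.m_pos 0
  have hw_0 := T.w_pos 0
  have hm_1 := T.m_pos 1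
  have hw_1 := T.w_pos 1
  have hm_2 := T.m_pos 2
  have hw_2 := T.w_pos 2
  have hm_3 := T.m_pos 3
  have hw_3 := T.w_pos 3
  have hm_4 := T.m_pos 4
  have hw_4 := T.w_pos 4
  have hx_1 := hmax 1
  have hx_2 := hmax 2
  have hx_3 := hmax 3
  have hx_4 := hmax 4
  have N_2_4 := mul_nonneg (hnn 2 4 (by decide)) (T.m_pos 4).le
  have N_4_2 := mul_nonneg (hnn 4 2 (by decide)) (T.m_pos 2).le
  have N_3_4 := mul_nonneg (hnn 3 4 (by decide)) (T.m_pos 4).le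
  have N_4_3 := mul_nonneg (hnn 4 3 (by decide)) (T.m_pos 3).le
  have R_0 := hrow 0
  rw [Fin.sum_univ_five, hdP 0, e_0_1, e_0_2, e_0_3, e_0_4] at R_0
  have R_1 := hrow 1
  rw [Fin.sum_univ_five, hdP 1, e_1_0, e_1_2, e_1_3, e_1_4] at R_1
  have R_2 := hrow 2
  rw [Fin.sum_univ_five, hdP 2, e_2_0, e_2_1, e_2_3] at R_2
  have R_3 := hrow 3
  rw [Fin.sum_univ_five, hdP 3, e_3_0, e_3_1, e_3_2] at R_3
  have R_4 := hrow 4
  rw [Fin.sum_univ_five, hdP 4, e_4_0, e_4_1] at R_4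
  have S_0_1 := hsym 0 1
  rw [e_0_1, e_1_0] at S_0_1
  have S_0_2 := hsym 0 2
  rw [e_0_2, e_2_0] at S_0_2
  have S_0_3 := hsym 0 3
  rw [e_0_3, e_3_0] at S_0_3
  have S_0_4 := hsym 0 4
  rw [e_0_4, e_4_0] at S_0_4
  have S_1_2 := hsym 1 2
  rw [e_1_2, e_2_1] at S_1_2
  have S_1_3 := hsym 1 3
  rw [e_1_3, e_3_1] at S_1_3
  have S_1_4 := hsym 1 4
  rw [e_1_4, e_4_1] at S_1_4
  have S_2_3 := hsym 2 3
  rw [e_2_3, e_3_2] at S_2_3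
  have S_2_4 := hsym 2 4
  have S_3_4 := hsym 3 4
  have Q_2 := hpair 2 4 (by decide)
  have Q_3 := hpair 3 4 (by decide)
  generalize e_2_4 : T.picMatrix 2 4 = x_2 at *
  generalize e_4_2 : T.picMatrix 4 2 = y_2 at *
  generalize e_3_4 : T.picMatrix 3 4 = x_3 at *
  generalize e_4_3 : T.picMatrix 4 3 = y_3 at *
  rcases Q_2 with ⟨rfl, rfl⟩ | ⟨rfl, rfl⟩ | ⟨rfl, rfl⟩ | ⟨rfl, rfl⟩ | ⟨rfl, rfl⟩ | ⟨rfl, rfl⟩ | ⟨rfl, rfl⟩ | ⟨rfl, rfl⟩ | ⟨rfl, rfl⟩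
  · exact absurd rfl hne
  · omega
  · omega
  · omega
  · omega
  · omega
  · omega
  · omega
  · omega

theorem nd_251 (T : Models.NumericalType 5)
    (hG : NTGood T)
    (hmax : ∀ j, T.m j ≤ T.m 0)
    (e_0_1 : T.picMatrix 0 1 = 2)
    (e_0_2 : T.picMatrix 0 2 = 0)
    (e_0_3 : T.picMatrix 0 3 = 0)
    (e_1_0 : T.picMatrix 1 0 = 1)
    (e_1_2 : T.picMatrix 1 2 = 1)
    (e_1_3 : T.picMatrix 1 3 = 1)
    (e_2_0 : T.picMatrix 2 0 = 0)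
    (e_2_1 : T.picMatrix 2 1 = 1)
    (e_2_3 : T.picMatrix 2 3 = 0)
    (e_3_0 : T.picMatrix 3 0 = 0)
    (e_3_1 : T.picMatrix 3 1 = 1)
    (e_3_2 : T.picMatrix 3 2 = 0)
    (cl : ∀ a b : Fin 5, a.val < 2 → 4 ≤ b.val → T.picMatrix a b = 0) :
    Goal T := by
  by_cases hc : ∀ b : Fin 5, 4 ≤ b.val → T.picMatrix 2 b = 0
  · exact nd_252 T hG hmax e_0_1 e_0_2 e_0_3 e_1_0 e_1_2 e_1_3 e_2_0 e_2_1 e_2_3 e_3_0 e_3_1 e_3_2 (nt_cl_succ T 4 2 2 rfl cl hc)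
  · obtain ⟨τ, hfix, cl', z, hne⟩ := nt_wlog_step T 4 (by norm_num) 2 (by norm_num) 2 (by decide) cl hc
    apply goal_relabel T τ
    refine ex_255 (ntRelabel T τ) (hG.relabel τ) ?_ ?_ ?_ ?_ ?_ ?_ ?_ ?_ ?_ ?_ ?_ ?_ ?_ cl' z hne
    · intro j
      show T.m (τ j) ≤ T.m (τ 0)
      rw [hfix 0 (by decide)]
      exact hmax _
    · show T.picMatrix (τ 0) (τ 1) = 2
      rw [hfix 0 (by decide), hfix 1 (by decide)]
      exact e_0_1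
    · show T.picMatrix (τ 0) (τ 2) = 0
      rw [hfix 0 (by decide), hfix 2 (by decide)]
      exact e_0_2
    · show T.picMatrix (τ 0) (τ 3) = 0
      rw [hfix 0 (by decide), hfix 3 (by decide)]
      exact e_0_3
    · show T.picMatrix (τ 1) (τ 0) = 1
      rw [hfix 1 (by decide), hfix 0 (by decide)]
      exact e_1_0
    · show T.picMatrix (τ 1) (τ 2) = 1
      rw [hfix 1 (by decide), hfix 2 (by decide)]
      exact e_1_2
    · show T.picMatrix (τ 1) (τ 3) = 1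
      rw [hfix 1 (by decide), hfix 3 (by decide)]
      exact e_1_3
    · show T.picMatrix (τ 2) (τ 0) = 0
      rw [hfix 2 (by decide), hfix 0 (by decide)]
      exact e_2_0
    · show T.picMatrix (τ 2) (τ 1) = 1
      rw [hfix 2 (by decide), hfix 1 (by decide)]
      exact e_2_1
    · show T.picMatrix (τ 2) (τ 3) = 0
      rw [hfix 2 (by decide), hfix 3 (by decide)]
      exact e_2_3
    · show T.picMatrix (τ 3) (τ 0) = 0
      rw [hfix 3 (by decide), hfix 0 (by decide)]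
      exact e_3_0
    · show T.picMatrix (τ 3) (τ 1) = 1
      rw [hfix 3 (by decide), hfix 1 (by decide)]
      exact e_3_1
    · show T.picMatrix (τ 3) (τ 2) = 0
      rw [hfix 3 (by decide), hfix 2 (by decide)]
      exact e_3_2

theorem ex_256 (T : Models.NumericalType 5)
    (hG : NTGood T)
    (hmax : ∀ j, T.m j ≤ T.m 0)
    (e_0_1 : T.picMatrix 0 1 = 2)
    (e_0_2 : T.picMatrix 0 2 = 0)
    (e_0_3 : T.picMatrix 0 3 = 0)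
    (e_1_0 : T.picMatrix 1 0 = 1)
    (e_1_2 : T.picMatrix 1 2 = 1)
    (e_1_3 : T.picMatrix 1 3 = 1)
    (e_2_0 : T.picMatrix 2 0 = 0)
    (e_2_1 : T.picMatrix 2 1 = 1)
    (e_2_3 : T.picMatrix 2 3 = 0)
    (e_3_0 : T.picMatrix 3 0 = 0)
    (e_3_1 : T.picMatrix 3 1 = 1)
    (e_3_2 : T.picMatrix 3 2 = 0)
    (cl : ∀ a b : Fin 5, a.val < 1 → 5 ≤ b.val → T.picMatrix a b = 0)
    (z : ∀ a : Fin 5, a.val < 1 → T.picMatrix a 4 = 0)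
    (hne : T.picMatrix 1 4 ≠ 0) :
    Goal T := by
  have e_0_4 : T.picMatrix 0 4 = 0 := z 0 (by decide)
  have e_4_0 : T.picMatrix 4 0 = 0 := nt_pic_zero_symm T 0 4 e_0_4
  obtain ⟨hg0, hdA, hdP, hnn, hrow, hsym, hpair⟩ := ntgood_data T (by norm_num) hG
  have hm_0 := T.m_pos 0
  have hw_0 := T.w_pos 0
  have hm_1 := T.m_pos 1
  have hw_1 := T.w_pos 1
  have hm_2 := T.m_pos 2
  have hw_2 := T.w_pos 2
  have hm_3 := T.m_pos 3
  have hw_3 := T.w_pos 3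
  have hm_4 := T.m_pos 4
  have hw_4 := T.w_pos 4
  have hx_1 := hmax 1
  have hx_2 := hmax 2
  have hx_3 := hmax 3
  have hx_4 := hmax 4
  have N_1_4 := mul_nonneg (hnn 1 4 (by decide)) (T.m_pos 4).le
  have N_4_1 := mul_nonneg (hnn 4 1 (by decide)) (T.m_pos 1).le
  have N_2_4 := mul_nonneg (hnn 2 4 (by decide)) (T.m_pos 4).le
  have N_4_2 := mul_nonneg (hnn 4 2 (by decide)) (T.m_pos 2).le
  have N_3_4 := mul_nonneg (hnn 3 4 (by decide)) (T.m_pos 4).le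
  have N_4_3 := mul_nonneg (hnn 4 3 (by decide)) (T.m_pos 3).le
  have R_0 := hrow 0
  rw [Fin.sum_univ_five, hdP 0, e_0_1, e_0_2, e_0_3, e_0_4] at R_0
  have R_1 := hrow 1
  rw [Fin.sum_univ_five, hdP 1, e_1_0, e_1_2, e_1_3] at R_1
  have R_2 := hrow 2
  rw [Fin.sum_univ_five, hdP 2, e_2_0, e_2_1, e_2_3] at R_2
  have R_3 := hrow 3
  rw [Fin.sum_univ_five, hdP 3, e_3_0, e_3_1, e_3_2] at R_3
  have R_4 := hrow 4
  rw [Fin.sum_univ_five, hdP 4, e_4_0] at R_4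
  have S_0_1 := hsym 0 1
  rw [e_0_1, e_1_0] at S_0_1
  have S_0_2 := hsym 0 2
  rw [e_0_2, e_2_0] at S_0_2
  have S_0_3 := hsym 0 3
  rw [e_0_3, e_3_0] at S_0_3
  have S_0_4 := hsym 0 4
  rw [e_0_4, e_4_0] at S_0_4
  have S_1_2 := hsym 1 2
  rw [e_1_2, e_2_1] at S_1_2
  have S_1_3 := hsym 1 3
  rw [e_1_3, e_3_1] at S_1_3
  have S_1_4 := hsym 1 4
  have S_2_3 := hsym 2 3
  rw [e_2_3, e_3_2] at S_2_3
  have S_2_4 := hsym 2 4
  have S_3_4 := hsym 3 4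
  have Q_1 := hpair 1 4 (by decide)
  have Q_2 := hpair 2 4 (by decide)
  have Q_3 := hpair 3 4 (by decide)
  generalize e_1_4 : T.picMatrix 1 4 = x_1 at *
  generalize e_4_1 : T.picMatrix 4 1 = y_1 at *
  generalize e_2_4 : T.picMatrix 2 4 = x_2 at *
  generalize e_4_2 : T.picMatrix 4 2 = y_2 at *
  generalize e_3_4 : T.picMatrix 3 4 = x_3 at *
  generalize e_4_3 : T.picMatrix 4 3 = y_3 at *
  rcases Q_1 with ⟨rfl, rfl⟩ | ⟨rfl, rfl⟩ | ⟨rfl, rfl⟩ | ⟨rfl, rfl⟩ | ⟨rfl, rfl⟩ | ⟨rfl, rfl⟩ | ⟨rfl, rfl⟩ | ⟨rfl, rfl⟩ | ⟨rfl, rfl⟩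
  · exact absurd rfl hne
  · omega
  · omega
  · omega
  · omega
  · omega
  · omega
  · omega
  · omega

theorem nd_250 (T : Models.NumericalType 5)
    (hG : NTGood T)
    (hmax : ∀ j, T.m j ≤ T.m 0)
    (e_0_1 : T.picMatrix 0 1 = 2)
    (e_0_2 : T.picMatrix 0 2 = 0)
    (e_0_3 : T.picMatrix 0 3 = 0)
    (e_1_0 : T.picMatrix 1 0 = 1)
    (e_1_2 : T.picMatrix 1 2 = 1)
    (e_1_3 : T.picMatrix 1 3 = 1)
    (e_2_0 : T.picMatrix 2 0 = 0)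
    (e_2_1 : T.picMatrix 2 1 = 1)
    (e_2_3 : T.picMatrix 2 3 = 0)
    (e_3_0 : T.picMatrix 3 0 = 0)
    (e_3_1 : T.picMatrix 3 1 = 1)
    (e_3_2 : T.picMatrix 3 2 = 0)
    (cl : ∀ a b : Fin 5, a.val < 1 → 4 ≤ b.val → T.picMatrix a b = 0) :
    Goal T := by
  by_cases hc : ∀ b : Fin 5, 4 ≤ b.val → T.picMatrix 1 b = 0
  · exact nd_251 T hG hmax e_0_1 e_0_2 e_0_3 e_1_0 e_1_2 e_1_3 e_2_0 e_2_1 e_2_3 e_3_0 e_3_1 e_3_2 (nt_cl_succ T 4 1 1 rfl cl hc)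
  · obtain ⟨τ, hfix, cl', z, hne⟩ := nt_wlog_step T 4 (by norm_num) 1 (by norm_num) 1 (by decide) cl hc
    apply goal_relabel T τ
    refine ex_256 (ntRelabel T τ) (hG.relabel τ) ?_ ?_ ?_ ?_ ?_ ?_ ?_ ?_ ?_ ?_ ?_ ?_ ?_ cl' z hne
    · intro j
      show T.m (τ j) ≤ T.m (τ 0)
      rw [hfix 0 (by decide)]
      exact hmax _
    · show T.picMatrix (τ 0) (τ 1) = 2
      rw [hfix 0 (by decide), hfix 1 (by decide)]
      exact e_0_1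
    · show T.picMatrix (τ 0) (τ 2) = 0
      rw [hfix 0 (by decide), hfix 2 (by decide)]
      exact e_0_2
    · show T.picMatrix (τ 0) (τ 3) = 0
      rw [hfix 0 (by decide), hfix 3 (by decide)]
      exact e_0_3
    · show T.picMatrix (τ 1) (τ 0) = 1
      rw [hfix 1 (by decide), hfix 0 (by decide)]
      exact e_1_0
    · show T.picMatrix (τ 1) (τ 2) = 1
      rw [hfix 1 (by decide), hfix 2 (by decide)]
      exact e_1_2
    · show T.picMatrix (τ 1) (τ 3) = 1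
      rw [hfix 1 (by decide), hfix 3 (by decide)]
      exact e_1_3
    · show T.picMatrix (τ 2) (τ 0) = 0
      rw [hfix 2 (by decide), hfix 0 (by decide)]
      exact e_2_0
    · show T.picMatrix (τ 2) (τ 1) = 1
      rw [hfix 2 (by decide), hfix 1 (by decide)]
      exact e_2_1
    · show T.picMatrix (τ 2) (τ 3) = 0
      rw [hfix 2 (by decide), hfix 3 (by decide)]
      exact e_2_3
    · show T.picMatrix (τ 3) (τ 0) = 0
      rw [hfix 3 (by decide), hfix 0 (by decide)]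
      exact e_3_0
    · show T.picMatrix (τ 3) (τ 1) = 1
      rw [hfix 3 (by decide), hfix 1 (by decide)]
      exact e_3_1
    · show T.picMatrix (τ 3) (τ 2) = 0
      rw [hfix 3 (by decide), hfix 2 (by decide)]
      exact e_3_2

theorem ex_249 (T : Models.NumericalType 5)
    (hG : NTGood T)
    (hmax : ∀ j, T.m j ≤ T.m 0)
    (e_0_1 : T.picMatrix 0 1 = 2)
    (e_0_2 : T.picMatrix 0 2 = 0)
    (e_1_0 : T.picMatrix 1 0 = 1)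
    (e_1_2 : T.picMatrix 1 2 = 1)
    (e_2_0 : T.picMatrix 2 0 = 0)
    (e_2_1 : T.picMatrix 2 1 = 1)
    (cl : ∀ a b : Fin 5, a.val < 1 → 4 ≤ b.val → T.picMatrix a b = 0)
    (z : ∀ a : Fin 5, a.val < 1 → T.picMatrix a 3 = 0)
    (hne : T.picMatrix 1 3 ≠ 0) :
    Goal T := by
  have e_0_3 : T.picMatrix 0 3 = 0 := z 0 (by decide)
  have e_3_0 : T.picMatrix 3 0 = 0 := nt_pic_zero_symm T 0 3 e_0_3
  obtain ⟨hg0, hdA, hdP, hnn, hrow, hsym, hpair⟩ := ntgood_data T (by norm_num) hG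
  have hm_0 := T.m_pos 0
  have hw_0 := T.w_pos 0
  have hm_1 := T.m_pos 1
  have hw_1 := T.w_pos 1
  have hm_2 := T.m_pos 2
  have hw_2 := T.w_pos 2
  have hm_3 := T.m_pos 3
  have hw_3 := T.w_pos 3
  have hx_1 := hmax 1
  have hx_2 := hmax 2
  have hx_3 := hmax 3
  have Z_0_4 := cl 0 4 (by decide) (by decide)
  have N_1_4 := mul_nonneg (hnn 1 4 (by decide)) (T.m_pos 4).le
  have N_2_4 := mul_nonneg (hnn 2 4 (by decide)) (T.m_pos 4).le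
  have N_3_4 := mul_nonneg (hnn 3 4 (by decide)) (T.m_pos 4).le
  have N_1_3 := mul_nonneg (hnn 1 3 (by decide)) (T.m_pos 3).le
  have N_3_1 := mul_nonneg (hnn 3 1 (by decide)) (T.m_pos 1).le
  have N_2_3 := mul_nonneg (hnn 2 3 (by decide)) (T.m_pos 3).le
  have N_3_2 := mul_nonneg (hnn 3 2 (by decide)) (T.m_pos 2).le
  have R_0 := hrow 0
  rw [Fin.sum_univ_five, hdP 0, e_0_1, e_0_2, e_0_3, Z_0_4] at R_0
  have R_1 := hrow 1
  rw [Fin.sum_univ_five, hdP 1, e_1_0, e_1_2] at R_1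
  have R_2 := hrow 2
  rw [Fin.sum_univ_five, hdP 2, e_2_0, e_2_1] at R_2
  have R_3 := hrow 3
  rw [Fin.sum_univ_five, hdP 3, e_3_0] at R_3
  have S_0_1 := hsym 0 1
  rw [e_0_1, e_1_0] at S_0_1
  have S_0_2 := hsym 0 2
  rw [e_0_2, e_2_0] at S_0_2
  have S_0_3 := hsym 0 3
  rw [e_0_3, e_3_0] at S_0_3
  have S_1_2 := hsym 1 2
  rw [e_1_2, e_2_1] at S_1_2
  have S_1_3 := hsym 1 3
  have S_2_3 := hsym 2 3
  have Q_1 := hpair 1 3 (by decide)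
  have Q_2 := hpair 2 3 (by decide)
  generalize e_1_3 : T.picMatrix 1 3 = x_1 at *
  generalize e_3_1 : T.picMatrix 3 1 = y_1 at *
  generalize e_2_3 : T.picMatrix 2 3 = x_2 at *
  generalize e_3_2 : T.picMatrix 3 2 = y_2 at *
  rcases Q_1 with ⟨rfl, rfl⟩ | ⟨rfl, rfl⟩ | ⟨rfl, rfl⟩ | ⟨rfl, rfl⟩ | ⟨rfl, rfl⟩ | ⟨rfl, rfl⟩ | ⟨rfl, rfl⟩ | ⟨rfl, rfl⟩ | ⟨rfl, rfl⟩
  · exact absurd rfl hne
  · -- (1,3) = (1,1)
    rcases Q_2 with ⟨rfl, rfl⟩ | ⟨rfl, rfl⟩ | ⟨rfl, rfl⟩ | ⟨rfl, rfl⟩ | ⟨rfl, rfl⟩ | ⟨rfl, rfl⟩ | ⟨rfl, rfl⟩ | ⟨rfl, rfl⟩ | ⟨rfl, rfl⟩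
    · -- (2,3) = (0,0)
      exact nd_250 T hG hmax e_0_1 e_0_2 e_0_3 e_1_0 e_1_2 e_1_3 e_2_0 e_2_1 e_2_3 e_3_0 e_3_1 e_3_2 cl
    · -- (2,3) = (1,1)
      omega
    · -- (2,3) = (1,2)
      omega
    · -- (2,3) = (2,1)
      omega
    · -- (2,3) = (1,3)
      omega
    · -- (2,3) = (3,1)
      omega
    · -- (2,3) = (1,4)
      omega
    · -- (2,3) = (4,1)
      omega
    · -- (2,3) = (2,2)
      omega
  · omega
  · omega
  · omega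
  · omega
  · omega
  · omega
  · omega

theorem nd_227 (T : Models.NumericalType 5)
    (hG : NTGood T)
    (hmax : ∀ j, T.m j ≤ T.m 0)
    (e_0_1 : T.picMatrix 0 1 = 2)
    (e_0_2 : T.picMatrix 0 2 = 0)
    (e_1_0 : T.picMatrix 1 0 = 1)
    (e_1_2 : T.picMatrix 1 2 = 1)
    (e_2_0 : T.picMatrix 2 0 = 0)
    (e_2_1 : T.picMatrix 2 1 = 1)
    (cl : ∀ a b : Fin 5, a.val < 1 → 3 ≤ b.val → T.picMatrix a b = 0) :
    Goal T := by
  by_cases hc : ∀ b : Fin 5, 3 ≤ b.val → T.picMatrix 1 b = 0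
  · exact nd_228 T hG hmax e_0_1 e_0_2 e_1_0 e_1_2 e_2_0 e_2_1 (nt_cl_succ T 3 1 1 rfl cl hc)
  · obtain ⟨τ, hfix, cl', z, hne⟩ := nt_wlog_step T 3 (by norm_num) 1 (by norm_num) 1 (by decide) cl hc
    apply goal_relabel T τ
    refine ex_249 (ntRelabel T τ) (hG.relabel τ) ?_ ?_ ?_ ?_ ?_ ?_ ?_ cl' z hne
    · intro j
      show T.m (τ j) ≤ T.m (τ 0)
      rw [hfix 0 (by decide)]
      exact hmax _
    · show T.picMatrix (τ 0) (τ 1) = 2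
      rw [hfix 0 (by decide), hfix 1 (by decide)]
      exact e_0_1
    · show T.picMatrix (τ 0) (τ 2) = 0
      rw [hfix 0 (by decide), hfix 2 (by decide)]
      exact e_0_2
    · show T.picMatrix (τ 1) (τ 0) = 1
      rw [hfix 1 (by decide), hfix 0 (by decide)]
      exact e_1_0
    · show T.picMatrix (τ 1) (τ 2) = 1
      rw [hfix 1 (by decide), hfix 2 (by decide)]
      exact e_1_2
    · show T.picMatrix (τ 2) (τ 0) = 0
      rw [hfix 2 (by decide), hfix 0 (by decide)]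
      exact e_2_0
    · show T.picMatrix (τ 2) (τ 1) = 1
      rw [hfix 2 (by decide), hfix 1 (by decide)]
      exact e_2_1

theorem nd_271 (T : Models.NumericalType 5)
    (hG : NTGood T)
    (hmax : ∀ j, T.m j ≤ T.m 0)
    (e_0_1 : T.picMatrix 0 1 = 2)
    (e_0_2 : T.picMatrix 0 2 = 1)
    (e_1_0 : T.picMatrix 1 0 = 1)
    (e_1_2 : T.picMatrix 1 2 = 0)
    (e_2_0 : T.picMatrix 2 0 = 1)
    (e_2_1 : T.picMatrix 2 1 = 0)
    (cl : ∀ a b : Fin 5, a.val < 3 → 3 ≤ b.val → T.picMatrix a b = 0) :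
    Goal T := by
  obtain ⟨hg0, hdA, hdP, hnn, hrow, hsym, hpair⟩ := ntgood_data T (by norm_num) hG
  have hm_0 := T.m_pos 0
  have hw_0 := T.w_pos 0
  have hm_1 := T.m_pos 1
  have hw_1 := T.w_pos 1
  have hm_2 := T.m_pos 2
  have hw_2 := T.w_pos 2
  have hx_1 := hmax 1
  have hx_2 := hmax 2
  have Z_0_3 := cl 0 3 (by decide) (by decide)
  have Z_0_4 := cl 0 4 (by decide) (by decide)
  have Z_1_3 := cl 1 3 (by decide) (by decide)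
  have Z_1_4 := cl 1 4 (by decide) (by decide)
  have Z_2_3 := cl 2 3 (by decide) (by decide)
  have Z_2_4 := cl 2 4 (by decide) (by decide)
  have R_0 := hrow 0
  rw [Fin.sum_univ_five, hdP 0, e_0_1, e_0_2, Z_0_3, Z_0_4] at R_0
  have R_1 := hrow 1
  rw [Fin.sum_univ_five, hdP 1, e_1_0, e_1_2, Z_1_3, Z_1_4] at R_1
  have R_2 := hrow 2
  rw [Fin.sum_univ_five, hdP 2, e_2_0, e_2_1, Z_2_3, Z_2_4] at R_2
  have S_0_1 := hsym 0 1
  rw [e_0_1, e_1_0] at S_0_1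
  have S_0_2 := hsym 0 2
  rw [e_0_2, e_2_0] at S_0_2
  have S_1_2 := hsym 1 2
  rw [e_1_2, e_2_1] at S_1_2
  exfalso
  omega

theorem nd_275 (T : Models.NumericalType 5)
    (hG : NTGood T)
    (hmax : ∀ j, T.m j ≤ T.m 0)
    (e_0_1 : T.picMatrix 0 1 = 2)
    (e_0_2 : T.picMatrix 0 2 = 1)
    (e_0_3 : T.picMatrix 0 3 = 0)
    (e_1_0 : T.picMatrix 1 0 = 1)
    (e_1_2 : T.picMatrix 1 2 = 0)
    (e_1_3 : T.picMatrix 1 3 = 0)
    (e_2_0 : T.picMatrix 2 0 = 1)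
    (e_2_1 : T.picMatrix 2 1 = 0)
    (e_2_3 : T.picMatrix 2 3 = 1)
    (e_3_0 : T.picMatrix 3 0 = 0)
    (e_3_1 : T.picMatrix 3 1 = 0)
    (e_3_2 : T.picMatrix 3 2 = 1)
    (cl : ∀ a b : Fin 5, a.val < 4 → 4 ≤ b.val → T.picMatrix a b = 0) :
    Goal T := by
  obtain ⟨hg0, hdA, hdP, hnn, hrow, hsym, hpair⟩ := ntgood_data T (by norm_num) hG
  have hm_0 := T.m_pos 0
  have hw_0 := T.w_pos 0
  have hm_1 := T.m_pos 1
  have hw_1 := T.w_pos 1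
  have hm_2 := T.m_pos 2
  have hw_2 := T.w_pos 2
  have hm_3 := T.m_pos 3
  have hw_3 := T.w_pos 3
  have hx_1 := hmax 1
  have hx_2 := hmax 2
  have hx_3 := hmax 3
  have Z_0_4 := cl 0 4 (by decide) (by decide)
  have Z_1_4 := cl 1 4 (by decide) (by decide)
  have Z_2_4 := cl 2 4 (by decide) (by decide)
  have Z_3_4 := cl 3 4 (by decide) (by decide)
  have R_0 := hrow 0
  rw [Fin.sum_univ_five, hdP 0, e_0_1, e_0_2, e_0_3, Z_0_4] at R_0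
  have R_1 := hrow 1
  rw [Fin.sum_univ_five, hdP 1, e_1_0, e_1_2, e_1_3, Z_1_4] at R_1
  have R_2 := hrow 2
  rw [Fin.sum_univ_five, hdP 2, e_2_0, e_2_1, e_2_3, Z_2_4] at R_2
  have R_3 := hrow 3
  rw [Fin.sum_univ_five, hdP 3, e_3_0, e_3_1, e_3_2, Z_3_4] at R_3
  have S_0_1 := hsym 0 1
  rw [e_0_1, e_1_0] at S_0_1
  have S_0_2 := hsym 0 2
  rw [e_0_2, e_2_0] at S_0_2
  have S_0_3 := hsym 0 3
  rw [e_0_3, e_3_0] at S_0_3
  have S_1_2 := hsym 1 2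
  rw [e_1_2, e_2_1] at S_1_2
  have S_1_3 := hsym 1 3
  rw [e_1_3, e_3_1] at S_1_3
  have S_2_3 := hsym 2 3
  rw [e_2_3, e_3_2] at S_2_3
  exfalso
  omega

theorem nd_277 (T : Models.NumericalType 5)
    (hG : NTGood T)
    (hmax : ∀ j, T.m j ≤ T.m 0)
    (e_0_1 : T.picMatrix 0 1 = 2)
    (e_0_2 : T.picMatrix 0 2 = 1)
    (e_0_3 : T.picMatrix 0 3 = 0)
    (e_0_4 : T.picMatrix 0 4 = 0)
    (e_1_0 : T.picMatrix 1 0 = 1)
    (e_1_2 : T.picMatrix 1 2 = 0)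
    (e_1_3 : T.picMatrix 1 3 = 0)
    (e_1_4 : T.picMatrix 1 4 = 0)
    (e_2_0 : T.picMatrix 2 0 = 1)
    (e_2_1 : T.picMatrix 2 1 = 0)
    (e_2_3 : T.picMatrix 2 3 = 1)
    (e_2_4 : T.picMatrix 2 4 = 0)
    (e_3_0 : T.picMatrix 3 0 = 0)
    (e_3_1 : T.picMatrix 3 1 = 0)
    (e_3_2 : T.picMatrix 3 2 = 1)
    (e_3_4 : T.picMatrix 3 4 = 1)
    (e_4_0 : T.picMatrix 4 0 = 0)
    (e_4_1 : T.picMatrix 4 1 = 0)
    (e_4_2 : T.picMatrix 4 2 = 0)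
    (e_4_3 : T.picMatrix 4 3 = 2)
    (cl : ∀ a b : Fin 5, a.val < 3 → 5 ≤ b.val → T.picMatrix a b = 0) :
    Goal T := by
  obtain ⟨hg0, hdA, hdP, hnn, hrow, hsym, hpair⟩ := ntgood_data T (by norm_num) hG
  have hm_0 := T.m_pos 0
  have hw_0 := T.w_pos 0
  have hm_1 := T.m_pos 1
  have hw_1 := T.w_pos 1
  have hm_2 := T.m_pos 2
  have hw_2 := T.w_pos 2
  have hm_3 := T.m_pos 3
  have hw_3 := T.w_pos 3
  have hm_4 := T.m_pos 4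
  have hw_4 := T.w_pos 4
  have hx_1 := hmax 1
  have hx_2 := hmax 2
  have hx_3 := hmax 3
  have hx_4 := hmax 4
  have R_0 := hrow 0
  rw [Fin.sum_univ_five, hdP 0, e_0_1, e_0_2, e_0_3, e_0_4] at R_0
  have R_1 := hrow 1
  rw [Fin.sum_univ_five, hdP 1, e_1_0, e_1_2, e_1_3, e_1_4] at R_1
  have R_2 := hrow 2
  rw [Fin.sum_univ_five, hdP 2, e_2_0, e_2_1, e_2_3, e_2_4] at R_2
  have R_3 := hrow 3
  rw [Fin.sum_univ_five, hdP 3, e_3_0, e_3_1, e_3_2, e_3_4] at R_3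
  have R_4 := hrow 4
  rw [Fin.sum_univ_five, hdP 4, e_4_0, e_4_1, e_4_2, e_4_3] at R_4
  have S_0_1 := hsym 0 1
  rw [e_0_1, e_1_0] at S_0_1
  have S_0_2 := hsym 0 2
  rw [e_0_2, e_2_0] at S_0_2
  have S_0_3 := hsym 0 3
  rw [e_0_3, e_3_0] at S_0_3
  have S_0_4 := hsym 0 4
  rw [e_0_4, e_4_0] at S_0_4
  have S_1_2 := hsym 1 2
  rw [e_1_2, e_2_1] at S_1_2
  have S_1_3 := hsym 1 3
  rw [e_1_3, e_3_1] at S_1_3
  have S_1_4 := hsym 1 4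
  rw [e_1_4, e_4_1] at S_1_4
  have S_2_3 := hsym 2 3
  rw [e_2_3, e_3_2] at S_2_3
  have S_2_4 := hsym 2 4
  rw [e_2_4, e_4_2] at S_2_4
  have S_3_4 := hsym 3 4
  rw [e_3_4, e_4_3] at S_3_4
  have D_0 := hdA 0
  have A_0_1 := nt_a_eq T 0 1
  rw [e_0_1] at A_0_1
  have A_0_2 := nt_a_eq T 0 2
  rw [e_0_2] at A_0_2
  have A_0_3 := nt_a_eq T 0 3
  rw [e_0_3] at A_0_3
  have A_0_4 := nt_a_eq T 0 4
  rw [e_0_4] at A_0_4
  have D_1 := hdA 1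
  have A_1_0 := nt_a_eq T 1 0
  rw [e_1_0] at A_1_0
  have A_1_2 := nt_a_eq T 1 2
  rw [e_1_2] at A_1_2
  have A_1_3 := nt_a_eq T 1 3
  rw [e_1_3] at A_1_3
  have A_1_4 := nt_a_eq T 1 4
  rw [e_1_4] at A_1_4
  have D_2 := hdA 2
  have A_2_0 := nt_a_eq T 2 0
  rw [e_2_0] at A_2_0
  have A_2_1 := nt_a_eq T 2 1
  rw [e_2_1] at A_2_1
  have A_2_3 := nt_a_eq T 2 3
  rw [e_2_3] at A_2_3
  have A_2_4 := nt_a_eq T 2 4
  rw [e_2_4] at A_2_4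
  have D_3 := hdA 3
  have A_3_0 := nt_a_eq T 3 0
  rw [e_3_0] at A_3_0
  have A_3_1 := nt_a_eq T 3 1
  rw [e_3_1] at A_3_1
  have A_3_2 := nt_a_eq T 3 2
  rw [e_3_2] at A_3_2
  have A_3_4 := nt_a_eq T 3 4
  rw [e_3_4] at A_3_4
  have D_4 := hdA 4
  have A_4_0 := nt_a_eq T 4 0
  rw [e_4_0] at A_4_0
  have A_4_1 := nt_a_eq T 4 1
  rw [e_4_1] at A_4_1
  have A_4_2 := nt_a_eq T 4 2
  rw [e_4_2] at A_4_2
  have A_4_3 := nt_a_eq T 4 3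
  rw [e_4_3] at A_4_3
  refine goal_of_indices T hg0 4 3 2 0 1 (by decide) (T.m 1) (T.w 4) ?_
  unfold Goali
  exact Or.inr (Or.inr (Or.inr (Or.inl ⟨by omega, by omega, by omega, by omega, by omega, by omega, by omega, by omega, by omega, by omega, by omega, by omega, by omega, by omega, by omega, by omega, by omega, by omega, by omega, by omega, by omega, by omega, by omega, by omega, by omega⟩)))

theorem nd_278 (T : Models.NumericalType 5)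
    (hG : NTGood T)
    (hmax : ∀ j, T.m j ≤ T.m 0)
    (e_0_1 : T.picMatrix 0 1 = 2)
    (e_0_2 : T.picMatrix 0 2 = 1)
    (e_0_3 : T.picMatrix 0 3 = 0)
    (e_0_4 : T.picMatrix 0 4 = 0)
    (e_1_0 : T.picMatrix 1 0 = 1)
    (e_1_2 : T.picMatrix 1 2 = 0)
    (e_1_3 : T.picMatrix 1 3 = 0)
    (e_1_4 : T.picMatrix 1 4 = 0)
    (e_2_0 : T.picMatrix 2 0 = 1)
    (e_2_1 : T.picMatrix 2 1 = 0)
    (e_2_3 : T.picMatrix 2 3 = 1)
    (e_2_4 : T.picMatrix 2 4 = 0)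
    (e_3_0 : T.picMatrix 3 0 = 0)
    (e_3_1 : T.picMatrix 3 1 = 0)
    (e_3_2 : T.picMatrix 3 2 = 1)
    (e_3_4 : T.picMatrix 3 4 = 2)
    (e_4_0 : T.picMatrix 4 0 = 0)
    (e_4_1 : T.picMatrix 4 1 = 0)
    (e_4_2 : T.picMatrix 4 2 = 0)
    (e_4_3 : T.picMatrix 4 3 = 1)
    (cl : ∀ a b : Fin 5, a.val < 3 → 5 ≤ b.val → T.picMatrix a b = 0) :
    Goal T := by
  obtain ⟨hg0, hdA, hdP, hnn, hrow, hsym, hpair⟩ := ntgood_data T (by norm_num) hG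
  have hm_0 := T.m_pos 0
  have hw_0 := T.w_pos 0
  have hm_1 := T.m_pos 1
  have hw_1 := T.w_pos 1
  have hm_2 := T.m_pos 2
  have hw_2 := T.w_pos 2
  have hm_3 := T.m_pos 3
  have hw_3 := T.w_pos 3
  have hm_4 := T.m_pos 4
  have hw_4 := T.w_pos 4
  have hx_1 := hmax 1
  have hx_2 := hmax 2
  have hx_3 := hmax 3
  have hx_4 := hmax 4
  have R_0 := hrow 0
  rw [Fin.sum_univ_five, hdP 0, e_0_1, e_0_2, e_0_3, e_0_4] at R_0
  have R_1 := hrow 1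
  rw [Fin.sum_univ_five, hdP 1, e_1_0, e_1_2, e_1_3, e_1_4] at R_1
  have R_2 := hrow 2
  rw [Fin.sum_univ_five, hdP 2, e_2_0, e_2_1, e_2_3, e_2_4] at R_2
  have R_3 := hrow 3
  rw [Fin.sum_univ_five, hdP 3, e_3_0, e_3_1, e_3_2, e_3_4] at R_3
  have R_4 := hrow 4
  rw [Fin.sum_univ_five, hdP 4, e_4_0, e_4_1, e_4_2, e_4_3] at R_4
  have S_0_1 := hsym 0 1
  rw [e_0_1, e_1_0] at S_0_1
  have S_0_2 := hsym 0 2
  rw [e_0_2, e_2_0] at S_0_2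
  have S_0_3 := hsym 0 3
  rw [e_0_3, e_3_0] at S_0_3
  have S_0_4 := hsym 0 4
  rw [e_0_4, e_4_0] at S_0_4
  have S_1_2 := hsym 1 2
  rw [e_1_2, e_2_1] at S_1_2
  have S_1_3 := hsym 1 3
  rw [e_1_3, e_3_1] at S_1_3
  have S_1_4 := hsym 1 4
  rw [e_1_4, e_4_1] at S_1_4
  have S_2_3 := hsym 2 3
  rw [e_2_3, e_3_2] at S_2_3
  have S_2_4 := hsym 2 4
  rw [e_2_4, e_4_2] at S_2_4
  have S_3_4 := hsym 3 4
  rw [e_3_4, e_4_3] at S_3_4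
  have D_0 := hdA 0
  have A_0_1 := nt_a_eq T 0 1
  rw [e_0_1] at A_0_1
  have A_0_2 := nt_a_eq T 0 2
  rw [e_0_2] at A_0_2
  have A_0_3 := nt_a_eq T 0 3
  rw [e_0_3] at A_0_3
  have A_0_4 := nt_a_eq T 0 4
  rw [e_0_4] at A_0_4
  have D_1 := hdA 1
  have A_1_0 := nt_a_eq T 1 0
  rw [e_1_0] at A_1_0
  have A_1_2 := nt_a_eq T 1 2
  rw [e_1_2] at A_1_2
  have A_1_3 := nt_a_eq T 1 3
  rw [e_1_3] at A_1_3
  have A_1_4 := nt_a_eq T 1 4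
  rw [e_1_4] at A_1_4
  have D_2 := hdA 2
  have A_2_0 := nt_a_eq T 2 0
  rw [e_2_0] at A_2_0
  have A_2_1 := nt_a_eq T 2 1
  rw [e_2_1] at A_2_1
  have A_2_3 := nt_a_eq T 2 3
  rw [e_2_3] at A_2_3
  have A_2_4 := nt_a_eq T 2 4
  rw [e_2_4] at A_2_4
  have D_3 := hdA 3
  have A_3_0 := nt_a_eq T 3 0
  rw [e_3_0] at A_3_0
  have A_3_1 := nt_a_eq T 3 1
  rw [e_3_1] at A_3_1
  have A_3_2 := nt_a_eq T 3 2
  rw [e_3_2] at A_3_2
  have A_3_4 := nt_a_eq T 3 4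
  rw [e_3_4] at A_3_4
  have D_4 := hdA 4
  have A_4_0 := nt_a_eq T 4 0
  rw [e_4_0] at A_4_0
  have A_4_1 := nt_a_eq T 4 1
  rw [e_4_1] at A_4_1
  have A_4_2 := nt_a_eq T 4 2
  rw [e_4_2] at A_4_2
  have A_4_3 := nt_a_eq T 4 3
  rw [e_4_3] at A_4_3
  refine goal_of_indices T hg0 1 0 2 3 4 (by decide) (T.m 1) (T.w 0) ?_
  unfold Goali
  exact Or.inr (Or.inr (Or.inr (Or.inr (Or.inr (Or.inl ⟨by omega, by omega, by omega, by omega, by omega, by omega, by omega, by omega, by omega, by omega, by omega, by omega, by omega, by omega, by omega, by omega, by omega, by omega, by omega, by omega, by omega, by omega, by omega, by omega, by omega⟩)))))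

theorem ex_276 (T : Models.NumericalType 5)
    (hG : NTGood T)
    (hmax : ∀ j, T.m j ≤ T.m 0)
    (e_0_1 : T.picMatrix 0 1 = 2)
    (e_0_2 : T.picMatrix 0 2 = 1)
    (e_0_3 : T.picMatrix 0 3 = 0)
    (e_1_0 : T.picMatrix 1 0 = 1)
    (e_1_2 : T.picMatrix 1 2 = 0)
    (e_1_3 : T.picMatrix 1 3 = 0)
    (e_2_0 : T.picMatrix 2 0 = 1)
    (e_2_1 : T.picMatrix 2 1 = 0)
    (e_2_3 : T.picMatrix 2 3 = 1)
    (e_3_0 : T.picMatrix 3 0 = 0)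
    (e_3_1 : T.picMatrix 3 1 = 0)
    (e_3_2 : T.picMatrix 3 2 = 1)
    (cl : ∀ a b : Fin 5, a.val < 3 → 5 ≤ b.val → T.picMatrix a b = 0)
    (z : ∀ a : Fin 5, a.val < 3 → T.picMatrix a 4 = 0)
    (hne : T.picMatrix 3 4 ≠ 0) :
    Goal T := by
  have e_0_4 : T.picMatrix 0 4 = 0 := z 0 (by decide)
  have e_4_0 : T.picMatrix 4 0 = 0 := nt_pic_zero_symm T 0 4 e_0_4
  have e_1_4 : T.picMatrix 1 4 = 0 := z 1 (by decide)
  have e_4_1 : T.picMatrix 4 1 = 0 := nt_pic_zero_symm T 1 4 e_1_4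
  have e_2_4 : T.picMatrix 2 4 = 0 := z 2 (by decide)
  have e_4_2 : T.picMatrix 4 2 = 0 := nt_pic_zero_symm T 2 4 e_2_4
  obtain ⟨hg0, hdA, hdP, hnn, hrow, hsym, hpair⟩ := ntgood_data T (by norm_num) hG
  have hm_0 := T.m_pos 0
  have hw_0 := T.w_pos 0
  have hm_1 := T.m_pos 1
  have hw_1 := T.w_pos 1
  have hm_2 := T.m_pos 2
  have hw_2 := T.w_pos 2
  have hm_3 := T.m_pos 3
  have hw_3 := T.w_pos 3
  have hm_4 := T.m_pos 4
  have hw_4 := T.w_pos 4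
  have hx_1 := hmax 1
  have hx_2 := hmax 2
  have hx_3 := hmax 3
  have hx_4 := hmax 4
  have N_3_4 := mul_nonneg (hnn 3 4 (by decide)) (T.m_pos 4).le
  have N_4_3 := mul_nonneg (hnn 4 3 (by decide)) (T.m_pos 3).le
  have R_0 := hrow 0
  rw [Fin.sum_univ_five, hdP 0, e_0_1, e_0_2, e_0_3, e_0_4] at R_0
  have R_1 := hrow 1
  rw [Fin.sum_univ_five, hdP 1, e_1_0, e_1_2, e_1_3, e_1_4] at R_1
  have R_2 := hrow 2
  rw [Fin.sum_univ_five, hdP 2, e_2_0, e_2_1, e_2_3, e_2_4] at R_2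
  have R_3 := hrow 3
  rw [Fin.sum_univ_five, hdP 3, e_3_0, e_3_1, e_3_2] at R_3
  have R_4 := hrow 4
  rw [Fin.sum_univ_five, hdP 4, e_4_0, e_4_1, e_4_2] at R_4
  have S_0_1 := hsym 0 1
  rw [e_0_1, e_1_0] at S_0_1
  have S_0_2 := hsym 0 2
  rw [e_0_2, e_2_0] at S_0_2
  have S_0_3 := hsym 0 3
  rw [e_0_3, e_3_0] at S_0_3
  have S_0_4 := hsym 0 4
  rw [e_0_4, e_4_0] at S_0_4
  have S_1_2 := hsym 1 2
  rw [e_1_2, e_2_1] at S_1_2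
  have S_1_3 := hsym 1 3
  rw [e_1_3, e_3_1] at S_1_3
  have S_1_4 := hsym 1 4
  rw [e_1_4, e_4_1] at S_1_4
  have S_2_3 := hsym 2 3
  rw [e_2_3, e_3_2] at S_2_3
  have S_2_4 := hsym 2 4
  rw [e_2_4, e_4_2] at S_2_4
  have S_3_4 := hsym 3 4
  have Q_3 := hpair 3 4 (by decide)
  generalize e_3_4 : T.picMatrix 3 4 = x_3 at *
  generalize e_4_3 : T.picMatrix 4 3 = y_3 at *
  rcases Q_3 with ⟨rfl, rfl⟩ | ⟨rfl, rfl⟩ | ⟨rfl, rfl⟩ | ⟨rfl, rfl⟩ | ⟨rfl, rfl⟩ | ⟨rfl, rfl⟩ | ⟨rfl, rfl⟩ | ⟨rfl, rfl⟩ | ⟨rfl, rfl⟩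
  · exact absurd rfl hne
  · -- (3,4) = (1,1)
    omega
  · -- (3,4) = (1,2)
    exact nd_277 T hG hmax e_0_1 e_0_2 e_0_3 e_0_4 e_1_0 e_1_2 e_1_3 e_1_4 e_2_0 e_2_1 e_2_3 e_2_4 e_3_0 e_3_1 e_3_2 e_3_4 e_4_0 e_4_1 e_4_2 e_4_3 cl
  · -- (3,4) = (2,1)
    exact nd_278 T hG hmax e_0_1 e_0_2 e_0_3 e_0_4 e_1_0 e_1_2 e_1_3 e_1_4 e_2_0 e_2_1 e_2_3 e_2_4 e_3_0 e_3_1 e_3_2 e_3_4 e_4_0 e_4_1 e_4_2 e_4_3 cl
  · -- (3,4) = (1,3)
    omega
  · -- (3,4) = (3,1)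
    omega
  · -- (3,4) = (1,4)
    omega
  · -- (3,4) = (4,1)
    omega
  · -- (3,4) = (2,2)
    omega

theorem nd_274 (T : Models.NumericalType 5)
    (hG : NTGood T)
    (hmax : ∀ j, T.m j ≤ T.m 0)
    (e_0_1 : T.picMatrix 0 1 = 2)
    (e_0_2 : T.picMatrix 0 2 = 1)
    (e_0_3 : T.picMatrix 0 3 = 0)
    (e_1_0 : T.picMatrix 1 0 = 1)
    (e_1_2 : T.picMatrix 1 2 = 0)
    (e_1_3 : T.picMatrix 1 3 = 0)
    (e_2_0 : T.picMatrix 2 0 = 1)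
    (e_2_1 : T.picMatrix 2 1 = 0)
    (e_2_3 : T.picMatrix 2 3 = 1)
    (e_3_0 : T.picMatrix 3 0 = 0)
    (e_3_1 : T.picMatrix 3 1 = 0)
    (e_3_2 : T.picMatrix 3 2 = 1)
    (cl : ∀ a b : Fin 5, a.val < 3 → 4 ≤ b.val → T.picMatrix a b = 0) :
    Goal T := by
  by_cases hc : ∀ b : Fin 5, 4 ≤ b.val → T.picMatrix 3 b = 0
  · exact nd_275 T hG hmax e_0_1 e_0_2 e_0_3 e_1_0 e_1_2 e_1_3 e_2_0 e_2_1 e_2_3 e_3_0 e_3_1 e_3_2 (nt_cl_succ T 4 3 3 rfl cl hc)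
  · obtain ⟨τ, hfix, cl', z, hne⟩ := nt_wlog_step T 4 (by norm_num) 3 (by norm_num) 3 (by decide) cl hc
    apply goal_relabel T τ
    refine ex_276 (ntRelabel T τ) (hG.relabel τ) ?_ ?_ ?_ ?_ ?_ ?_ ?_ ?_ ?_ ?_ ?_ ?_ ?_ cl' z hne
    · intro j
      show T.m (τ j) ≤ T.m (τ 0)
      rw [hfix 0 (by decide)]
      exact hmax _
    · show T.picMatrix (τ 0) (τ 1) = 2
      rw [hfix 0 (by decide), hfix 1 (by decide)]
      exact e_0_1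
    · show T.picMatrix (τ 0) (τ 2) = 1
      rw [hfix 0 (by decide), hfix 2 (by decide)]
      exact e_0_2
    · show T.picMatrix (τ 0) (τ 3) = 0
      rw [hfix 0 (by decide), hfix 3 (by decide)]
      exact e_0_3
    · show T.picMatrix (τ 1) (τ 0) = 1
      rw [hfix 1 (by decide), hfix 0 (by decide)]
      exact e_1_0
    · show T.picMatrix (τ 1) (τ 2) = 0
      rw [hfix 1 (by decide), hfix 2 (by decide)]
      exact e_1_2
    · show T.picMatrix (τ 1) (τ 3) = 0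
      rw [hfix 1 (by decide), hfix 3 (by decide)]
      exact e_1_3
    · show T.picMatrix (τ 2) (τ 0) = 1
      rw [hfix 2 (by decide), hfix 0 (by decide)]
      exact e_2_0
    · show T.picMatrix (τ 2) (τ 1) = 0
      rw [hfix 2 (by decide), hfix 1 (by decide)]
      exact e_2_1
    · show T.picMatrix (τ 2) (τ 3) = 1
      rw [hfix 2 (by decide), hfix 3 (by decide)]
      exact e_2_3
    · show T.picMatrix (τ 3) (τ 0) = 0
      rw [hfix 3 (by decide), hfix 0 (by decide)]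
      exact e_3_0
    · show T.picMatrix (τ 3) (τ 1) = 0
      rw [hfix 3 (by decide), hfix 1 (by decide)]
      exact e_3_1
    · show T.picMatrix (τ 3) (τ 2) = 1
      rw [hfix 3 (by decide), hfix 2 (by decide)]
      exact e_3_2

theorem nd_280 (T : Models.NumericalType 5)
    (hG : NTGood T)
    (hmax : ∀ j, T.m j ≤ T.m 0)
    (e_0_1 : T.picMatrix 0 1 = 2)
    (e_0_2 : T.picMatrix 0 2 = 1)
    (e_0_3 : T.picMatrix 0 3 = 0)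
    (e_0_4 : T.picMatrix 0 4 = 0)
    (e_1_0 : T.picMatrix 1 0 = 1)
    (e_1_2 : T.picMatrix 1 2 = 0)
    (e_1_3 : T.picMatrix 1 3 = 0)
    (e_1_4 : T.picMatrix 1 4 = 0)
    (e_2_0 : T.picMatrix 2 0 = 1)
    (e_2_1 : T.picMatrix 2 1 = 0)
    (e_2_3 : T.picMatrix 2 3 = 1)
    (e_2_4 : T.picMatrix 2 4 = 1)
    (e_3_0 : T.picMatrix 3 0 = 0)
    (e_3_1 : T.picMatrix 3 1 = 0)
    (e_3_2 : T.picMatrix 3 2 = 1)
    (e_3_4 : T.picMatrix 3 4 = 0)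
    (e_4_0 : T.picMatrix 4 0 = 0)
    (e_4_1 : T.picMatrix 4 1 = 0)
    (e_4_2 : T.picMatrix 4 2 = 1)
    (e_4_3 : T.picMatrix 4 3 = 0)
    (cl : ∀ a b : Fin 5, a.val < 2 → 5 ≤ b.val → T.picMatrix a b = 0) :
    Goal T := by
  obtain ⟨hg0, hdA, hdP, hnn, hrow, hsym, hpair⟩ := ntgood_data T (by norm_num) hG
  have hm_0 := T.m_pos 0
  have hw_0 := T.w_pos 0
  have hm_1 := T.m_pos 1
  have hw_1 := T.w_pos 1
  have hm_2 := T.m_pos 2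
  have hw_2 := T.w_pos 2
  have hm_3 := T.m_pos 3
  have hw_3 := T.w_pos 3
  have hm_4 := T.m_pos 4
  have hw_4 := T.w_pos 4
  have hx_1 := hmax 1
  have hx_2 := hmax 2
  have hx_3 := hmax 3
  have hx_4 := hmax 4
  have R_0 := hrow 0
  rw [Fin.sum_univ_five, hdP 0, e_0_1, e_0_2, e_0_3, e_0_4] at R_0
  have R_1 := hrow 1
  rw [Fin.sum_univ_five, hdP 1, e_1_0, e_1_2, e_1_3, e_1_4] at R_1
  have R_2 := hrow 2
  rw [Fin.sum_univ_five, hdP 2, e_2_0, e_2_1, e_2_3, e_2_4] at R_2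
  have R_3 := hrow 3
  rw [Fin.sum_univ_five, hdP 3, e_3_0, e_3_1, e_3_2, e_3_4] at R_3
  have R_4 := hrow 4
  rw [Fin.sum_univ_five, hdP 4, e_4_0, e_4_1, e_4_2, e_4_3] at R_4
  have S_0_1 := hsym 0 1
  rw [e_0_1, e_1_0] at S_0_1
  have S_0_2 := hsym 0 2
  rw [e_0_2, e_2_0] at S_0_2
  have S_0_3 := hsym 0 3
  rw [e_0_3, e_3_0] at S_0_3
  have S_0_4 := hsym 0 4
  rw [e_0_4, e_4_0] at S_0_4
  have S_1_2 := hsym 1 2
  rw [e_1_2, e_2_1] at S_1_2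
  have S_1_3 := hsym 1 3
  rw [e_1_3, e_3_1] at S_1_3
  have S_1_4 := hsym 1 4
  rw [e_1_4, e_4_1] at S_1_4
  have S_2_3 := hsym 2 3
  rw [e_2_3, e_3_2] at S_2_3
  have S_2_4 := hsym 2 4
  rw [e_2_4, e_4_2] at S_2_4
  have S_3_4 := hsym 3 4
  rw [e_3_4, e_4_3] at S_3_4
  have D_0 := hdA 0
  have A_0_1 := nt_a_eq T 0 1
  rw [e_0_1] at A_0_1
  have A_0_2 := nt_a_eq T 0 2
  rw [e_0_2] at A_0_2
  have A_0_3 := nt_a_eq T 0 3
  rw [e_0_3] at A_0_3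
  have A_0_4 := nt_a_eq T 0 4
  rw [e_0_4] at A_0_4
  have D_1 := hdA 1
  have A_1_0 := nt_a_eq T 1 0
  rw [e_1_0] at A_1_0
  have A_1_2 := nt_a_eq T 1 2
  rw [e_1_2] at A_1_2
  have A_1_3 := nt_a_eq T 1 3
  rw [e_1_3] at A_1_3
  have A_1_4 := nt_a_eq T 1 4
  rw [e_1_4] at A_1_4
  have D_2 := hdA 2
  have A_2_0 := nt_a_eq T 2 0
  rw [e_2_0] at A_2_0
  have A_2_1 := nt_a_eq T 2 1
  rw [e_2_1] at A_2_1
  have A_2_3 := nt_a_eq T 2 3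
  rw [e_2_3] at A_2_3
  have A_2_4 := nt_a_eq T 2 4
  rw [e_2_4] at A_2_4
  have D_3 := hdA 3
  have A_3_0 := nt_a_eq T 3 0
  rw [e_3_0] at A_3_0
  have A_3_1 := nt_a_eq T 3 1
  rw [e_3_1] at A_3_1
  have A_3_2 := nt_a_eq T 3 2
  rw [e_3_2] at A_3_2
  have A_3_4 := nt_a_eq T 3 4
  rw [e_3_4] at A_3_4
  have D_4 := hdA 4
  have A_4_0 := nt_a_eq T 4 0
  rw [e_4_0] at A_4_0
  have A_4_1 := nt_a_eq T 4 1
  rw [e_4_1] at A_4_1
  have A_4_2 := nt_a_eq T 4 2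
  rw [e_4_2] at A_4_2
  have A_4_3 := nt_a_eq T 4 3
  rw [e_4_3] at A_4_3
  refine goal_of_indices T hg0 1 0 2 3 4 (by decide) (T.m 1) (T.w 0) ?_
  unfold Goali
  exact Or.inr (Or.inr (Or.inr (Or.inr (Or.inr (Or.inr (Or.inr (Or.inl ⟨by omega, by omega, by omega, by omega, by omega, by omega, by omega, by omega, by omega, by omega, by omega, by omega, by omega, by omega, by omega, by omega, by omega, by omega, by omega, by omega, by omega, by omega, by omega, by omega, by omega⟩)))))))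

theorem ex_279 (T : Models.NumericalType 5)
    (hG : NTGood T)
    (hmax : ∀ j, T.m j ≤ T.m 0)
    (e_0_1 : T.picMatrix 0 1 = 2)
    (e_0_2 : T.picMatrix 0 2 = 1)
    (e_0_3 : T.picMatrix 0 3 = 0)
    (e_1_0 : T.picMatrix 1 0 = 1)
    (e_1_2 : T.picMatrix 1 2 = 0)
    (e_1_3 : T.picMatrix 1 3 = 0)
    (e_2_0 : T.picMatrix 2 0 = 1)
    (e_2_1 : T.picMatrix 2 1 = 0)
    (e_2_3 : T.picMatrix 2 3 = 1)
    (e_3_0 : T.picMatrix 3 0 = 0)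
    (e_3_1 : T.picMatrix 3 1 = 0)
    (e_3_2 : T.picMatrix 3 2 = 1)
    (cl : ∀ a b : Fin 5, a.val < 2 → 5 ≤ b.val → T.picMatrix a b = 0)
    (z : ∀ a : Fin 5, a.val < 2 → T.picMatrix a 4 = 0)
    (hne : T.picMatrix 2 4 ≠ 0) :
    Goal T := by
  have e_0_4 : T.picMatrix 0 4 = 0 := z 0 (by decide)
  have e_4_0 : T.picMatrix 4 0 = 0 := nt_pic_zero_symm T 0 4 e_0_4
  have e_1_4 : T.picMatrix 1 4 = 0 := z 1 (by decide)
  have e_4_1 : T.picMatrix 4 1 = 0 := nt_pic_zero_symm T 1 4 e_1_4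
  obtain ⟨hg0, hdA, hdP, hnn, hrow, hsym, hpair⟩ := ntgood_data T (by norm_num) hG
  have hm_0 := T.m_pos 0
  have hw_0 := T.w_pos 0
  have hm_1 := T.m_pos 1
  have hw_1 := T.w_pos 1
  have hm_2 := T.m_pos 2
  have hw_2 := T.w_pos 2
  have hm_3 := T.m_pos 3
  have hw_3 := T.w_pos 3
  have hm_4 := T.m_pos 4
  have hw_4 := T.w_pos 4
  have hx_1 := hmax 1
  have hx_2 := hmax 2
  have hx_3 := hmax 3
  have hx_4 := hmax 4
  have N_2_4 := mul_nonneg (hnn 2 4 (by decide)) (T.m_pos 4).le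
  have N_4_2 := mul_nonneg (hnn 4 2 (by decide)) (T.m_pos 2).le
  have N_3_4 := mul_nonneg (hnn 3 4 (by decide)) (T.m_pos 4).le
  have N_4_3 := mul_nonneg (hnn 4 3 (by decide)) (T.m_pos 3).le
  have R_0 := hrow 0
  rw [Fin.sum_univ_five, hdP 0, e_0_1, e_0_2, e_0_3, e_0_4] at R_0
  have R_1 := hrow 1
  rw [Fin.sum_univ_five, hdP 1, e_1_0, e_1_2, e_1_3, e_1_4] at R_1
  have R_2 := hrow 2
  rw [Fin.sum_univ_five, hdP 2, e_2_0, e_2_1, e_2_3] at R_2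
  have R_3 := hrow 3
  rw [Fin.sum_univ_five, hdP 3, e_3_0, e_3_1, e_3_2] at R_3
  have R_4 := hrow 4
  rw [Fin.sum_univ_five, hdP 4, e_4_0, e_4_1] at R_4
  have S_0_1 := hsym 0 1
  rw [e_0_1, e_1_0] at S_0_1
  have S_0_2 := hsym 0 2
  rw [e_0_2, e_2_0] at S_0_2
  have S_0_3 := hsym 0 3
  rw [e_0_3, e_3_0] at S_0_3
  have S_0_4 := hsym 0 4
  rw [e_0_4, e_4_0] at S_0_4
  have S_1_2 := hsym 1 2
  rw [e_1_2, e_2_1] at S_1_2
  have S_1_3 := hsym 1 3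
  rw [e_1_3, e_3_1] at S_1_3
  have S_1_4 := hsym 1 4
  rw [e_1_4, e_4_1] at S_1_4
  have S_2_3 := hsym 2 3
  rw [e_2_3, e_3_2] at S_2_3
  have S_2_4 := hsym 2 4
  have S_3_4 := hsym 3 4
  have Q_2 := hpair 2 4 (by decide)
  have Q_3 := hpair 3 4 (by decide)
  generalize e_2_4 : T.picMatrix 2 4 = x_2 at *
  generalize e_4_2 : T.picMatrix 4 2 = y_2 at *
  generalize e_3_4 : T.picMatrix 3 4 = x_3 at *
  generalize e_4_3 : T.picMatrix 4 3 = y_3 at *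
  rcases Q_2 with ⟨rfl, rfl⟩ | ⟨rfl, rfl⟩ | ⟨rfl, rfl⟩ | ⟨rfl, rfl⟩ | ⟨rfl, rfl⟩ | ⟨rfl, rfl⟩ | ⟨rfl, rfl⟩ | ⟨rfl, rfl⟩ | ⟨rfl, rfl⟩
  · exact absurd rfl hne
  · -- (2,4) = (1,1)
    rcases Q_3 with ⟨rfl, rfl⟩ | ⟨rfl, rfl⟩ | ⟨rfl, rfl⟩ | ⟨rfl, rfl⟩ | ⟨rfl, rfl⟩ | ⟨rfl, rfl⟩ | ⟨rfl, rfl⟩ | ⟨rfl, rfl⟩ | ⟨rfl, rfl⟩
    · -- (3,4) = (0,0)
      exact nd_280 T hG hmax e_0_1 e_0_2 e_0_3 e_0_4 e_1_0 e_1_2 e_1_3 e_1_4 e_2_0 e_2_1 e_2_3 e_2_4 e_3_0 e_3_1 e_3_2 e_3_4 e_4_0 e_4_1 e_4_2 e_4_3 cl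
    · -- (3,4) = (1,1)
      omega
    · -- (3,4) = (1,2)
      omega
    · -- (3,4) = (2,1)
      omega
    · -- (3,4) = (1,3)
      omega
    · -- (3,4) = (3,1)
      omega
    · -- (3,4) = (1,4)
      omega
    · -- (3,4) = (4,1)
      omega
    · -- (3,4) = (2,2)
      omega
  · omega
  · omega
  · omega
  · omega
  · omega
  · omega
  · omega

theorem nd_273 (T : Models.NumericalType 5)
    (hG : NTGood T)
    (hmax : ∀ j, T.m j ≤ T.m 0)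
    (e_0_1 : T.picMatrix 0 1 = 2)
    (e_0_2 : T.picMatrix 0 2 = 1)
    (e_0_3 : T.picMatrix 0 3 = 0)
    (e_1_0 : T.picMatrix 1 0 = 1)
    (e_1_2 : T.picMatrix 1 2 = 0)
    (e_1_3 : T.picMatrix 1 3 = 0)
    (e_2_0 : T.picMatrix 2 0 = 1)
    (e_2_1 : T.picMatrix 2 1 = 0)
    (e_2_3 : T.picMatrix 2 3 = 1)
    (e_3_0 : T.picMatrix 3 0 = 0)
    (e_3_1 : T.picMatrix 3 1 = 0)
    (e_3_2 : T.picMatrix 3 2 = 1)
    (cl : ∀ a b : Fin 5, a.val < 2 → 4 ≤ b.val → T.picMatrix a b = 0) :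
    Goal T := by
  by_cases hc : ∀ b : Fin 5, 4 ≤ b.val → T.picMatrix 2 b = 0
  · exact nd_274 T hG hmax e_0_1 e_0_2 e_0_3 e_1_0 e_1_2 e_1_3 e_2_0 e_2_1 e_2_3 e_3_0 e_3_1 e_3_2 (nt_cl_succ T 4 2 2 rfl cl hc)
  · obtain ⟨τ, hfix, cl', z, hne⟩ := nt_wlog_step T 4 (by norm_num) 2 (by norm_num) 2 (by decide) cl hc
    apply goal_relabel T τ
    refine ex_279 (ntRelabel T τ) (hG.relabel τ) ?_ ?_ ?_ ?_ ?_ ?_ ?_ ?_ ?_ ?_ ?_ ?_ ?_ cl' z hne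
    · intro j
      show T.m (τ j) ≤ T.m (τ 0)
      rw [hfix 0 (by decide)]
      exact hmax _
    · show T.picMatrix (τ 0) (τ 1) = 2
      rw [hfix 0 (by decide), hfix 1 (by decide)]
      exact e_0_1
    · show T.picMatrix (τ 0) (τ 2) = 1
      rw [hfix 0 (by decide), hfix 2 (by decide)]
      exact e_0_2
    · show T.picMatrix (τ 0) (τ 3) = 0
      rw [hfix 0 (by decide), hfix 3 (by decide)]
      exact e_0_3
    · show T.picMatrix (τ 1) (τ 0) = 1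
      rw [hfix 1 (by decide), hfix 0 (by decide)]
      exact e_1_0
    · show T.picMatrix (τ 1) (τ 2) = 0
      rw [hfix 1 (by decide), hfix 2 (by decide)]
      exact e_1_2
    · show T.picMatrix (τ 1) (τ 3) = 0
      rw [hfix 1 (by decide), hfix 3 (by decide)]
      exact e_1_3
    · show T.picMatrix (τ 2) (τ 0) = 1
      rw [hfix 2 (by decide), hfix 0 (by decide)]
      exact e_2_0
    · show T.picMatrix (τ 2) (τ 1) = 0
      rw [hfix 2 (by decide), hfix 1 (by decide)]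
      exact e_2_1
    · show T.picMatrix (τ 2) (τ 3) = 1
      rw [hfix 2 (by decide), hfix 3 (by decide)]
      exact e_2_3
    · show T.picMatrix (τ 3) (τ 0) = 0
      rw [hfix 3 (by decide), hfix 0 (by decide)]
      exact e_3_0
    · show T.picMatrix (τ 3) (τ 1) = 0
      rw [hfix 3 (by decide), hfix 1 (by decide)]
      exact e_3_1
    · show T.picMatrix (τ 3) (τ 2) = 1
      rw [hfix 3 (by decide), hfix 2 (by decide)]
      exact e_3_2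

theorem nd_283 (T : Models.NumericalType 5)
    (hG : NTGood T)
    (hmax : ∀ j, T.m j ≤ T.m 0)
    (e_0_1 : T.picMatrix 0 1 = 2)
    (e_0_2 : T.picMatrix 0 2 = 1)
    (e_0_3 : T.picMatrix 0 3 = 0)
    (e_1_0 : T.picMatrix 1 0 = 1)
    (e_1_2 : T.picMatrix 1 2 = 0)
    (e_1_3 : T.picMatrix 1 3 = 0)
    (e_2_0 : T.picMatrix 2 0 = 1)
    (e_2_1 : T.picMatrix 2 1 = 0)
    (e_2_3 : T.picMatrix 2 3 = 1)
    (e_3_0 : T.picMatrix 3 0 = 0)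
    (e_3_1 : T.picMatrix 3 1 = 0)
    (e_3_2 : T.picMatrix 3 2 = 2)
    (cl : ∀ a b : Fin 5, a.val < 4 → 4 ≤ b.val → T.picMatrix a b = 0) :
    Goal T := by
  exact (nt_closed_false T 4 (by norm_num) (by norm_num) cl).elim

theorem ex_284 (T : Models.NumericalType 5)
    (hG : NTGood T)
    (hmax : ∀ j, T.m j ≤ T.m 0)
    (e_0_1 : T.picMatrix 0 1 = 2)
    (e_0_2 : T.picMatrix 0 2 = 1)
    (e_0_3 : T.picMatrix 0 3 = 0)
    (e_1_0 : T.picMatrix 1 0 = 1)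
    (e_1_2 : T.picMatrix 1 2 = 0)
    (e_1_3 : T.picMatrix 1 3 = 0)
    (e_2_0 : T.picMatrix 2 0 = 1)
    (e_2_1 : T.picMatrix 2 1 = 0)
    (e_2_3 : T.picMatrix 2 3 = 1)
    (e_3_0 : T.picMatrix 3 0 = 0)
    (e_3_1 : T.picMatrix 3 1 = 0)
    (e_3_2 : T.picMatrix 3 2 = 2)
    (cl : ∀ a b : Fin 5, a.val < 3 → 5 ≤ b.val → T.picMatrix a b = 0)
    (z : ∀ a : Fin 5, a.val < 3 → T.picMatrix a 4 = 0)
    (hne : T.picMatrix 3 4 ≠ 0) :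
    Goal T := by
  have e_0_4 : T.picMatrix 0 4 = 0 := z 0 (by decide)
  have e_4_0 : T.picMatrix 4 0 = 0 := nt_pic_zero_symm T 0 4 e_0_4
  have e_1_4 : T.picMatrix 1 4 = 0 := z 1 (by decide)
  have e_4_1 : T.picMatrix 4 1 = 0 := nt_pic_zero_symm T 1 4 e_1_4
  have e_2_4 : T.picMatrix 2 4 = 0 := z 2 (by decide)
  have e_4_2 : T.picMatrix 4 2 = 0 := nt_pic_zero_symm T 2 4 e_2_4
  obtain ⟨hg0, hdA, hdP, hnn, hrow, hsym, hpair⟩ := ntgood_data T (by norm_num) hG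
  have hm_0 := T.m_pos 0
  have hw_0 := T.w_pos 0
  have hm_1 := T.m_pos 1
  have hw_1 := T.w_pos 1
  have hm_2 := T.m_pos 2
  have hw_2 := T.w_pos 2
  have hm_3 := T.m_pos 3
  have hw_3 := T.w_pos 3
  have hm_4 := T.m_pos 4
  have hw_4 := T.w_pos 4
  have hx_1 := hmax 1
  have hx_2 := hmax 2
  have hx_3 := hmax 3
  have hx_4 := hmax 4
  have N_3_4 := mul_nonneg (hnn 3 4 (by decide)) (T.m_pos 4).le
  have N_4_3 := mul_nonneg (hnn 4 3 (by decide)) (T.m_pos 3).le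
  have R_0 := hrow 0
  rw [Fin.sum_univ_five, hdP 0, e_0_1, e_0_2, e_0_3, e_0_4] at R_0
  have R_1 := hrow 1
  rw [Fin.sum_univ_five, hdP 1, e_1_0, e_1_2, e_1_3, e_1_4] at R_1
  have R_2 := hrow 2
  rw [Fin.sum_univ_five, hdP 2, e_2_0, e_2_1, e_2_3, e_2_4] at R_2
  have R_3 := hrow 3
  rw [Fin.sum_univ_five, hdP 3, e_3_0, e_3_1, e_3_2] at R_3
  have R_4 := hrow 4
  rw [Fin.sum_univ_five, hdP 4, e_4_0, e_4_1, e_4_2] at R_4
  have S_0_1 := hsym 0 1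
  rw [e_0_1, e_1_0] at S_0_1
  have S_0_2 := hsym 0 2
  rw [e_0_2, e_2_0] at S_0_2
  have S_0_3 := hsym 0 3
  rw [e_0_3, e_3_0] at S_0_3
  have S_0_4 := hsym 0 4
  rw [e_0_4, e_4_0] at S_0_4
  have S_1_2 := hsym 1 2
  rw [e_1_2, e_2_1] at S_1_2
  have S_1_3 := hsym 1 3
  rw [e_1_3, e_3_1] at S_1_3
  have S_1_4 := hsym 1 4
  rw [e_1_4, e_4_1] at S_1_4
  have S_2_3 := hsym 2 3
  rw [e_2_3, e_3_2] at S_2_3
  have S_2_4 := hsym 2 4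
  rw [e_2_4, e_4_2] at S_2_4
  have S_3_4 := hsym 3 4
  have Q_3 := hpair 3 4 (by decide)
  generalize e_3_4 : T.picMatrix 3 4 = x_3 at *
  generalize e_4_3 : T.picMatrix 4 3 = y_3 at *
  rcases Q_3 with ⟨rfl, rfl⟩ | ⟨rfl, rfl⟩ | ⟨rfl, rfl⟩ | ⟨rfl, rfl⟩ | ⟨rfl, rfl⟩ | ⟨rfl, rfl⟩ | ⟨rfl, rfl⟩ | ⟨rfl, rfl⟩ | ⟨rfl, rfl⟩
  · exact absurd rfl hne
  · -- (3,4) = (1,1)
    omega
  · -- (3,4) = (1,2)
    omega
  · -- (3,4) = (2,1)
    omega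
  · -- (3,4) = (1,3)
    omega
  · -- (3,4) = (3,1)
    omega
  · -- (3,4) = (1,4)
    omega
  · -- (3,4) = (4,1)
    omega
  · -- (3,4) = (2,2)
    omega

theorem nd_282 (T : Models.NumericalType 5)
    (hG : NTGood T)
    (hmax : ∀ j, T.m j ≤ T.m 0)
    (e_0_1 : T.picMatrix 0 1 = 2)
    (e_0_2 : T.picMatrix 0 2 = 1)
    (e_0_3 : T.picMatrix 0 3 = 0)
    (e_1_0 : T.picMatrix 1 0 = 1)
    (e_1_2 : T.picMatrix 1 2 = 0)
    (e_1_3 : T.picMatrix 1 3 = 0)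
    (e_2_0 : T.picMatrix 2 0 = 1)
    (e_2_1 : T.picMatrix 2 1 = 0)
    (e_2_3 : T.picMatrix 2 3 = 1)
    (e_3_0 : T.picMatrix 3 0 = 0)
    (e_3_1 : T.picMatrix 3 1 = 0)
    (e_3_2 : T.picMatrix 3 2 = 2)
    (cl : ∀ a b : Fin 5, a.val < 3 → 4 ≤ b.val → T.picMatrix a b = 0) :
    Goal T := by
  by_cases hc : ∀ b : Fin 5, 4 ≤ b.val → T.picMatrix 3 b = 0
  · exact nd_283 T hG hmax e_0_1 e_0_2 e_0_3 e_1_0 e_1_2 e_1_3 e_2_0 e_2_1 e_2_3 e_3_0 e_3_1 e_3_2 (nt_cl_succ T 4 3 3 rfl cl hc)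
  · obtain ⟨τ, hfix, cl', z, hne⟩ := nt_wlog_step T 4 (by norm_num) 3 (by norm_num) 3 (by decide) cl hc
    apply goal_relabel T τ
    refine ex_284 (ntRelabel T τ) (hG.relabel τ) ?_ ?_ ?_ ?_ ?_ ?_ ?_ ?_ ?_ ?_ ?_ ?_ ?_ cl' z hne
    · intro j
      show T.m (τ j) ≤ T.m (τ 0)
      rw [hfix 0 (by decide)]
      exact hmax _
    · show T.picMatrix (τ 0) (τ 1) = 2
      rw [hfix 0 (by decide), hfix 1 (by decide)]
      exact e_0_1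
    · show T.picMatrix (τ 0) (τ 2) = 1
      rw [hfix 0 (by decide), hfix 2 (by decide)]
      exact e_0_2
    · show T.picMatrix (τ 0) (τ 3) = 0
      rw [hfix 0 (by decide), hfix 3 (by decide)]
      exact e_0_3
    · show T.picMatrix (τ 1) (τ 0) = 1
      rw [hfix 1 (by decide), hfix 0 (by decide)]
      exact e_1_0
    · show T.picMatrix (τ 1) (τ 2) = 0
      rw [hfix 1 (by decide), hfix 2 (by decide)]
      exact e_1_2
    · show T.picMatrix (τ 1) (τ 3) = 0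
      rw [hfix 1 (by decide), hfix 3 (by decide)]
      exact e_1_3
    · show T.picMatrix (τ 2) (τ 0) = 1
      rw [hfix 2 (by decide), hfix 0 (by decide)]
      exact e_2_0
    · show T.picMatrix (τ 2) (τ 1) = 0
      rw [hfix 2 (by decide), hfix 1 (by decide)]
      exact e_2_1
    · show T.picMatrix (τ 2) (τ 3) = 1
      rw [hfix 2 (by decide), hfix 3 (by decide)]
      exact e_2_3
    · show T.picMatrix (τ 3) (τ 0) = 0
      rw [hfix 3 (by decide), hfix 0 (by decide)]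
      exact e_3_0
    · show T.picMatrix (τ 3) (τ 1) = 0
      rw [hfix 3 (by decide), hfix 1 (by decide)]
      exact e_3_1
    · show T.picMatrix (τ 3) (τ 2) = 2
      rw [hfix 3 (by decide), hfix 2 (by decide)]
      exact e_3_2

theorem ex_285 (T : Models.NumericalType 5)
    (hG : NTGood T)
    (hmax : ∀ j, T.m j ≤ T.m 0)
    (e_0_1 : T.picMatrix 0 1 = 2)
    (e_0_2 : T.picMatrix 0 2 = 1)
    (e_0_3 : T.picMatrix 0 3 = 0)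
    (e_1_0 : T.picMatrix 1 0 = 1)
    (e_1_2 : T.picMatrix 1 2 = 0)
    (e_1_3 : T.picMatrix 1 3 = 0)
    (e_2_0 : T.picMatrix 2 0 = 1)
    (e_2_1 : T.picMatrix 2 1 = 0)
    (e_2_3 : T.picMatrix 2 3 = 1)
    (e_3_0 : T.picMatrix 3 0 = 0)
    (e_3_1 : T.picMatrix 3 1 = 0)
    (e_3_2 : T.picMatrix 3 2 = 2)
    (cl : ∀ a b : Fin 5, a.val < 2 → 5 ≤ b.val → T.picMatrix a b = 0)
    (z : ∀ a : Fin 5, a.val < 2 → T.picMatrix a 4 = 0)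
    (hne : T.picMatrix 2 4 ≠ 0) :
    Goal T := by
  have e_0_4 : T.picMatrix 0 4 = 0 := z 0 (by decide)
  have e_4_0 : T.picMatrix 4 0 = 0 := nt_pic_zero_symm T 0 4 e_0_4
  have e_1_4 : T.picMatrix 1 4 = 0 := z 1 (by decide)
  have e_4_1 : T.picMatrix 4 1 = 0 := nt_pic_zero_symm T 1 4 e_1_4
  obtain ⟨hg0, hdA, hdP, hnn, hrow, hsym, hpair⟩ := ntgood_data T (by norm_num) hG
  have hm_0 := T.m_pos 0
  have hw_0 := T.w_pos 0
  have hm_1 := T.m_pos 1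
  have hw_1 := T.w_pos 1
  have hm_2 := T.m_pos 2
  have hw_2 := T.w_pos 2
  have hm_3 := T.m_pos 3
  have hw_3 := T.w_pos 3
  have hm_4 := T.m_pos 4
  have hw_4 := T.w_pos 4
  have hx_1 := hmax 1
  have hx_2 := hmax 2
  have hx_3 := hmax 3
  have hx_4 := hmax 4
  have N_2_4 := mul_nonneg (hnn 2 4 (by decide)) (T.m_pos 4).le
  have N_4_2 := mul_nonneg (hnn 4 2 (by decide)) (T.m_pos 2).le
  have N_3_4 := mul_nonneg (hnn 3 4 (by decide)) (T.m_pos 4).le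
  have N_4_3 := mul_nonneg (hnn 4 3 (by decide)) (T.m_pos 3).le
  have R_0 := hrow 0
  rw [Fin.sum_univ_five, hdP 0, e_0_1, e_0_2, e_0_3, e_0_4] at R_0
  have R_1 := hrow 1
  rw [Fin.sum_univ_five, hdP 1, e_1_0, e_1_2, e_1_3, e_1_4] at R_1
  have R_2 := hrow 2
  rw [Fin.sum_univ_five, hdP 2, e_2_0, e_2_1, e_2_3] at R_2
  have R_3 := hrow 3
  rw [Fin.sum_univ_five, hdP 3, e_3_0, e_3_1, e_3_2] at R_3
  have R_4 := hrow 4
  rw [Fin.sum_univ_five, hdP 4, e_4_0, e_4_1] at R_4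
  have S_0_1 := hsym 0 1
  rw [e_0_1, e_1_0] at S_0_1
  have S_0_2 := hsym 0 2
  rw [e_0_2, e_2_0] at S_0_2
  have S_0_3 := hsym 0 3
  rw [e_0_3, e_3_0] at S_0_3
  have S_0_4 := hsym 0 4
  rw [e_0_4, e_4_0] at S_0_4
  have S_1_2 := hsym 1 2
  rw [e_1_2, e_2_1] at S_1_2
  have S_1_3 := hsym 1 3
  rw [e_1_3, e_3_1] at S_1_3
  have S_1_4 := hsym 1 4
  rw [e_1_4, e_4_1] at S_1_4
  have S_2_3 := hsym 2 3
  rw [e_2_3, e_3_2] at S_2_3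
  have S_2_4 := hsym 2 4
  have S_3_4 := hsym 3 4
  have Q_2 := hpair 2 4 (by decide)
  have Q_3 := hpair 3 4 (by decide)
  generalize e_2_4 : T.picMatrix 2 4 = x_2 at *
  generalize e_4_2 : T.picMatrix 4 2 = y_2 at *
  generalize e_3_4 : T.picMatrix 3 4 = x_3 at *
  generalize e_4_3 : T.picMatrix 4 3 = y_3 at *
  rcases Q_2 with ⟨rfl, rfl⟩ | ⟨rfl, rfl⟩ | ⟨rfl, rfl⟩ | ⟨rfl, rfl⟩ | ⟨rfl, rfl⟩ | ⟨rfl, rfl⟩ | ⟨rfl, rfl⟩ | ⟨rfl, rfl⟩ | ⟨rfl, rfl⟩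
  · exact absurd rfl hne
  · omega
  · omega
  · omega
  · omega
  · omega
  · omega
  · omega
  · omega

theorem nd_281 (T : Models.NumericalType 5)
    (hG : NTGood T)
    (hmax : ∀ j, T.m j ≤ T.m 0)
    (e_0_1 : T.picMatrix 0 1 = 2)
    (e_0_2 : T.picMatrix 0 2 = 1)
    (e_0_3 : T.picMatrix 0 3 = 0)
    (e_1_0 : T.picMatrix 1 0 = 1)
    (e_1_2 : T.picMatrix 1 2 = 0)
    (e_1_3 : T.picMatrix 1 3 = 0)
    (e_2_0 : T.picMatrix 2 0 = 1)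
    (e_2_1 : T.picMatrix 2 1 = 0)
    (e_2_3 : T.picMatrix 2 3 = 1)
    (e_3_0 : T.picMatrix 3 0 = 0)
    (e_3_1 : T.picMatrix 3 1 = 0)
    (e_3_2 : T.picMatrix 3 2 = 2)
    (cl : ∀ a b : Fin 5, a.val < 2 → 4 ≤ b.val → T.picMatrix a b = 0) :
    Goal T := by
  by_cases hc : ∀ b : Fin 5, 4 ≤ b.val → T.picMatrix 2 b = 0
  · exact nd_282 T hG hmax e_0_1 e_0_2 e_0_3 e_1_0 e_1_2 e_1_3 e_2_0 e_2_1 e_2_3 e_3_0 e_3_1 e_3_2 (nt_cl_succ T 4 2 2 rfl cl hc)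
  · obtain ⟨τ, hfix, cl', z, hne⟩ := nt_wlog_step T 4 (by norm_num) 2 (by norm_num) 2 (by decide) cl hc
    apply goal_relabel T τ
    refine ex_285 (ntRelabel T τ) (hG.relabel τ) ?_ ?_ ?_ ?_ ?_ ?_ ?_ ?_ ?_ ?_ ?_ ?_ ?_ cl' z hne
    · intro j
      show T.m (τ j) ≤ T.m (τ 0)
      rw [hfix 0 (by decide)]
      exact hmax _
    · show T.picMatrix (τ 0) (τ 1) = 2
      rw [hfix 0 (by decide), hfix 1 (by decide)]
      exact e_0_1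
    · show T.picMatrix (τ 0) (τ 2) = 1
      rw [hfix 0 (by decide), hfix 2 (by decide)]
      exact e_0_2
    · show T.picMatrix (τ 0) (τ 3) = 0
      rw [hfix 0 (by decide), hfix 3 (by decide)]
      exact e_0_3
    · show T.picMatrix (τ 1) (τ 0) = 1
      rw [hfix 1 (by decide), hfix 0 (by decide)]
      exact e_1_0
    · show T.picMatrix (τ 1) (τ 2) = 0
      rw [hfix 1 (by decide), hfix 2 (by decide)]
      exact e_1_2
    · show T.picMatrix (τ 1) (τ 3) = 0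
      rw [hfix 1 (by decide), hfix 3 (by decide)]
      exact e_1_3
    · show T.picMatrix (τ 2) (τ 0) = 1
      rw [hfix 2 (by decide), hfix 0 (by decide)]
      exact e_2_0
    · show T.picMatrix (τ 2) (τ 1) = 0
      rw [hfix 2 (by decide), hfix 1 (by decide)]
      exact e_2_1
    · show T.picMatrix (τ 2) (τ 3) = 1
      rw [hfix 2 (by decide), hfix 3 (by decide)]
      exact e_2_3
    · show T.picMatrix (τ 3) (τ 0) = 0
      rw [hfix 3 (by decide), hfix 0 (by decide)]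
      exact e_3_0
    · show T.picMatrix (τ 3) (τ 1) = 0
      rw [hfix 3 (by decide), hfix 1 (by decide)]
      exact e_3_1
    · show T.picMatrix (τ 3) (τ 2) = 2
      rw [hfix 3 (by decide), hfix 2 (by decide)]
      exact e_3_2

theorem nd_288 (T : Models.NumericalType 5)
    (hG : NTGood T)
    (hmax : ∀ j, T.m j ≤ T.m 0)
    (e_0_1 : T.picMatrix 0 1 = 2)
    (e_0_2 : T.picMatrix 0 2 = 1)
    (e_0_3 : T.picMatrix 0 3 = 0)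
    (e_1_0 : T.picMatrix 1 0 = 1)
    (e_1_2 : T.picMatrix 1 2 = 0)
    (e_1_3 : T.picMatrix 1 3 = 0)
    (e_2_0 : T.picMatrix 2 0 = 1)
    (e_2_1 : T.picMatrix 2 1 = 0)
    (e_2_3 : T.picMatrix 2 3 = 2)
    (e_3_0 : T.picMatrix 3 0 = 0)
    (e_3_1 : T.picMatrix 3 1 = 0)
    (e_3_2 : T.picMatrix 3 2 = 1)
    (cl : ∀ a b : Fin 5, a.val < 4 → 4 ≤ b.val → T.picMatrix a b = 0) :
    Goal T := by
  exact (nt_closed_false T 4 (by norm_num) (by norm_num) cl).elim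

theorem ex_289 (T : Models.NumericalType 5)
    (hG : NTGood T)
    (hmax : ∀ j, T.m j ≤ T.m 0)
    (e_0_1 : T.picMatrix 0 1 = 2)
    (e_0_2 : T.picMatrix 0 2 = 1)
    (e_0_3 : T.picMatrix 0 3 = 0)
    (e_1_0 : T.picMatrix 1 0 = 1)
    (e_1_2 : T.picMatrix 1 2 = 0)
    (e_1_3 : T.picMatrix 1 3 = 0)
    (e_2_0 : T.picMatrix 2 0 = 1)
    (e_2_1 : T.picMatrix 2 1 = 0)
    (e_2_3 : T.picMatrix 2 3 = 2)
    (e_3_0 : T.picMatrix 3 0 = 0)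
    (e_3_1 : T.picMatrix 3 1 = 0)
    (e_3_2 : T.picMatrix 3 2 = 1)
    (cl : ∀ a b : Fin 5, a.val < 3 → 5 ≤ b.val → T.picMatrix a b = 0)
    (z : ∀ a : Fin 5, a.val < 3 → T.picMatrix a 4 = 0)
    (hne : T.picMatrix 3 4 ≠ 0) :
    Goal T := by
  have e_0_4 : T.picMatrix 0 4 = 0 := z 0 (by decide)
  have e_4_0 : T.picMatrix 4 0 = 0 := nt_pic_zero_symm T 0 4 e_0_4
  have e_1_4 : T.picMatrix 1 4 = 0 := z 1 (by decide)
  have e_4_1 : T.picMatrix 4 1 = 0 := nt_pic_zero_symm T 1 4 e_1_4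
  have e_2_4 : T.picMatrix 2 4 = 0 := z 2 (by decide)
  have e_4_2 : T.picMatrix 4 2 = 0 := nt_pic_zero_symm T 2 4 e_2_4
  obtain ⟨hg0, hdA, hdP, hnn, hrow, hsym, hpair⟩ := ntgood_data T (by norm_num) hG
  have hm_0 := T.m_pos 0
  have hw_0 := T.w_pos 0
  have hm_1 := T.m_pos 1
  have hw_1 := T.w_pos 1
  have hm_2 := T.m_pos 2
  have hw_2 := T.w_pos 2
  have hm_3 := T.m_pos 3
  have hw_3 := T.w_pos 3
  have hm_4 := T.m_pos 4
  have hw_4 := T.w_pos 4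
  have hx_1 := hmax 1
  have hx_2 := hmax 2
  have hx_3 := hmax 3
  have hx_4 := hmax 4
  have N_3_4 := mul_nonneg (hnn 3 4 (by decide)) (T.m_pos 4).le
  have N_4_3 := mul_nonneg (hnn 4 3 (by decide)) (T.m_pos 3).le
  have R_0 := hrow 0
  rw [Fin.sum_univ_five, hdP 0, e_0_1, e_0_2, e_0_3, e_0_4] at R_0
  have R_1 := hrow 1
  rw [Fin.sum_univ_five, hdP 1, e_1_0, e_1_2, e_1_3, e_1_4] at R_1
  have R_2 := hrow 2
  rw [Fin.sum_univ_five, hdP 2, e_2_0, e_2_1, e_2_3, e_2_4] at R_2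
  have R_3 := hrow 3
  rw [Fin.sum_univ_five, hdP 3, e_3_0, e_3_1, e_3_2] at R_3
  have R_4 := hrow 4
  rw [Fin.sum_univ_five, hdP 4, e_4_0, e_4_1, e_4_2] at R_4
  have S_0_1 := hsym 0 1
  rw [e_0_1, e_1_0] at S_0_1
  have S_0_2 := hsym 0 2
  rw [e_0_2, e_2_0] at S_0_2
  have S_0_3 := hsym 0 3
  rw [e_0_3, e_3_0] at S_0_3
  have S_0_4 := hsym 0 4
  rw [e_0_4, e_4_0] at S_0_4
  have S_1_2 := hsym 1 2
  rw [e_1_2, e_2_1] at S_1_2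
  have S_1_3 := hsym 1 3
  rw [e_1_3, e_3_1] at S_1_3
  have S_1_4 := hsym 1 4
  rw [e_1_4, e_4_1] at S_1_4
  have S_2_3 := hsym 2 3
  rw [e_2_3, e_3_2] at S_2_3
  have S_2_4 := hsym 2 4
  rw [e_2_4, e_4_2] at S_2_4
  have S_3_4 := hsym 3 4
  have Q_3 := hpair 3 4 (by decide)
  generalize e_3_4 : T.picMatrix 3 4 = x_3 at *
  generalize e_4_3 : T.picMatrix 4 3 = y_3 at *
  rcases Q_3 with ⟨rfl, rfl⟩ | ⟨rfl, rfl⟩ | ⟨rfl, rfl⟩ | ⟨rfl, rfl⟩ | ⟨rfl, rfl⟩ | ⟨rfl, rfl⟩ | ⟨rfl, rfl⟩ | ⟨rfl, rfl⟩ | ⟨rfl, rfl⟩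
  · exact absurd rfl hne
  · -- (3,4) = (1,1)
    omega
  · -- (3,4) = (1,2)
    omega
  · -- (3,4) = (2,1)
    omega
  · -- (3,4) = (1,3)
    omega
  · -- (3,4) = (3,1)
    omega
  · -- (3,4) = (1,4)
    omega
  · -- (3,4) = (4,1)
    omega
  · -- (3,4) = (2,2)
    omega

theorem nd_287 (T : Models.NumericalType 5)
    (hG : NTGood T)
    (hmax : ∀ j, T.m j ≤ T.m 0)
    (e_0_1 : T.picMatrix 0 1 = 2)
    (e_0_2 : T.picMatrix 0 2 = 1)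
    (e_0_3 : T.picMatrix 0 3 = 0)
    (e_1_0 : T.picMatrix 1 0 = 1)
    (e_1_2 : T.picMatrix 1 2 = 0)
    (e_1_3 : T.picMatrix 1 3 = 0)
    (e_2_0 : T.picMatrix 2 0 = 1)
    (e_2_1 : T.picMatrix 2 1 = 0)
    (e_2_3 : T.picMatrix 2 3 = 2)
    (e_3_0 : T.picMatrix 3 0 = 0)
    (e_3_1 : T.picMatrix 3 1 = 0)
    (e_3_2 : T.picMatrix 3 2 = 1)
    (cl : ∀ a b : Fin 5, a.val < 3 → 4 ≤ b.val → T.picMatrix a b = 0) :
    Goal T := by
  by_cases hc : ∀ b : Fin 5, 4 ≤ b.val → T.picMatrix 3 b = 0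
  · exact nd_288 T hG hmax e_0_1 e_0_2 e_0_3 e_1_0 e_1_2 e_1_3 e_2_0 e_2_1 e_2_3 e_3_0 e_3_1 e_3_2 (nt_cl_succ T 4 3 3 rfl cl hc)
  · obtain ⟨τ, hfix, cl', z, hne⟩ := nt_wlog_step T 4 (by norm_num) 3 (by norm_num) 3 (by decide) cl hc
    apply goal_relabel T τ
    refine ex_289 (ntRelabel T τ) (hG.relabel τ) ?_ ?_ ?_ ?_ ?_ ?_ ?_ ?_ ?_ ?_ ?_ ?_ ?_ cl' z hne
    · intro j
      show T.m (τ j) ≤ T.m (τ 0)
      rw [hfix 0 (by decide)]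
      exact hmax _
    · show T.picMatrix (τ 0) (τ 1) = 2
      rw [hfix 0 (by decide), hfix 1 (by decide)]
      exact e_0_1
    · show T.picMatrix (τ 0) (τ 2) = 1
      rw [hfix 0 (by decide), hfix 2 (by decide)]
      exact e_0_2
    · show T.picMatrix (τ 0) (τ 3) = 0
      rw [hfix 0 (by decide), hfix 3 (by decide)]
      exact e_0_3
    · show T.picMatrix (τ 1) (τ 0) = 1
      rw [hfix 1 (by decide), hfix 0 (by decide)]
      exact e_1_0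
    · show T.picMatrix (τ 1) (τ 2) = 0
      rw [hfix 1 (by decide), hfix 2 (by decide)]
      exact e_1_2
    · show T.picMatrix (τ 1) (τ 3) = 0
      rw [hfix 1 (by decide), hfix 3 (by decide)]
      exact e_1_3
    · show T.picMatrix (τ 2) (τ 0) = 1
      rw [hfix 2 (by decide), hfix 0 (by decide)]
      exact e_2_0
    · show T.picMatrix (τ 2) (τ 1) = 0
      rw [hfix 2 (by decide), hfix 1 (by decide)]
      exact e_2_1
    · show T.picMatrix (τ 2) (τ 3) = 2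
      rw [hfix 2 (by decide), hfix 3 (by decide)]
      exact e_2_3
    · show T.picMatrix (τ 3) (τ 0) = 0
      rw [hfix 3 (by decide), hfix 0 (by decide)]
      exact e_3_0
    · show T.picMatrix (τ 3) (τ 1) = 0
      rw [hfix 3 (by decide), hfix 1 (by decide)]
      exact e_3_1
    · show T.picMatrix (τ 3) (τ 2) = 1
      rw [hfix 3 (by decide), hfix 2 (by decide)]
      exact e_3_2

theorem ex_290 (T : Models.NumericalType 5)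
    (hG : NTGood T)
    (hmax : ∀ j, T.m j ≤ T.m 0)
    (e_0_1 : T.picMatrix 0 1 = 2)
    (e_0_2 : T.picMatrix 0 2 = 1)
    (e_0_3 : T.picMatrix 0 3 = 0)
    (e_1_0 : T.picMatrix 1 0 = 1)
    (e_1_2 : T.picMatrix 1 2 = 0)
    (e_1_3 : T.picMatrix 1 3 = 0)
    (e_2_0 : T.picMatrix 2 0 = 1)
    (e_2_1 : T.picMatrix 2 1 = 0)
    (e_2_3 : T.picMatrix 2 3 = 2)
    (e_3_0 : T.picMatrix 3 0 = 0)
    (e_3_1 : T.picMatrix 3 1 = 0)
    (e_3_2 : T.picMatrix 3 2 = 1)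
    (cl : ∀ a b : Fin 5, a.val < 2 → 5 ≤ b.val → T.picMatrix a b = 0)
    (z : ∀ a : Fin 5, a.val < 2 → T.picMatrix a 4 = 0)
    (hne : T.picMatrix 2 4 ≠ 0) :
    Goal T := by
  have e_0_4 : T.picMatrix 0 4 = 0 := z 0 (by decide)
  have e_4_0 : T.picMatrix 4 0 = 0 := nt_pic_zero_symm T 0 4 e_0_4
  have e_1_4 : T.picMatrix 1 4 = 0 := z 1 (by decide)
  have e_4_1 : T.picMatrix 4 1 = 0 := nt_pic_zero_symm T 1 4 e_1_4
  obtain ⟨hg0, hdA, hdP, hnn, hrow, hsym, hpair⟩ := ntgood_data T (by norm_num) hG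
  have hm_0 := T.m_pos 0
  have hw_0 := T.w_pos 0
  have hm_1 := T.m_pos 1
  have hw_1 := T.w_pos 1
  have hm_2 := T.m_pos 2
  have hw_2 := T.w_pos 2
  have hm_3 := T.m_pos 3
  have hw_3 := T.w_pos 3
  have hm_4 := T.m_pos 4
  have hw_4 := T.w_pos 4
  have hx_1 := hmax 1
  have hx_2 := hmax 2
  have hx_3 := hmax 3
  have hx_4 := hmax 4
  have N_2_4 := mul_nonneg (hnn 2 4 (by decide)) (T.m_pos 4).le
  have N_4_2 := mul_nonneg (hnn 4 2 (by decide)) (T.m_pos 2).le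
  have N_3_4 := mul_nonneg (hnn 3 4 (by decide)) (T.m_pos 4).le
  have N_4_3 := mul_nonneg (hnn 4 3 (by decide)) (T.m_pos 3).le
  have R_0 := hrow 0
  rw [Fin.sum_univ_five, hdP 0, e_0_1, e_0_2, e_0_3, e_0_4] at R_0
  have R_1 := hrow 1
  rw [Fin.sum_univ_five, hdP 1, e_1_0, e_1_2, e_1_3, e_1_4] at R_1
  have R_2 := hrow 2
  rw [Fin.sum_univ_five, hdP 2, e_2_0, e_2_1, e_2_3] at R_2
  have R_3 := hrow 3
  rw [Fin.sum_univ_five, hdP 3, e_3_0, e_3_1, e_3_2] at R_3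
  have R_4 := hrow 4
  rw [Fin.sum_univ_five, hdP 4, e_4_0, e_4_1] at R_4
  have S_0_1 := hsym 0 1
  rw [e_0_1, e_1_0] at S_0_1
  have S_0_2 := hsym 0 2
  rw [e_0_2, e_2_0] at S_0_2
  have S_0_3 := hsym 0 3
  rw [e_0_3, e_3_0] at S_0_3
  have S_0_4 := hsym 0 4
  rw [e_0_4, e_4_0] at S_0_4
  have S_1_2 := hsym 1 2
  rw [e_1_2, e_2_1] at S_1_2
  have S_1_3 := hsym 1 3
  rw [e_1_3, e_3_1] at S_1_3
  have S_1_4 := hsym 1 4
  rw [e_1_4, e_4_1] at S_1_4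
  have S_2_3 := hsym 2 3
  rw [e_2_3, e_3_2] at S_2_3
  have S_2_4 := hsym 2 4
  have S_3_4 := hsym 3 4
  have Q_2 := hpair 2 4 (by decide)
  have Q_3 := hpair 3 4 (by decide)
  generalize e_2_4 : T.picMatrix 2 4 = x_2 at *
  generalize e_4_2 : T.picMatrix 4 2 = y_2 at *
  generalize e_3_4 : T.picMatrix 3 4 = x_3 at *
  generalize e_4_3 : T.picMatrix 4 3 = y_3 at *
  rcases Q_2 with ⟨rfl, rfl⟩ | ⟨rfl, rfl⟩ | ⟨rfl, rfl⟩ | ⟨rfl, rfl⟩ | ⟨rfl, rfl⟩ | ⟨rfl, rfl⟩ | ⟨rfl, rfl⟩ | ⟨rfl, rfl⟩ | ⟨rfl, rfl⟩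
  · exact absurd rfl hne
  · omega
  · omega
  · omega
  · omega
  · omega
  · omega
  · omega
  · omega

theorem nd_286 (T : Models.NumericalType 5)
    (hG : NTGood T)
    (hmax : ∀ j, T.m j ≤ T.m 0)
    (e_0_1 : T.picMatrix 0 1 = 2)
    (e_0_2 : T.picMatrix 0 2 = 1)
    (e_0_3 : T.picMatrix 0 3 = 0)
    (e_1_0 : T.picMatrix 1 0 = 1)
    (e_1_2 : T.picMatrix 1 2 = 0)
    (e_1_3 : T.picMatrix 1 3 = 0)
    (e_2_0 : T.picMatrix 2 0 = 1)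
    (e_2_1 : T.picMatrix 2 1 = 0)
    (e_2_3 : T.picMatrix 2 3 = 2)
    (e_3_0 : T.picMatrix 3 0 = 0)
    (e_3_1 : T.picMatrix 3 1 = 0)
    (e_3_2 : T.picMatrix 3 2 = 1)
    (cl : ∀ a b : Fin 5, a.val < 2 → 4 ≤ b.val → T.picMatrix a b = 0) :
    Goal T := by
  by_cases hc : ∀ b : Fin 5, 4 ≤ b.val → T.picMatrix 2 b = 0
  · exact nd_287 T hG hmax e_0_1 e_0_2 e_0_3 e_1_0 e_1_2 e_1_3 e_2_0 e_2_1 e_2_3 e_3_0 e_3_1 e_3_2 (nt_cl_succ T 4 2 2 rfl cl hc)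
  · obtain ⟨τ, hfix, cl', z, hne⟩ := nt_wlog_step T 4 (by norm_num) 2 (by norm_num) 2 (by decide) cl hc
    apply goal_relabel T τ
    refine ex_290 (ntRelabel T τ) (hG.relabel τ) ?_ ?_ ?_ ?_ ?_ ?_ ?_ ?_ ?_ ?_ ?_ ?_ ?_ cl' z hne
    · intro j
      show T.m (τ j) ≤ T.m (τ 0)
      rw [hfix 0 (by decide)]
      exact hmax _
    · show T.picMatrix (τ 0) (τ 1) = 2
      rw [hfix 0 (by decide), hfix 1 (by decide)]
      exact e_0_1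
    · show T.picMatrix (τ 0) (τ 2) = 1
      rw [hfix 0 (by decide), hfix 2 (by decide)]
      exact e_0_2
    · show T.picMatrix (τ 0) (τ 3) = 0
      rw [hfix 0 (by decide), hfix 3 (by decide)]
      exact e_0_3
    · show T.picMatrix (τ 1) (τ 0) = 1
      rw [hfix 1 (by decide), hfix 0 (by decide)]
      exact e_1_0
    · show T.picMatrix (τ 1) (τ 2) = 0
      rw [hfix 1 (by decide), hfix 2 (by decide)]
      exact e_1_2
    · show T.picMatrix (τ 1) (τ 3) = 0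
      rw [hfix 1 (by decide), hfix 3 (by decide)]
      exact e_1_3
    · show T.picMatrix (τ 2) (τ 0) = 1
      rw [hfix 2 (by decide), hfix 0 (by decide)]
      exact e_2_0
    · show T.picMatrix (τ 2) (τ 1) = 0
      rw [hfix 2 (by decide), hfix 1 (by decide)]
      exact e_2_1
    · show T.picMatrix (τ 2) (τ 3) = 2
      rw [hfix 2 (by decide), hfix 3 (by decide)]
      exact e_2_3
    · show T.picMatrix (τ 3) (τ 0) = 0
      rw [hfix 3 (by decide), hfix 0 (by decide)]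
      exact e_3_0
    · show T.picMatrix (τ 3) (τ 1) = 0
      rw [hfix 3 (by decide), hfix 1 (by decide)]
      exact e_3_1
    · show T.picMatrix (τ 3) (τ 2) = 1
      rw [hfix 3 (by decide), hfix 2 (by decide)]
      exact e_3_2

theorem ex_272 (T : Models.NumericalType 5)
    (hG : NTGood T)
    (hmax : ∀ j, T.m j ≤ T.m 0)
    (e_0_1 : T.picMatrix 0 1 = 2)
    (e_0_2 : T.picMatrix 0 2 = 1)
    (e_1_0 : T.picMatrix 1 0 = 1)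
    (e_1_2 : T.picMatrix 1 2 = 0)
    (e_2_0 : T.picMatrix 2 0 = 1)
    (e_2_1 : T.picMatrix 2 1 = 0)
    (cl : ∀ a b : Fin 5, a.val < 2 → 4 ≤ b.val → T.picMatrix a b = 0)
    (z : ∀ a : Fin 5, a.val < 2 → T.picMatrix a 3 = 0)
    (hne : T.picMatrix 2 3 ≠ 0) :
    Goal T := by
  have e_0_3 : T.picMatrix 0 3 = 0 := z 0 (by decide)
  have e_3_0 : T.picMatrix 3 0 = 0 := nt_pic_zero_symm T 0 3 e_0_3
  have e_1_3 : T.picMatrix 1 3 = 0 := z 1 (by decide)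
  have e_3_1 : T.picMatrix 3 1 = 0 := nt_pic_zero_symm T 1 3 e_1_3
  obtain ⟨hg0, hdA, hdP, hnn, hrow, hsym, hpair⟩ := ntgood_data T (by norm_num) hG
  have hm_0 := T.m_pos 0
  have hw_0 := T.w_pos 0
  have hm_1 := T.m_pos 1
  have hw_1 := T.w_pos 1
  have hm_2 := T.m_pos 2
  have hw_2 := T.w_pos 2
  have hm_3 := T.m_pos 3
  have hw_3 := T.w_pos 3
  have hx_1 := hmax 1
  have hx_2 := hmax 2
  have hx_3 := hmax 3
  have Z_0_4 := cl 0 4 (by decide) (by decide)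
  have Z_1_4 := cl 1 4 (by decide) (by decide)
  have N_2_4 := mul_nonneg (hnn 2 4 (by decide)) (T.m_pos 4).le
  have N_3_4 := mul_nonneg (hnn 3 4 (by decide)) (T.m_pos 4).le
  have N_2_3 := mul_nonneg (hnn 2 3 (by decide)) (T.m_pos 3).le
  have N_3_2 := mul_nonneg (hnn 3 2 (by decide)) (T.m_pos 2).le
  have R_0 := hrow 0
  rw [Fin.sum_univ_five, hdP 0, e_0_1, e_0_2, e_0_3, Z_0_4] at R_0
  have R_1 := hrow 1
  rw [Fin.sum_univ_five, hdP 1, e_1_0, e_1_2, e_1_3, Z_1_4] at R_1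
  have R_2 := hrow 2
  rw [Fin.sum_univ_five, hdP 2, e_2_0, e_2_1] at R_2
  have R_3 := hrow 3
  rw [Fin.sum_univ_five, hdP 3, e_3_0, e_3_1] at R_3
  have S_0_1 := hsym 0 1
  rw [e_0_1, e_1_0] at S_0_1
  have S_0_2 := hsym 0 2
  rw [e_0_2, e_2_0] at S_0_2
  have S_0_3 := hsym 0 3
  rw [e_0_3, e_3_0] at S_0_3
  have S_1_2 := hsym 1 2
  rw [e_1_2, e_2_1] at S_1_2
  have S_1_3 := hsym 1 3
  rw [e_1_3, e_3_1] at S_1_3
  have S_2_3 := hsym 2 3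
  have Q_2 := hpair 2 3 (by decide)
  generalize e_2_3 : T.picMatrix 2 3 = x_2 at *
  generalize e_3_2 : T.picMatrix 3 2 = y_2 at *
  rcases Q_2 with ⟨rfl, rfl⟩ | ⟨rfl, rfl⟩ | ⟨rfl, rfl⟩ | ⟨rfl, rfl⟩ | ⟨rfl, rfl⟩ | ⟨rfl, rfl⟩ | ⟨rfl, rfl⟩ | ⟨rfl, rfl⟩ | ⟨rfl, rfl⟩
  · exact absurd rfl hne
  · -- (2,3) = (1,1)
    exact nd_273 T hG hmax e_0_1 e_0_2 e_0_3 e_1_0 e_1_2 e_1_3 e_2_0 e_2_1 e_2_3 e_3_0 e_3_1 e_3_2 cl
  · -- (2,3) = (1,2)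
    exact nd_281 T hG hmax e_0_1 e_0_2 e_0_3 e_1_0 e_1_2 e_1_3 e_2_0 e_2_1 e_2_3 e_3_0 e_3_1 e_3_2 cl
  · -- (2,3) = (2,1)
    exact nd_286 T hG hmax e_0_1 e_0_2 e_0_3 e_1_0 e_1_2 e_1_3 e_2_0 e_2_1 e_2_3 e_3_0 e_3_1 e_3_2 cl
  · -- (2,3) = (1,3)
    omega
  · -- (2,3) = (3,1)
    omega
  · -- (2,3) = (1,4)
    omega
  · -- (2,3) = (4,1)
    omega
  · -- (2,3) = (2,2)
    omega

theorem nd_270 (T : Models.NumericalType 5)
    (hG : NTGood T)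
    (hmax : ∀ j, T.m j ≤ T.m 0)
    (e_0_1 : T.picMatrix 0 1 = 2)
    (e_0_2 : T.picMatrix 0 2 = 1)
    (e_1_0 : T.picMatrix 1 0 = 1)
    (e_1_2 : T.picMatrix 1 2 = 0)
    (e_2_0 : T.picMatrix 2 0 = 1)
    (e_2_1 : T.picMatrix 2 1 = 0)
    (cl : ∀ a b : Fin 5, a.val < 2 → 3 ≤ b.val → T.picMatrix a b = 0) :
    Goal T := by
  by_cases hc : ∀ b : Fin 5, 3 ≤ b.val → T.picMatrix 2 b = 0
  · exact nd_271 T hG hmax e_0_1 e_0_2 e_1_0 e_1_2 e_2_0 e_2_1 (nt_cl_succ T 3 2 2 rfl cl hc)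
  · obtain ⟨τ, hfix, cl', z, hne⟩ := nt_wlog_step T 3 (by norm_num) 2 (by norm_num) 2 (by decide) cl hc
    apply goal_relabel T τ
    refine ex_272 (ntRelabel T τ) (hG.relabel τ) ?_ ?_ ?_ ?_ ?_ ?_ ?_ cl' z hne
    · intro j
      show T.m (τ j) ≤ T.m (τ 0)
      rw [hfix 0 (by decide)]
      exact hmax _
    · show T.picMatrix (τ 0) (τ 1) = 2
      rw [hfix 0 (by decide), hfix 1 (by decide)]
      exact e_0_1
    · show T.picMatrix (τ 0) (τ 2) = 1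
      rw [hfix 0 (by decide), hfix 2 (by decide)]
      exact e_0_2
    · show T.picMatrix (τ 1) (τ 0) = 1
      rw [hfix 1 (by decide), hfix 0 (by decide)]
      exact e_1_0
    · show T.picMatrix (τ 1) (τ 2) = 0
      rw [hfix 1 (by decide), hfix 2 (by decide)]
      exact e_1_2
    · show T.picMatrix (τ 2) (τ 0) = 1
      rw [hfix 2 (by decide), hfix 0 (by decide)]
      exact e_2_0
    · show T.picMatrix (τ 2) (τ 1) = 0
      rw [hfix 2 (by decide), hfix 1 (by decide)]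
      exact e_2_1

theorem nd_295 (T : Models.NumericalType 5)
    (hG : NTGood T)
    (hmax : ∀ j, T.m j ≤ T.m 0)
    (e_0_1 : T.picMatrix 0 1 = 2)
    (e_0_2 : T.picMatrix 0 2 = 1)
    (e_0_3 : T.picMatrix 0 3 = 0)
    (e_1_0 : T.picMatrix 1 0 = 1)
    (e_1_2 : T.picMatrix 1 2 = 0)
    (e_1_3 : T.picMatrix 1 3 = 1)
    (e_2_0 : T.picMatrix 2 0 = 1)
    (e_2_1 : T.picMatrix 2 1 = 0)
    (e_2_3 : T.picMatrix 2 3 = 0)
    (e_3_0 : T.picMatrix 3 0 = 0)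
    (e_3_1 : T.picMatrix 3 1 = 1)
    (e_3_2 : T.picMatrix 3 2 = 0)
    (cl : ∀ a b : Fin 5, a.val < 4 → 4 ≤ b.val → T.picMatrix a b = 0) :
    Goal T := by
  obtain ⟨hg0, hdA, hdP, hnn, hrow, hsym, hpair⟩ := ntgood_data T (by norm_num) hG
  have hm_0 := T.m_pos 0
  have hw_0 := T.w_pos 0
  have hm_1 := T.m_pos 1
  have hw_1 := T.w_pos 1
  have hm_2 := T.m_pos 2
  have hw_2 := T.w_pos 2
  have hm_3 := T.m_pos 3
  have hw_3 := T.w_pos 3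
  have hx_1 := hmax 1
  have hx_2 := hmax 2
  have hx_3 := hmax 3
  have Z_0_4 := cl 0 4 (by decide) (by decide)
  have Z_1_4 := cl 1 4 (by decide) (by decide)
  have Z_2_4 := cl 2 4 (by decide) (by decide)
  have Z_3_4 := cl 3 4 (by decide) (by decide)
  have R_0 := hrow 0
  rw [Fin.sum_univ_five, hdP 0, e_0_1, e_0_2, e_0_3, Z_0_4] at R_0
  have R_1 := hrow 1
  rw [Fin.sum_univ_five, hdP 1, e_1_0, e_1_2, e_1_3, Z_1_4] at R_1
  have R_2 := hrow 2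
  rw [Fin.sum_univ_five, hdP 2, e_2_0, e_2_1, e_2_3, Z_2_4] at R_2
  have R_3 := hrow 3
  rw [Fin.sum_univ_five, hdP 3, e_3_0, e_3_1, e_3_2, Z_3_4] at R_3
  have S_0_1 := hsym 0 1
  rw [e_0_1, e_1_0] at S_0_1
  have S_0_2 := hsym 0 2
  rw [e_0_2, e_2_0] at S_0_2
  have S_0_3 := hsym 0 3
  rw [e_0_3, e_3_0] at S_0_3
  have S_1_2 := hsym 1 2
  rw [e_1_2, e_2_1] at S_1_2
  have S_1_3 := hsym 1 3
  rw [e_1_3, e_3_1] at S_1_3
  have S_2_3 := hsym 2 3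
  rw [e_2_3, e_3_2] at S_2_3
  exfalso
  omega

theorem nd_297 (T : Models.NumericalType 5)
    (hG : NTGood T)
    (hmax : ∀ j, T.m j ≤ T.m 0)
    (e_0_1 : T.picMatrix 0 1 = 2)
    (e_0_2 : T.picMatrix 0 2 = 1)
    (e_0_3 : T.picMatrix 0 3 = 0)
    (e_0_4 : T.picMatrix 0 4 = 0)
    (e_1_0 : T.picMatrix 1 0 = 1)
    (e_1_2 : T.picMatrix 1 2 = 0)
    (e_1_3 : T.picMatrix 1 3 = 1)
    (e_1_4 : T.picMatrix 1 4 = 0)
    (e_2_0 : T.picMatrix 2 0 = 1)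
    (e_2_1 : T.picMatrix 2 1 = 0)
    (e_2_3 : T.picMatrix 2 3 = 0)
    (e_2_4 : T.picMatrix 2 4 = 0)
    (e_3_0 : T.picMatrix 3 0 = 0)
    (e_3_1 : T.picMatrix 3 1 = 1)
    (e_3_2 : T.picMatrix 3 2 = 0)
    (e_3_4 : T.picMatrix 3 4 = 1)
    (e_4_0 : T.picMatrix 4 0 = 0)
    (e_4_1 : T.picMatrix 4 1 = 0)
    (e_4_2 : T.picMatrix 4 2 = 0)
    (e_4_3 : T.picMatrix 4 3 = 1)
    (cl : ∀ a b : Fin 5, a.val < 3 → 5 ≤ b.val → T.picMatrix a b = 0) :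
    Goal T := by
  obtain ⟨hg0, hdA, hdP, hnn, hrow, hsym, hpair⟩ := ntgood_data T (by norm_num) hG
  have hm_0 := T.m_pos 0
  have hw_0 := T.w_pos 0
  have hm_1 := T.m_pos 1
  have hw_1 := T.w_pos 1
  have hm_2 := T.m_pos 2
  have hw_2 := T.w_pos 2
  have hm_3 := T.m_pos 3
  have hw_3 := T.w_pos 3
  have hm_4 := T.m_pos 4
  have hw_4 := T.w_pos 4
  have hx_1 := hmax 1
  have hx_2 := hmax 2
  have hx_3 := hmax 3
  have hx_4 := hmax 4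
  have R_0 := hrow 0
  rw [Fin.sum_univ_five, hdP 0, e_0_1, e_0_2, e_0_3, e_0_4] at R_0
  have R_1 := hrow 1
  rw [Fin.sum_univ_five, hdP 1, e_1_0, e_1_2, e_1_3, e_1_4] at R_1
  have R_2 := hrow 2
  rw [Fin.sum_univ_five, hdP 2, e_2_0, e_2_1, e_2_3, e_2_4] at R_2
  have R_3 := hrow 3
  rw [Fin.sum_univ_five, hdP 3, e_3_0, e_3_1, e_3_2, e_3_4] at R_3
  have R_4 := hrow 4
  rw [Fin.sum_univ_five, hdP 4, e_4_0, e_4_1, e_4_2, e_4_3] at R_4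
  have S_0_1 := hsym 0 1
  rw [e_0_1, e_1_0] at S_0_1
  have S_0_2 := hsym 0 2
  rw [e_0_2, e_2_0] at S_0_2
  have S_0_3 := hsym 0 3
  rw [e_0_3, e_3_0] at S_0_3
  have S_0_4 := hsym 0 4
  rw [e_0_4, e_4_0] at S_0_4
  have S_1_2 := hsym 1 2
  rw [e_1_2, e_2_1] at S_1_2
  have S_1_3 := hsym 1 3
  rw [e_1_3, e_3_1] at S_1_3
  have S_1_4 := hsym 1 4
  rw [e_1_4, e_4_1] at S_1_4
  have S_2_3 := hsym 2 3
  rw [e_2_3, e_3_2] at S_2_3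
  have S_2_4 := hsym 2 4
  rw [e_2_4, e_4_2] at S_2_4
  have S_3_4 := hsym 3 4
  rw [e_3_4, e_4_3] at S_3_4
  have D_0 := hdA 0
  have A_0_1 := nt_a_eq T 0 1
  rw [e_0_1] at A_0_1
  have A_0_2 := nt_a_eq T 0 2
  rw [e_0_2] at A_0_2
  have A_0_3 := nt_a_eq T 0 3
  rw [e_0_3] at A_0_3
  have A_0_4 := nt_a_eq T 0 4
  rw [e_0_4] at A_0_4
  have D_1 := hdA 1
  have A_1_0 := nt_a_eq T 1 0
  rw [e_1_0] at A_1_0
  have A_1_2 := nt_a_eq T 1 2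
  rw [e_1_2] at A_1_2
  have A_1_3 := nt_a_eq T 1 3
  rw [e_1_3] at A_1_3
  have A_1_4 := nt_a_eq T 1 4
  rw [e_1_4] at A_1_4
  have D_2 := hdA 2
  have A_2_0 := nt_a_eq T 2 0
  rw [e_2_0] at A_2_0
  have A_2_1 := nt_a_eq T 2 1
  rw [e_2_1] at A_2_1
  have A_2_3 := nt_a_eq T 2 3
  rw [e_2_3] at A_2_3
  have A_2_4 := nt_a_eq T 2 4
  rw [e_2_4] at A_2_4
  have D_3 := hdA 3
  have A_3_0 := nt_a_eq T 3 0
  rw [e_3_0] at A_3_0
  have A_3_1 := nt_a_eq T 3 1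
  rw [e_3_1] at A_3_1
  have A_3_2 := nt_a_eq T 3 2
  rw [e_3_2] at A_3_2
  have A_3_4 := nt_a_eq T 3 4
  rw [e_3_4] at A_3_4
  have D_4 := hdA 4
  have A_4_0 := nt_a_eq T 4 0
  rw [e_4_0] at A_4_0
  have A_4_1 := nt_a_eq T 4 1
  rw [e_4_1] at A_4_1
  have A_4_2 := nt_a_eq T 4 2
  rw [e_4_2] at A_4_2
  have A_4_3 := nt_a_eq T 4 3
  rw [e_4_3] at A_4_3
  refine goal_of_indices T hg0 4 3 1 0 2 (by decide) (T.m 4) (T.w 0) ?_
  unfold Goali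
  exact Or.inr (Or.inr (Or.inl ⟨by omega, by omega, by omega, by omega, by omega, by omega, by omega, by omega, by omega, by omega, by omega, by omega, by omega, by omega, by omega, by omega, by omega, by omega, by omega, by omega, by omega, by omega, by omega, by omega, by omega⟩))

theorem ex_296 (T : Models.NumericalType 5)
    (hG : NTGood T)
    (hmax : ∀ j, T.m j ≤ T.m 0)
    (e_0_1 : T.picMatrix 0 1 = 2)
    (e_0_2 : T.picMatrix 0 2 = 1)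
    (e_0_3 : T.picMatrix 0 3 = 0)
    (e_1_0 : T.picMatrix 1 0 = 1)
    (e_1_2 : T.picMatrix 1 2 = 0)
    (e_1_3 : T.picMatrix 1 3 = 1)
    (e_2_0 : T.picMatrix 2 0 = 1)
    (e_2_1 : T.picMatrix 2 1 = 0)
    (e_2_3 : T.picMatrix 2 3 = 0)
    (e_3_0 : T.picMatrix 3 0 = 0)
    (e_3_1 : T.picMatrix 3 1 = 1)
    (e_3_2 : T.picMatrix 3 2 = 0)
    (cl : ∀ a b : Fin 5, a.val < 3 → 5 ≤ b.val → T.picMatrix a b = 0)
    (z : ∀ a : Fin 5, a.val < 3 → T.picMatrix a 4 = 0)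
    (hne : T.picMatrix 3 4 ≠ 0) :
    Goal T := by
  have e_0_4 : T.picMatrix 0 4 = 0 := z 0 (by decide)
  have e_4_0 : T.picMatrix 4 0 = 0 := nt_pic_zero_symm T 0 4 e_0_4
  have e_1_4 : T.picMatrix 1 4 = 0 := z 1 (by decide)
  have e_4_1 : T.picMatrix 4 1 = 0 := nt_pic_zero_symm T 1 4 e_1_4
  have e_2_4 : T.picMatrix 2 4 = 0 := z 2 (by decide)
  have e_4_2 : T.picMatrix 4 2 = 0 := nt_pic_zero_symm T 2 4 e_2_4
  obtain ⟨hg0, hdA, hdP, hnn, hrow, hsym, hpair⟩ := ntgood_data T (by norm_num) hG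
  have hm_0 := T.m_pos 0
  have hw_0 := T.w_pos 0
  have hm_1 := T.m_pos 1
  have hw_1 := T.w_pos 1
  have hm_2 := T.m_pos 2
  have hw_2 := T.w_pos 2
  have hm_3 := T.m_pos 3
  have hw_3 := T.w_pos 3
  have hm_4 := T.m_pos 4
  have hw_4 := T.w_pos 4
  have hx_1 := hmax 1
  have hx_2 := hmax 2
  have hx_3 := hmax 3
  have hx_4 := hmax 4
  have N_3_4 := mul_nonneg (hnn 3 4 (by decide)) (T.m_pos 4).le
  have N_4_3 := mul_nonneg (hnn 4 3 (by decide)) (T.m_pos 3).le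
  have R_0 := hrow 0
  rw [Fin.sum_univ_five, hdP 0, e_0_1, e_0_2, e_0_3, e_0_4] at R_0
  have R_1 := hrow 1
  rw [Fin.sum_univ_five, hdP 1, e_1_0, e_1_2, e_1_3, e_1_4] at R_1
  have R_2 := hrow 2
  rw [Fin.sum_univ_five, hdP 2, e_2_0, e_2_1, e_2_3, e_2_4] at R_2
  have R_3 := hrow 3
  rw [Fin.sum_univ_five, hdP 3, e_3_0, e_3_1, e_3_2] at R_3
  have R_4 := hrow 4
  rw [Fin.sum_univ_five, hdP 4, e_4_0, e_4_1, e_4_2] at R_4
  have S_0_1 := hsym 0 1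
  rw [e_0_1, e_1_0] at S_0_1
  have S_0_2 := hsym 0 2
  rw [e_0_2, e_2_0] at S_0_2
  have S_0_3 := hsym 0 3
  rw [e_0_3, e_3_0] at S_0_3
  have S_0_4 := hsym 0 4
  rw [e_0_4, e_4_0] at S_0_4
  have S_1_2 := hsym 1 2
  rw [e_1_2, e_2_1] at S_1_2
  have S_1_3 := hsym 1 3
  rw [e_1_3, e_3_1] at S_1_3
  have S_1_4 := hsym 1 4
  rw [e_1_4, e_4_1] at S_1_4
  have S_2_3 := hsym 2 3
  rw [e_2_3, e_3_2] at S_2_3
  have S_2_4 := hsym 2 4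
  rw [e_2_4, e_4_2] at S_2_4
  have S_3_4 := hsym 3 4
  have Q_3 := hpair 3 4 (by decide)
  generalize e_3_4 : T.picMatrix 3 4 = x_3 at *
  generalize e_4_3 : T.picMatrix 4 3 = y_3 at *
  rcases Q_3 with ⟨rfl, rfl⟩ | ⟨rfl, rfl⟩ | ⟨rfl, rfl⟩ | ⟨rfl, rfl⟩ | ⟨rfl, rfl⟩ | ⟨rfl, rfl⟩ | ⟨rfl, rfl⟩ | ⟨rfl, rfl⟩ | ⟨rfl, rfl⟩
  · exact absurd rfl hne
  · -- (3,4) = (1,1)
    exact nd_297 T hG hmax e_0_1 e_0_2 e_0_3 e_0_4 e_1_0 e_1_2 e_1_3 e_1_4 e_2_0 e_2_1 e_2_3 e_2_4 e_3_0 e_3_1 e_3_2 e_3_4 e_4_0 e_4_1 e_4_2 e_4_3 cl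
  · -- (3,4) = (1,2)
    omega
  · -- (3,4) = (2,1)
    omega
  · -- (3,4) = (1,3)
    omega
  · -- (3,4) = (3,1)
    omega
  · -- (3,4) = (1,4)
    omega
  · -- (3,4) = (4,1)
    omega
  · -- (3,4) = (2,2)
    omega

theorem nd_294 (T : Models.NumericalType 5)
    (hG : NTGood T)
    (hmax : ∀ j, T.m j ≤ T.m 0)
    (e_0_1 : T.picMatrix 0 1 = 2)
    (e_0_2 : T.picMatrix 0 2 = 1)
    (e_0_3 : T.picMatrix 0 3 = 0)
    (e_1_0 : T.picMatrix 1 0 = 1)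
    (e_1_2 : T.picMatrix 1 2 = 0)
    (e_1_3 : T.picMatrix 1 3 = 1)
    (e_2_0 : T.picMatrix 2 0 = 1)
    (e_2_1 : T.picMatrix 2 1 = 0)
    (e_2_3 : T.picMatrix 2 3 = 0)
    (e_3_0 : T.picMatrix 3 0 = 0)
    (e_3_1 : T.picMatrix 3 1 = 1)
    (e_3_2 : T.picMatrix 3 2 = 0)
    (cl : ∀ a b : Fin 5, a.val < 3 → 4 ≤ b.val → T.picMatrix a b = 0) :
    Goal T := by
  by_cases hc : ∀ b : Fin 5, 4 ≤ b.val → T.picMatrix 3 b = 0
  · exact nd_295 T hG hmax e_0_1 e_0_2 e_0_3 e_1_0 e_1_2 e_1_3 e_2_0 e_2_1 e_2_3 e_3_0 e_3_1 e_3_2 (nt_cl_succ T 4 3 3 rfl cl hc)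
  · obtain ⟨τ, hfix, cl', z, hne⟩ := nt_wlog_step T 4 (by norm_num) 3 (by norm_num) 3 (by decide) cl hc
    apply goal_relabel T τ
    refine ex_296 (ntRelabel T τ) (hG.relabel τ) ?_ ?_ ?_ ?_ ?_ ?_ ?_ ?_ ?_ ?_ ?_ ?_ ?_ cl' z hne
    · intro j
      show T.m (τ j) ≤ T.m (τ 0)
      rw [hfix 0 (by decide)]
      exact hmax _
    · show T.picMatrix (τ 0) (τ 1) = 2
      rw [hfix 0 (by decide), hfix 1 (by decide)]
      exact e_0_1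
    · show T.picMatrix (τ 0) (τ 2) = 1
      rw [hfix 0 (by decide), hfix 2 (by decide)]
      exact e_0_2
    · show T.picMatrix (τ 0) (τ 3) = 0
      rw [hfix 0 (by decide), hfix 3 (by decide)]
      exact e_0_3
    · show T.picMatrix (τ 1) (τ 0) = 1
      rw [hfix 1 (by decide), hfix 0 (by decide)]
      exact e_1_0
    · show T.picMatrix (τ 1) (τ 2) = 0
      rw [hfix 1 (by decide), hfix 2 (by decide)]
      exact e_1_2
    · show T.picMatrix (τ 1) (τ 3) = 1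
      rw [hfix 1 (by decide), hfix 3 (by decide)]
      exact e_1_3
    · show T.picMatrix (τ 2) (τ 0) = 1
      rw [hfix 2 (by decide), hfix 0 (by decide)]
      exact e_2_0
    · show T.picMatrix (τ 2) (τ 1) = 0
      rw [hfix 2 (by decide), hfix 1 (by decide)]
      exact e_2_1
    · show T.picMatrix (τ 2) (τ 3) = 0
      rw [hfix 2 (by decide), hfix 3 (by decide)]
      exact e_2_3
    · show T.picMatrix (τ 3) (τ 0) = 0
      rw [hfix 3 (by decide), hfix 0 (by decide)]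
      exact e_3_0
    · show T.picMatrix (τ 3) (τ 1) = 1
      rw [hfix 3 (by decide), hfix 1 (by decide)]
      exact e_3_1
    · show T.picMatrix (τ 3) (τ 2) = 0
      rw [hfix 3 (by decide), hfix 2 (by decide)]
      exact e_3_2

theorem nd_299 (T : Models.NumericalType 5)
    (hG : NTGood T)
    (hmax : ∀ j, T.m j ≤ T.m 0)
    (e_0_1 : T.picMatrix 0 1 = 2)
    (e_0_2 : T.picMatrix 0 2 = 1)
    (e_0_3 : T.picMatrix 0 3 = 0)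
    (e_0_4 : T.picMatrix 0 4 = 0)
    (e_1_0 : T.picMatrix 1 0 = 1)
    (e_1_2 : T.picMatrix 1 2 = 0)
    (e_1_3 : T.picMatrix 1 3 = 1)
    (e_1_4 : T.picMatrix 1 4 = 0)
    (e_2_0 : T.picMatrix 2 0 = 1)
    (e_2_1 : T.picMatrix 2 1 = 0)
    (e_2_3 : T.picMatrix 2 3 = 0)
    (e_2_4 : T.picMatrix 2 4 = 1)
    (e_3_0 : T.picMatrix 3 0 = 0)
    (e_3_1 : T.picMatrix 3 1 = 1)
    (e_3_2 : T.picMatrix 3 2 = 0)
    (e_3_4 : T.picMatrix 3 4 = 0)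
    (e_4_0 : T.picMatrix 4 0 = 0)
    (e_4_1 : T.picMatrix 4 1 = 0)
    (e_4_2 : T.picMatrix 4 2 = 1)
    (e_4_3 : T.picMatrix 4 3 = 0)
    (cl : ∀ a b : Fin 5, a.val < 2 → 5 ≤ b.val → T.picMatrix a b = 0) :
    Goal T := by
  obtain ⟨hg0, hdA, hdP, hnn, hrow, hsym, hpair⟩ := ntgood_data T (by norm_num) hG
  have hm_0 := T.m_pos 0
  have hw_0 := T.w_pos 0
  have hm_1 := T.m_pos 1
  have hw_1 := T.w_pos 1
  have hm_2 := T.m_pos 2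
  have hw_2 := T.w_pos 2
  have hm_3 := T.m_pos 3
  have hw_3 := T.w_pos 3
  have hm_4 := T.m_pos 4
  have hw_4 := T.w_pos 4
  have hx_1 := hmax 1
  have hx_2 := hmax 2
  have hx_3 := hmax 3
  have hx_4 := hmax 4
  have R_0 := hrow 0
  rw [Fin.sum_univ_five, hdP 0, e_0_1, e_0_2, e_0_3, e_0_4] at R_0
  have R_1 := hrow 1
  rw [Fin.sum_univ_five, hdP 1, e_1_0, e_1_2, e_1_3, e_1_4] at R_1
  have R_2 := hrow 2
  rw [Fin.sum_univ_five, hdP 2, e_2_0, e_2_1, e_2_3, e_2_4] at R_2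
  have R_3 := hrow 3
  rw [Fin.sum_univ_five, hdP 3, e_3_0, e_3_1, e_3_2, e_3_4] at R_3
  have R_4 := hrow 4
  rw [Fin.sum_univ_five, hdP 4, e_4_0, e_4_1, e_4_2, e_4_3] at R_4
  have S_0_1 := hsym 0 1
  rw [e_0_1, e_1_0] at S_0_1
  have S_0_2 := hsym 0 2
  rw [e_0_2, e_2_0] at S_0_2
  have S_0_3 := hsym 0 3
  rw [e_0_3, e_3_0] at S_0_3
  have S_0_4 := hsym 0 4
  rw [e_0_4, e_4_0] at S_0_4
  have S_1_2 := hsym 1 2
  rw [e_1_2, e_2_1] at S_1_2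
  have S_1_3 := hsym 1 3
  rw [e_1_3, e_3_1] at S_1_3
  have S_1_4 := hsym 1 4
  rw [e_1_4, e_4_1] at S_1_4
  have S_2_3 := hsym 2 3
  rw [e_2_3, e_3_2] at S_2_3
  have S_2_4 := hsym 2 4
  rw [e_2_4, e_4_2] at S_2_4
  have S_3_4 := hsym 3 4
  rw [e_3_4, e_4_3] at S_3_4
  have D_0 := hdA 0
  have A_0_1 := nt_a_eq T 0 1
  rw [e_0_1] at A_0_1
  have A_0_2 := nt_a_eq T 0 2
  rw [e_0_2] at A_0_2
  have A_0_3 := nt_a_eq T 0 3
  rw [e_0_3] at A_0_3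
  have A_0_4 := nt_a_eq T 0 4
  rw [e_0_4] at A_0_4
  have D_1 := hdA 1
  have A_1_0 := nt_a_eq T 1 0
  rw [e_1_0] at A_1_0
  have A_1_2 := nt_a_eq T 1 2
  rw [e_1_2] at A_1_2
  have A_1_3 := nt_a_eq T 1 3
  rw [e_1_3] at A_1_3
  have A_1_4 := nt_a_eq T 1 4
  rw [e_1_4] at A_1_4
  have D_2 := hdA 2
  have A_2_0 := nt_a_eq T 2 0
  rw [e_2_0] at A_2_0
  have A_2_1 := nt_a_eq T 2 1
  rw [e_2_1] at A_2_1
  have A_2_3 := nt_a_eq T 2 3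
  rw [e_2_3] at A_2_3
  have A_2_4 := nt_a_eq T 2 4
  rw [e_2_4] at A_2_4
  have D_3 := hdA 3
  have A_3_0 := nt_a_eq T 3 0
  rw [e_3_0] at A_3_0
  have A_3_1 := nt_a_eq T 3 1
  rw [e_3_1] at A_3_1
  have A_3_2 := nt_a_eq T 3 2
  rw [e_3_2] at A_3_2
  have A_3_4 := nt_a_eq T 3 4
  rw [e_3_4] at A_3_4
  have D_4 := hdA 4
  have A_4_0 := nt_a_eq T 4 0
  rw [e_4_0] at A_4_0
  have A_4_1 := nt_a_eq T 4 1
  rw [e_4_1] at A_4_1
  have A_4_2 := nt_a_eq T 4 2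
  rw [e_4_2] at A_4_2
  have A_4_3 := nt_a_eq T 4 3
  rw [e_4_3] at A_4_3
  refine goal_of_indices T hg0 4 2 0 1 3 (by decide) (T.m 4) (T.w 4) ?_
  unfold Goali
  exact Or.inr (Or.inl ⟨by omega, by omega, by omega, by omega, by omega, by omega, by omega, by omega, by omega, by omega, by omega, by omega, by omega, by omega, by omega, by omega, by omega, by omega, by omega, by omega, by omega, by omega, by omega, by omega, by omega⟩)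

theorem ex_298 (T : Models.NumericalType 5)
    (hG : NTGood T)
    (hmax : ∀ j, T.m j ≤ T.m 0)
    (e_0_1 : T.picMatrix 0 1 = 2)
    (e_0_2 : T.picMatrix 0 2 = 1)
    (e_0_3 : T.picMatrix 0 3 = 0)
    (e_1_0 : T.picMatrix 1 0 = 1)
    (e_1_2 : T.picMatrix 1 2 = 0)
    (e_1_3 : T.picMatrix 1 3 = 1)
    (e_2_0 : T.picMatrix 2 0 = 1)
    (e_2_1 : T.picMatrix 2 1 = 0)
    (e_2_3 : T.picMatrix 2 3 = 0)
    (e_3_0 : T.picMatrix 3 0 = 0)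
    (e_3_1 : T.picMatrix 3 1 = 1)
    (e_3_2 : T.picMatrix 3 2 = 0)
    (cl : ∀ a b : Fin 5, a.val < 2 → 5 ≤ b.val → T.picMatrix a b = 0)
    (z : ∀ a : Fin 5, a.val < 2 → T.picMatrix a 4 = 0)
    (hne : T.picMatrix 2 4 ≠ 0) :
    Goal T := by
  have e_0_4 : T.picMatrix 0 4 = 0 := z 0 (by decide)
  have e_4_0 : T.picMatrix 4 0 = 0 := nt_pic_zero_symm T 0 4 e_0_4
  have e_1_4 : T.picMatrix 1 4 = 0 := z 1 (by decide)
  have e_4_1 : T.picMatrix 4 1 = 0 := nt_pic_zero_symm T 1 4 e_1_4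
  obtain ⟨hg0, hdA, hdP, hnn, hrow, hsym, hpair⟩ := ntgood_data T (by norm_num) hG
  have hm_0 := T.m_pos 0
  have hw_0 := T.w_pos 0
  have hm_1 := T.m_pos 1
  have hw_1 := T.w_pos 1
  have hm_2 := T.m_pos 2
  have hw_2 := T.w_pos 2
  have hm_3 := T.m_pos 3
  have hw_3 := T.w_pos 3
  have hm_4 := T.m_pos 4
  have hw_4 := T.w_pos 4
  have hx_1 := hmax 1
  have hx_2 := hmax 2
  have hx_3 := hmax 3
  have hx_4 := hmax 4
  have N_2_4 := mul_nonneg (hnn 2 4 (by decide)) (T.m_pos 4).le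
  have N_4_2 := mul_nonneg (hnn 4 2 (by decide)) (T.m_pos 2).le
  have N_3_4 := mul_nonneg (hnn 3 4 (by decide)) (T.m_pos 4).le
  have N_4_3 := mul_nonneg (hnn 4 3 (by decide)) (T.m_pos 3).le
  have R_0 := hrow 0
  rw [Fin.sum_univ_five, hdP 0, e_0_1, e_0_2, e_0_3, e_0_4] at R_0
  have R_1 := hrow 1
  rw [Fin.sum_univ_five, hdP 1, e_1_0, e_1_2, e_1_3, e_1_4] at R_1
  have R_2 := hrow 2
  rw [Fin.sum_univ_five, hdP 2, e_2_0, e_2_1, e_2_3] at R_2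
  have R_3 := hrow 3
  rw [Fin.sum_univ_five, hdP 3, e_3_0, e_3_1, e_3_2] at R_3
  have R_4 := hrow 4
  rw [Fin.sum_univ_five, hdP 4, e_4_0, e_4_1] at R_4
  have S_0_1 := hsym 0 1
  rw [e_0_1, e_1_0] at S_0_1
  have S_0_2 := hsym 0 2
  rw [e_0_2, e_2_0] at S_0_2
  have S_0_3 := hsym 0 3
  rw [e_0_3, e_3_0] at S_0_3
  have S_0_4 := hsym 0 4
  rw [e_0_4, e_4_0] at S_0_4
  have S_1_2 := hsym 1 2
  rw [e_1_2, e_2_1] at S_1_2
  have S_1_3 := hsym 1 3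
  rw [e_1_3, e_3_1] at S_1_3
  have S_1_4 := hsym 1 4
  rw [e_1_4, e_4_1] at S_1_4
  have S_2_3 := hsym 2 3
  rw [e_2_3, e_3_2] at S_2_3
  have S_2_4 := hsym 2 4
  have S_3_4 := hsym 3 4
  have Q_2 := hpair 2 4 (by decide)
  have Q_3 := hpair 3 4 (by decide)
  generalize e_2_4 : T.picMatrix 2 4 = x_2 at *
  generalize e_4_2 : T.picMatrix 4 2 = y_2 at *
  generalize e_3_4 : T.picMatrix 3 4 = x_3 at *
  generalize e_4_3 : T.picMatrix 4 3 = y_3 at *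
  rcases Q_2 with ⟨rfl, rfl⟩ | ⟨rfl, rfl⟩ | ⟨rfl, rfl⟩ | ⟨rfl, rfl⟩ | ⟨rfl, rfl⟩ | ⟨rfl, rfl⟩ | ⟨rfl, rfl⟩ | ⟨rfl, rfl⟩ | ⟨rfl, rfl⟩
  · exact absurd rfl hne
  · -- (2,4) = (1,1)
    rcases Q_3 with ⟨rfl, rfl⟩ | ⟨rfl, rfl⟩ | ⟨rfl, rfl⟩ | ⟨rfl, rfl⟩ | ⟨rfl, rfl⟩ | ⟨rfl, rfl⟩ | ⟨rfl, rfl⟩ | ⟨rfl, rfl⟩ | ⟨rfl, rfl⟩
    · -- (3,4) = (0,0)
      exact nd_299 T hG hmax e_0_1 e_0_2 e_0_3 e_0_4 e_1_0 e_1_2 e_1_3 e_1_4 e_2_0 e_2_1 e_2_3 e_2_4 e_3_0 e_3_1 e_3_2 e_3_4 e_4_0 e_4_1 e_4_2 e_4_3 cl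
    · -- (3,4) = (1,1)
      omega
    · -- (3,4) = (1,2)
      omega
    · -- (3,4) = (2,1)
      omega
    · -- (3,4) = (1,3)
      omega
    · -- (3,4) = (3,1)
      omega
    · -- (3,4) = (1,4)
      omega
    · -- (3,4) = (4,1)
      omega
    · -- (3,4) = (2,2)
      omega
  · omega
  · omega
  · omega
  · omega
  · omega
  · omega
  · omega

theorem nd_293 (T : Models.NumericalType 5)
    (hG : NTGood T)
    (hmax : ∀ j, T.m j ≤ T.m 0)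
    (e_0_1 : T.picMatrix 0 1 = 2)
    (e_0_2 : T.picMatrix 0 2 = 1)
    (e_0_3 : T.picMatrix 0 3 = 0)
    (e_1_0 : T.picMatrix 1 0 = 1)
    (e_1_2 : T.picMatrix 1 2 = 0)
    (e_1_3 : T.picMatrix 1 3 = 1)
    (e_2_0 : T.picMatrix 2 0 = 1)
    (e_2_1 : T.picMatrix 2 1 = 0)
    (e_2_3 : T.picMatrix 2 3 = 0)
    (e_3_0 : T.picMatrix 3 0 = 0)
    (e_3_1 : T.picMatrix 3 1 = 1)
    (e_3_2 : T.picMatrix 3 2 = 0)
    (cl : ∀ a b : Fin 5, a.val < 2 → 4 ≤ b.val → T.picMatrix a b = 0) :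
    Goal T := by
  by_cases hc : ∀ b : Fin 5, 4 ≤ b.val → T.picMatrix 2 b = 0
  · exact nd_294 T hG hmax e_0_1 e_0_2 e_0_3 e_1_0 e_1_2 e_1_3 e_2_0 e_2_1 e_2_3 e_3_0 e_3_1 e_3_2 (nt_cl_succ T 4 2 2 rfl cl hc)
  · obtain ⟨τ, hfix, cl', z, hne⟩ := nt_wlog_step T 4 (by norm_num) 2 (by norm_num) 2 (by decide) cl hc
    apply goal_relabel T τ
    refine ex_298 (ntRelabel T τ) (hG.relabel τ) ?_ ?_ ?_ ?_ ?_ ?_ ?_ ?_ ?_ ?_ ?_ ?_ ?_ cl' z hne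
    · intro j
      show T.m (τ j) ≤ T.m (τ 0)
      rw [hfix 0 (by decide)]
      exact hmax _
    · show T.picMatrix (τ 0) (τ 1) = 2
      rw [hfix 0 (by decide), hfix 1 (by decide)]
      exact e_0_1
    · show T.picMatrix (τ 0) (τ 2) = 1
      rw [hfix 0 (by decide), hfix 2 (by decide)]
      exact e_0_2
    · show T.picMatrix (τ 0) (τ 3) = 0
      rw [hfix 0 (by decide), hfix 3 (by decide)]
      exact e_0_3
    · show T.picMatrix (τ 1) (τ 0) = 1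
      rw [hfix 1 (by decide), hfix 0 (by decide)]
      exact e_1_0
    · show T.picMatrix (τ 1) (τ 2) = 0
      rw [hfix 1 (by decide), hfix 2 (by decide)]
      exact e_1_2
    · show T.picMatrix (τ 1) (τ 3) = 1
      rw [hfix 1 (by decide), hfix 3 (by decide)]
      exact e_1_3
    · show T.picMatrix (τ 2) (τ 0) = 1
      rw [hfix 2 (by decide), hfix 0 (by decide)]
      exact e_2_0
    · show T.picMatrix (τ 2) (τ 1) = 0
      rw [hfix 2 (by decide), hfix 1 (by decide)]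
      exact e_2_1
    · show T.picMatrix (τ 2) (τ 3) = 0
      rw [hfix 2 (by decide), hfix 3 (by decide)]
      exact e_2_3
    · show T.picMatrix (τ 3) (τ 0) = 0
      rw [hfix 3 (by decide), hfix 0 (by decide)]
      exact e_3_0
    · show T.picMatrix (τ 3) (τ 1) = 1
      rw [hfix 3 (by decide), hfix 1 (by decide)]
      exact e_3_1
    · show T.picMatrix (τ 3) (τ 2) = 0
      rw [hfix 3 (by decide), hfix 2 (by decide)]
      exact e_3_2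

theorem ex_300 (T : Models.NumericalType 5)
    (hG : NTGood T)
    (hmax : ∀ j, T.m j ≤ T.m 0)
    (e_0_1 : T.picMatrix 0 1 = 2)
    (e_0_2 : T.picMatrix 0 2 = 1)
    (e_0_3 : T.picMatrix 0 3 = 0)
    (e_1_0 : T.picMatrix 1 0 = 1)
    (e_1_2 : T.picMatrix 1 2 = 0)
    (e_1_3 : T.picMatrix 1 3 = 1)
    (e_2_0 : T.picMatrix 2 0 = 1)
    (e_2_1 : T.picMatrix 2 1 = 0)
    (e_2_3 : T.picMatrix 2 3 = 0)
    (e_3_0 : T.picMatrix 3 0 = 0)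
    (e_3_1 : T.picMatrix 3 1 = 1)
    (e_3_2 : T.picMatrix 3 2 = 0)
    (cl : ∀ a b : Fin 5, a.val < 1 → 5 ≤ b.val → T.picMatrix a b = 0)
    (z : ∀ a : Fin 5, a.val < 1 → T.picMatrix a 4 = 0)
    (hne : T.picMatrix 1 4 ≠ 0) :
    Goal T := by
  have e_0_4 : T.picMatrix 0 4 = 0 := z 0 (by decide)
  have e_4_0 : T.picMatrix 4 0 = 0 := nt_pic_zero_symm T 0 4 e_0_4
  obtain ⟨hg0, hdA, hdP, hnn, hrow, hsym, hpair⟩ := ntgood_data T (by norm_num) hG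
  have hm_0 := T.m_pos 0
  have hw_0 := T.w_pos 0
  have hm_1 := T.m_pos 1
  have hw_1 := T.w_pos 1
  have hm_2 := T.m_pos 2
  have hw_2 := T.w_pos 2
  have hm_3 := T.m_pos 3
  have hw_3 := T.w_pos 3
  have hm_4 := T.m_pos 4
  have hw_4 := T.w_pos 4
  have hx_1 := hmax 1
  have hx_2 := hmax 2
  have hx_3 := hmax 3
  have hx_4 := hmax 4
  have N_1_4 := mul_nonneg (hnn 1 4 (by decide)) (T.m_pos 4).le
  have N_4_1 := mul_nonneg (hnn 4 1 (by decide)) (T.m_pos 1).le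
  have N_2_4 := mul_nonneg (hnn 2 4 (by decide)) (T.m_pos 4).le
  have N_4_2 := mul_nonneg (hnn 4 2 (by decide)) (T.m_pos 2).le
  have N_3_4 := mul_nonneg (hnn 3 4 (by decide)) (T.m_pos 4).le
  have N_4_3 := mul_nonneg (hnn 4 3 (by decide)) (T.m_pos 3).le
  have R_0 := hrow 0
  rw [Fin.sum_univ_five, hdP 0, e_0_1, e_0_2, e_0_3, e_0_4] at R_0
  have R_1 := hrow 1
  rw [Fin.sum_univ_five, hdP 1, e_1_0, e_1_2, e_1_3] at R_1
  have R_2 := hrow 2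
  rw [Fin.sum_univ_five, hdP 2, e_2_0, e_2_1, e_2_3] at R_2
  have R_3 := hrow 3
  rw [Fin.sum_univ_five, hdP 3, e_3_0, e_3_1, e_3_2] at R_3
  have R_4 := hrow 4
  rw [Fin.sum_univ_five, hdP 4, e_4_0] at R_4
  have S_0_1 := hsym 0 1
  rw [e_0_1, e_1_0] at S_0_1
  have S_0_2 := hsym 0 2
  rw [e_0_2, e_2_0] at S_0_2
  have S_0_3 := hsym 0 3
  rw [e_0_3, e_3_0] at S_0_3
  have S_0_4 := hsym 0 4
  rw [e_0_4, e_4_0] at S_0_4
  have S_1_2 := hsym 1 2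
  rw [e_1_2, e_2_1] at S_1_2
  have S_1_3 := hsym 1 3
  rw [e_1_3, e_3_1] at S_1_3
  have S_1_4 := hsym 1 4
  have S_2_3 := hsym 2 3
  rw [e_2_3, e_3_2] at S_2_3
  have S_2_4 := hsym 2 4
  have S_3_4 := hsym 3 4
  have Q_1 := hpair 1 4 (by decide)
  have Q_2 := hpair 2 4 (by decide)
  have Q_3 := hpair 3 4 (by decide)
  generalize e_1_4 : T.picMatrix 1 4 = x_1 at *
  generalize e_4_1 : T.picMatrix 4 1 = y_1 at *
  generalize e_2_4 : T.picMatrix 2 4 = x_2 at *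
  generalize e_4_2 : T.picMatrix 4 2 = y_2 at *
  generalize e_3_4 : T.picMatrix 3 4 = x_3 at *
  generalize e_4_3 : T.picMatrix 4 3 = y_3 at *
  rcases Q_1 with ⟨rfl, rfl⟩ | ⟨rfl, rfl⟩ | ⟨rfl, rfl⟩ | ⟨rfl, rfl⟩ | ⟨rfl, rfl⟩ | ⟨rfl, rfl⟩ | ⟨rfl, rfl⟩ | ⟨rfl, rfl⟩ | ⟨rfl, rfl⟩
  · exact absurd rfl hne
  · omega
  · omega
  · omega
  · omega
  · omega
  · omega
  · omega
  · omega

theorem nd_292 (T : Models.NumericalType 5)
    (hG : NTGood T)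
    (hmax : ∀ j, T.m j ≤ T.m 0)
    (e_0_1 : T.picMatrix 0 1 = 2)
    (e_0_2 : T.picMatrix 0 2 = 1)
    (e_0_3 : T.picMatrix 0 3 = 0)
    (e_1_0 : T.picMatrix 1 0 = 1)
    (e_1_2 : T.picMatrix 1 2 = 0)
    (e_1_3 : T.picMatrix 1 3 = 1)
    (e_2_0 : T.picMatrix 2 0 = 1)
    (e_2_1 : T.picMatrix 2 1 = 0)
    (e_2_3 : T.picMatrix 2 3 = 0)
    (e_3_0 : T.picMatrix 3 0 = 0)
    (e_3_1 : T.picMatrix 3 1 = 1)
    (e_3_2 : T.picMatrix 3 2 = 0)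
    (cl : ∀ a b : Fin 5, a.val < 1 → 4 ≤ b.val → T.picMatrix a b = 0) :
    Goal T := by
  by_cases hc : ∀ b : Fin 5, 4 ≤ b.val → T.picMatrix 1 b = 0
  · exact nd_293 T hG hmax e_0_1 e_0_2 e_0_3 e_1_0 e_1_2 e_1_3 e_2_0 e_2_1 e_2_3 e_3_0 e_3_1 e_3_2 (nt_cl_succ T 4 1 1 rfl cl hc)
  · obtain ⟨τ, hfix, cl', z, hne⟩ := nt_wlog_step T 4 (by norm_num) 1 (by norm_num) 1 (by decide) cl hc
    apply goal_relabel T τ
    refine ex_300 (ntRelabel T τ) (hG.relabel τ) ?_ ?_ ?_ ?_ ?_ ?_ ?_ ?_ ?_ ?_ ?_ ?_ ?_ cl' z hne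
    · intro j
      show T.m (τ j) ≤ T.m (τ 0)
      rw [hfix 0 (by decide)]
      exact hmax _
    · show T.picMatrix (τ 0) (τ 1) = 2
      rw [hfix 0 (by decide), hfix 1 (by decide)]
      exact e_0_1
    · show T.picMatrix (τ 0) (τ 2) = 1
      rw [hfix 0 (by decide), hfix 2 (by decide)]
      exact e_0_2
    · show T.picMatrix (τ 0) (τ 3) = 0
      rw [hfix 0 (by decide), hfix 3 (by decide)]
      exact e_0_3
    · show T.picMatrix (τ 1) (τ 0) = 1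
      rw [hfix 1 (by decide), hfix 0 (by decide)]
      exact e_1_0
    · show T.picMatrix (τ 1) (τ 2) = 0
      rw [hfix 1 (by decide), hfix 2 (by decide)]
      exact e_1_2
    · show T.picMatrix (τ 1) (τ 3) = 1
      rw [hfix 1 (by decide), hfix 3 (by decide)]
      exact e_1_3
    · show T.picMatrix (τ 2) (τ 0) = 1
      rw [hfix 2 (by decide), hfix 0 (by decide)]
      exact e_2_0
    · show T.picMatrix (τ 2) (τ 1) = 0
      rw [hfix 2 (by decide), hfix 1 (by decide)]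
      exact e_2_1
    · show T.picMatrix (τ 2) (τ 3) = 0
      rw [hfix 2 (by decide), hfix 3 (by decide)]
      exact e_2_3
    · show T.picMatrix (τ 3) (τ 0) = 0
      rw [hfix 3 (by decide), hfix 0 (by decide)]
      exact e_3_0
    · show T.picMatrix (τ 3) (τ 1) = 1
      rw [hfix 3 (by decide), hfix 1 (by decide)]
      exact e_3_1
    · show T.picMatrix (τ 3) (τ 2) = 0
      rw [hfix 3 (by decide), hfix 2 (by decide)]
      exact e_3_2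

theorem ex_291 (T : Models.NumericalType 5)
    (hG : NTGood T)
    (hmax : ∀ j, T.m j ≤ T.m 0)
    (e_0_1 : T.picMatrix 0 1 = 2)
    (e_0_2 : T.picMatrix 0 2 = 1)
    (e_1_0 : T.picMatrix 1 0 = 1)
    (e_1_2 : T.picMatrix 1 2 = 0)
    (e_2_0 : T.picMatrix 2 0 = 1)
    (e_2_1 : T.picMatrix 2 1 = 0)
    (cl : ∀ a b : Fin 5, a.val < 1 → 4 ≤ b.val → T.picMatrix a b = 0)
    (z : ∀ a : Fin 5, a.val < 1 → T.picMatrix a 3 = 0)
    (hne : T.picMatrix 1 3 ≠ 0) :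
    Goal T := by
  have e_0_3 : T.picMatrix 0 3 = 0 := z 0 (by decide)
  have e_3_0 : T.picMatrix 3 0 = 0 := nt_pic_zero_symm T 0 3 e_0_3
  obtain ⟨hg0, hdA, hdP, hnn, hrow, hsym, hpair⟩ := ntgood_data T (by norm_num) hG
  have hm_0 := T.m_pos 0
  have hw_0 := T.w_pos 0
  have hm_1 := T.m_pos 1
  have hw_1 := T.w_pos 1
  have hm_2 := T.m_pos 2
  have hw_2 := T.w_pos 2
  have hm_3 := T.m_pos 3
  have hw_3 := T.w_pos 3
  have hx_1 := hmax 1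
  have hx_2 := hmax 2
  have hx_3 := hmax 3
  have Z_0_4 := cl 0 4 (by decide) (by decide)
  have N_1_4 := mul_nonneg (hnn 1 4 (by decide)) (T.m_pos 4).le
  have N_2_4 := mul_nonneg (hnn 2 4 (by decide)) (T.m_pos 4).le
  have N_3_4 := mul_nonneg (hnn 3 4 (by decide)) (T.m_pos 4).le
  have N_1_3 := mul_nonneg (hnn 1 3 (by decide)) (T.m_pos 3).le
  have N_3_1 := mul_nonneg (hnn 3 1 (by decide)) (T.m_pos 1).le
  have N_2_3 := mul_nonneg (hnn 2 3 (by decide)) (T.m_pos 3).le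
  have N_3_2 := mul_nonneg (hnn 3 2 (by decide)) (T.m_pos 2).le
  have R_0 := hrow 0
  rw [Fin.sum_univ_five, hdP 0, e_0_1, e_0_2, e_0_3, Z_0_4] at R_0
  have R_1 := hrow 1
  rw [Fin.sum_univ_five, hdP 1, e_1_0, e_1_2] at R_1
  have R_2 := hrow 2
  rw [Fin.sum_univ_five, hdP 2, e_2_0, e_2_1] at R_2
  have R_3 := hrow 3
  rw [Fin.sum_univ_five, hdP 3, e_3_0] at R_3
  have S_0_1 := hsym 0 1
  rw [e_0_1, e_1_0] at S_0_1
  have S_0_2 := hsym 0 2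
  rw [e_0_2, e_2_0] at S_0_2
  have S_0_3 := hsym 0 3
  rw [e_0_3, e_3_0] at S_0_3
  have S_1_2 := hsym 1 2
  rw [e_1_2, e_2_1] at S_1_2
  have S_1_3 := hsym 1 3
  have S_2_3 := hsym 2 3
  have Q_1 := hpair 1 3 (by decide)
  have Q_2 := hpair 2 3 (by decide)
  generalize e_1_3 : T.picMatrix 1 3 = x_1 at *
  generalize e_3_1 : T.picMatrix 3 1 = y_1 at *
  generalize e_2_3 : T.picMatrix 2 3 = x_2 at *
  generalize e_3_2 : T.picMatrix 3 2 = y_2 at *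
  rcases Q_1 with ⟨rfl, rfl⟩ | ⟨rfl, rfl⟩ | ⟨rfl, rfl⟩ | ⟨rfl, rfl⟩ | ⟨rfl, rfl⟩ | ⟨rfl, rfl⟩ | ⟨rfl, rfl⟩ | ⟨rfl, rfl⟩ | ⟨rfl, rfl⟩
  · exact absurd rfl hne
  · -- (1,3) = (1,1)
    rcases Q_2 with ⟨rfl, rfl⟩ | ⟨rfl, rfl⟩ | ⟨rfl, rfl⟩ | ⟨rfl, rfl⟩ | ⟨rfl, rfl⟩ | ⟨rfl, rfl⟩ | ⟨rfl, rfl⟩ | ⟨rfl, rfl⟩ | ⟨rfl, rfl⟩
    · -- (2,3) = (0,0)
      exact nd_292 T hG hmax e_0_1 e_0_2 e_0_3 e_1_0 e_1_2 e_1_3 e_2_0 e_2_1 e_2_3 e_3_0 e_3_1 e_3_2 cl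
    · -- (2,3) = (1,1)
      omega
    · -- (2,3) = (1,2)
      omega
    · -- (2,3) = (2,1)
      omega
    · -- (2,3) = (1,3)
      omega
    · -- (2,3) = (3,1)
      omega
    · -- (2,3) = (1,4)
      omega
    · -- (2,3) = (4,1)
      omega
    · -- (2,3) = (2,2)
      omega
  · omega
  · omega
  · omega
  · omega
  · omega
  · omega
  · omega

theorem nd_269 (T : Models.NumericalType 5)
    (hG : NTGood T)
    (hmax : ∀ j, T.m j ≤ T.m 0)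
    (e_0_1 : T.picMatrix 0 1 = 2)
    (e_0_2 : T.picMatrix 0 2 = 1)
    (e_1_0 : T.picMatrix 1 0 = 1)
    (e_1_2 : T.picMatrix 1 2 = 0)
    (e_2_0 : T.picMatrix 2 0 = 1)
    (e_2_1 : T.picMatrix 2 1 = 0)
    (cl : ∀ a b : Fin 5, a.val < 1 → 3 ≤ b.val → T.picMatrix a b = 0) :
    Goal T := by
  by_cases hc : ∀ b : Fin 5, 3 ≤ b.val → T.picMatrix 1 b = 0
  · exact nd_270 T hG hmax e_0_1 e_0_2 e_1_0 e_1_2 e_2_0 e_2_1 (nt_cl_succ T 3 1 1 rfl cl hc)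
  · obtain ⟨τ, hfix, cl', z, hne⟩ := nt_wlog_step T 3 (by norm_num) 1 (by norm_num) 1 (by decide) cl hc
    apply goal_relabel T τ
    refine ex_291 (ntRelabel T τ) (hG.relabel τ) ?_ ?_ ?_ ?_ ?_ ?_ ?_ cl' z hne
    · intro j
      show T.m (τ j) ≤ T.m (τ 0)
      rw [hfix 0 (by decide)]
      exact hmax _
    · show T.picMatrix (τ 0) (τ 1) = 2
      rw [hfix 0 (by decide), hfix 1 (by decide)]
      exact e_0_1
    · show T.picMatrix (τ 0) (τ 2) = 1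
      rw [hfix 0 (by decide), hfix 2 (by decide)]
      exact e_0_2
    · show T.picMatrix (τ 1) (τ 0) = 1
      rw [hfix 1 (by decide), hfix 0 (by decide)]
      exact e_1_0
    · show T.picMatrix (τ 1) (τ 2) = 0
      rw [hfix 1 (by decide), hfix 2 (by decide)]
      exact e_1_2
    · show T.picMatrix (τ 2) (τ 0) = 1
      rw [hfix 2 (by decide), hfix 0 (by decide)]
      exact e_2_0
    · show T.picMatrix (τ 2) (τ 1) = 0
      rw [hfix 2 (by decide), hfix 1 (by decide)]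
      exact e_2_1

theorem nd_306 (T : Models.NumericalType 5)
    (hG : NTGood T)
    (hmax : ∀ j, T.m j ≤ T.m 0)
    (e_0_1 : T.picMatrix 0 1 = 2)
    (e_0_2 : T.picMatrix 0 2 = 1)
    (e_0_3 : T.picMatrix 0 3 = 1)
    (e_1_0 : T.picMatrix 1 0 = 1)
    (e_1_2 : T.picMatrix 1 2 = 0)
    (e_1_3 : T.picMatrix 1 3 = 0)
    (e_2_0 : T.picMatrix 2 0 = 1)
    (e_2_1 : T.picMatrix 2 1 = 0)
    (e_2_3 : T.picMatrix 2 3 = 0)
    (e_3_0 : T.picMatrix 3 0 = 1)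
    (e_3_1 : T.picMatrix 3 1 = 0)
    (e_3_2 : T.picMatrix 3 2 = 0)
    (cl : ∀ a b : Fin 5, a.val < 4 → 4 ≤ b.val → T.picMatrix a b = 0) :
    Goal T := by
  exact (nt_closed_false T 4 (by norm_num) (by norm_num) cl).elim

theorem ex_307 (T : Models.NumericalType 5)
    (hG : NTGood T)
    (hmax : ∀ j, T.m j ≤ T.m 0)
    (e_0_1 : T.picMatrix 0 1 = 2)
    (e_0_2 : T.picMatrix 0 2 = 1)
    (e_0_3 : T.picMatrix 0 3 = 1)
    (e_1_0 : T.picMatrix 1 0 = 1)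
    (e_1_2 : T.picMatrix 1 2 = 0)
    (e_1_3 : T.picMatrix 1 3 = 0)
    (e_2_0 : T.picMatrix 2 0 = 1)
    (e_2_1 : T.picMatrix 2 1 = 0)
    (e_2_3 : T.picMatrix 2 3 = 0)
    (e_3_0 : T.picMatrix 3 0 = 1)
    (e_3_1 : T.picMatrix 3 1 = 0)
    (e_3_2 : T.picMatrix 3 2 = 0)
    (cl : ∀ a b : Fin 5, a.val < 3 → 5 ≤ b.val → T.picMatrix a b = 0)
    (z : ∀ a : Fin 5, a.val < 3 → T.picMatrix a 4 = 0)
    (hne : T.picMatrix 3 4 ≠ 0) :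
    Goal T := by
  have e_0_4 : T.picMatrix 0 4 = 0 := z 0 (by decide)
  have e_4_0 : T.picMatrix 4 0 = 0 := nt_pic_zero_symm T 0 4 e_0_4
  have e_1_4 : T.picMatrix 1 4 = 0 := z 1 (by decide)
  have e_4_1 : T.picMatrix 4 1 = 0 := nt_pic_zero_symm T 1 4 e_1_4
  have e_2_4 : T.picMatrix 2 4 = 0 := z 2 (by decide)
  have e_4_2 : T.picMatrix 4 2 = 0 := nt_pic_zero_symm T 2 4 e_2_4
  obtain ⟨hg0, hdA, hdP, hnn, hrow, hsym, hpair⟩ := ntgood_data T (by norm_num) hG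
  have hm_0 := T.m_pos 0
  have hw_0 := T.w_pos 0
  have hm_1 := T.m_pos 1
  have hw_1 := T.w_pos 1
  have hm_2 := T.m_pos 2
  have hw_2 := T.w_pos 2
  have hm_3 := T.m_pos 3
  have hw_3 := T.w_pos 3
  have hm_4 := T.m_pos 4
  have hw_4 := T.w_pos 4
  have hx_1 := hmax 1
  have hx_2 := hmax 2
  have hx_3 := hmax 3
  have hx_4 := hmax 4
  have N_3_4 := mul_nonneg (hnn 3 4 (by decide)) (T.m_pos 4).le
  have N_4_3 := mul_nonneg (hnn 4 3 (by decide)) (T.m_pos 3).le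
  have R_0 := hrow 0
  rw [Fin.sum_univ_five, hdP 0, e_0_1, e_0_2, e_0_3, e_0_4] at R_0
  have R_1 := hrow 1
  rw [Fin.sum_univ_five, hdP 1, e_1_0, e_1_2, e_1_3, e_1_4] at R_1
  have R_2 := hrow 2
  rw [Fin.sum_univ_five, hdP 2, e_2_0, e_2_1, e_2_3, e_2_4] at R_2
  have R_3 := hrow 3
  rw [Fin.sum_univ_five, hdP 3, e_3_0, e_3_1, e_3_2] at R_3
  have R_4 := hrow 4
  rw [Fin.sum_univ_five, hdP 4, e_4_0, e_4_1, e_4_2] at R_4
  have S_0_1 := hsym 0 1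
  rw [e_0_1, e_1_0] at S_0_1
  have S_0_2 := hsym 0 2
  rw [e_0_2, e_2_0] at S_0_2
  have S_0_3 := hsym 0 3
  rw [e_0_3, e_3_0] at S_0_3
  have S_0_4 := hsym 0 4
  rw [e_0_4, e_4_0] at S_0_4
  have S_1_2 := hsym 1 2
  rw [e_1_2, e_2_1] at S_1_2
  have S_1_3 := hsym 1 3
  rw [e_1_3, e_3_1] at S_1_3
  have S_1_4 := hsym 1 4
  rw [e_1_4, e_4_1] at S_1_4
  have S_2_3 := hsym 2 3
  rw [e_2_3, e_3_2] at S_2_3
  have S_2_4 := hsym 2 4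
  rw [e_2_4, e_4_2] at S_2_4
  have S_3_4 := hsym 3 4
  have Q_3 := hpair 3 4 (by decide)
  generalize e_3_4 : T.picMatrix 3 4 = x_3 at *
  generalize e_4_3 : T.picMatrix 4 3 = y_3 at *
  rcases Q_3 with ⟨rfl, rfl⟩ | ⟨rfl, rfl⟩ | ⟨rfl, rfl⟩ | ⟨rfl, rfl⟩ | ⟨rfl, rfl⟩ | ⟨rfl, rfl⟩ | ⟨rfl, rfl⟩ | ⟨rfl, rfl⟩ | ⟨rfl, rfl⟩
  · exact absurd rfl hne
  · -- (3,4) = (1,1)
    omega
  · -- (3,4) = (1,2)
    omega
  · -- (3,4) = (2,1)
    omega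
  · -- (3,4) = (1,3)
    omega
  · -- (3,4) = (3,1)
    omega
  · -- (3,4) = (1,4)
    omega
  · -- (3,4) = (4,1)
    omega
  · -- (3,4) = (2,2)
    omega

theorem nd_305 (T : Models.NumericalType 5)
    (hG : NTGood T)
    (hmax : ∀ j, T.m j ≤ T.m 0)
    (e_0_1 : T.picMatrix 0 1 = 2)
    (e_0_2 : T.picMatrix 0 2 = 1)
    (e_0_3 : T.picMatrix 0 3 = 1)
    (e_1_0 : T.picMatrix 1 0 = 1)
    (e_1_2 : T.picMatrix 1 2 = 0)
    (e_1_3 : T.picMatrix 1 3 = 0)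
    (e_2_0 : T.picMatrix 2 0 = 1)
    (e_2_1 : T.picMatrix 2 1 = 0)
    (e_2_3 : T.picMatrix 2 3 = 0)
    (e_3_0 : T.picMatrix 3 0 = 1)
    (e_3_1 : T.picMatrix 3 1 = 0)
    (e_3_2 : T.picMatrix 3 2 = 0)
    (cl : ∀ a b : Fin 5, a.val < 3 → 4 ≤ b.val → T.picMatrix a b = 0) :
    Goal T := by
  by_cases hc : ∀ b : Fin 5, 4 ≤ b.val → T.picMatrix 3 b = 0
  · exact nd_306 T hG hmax e_0_1 e_0_2 e_0_3 e_1_0 e_1_2 e_1_3 e_2_0 e_2_1 e_2_3 e_3_0 e_3_1 e_3_2 (nt_cl_succ T 4 3 3 rfl cl hc)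
  · obtain ⟨τ, hfix, cl', z, hne⟩ := nt_wlog_step T 4 (by norm_num) 3 (by norm_num) 3 (by decide) cl hc
    apply goal_relabel T τ
    refine ex_307 (ntRelabel T τ) (hG.relabel τ) ?_ ?_ ?_ ?_ ?_ ?_ ?_ ?_ ?_ ?_ ?_ ?_ ?_ cl' z hne
    · intro j
      show T.m (τ j) ≤ T.m (τ 0)
      rw [hfix 0 (by decide)]
      exact hmax _
    · show T.picMatrix (τ 0) (τ 1) = 2
      rw [hfix 0 (by decide), hfix 1 (by decide)]
      exact e_0_1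
    · show T.picMatrix (τ 0) (τ 2) = 1
      rw [hfix 0 (by decide), hfix 2 (by decide)]
      exact e_0_2
    · show T.picMatrix (τ 0) (τ 3) = 1
      rw [hfix 0 (by decide), hfix 3 (by decide)]
      exact e_0_3
    · show T.picMatrix (τ 1) (τ 0) = 1
      rw [hfix 1 (by decide), hfix 0 (by decide)]
      exact e_1_0
    · show T.picMatrix (τ 1) (τ 2) = 0
      rw [hfix 1 (by decide), hfix 2 (by decide)]
      exact e_1_2
    · show T.picMatrix (τ 1) (τ 3) = 0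
      rw [hfix 1 (by decide), hfix 3 (by decide)]
      exact e_1_3
    · show T.picMatrix (τ 2) (τ 0) = 1
      rw [hfix 2 (by decide), hfix 0 (by decide)]
      exact e_2_0
    · show T.picMatrix (τ 2) (τ 1) = 0
      rw [hfix 2 (by decide), hfix 1 (by decide)]
      exact e_2_1
    · show T.picMatrix (τ 2) (τ 3) = 0
      rw [hfix 2 (by decide), hfix 3 (by decide)]
      exact e_2_3
    · show T.picMatrix (τ 3) (τ 0) = 1
      rw [hfix 3 (by decide), hfix 0 (by decide)]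
      exact e_3_0
    · show T.picMatrix (τ 3) (τ 1) = 0
      rw [hfix 3 (by decide), hfix 1 (by decide)]
      exact e_3_1
    · show T.picMatrix (τ 3) (τ 2) = 0
      rw [hfix 3 (by decide), hfix 2 (by decide)]
      exact e_3_2

theorem ex_308 (T : Models.NumericalType 5)
    (hG : NTGood T)
    (hmax : ∀ j, T.m j ≤ T.m 0)
    (e_0_1 : T.picMatrix 0 1 = 2)
    (e_0_2 : T.picMatrix 0 2 = 1)
    (e_0_3 : T.picMatrix 0 3 = 1)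
    (e_1_0 : T.picMatrix 1 0 = 1)
    (e_1_2 : T.picMatrix 1 2 = 0)
    (e_1_3 : T.picMatrix 1 3 = 0)
    (e_2_0 : T.picMatrix 2 0 = 1)
    (e_2_1 : T.picMatrix 2 1 = 0)
    (e_2_3 : T.picMatrix 2 3 = 0)
    (e_3_0 : T.picMatrix 3 0 = 1)
    (e_3_1 : T.picMatrix 3 1 = 0)
    (e_3_2 : T.picMatrix 3 2 = 0)
    (cl : ∀ a b : Fin 5, a.val < 2 → 5 ≤ b.val → T.picMatrix a b = 0)
    (z : ∀ a : Fin 5, a.val < 2 → T.picMatrix a 4 = 0)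
    (hne : T.picMatrix 2 4 ≠ 0) :
    Goal T := by
  have e_0_4 : T.picMatrix 0 4 = 0 := z 0 (by decide)
  have e_4_0 : T.picMatrix 4 0 = 0 := nt_pic_zero_symm T 0 4 e_0_4
  have e_1_4 : T.picMatrix 1 4 = 0 := z 1 (by decide)
  have e_4_1 : T.picMatrix 4 1 = 0 := nt_pic_zero_symm T 1 4 e_1_4
  obtain ⟨hg0, hdA, hdP, hnn, hrow, hsym, hpair⟩ := ntgood_data T (by norm_num) hG
  have hm_0 := T.m_pos 0
  have hw_0 := T.w_pos 0
  have hm_1 := T.m_pos 1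
  have hw_1 := T.w_pos 1
  have hm_2 := T.m_pos 2
  have hw_2 := T.w_pos 2
  have hm_3 := T.m_pos 3
  have hw_3 := T.w_pos 3
  have hm_4 := T.m_pos 4
  have hw_4 := T.w_pos 4
  have hx_1 := hmax 1
  have hx_2 := hmax 2
  have hx_3 := hmax 3
  have hx_4 := hmax 4
  have N_2_4 := mul_nonneg (hnn 2 4 (by decide)) (T.m_pos 4).le
  have N_4_2 := mul_nonneg (hnn 4 2 (by decide)) (T.m_pos 2).le
  have N_3_4 := mul_nonneg (hnn 3 4 (by decide)) (T.m_pos 4).le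
  have N_4_3 := mul_nonneg (hnn 4 3 (by decide)) (T.m_pos 3).le
  have R_0 := hrow 0
  rw [Fin.sum_univ_five, hdP 0, e_0_1, e_0_2, e_0_3, e_0_4] at R_0
  have R_1 := hrow 1
  rw [Fin.sum_univ_five, hdP 1, e_1_0, e_1_2, e_1_3, e_1_4] at R_1
  have R_2 := hrow 2
  rw [Fin.sum_univ_five, hdP 2, e_2_0, e_2_1, e_2_3] at R_2
  have R_3 := hrow 3
  rw [Fin.sum_univ_five, hdP 3, e_3_0, e_3_1, e_3_2] at R_3
  have R_4 := hrow 4
  rw [Fin.sum_univ_five, hdP 4, e_4_0, e_4_1] at R_4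
  have S_0_1 := hsym 0 1
  rw [e_0_1, e_1_0] at S_0_1
  have S_0_2 := hsym 0 2
  rw [e_0_2, e_2_0] at S_0_2
  have S_0_3 := hsym 0 3
  rw [e_0_3, e_3_0] at S_0_3
  have S_0_4 := hsym 0 4
  rw [e_0_4, e_4_0] at S_0_4
  have S_1_2 := hsym 1 2
  rw [e_1_2, e_2_1] at S_1_2
  have S_1_3 := hsym 1 3
  rw [e_1_3, e_3_1] at S_1_3
  have S_1_4 := hsym 1 4
  rw [e_1_4, e_4_1] at S_1_4
  have S_2_3 := hsym 2 3
  rw [e_2_3, e_3_2] at S_2_3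
  have S_2_4 := hsym 2 4
  have S_3_4 := hsym 3 4
  have Q_2 := hpair 2 4 (by decide)
  have Q_3 := hpair 3 4 (by decide)
  generalize e_2_4 : T.picMatrix 2 4 = x_2 at *
  generalize e_4_2 : T.picMatrix 4 2 = y_2 at *
  generalize e_3_4 : T.picMatrix 3 4 = x_3 at *
  generalize e_4_3 : T.picMatrix 4 3 = y_3 at *
  rcases Q_2 with ⟨rfl, rfl⟩ | ⟨rfl, rfl⟩ | ⟨rfl, rfl⟩ | ⟨rfl, rfl⟩ | ⟨rfl, rfl⟩ | ⟨rfl, rfl⟩ | ⟨rfl, rfl⟩ | ⟨rfl, rfl⟩ | ⟨rfl, rfl⟩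
  · exact absurd rfl hne
  · omega
  · omega
  · omega
  · omega
  · omega
  · omega
  · omega
  · omega

theorem nd_304 (T : Models.NumericalType 5)
    (hG : NTGood T)
    (hmax : ∀ j, T.m j ≤ T.m 0)
    (e_0_1 : T.picMatrix 0 1 = 2)
    (e_0_2 : T.picMatrix 0 2 = 1)
    (e_0_3 : T.picMatrix 0 3 = 1)
    (e_1_0 : T.picMatrix 1 0 = 1)
    (e_1_2 : T.picMatrix 1 2 = 0)
    (e_1_3 : T.picMatrix 1 3 = 0)
    (e_2_0 : T.picMatrix 2 0 = 1)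
    (e_2_1 : T.picMatrix 2 1 = 0)
    (e_2_3 : T.picMatrix 2 3 = 0)
    (e_3_0 : T.picMatrix 3 0 = 1)
    (e_3_1 : T.picMatrix 3 1 = 0)
    (e_3_2 : T.picMatrix 3 2 = 0)
    (cl : ∀ a b : Fin 5, a.val < 2 → 4 ≤ b.val → T.picMatrix a b = 0) :
    Goal T := by
  by_cases hc : ∀ b : Fin 5, 4 ≤ b.val → T.picMatrix 2 b = 0
  · exact nd_305 T hG hmax e_0_1 e_0_2 e_0_3 e_1_0 e_1_2 e_1_3 e_2_0 e_2_1 e_2_3 e_3_0 e_3_1 e_3_2 (nt_cl_succ T 4 2 2 rfl cl hc)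
  · obtain ⟨τ, hfix, cl', z, hne⟩ := nt_wlog_step T 4 (by norm_num) 2 (by norm_num) 2 (by decide) cl hc
    apply goal_relabel T τ
    refine ex_308 (ntRelabel T τ) (hG.relabel τ) ?_ ?_ ?_ ?_ ?_ ?_ ?_ ?_ ?_ ?_ ?_ ?_ ?_ cl' z hne
    · intro j
      show T.m (τ j) ≤ T.m (τ 0)
      rw [hfix 0 (by decide)]
      exact hmax _
    · show T.picMatrix (τ 0) (τ 1) = 2
      rw [hfix 0 (by decide), hfix 1 (by decide)]
      exact e_0_1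
    · show T.picMatrix (τ 0) (τ 2) = 1
      rw [hfix 0 (by decide), hfix 2 (by decide)]
      exact e_0_2
    · show T.picMatrix (τ 0) (τ 3) = 1
      rw [hfix 0 (by decide), hfix 3 (by decide)]
      exact e_0_3
    · show T.picMatrix (τ 1) (τ 0) = 1
      rw [hfix 1 (by decide), hfix 0 (by decide)]
      exact e_1_0
    · show T.picMatrix (τ 1) (τ 2) = 0
      rw [hfix 1 (by decide), hfix 2 (by decide)]
      exact e_1_2
    · show T.picMatrix (τ 1) (τ 3) = 0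
      rw [hfix 1 (by decide), hfix 3 (by decide)]
      exact e_1_3
    · show T.picMatrix (τ 2) (τ 0) = 1
      rw [hfix 2 (by decide), hfix 0 (by decide)]
      exact e_2_0
    · show T.picMatrix (τ 2) (τ 1) = 0
      rw [hfix 2 (by decide), hfix 1 (by decide)]
      exact e_2_1
    · show T.picMatrix (τ 2) (τ 3) = 0
      rw [hfix 2 (by decide), hfix 3 (by decide)]
      exact e_2_3
    · show T.picMatrix (τ 3) (τ 0) = 1
      rw [hfix 3 (by decide), hfix 0 (by decide)]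
      exact e_3_0
    · show T.picMatrix (τ 3) (τ 1) = 0
      rw [hfix 3 (by decide), hfix 1 (by decide)]
      exact e_3_1
    · show T.picMatrix (τ 3) (τ 2) = 0
      rw [hfix 3 (by decide), hfix 2 (by decide)]
      exact e_3_2

theorem ex_309 (T : Models.NumericalType 5)
    (hG : NTGood T)
    (hmax : ∀ j, T.m j ≤ T.m 0)
    (e_0_1 : T.picMatrix 0 1 = 2)
    (e_0_2 : T.picMatrix 0 2 = 1)
    (e_0_3 : T.picMatrix 0 3 = 1)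
    (e_1_0 : T.picMatrix 1 0 = 1)
    (e_1_2 : T.picMatrix 1 2 = 0)
    (e_1_3 : T.picMatrix 1 3 = 0)
    (e_2_0 : T.picMatrix 2 0 = 1)
    (e_2_1 : T.picMatrix 2 1 = 0)
    (e_2_3 : T.picMatrix 2 3 = 0)
    (e_3_0 : T.picMatrix 3 0 = 1)
    (e_3_1 : T.picMatrix 3 1 = 0)
    (e_3_2 : T.picMatrix 3 2 = 0)
    (cl : ∀ a b : Fin 5, a.val < 1 → 5 ≤ b.val → T.picMatrix a b = 0)
    (z : ∀ a : Fin 5, a.val < 1 → T.picMatrix a 4 = 0)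
    (hne : T.picMatrix 1 4 ≠ 0) :
    Goal T := by
  have e_0_4 : T.picMatrix 0 4 = 0 := z 0 (by decide)
  have e_4_0 : T.picMatrix 4 0 = 0 := nt_pic_zero_symm T 0 4 e_0_4
  obtain ⟨hg0, hdA, hdP, hnn, hrow, hsym, hpair⟩ := ntgood_data T (by norm_num) hG
  have hm_0 := T.m_pos 0
  have hw_0 := T.w_pos 0
  have hm_1 := T.m_pos 1
  have hw_1 := T.w_pos 1
  have hm_2 := T.m_pos 2
  have hw_2 := T.w_pos 2
  have hm_3 := T.m_pos 3
  have hw_3 := T.w_pos 3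
  have hm_4 := T.m_pos 4
  have hw_4 := T.w_pos 4
  have hx_1 := hmax 1
  have hx_2 := hmax 2
  have hx_3 := hmax 3
  have hx_4 := hmax 4
  have N_1_4 := mul_nonneg (hnn 1 4 (by decide)) (T.m_pos 4).le
  have N_4_1 := mul_nonneg (hnn 4 1 (by decide)) (T.m_pos 1).le
  have N_2_4 := mul_nonneg (hnn 2 4 (by decide)) (T.m_pos 4).le
  have N_4_2 := mul_nonneg (hnn 4 2 (by decide)) (T.m_pos 2).le
  have N_3_4 := mul_nonneg (hnn 3 4 (by decide)) (T.m_pos 4).le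
  have N_4_3 := mul_nonneg (hnn 4 3 (by decide)) (T.m_pos 3).le
  have R_0 := hrow 0
  rw [Fin.sum_univ_five, hdP 0, e_0_1, e_0_2, e_0_3, e_0_4] at R_0
  have R_1 := hrow 1
  rw [Fin.sum_univ_five, hdP 1, e_1_0, e_1_2, e_1_3] at R_1
  have R_2 := hrow 2
  rw [Fin.sum_univ_five, hdP 2, e_2_0, e_2_1, e_2_3] at R_2
  have R_3 := hrow 3
  rw [Fin.sum_univ_five, hdP 3, e_3_0, e_3_1, e_3_2] at R_3
  have R_4 := hrow 4
  rw [Fin.sum_univ_five, hdP 4, e_4_0] at R_4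
  have S_0_1 := hsym 0 1
  rw [e_0_1, e_1_0] at S_0_1
  have S_0_2 := hsym 0 2
  rw [e_0_2, e_2_0] at S_0_2
  have S_0_3 := hsym 0 3
  rw [e_0_3, e_3_0] at S_0_3
  have S_0_4 := hsym 0 4
  rw [e_0_4, e_4_0] at S_0_4
  have S_1_2 := hsym 1 2
  rw [e_1_2, e_2_1] at S_1_2
  have S_1_3 := hsym 1 3
  rw [e_1_3, e_3_1] at S_1_3
  have S_1_4 := hsym 1 4
  have S_2_3 := hsym 2 3
  rw [e_2_3, e_3_2] at S_2_3
  have S_2_4 := hsym 2 4
  have S_3_4 := hsym 3 4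
  have Q_1 := hpair 1 4 (by decide)
  have Q_2 := hpair 2 4 (by decide)
  have Q_3 := hpair 3 4 (by decide)
  generalize e_1_4 : T.picMatrix 1 4 = x_1 at *
  generalize e_4_1 : T.picMatrix 4 1 = y_1 at *
  generalize e_2_4 : T.picMatrix 2 4 = x_2 at *
  generalize e_4_2 : T.picMatrix 4 2 = y_2 at *
  generalize e_3_4 : T.picMatrix 3 4 = x_3 at *
  generalize e_4_3 : T.picMatrix 4 3 = y_3 at *
  rcases Q_1 with ⟨rfl, rfl⟩ | ⟨rfl, rfl⟩ | ⟨rfl, rfl⟩ | ⟨rfl, rfl⟩ | ⟨rfl, rfl⟩ | ⟨rfl, rfl⟩ | ⟨rfl, rfl⟩ | ⟨rfl, rfl⟩ | ⟨rfl, rfl⟩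
  · exact absurd rfl hne
  · omega
  · omega
  · omega
  · omega
  · omega
  · omega
  · omega
  · omega

theorem nd_303 (T : Models.NumericalType 5)
    (hG : NTGood T)
    (hmax : ∀ j, T.m j ≤ T.m 0)
    (e_0_1 : T.picMatrix 0 1 = 2)
    (e_0_2 : T.picMatrix 0 2 = 1)
    (e_0_3 : T.picMatrix 0 3 = 1)
    (e_1_0 : T.picMatrix 1 0 = 1)
    (e_1_2 : T.picMatrix 1 2 = 0)
    (e_1_3 : T.picMatrix 1 3 = 0)
    (e_2_0 : T.picMatrix 2 0 = 1)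
    (e_2_1 : T.picMatrix 2 1 = 0)
    (e_2_3 : T.picMatrix 2 3 = 0)
    (e_3_0 : T.picMatrix 3 0 = 1)
    (e_3_1 : T.picMatrix 3 1 = 0)
    (e_3_2 : T.picMatrix 3 2 = 0)
    (cl : ∀ a b : Fin 5, a.val < 1 → 4 ≤ b.val → T.picMatrix a b = 0) :
    Goal T := by
  by_cases hc : ∀ b : Fin 5, 4 ≤ b.val → T.picMatrix 1 b = 0
  · exact nd_304 T hG hmax e_0_1 e_0_2 e_0_3 e_1_0 e_1_2 e_1_3 e_2_0 e_2_1 e_2_3 e_3_0 e_3_1 e_3_2 (nt_cl_succ T 4 1 1 rfl cl hc)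
  · obtain ⟨τ, hfix, cl', z, hne⟩ := nt_wlog_step T 4 (by norm_num) 1 (by norm_num) 1 (by decide) cl hc
    apply goal_relabel T τ
    refine ex_309 (ntRelabel T τ) (hG.relabel τ) ?_ ?_ ?_ ?_ ?_ ?_ ?_ ?_ ?_ ?_ ?_ ?_ ?_ cl' z hne
    · intro j
      show T.m (τ j) ≤ T.m (τ 0)
      rw [hfix 0 (by decide)]
      exact hmax _
    · show T.picMatrix (τ 0) (τ 1) = 2
      rw [hfix 0 (by decide), hfix 1 (by decide)]
      exact e_0_1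
    · show T.picMatrix (τ 0) (τ 2) = 1
      rw [hfix 0 (by decide), hfix 2 (by decide)]
      exact e_0_2
    · show T.picMatrix (τ 0) (τ 3) = 1
      rw [hfix 0 (by decide), hfix 3 (by decide)]
      exact e_0_3
    · show T.picMatrix (τ 1) (τ 0) = 1
      rw [hfix 1 (by decide), hfix 0 (by decide)]
      exact e_1_0
    · show T.picMatrix (τ 1) (τ 2) = 0
      rw [hfix 1 (by decide), hfix 2 (by decide)]
      exact e_1_2
    · show T.picMatrix (τ 1) (τ 3) = 0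
      rw [hfix 1 (by decide), hfix 3 (by decide)]
      exact e_1_3
    · show T.picMatrix (τ 2) (τ 0) = 1
      rw [hfix 2 (by decide), hfix 0 (by decide)]
      exact e_2_0
    · show T.picMatrix (τ 2) (τ 1) = 0
      rw [hfix 2 (by decide), hfix 1 (by decide)]
      exact e_2_1
    · show T.picMatrix (τ 2) (τ 3) = 0
      rw [hfix 2 (by decide), hfix 3 (by decide)]
      exact e_2_3
    · show T.picMatrix (τ 3) (τ 0) = 1
      rw [hfix 3 (by decide), hfix 0 (by decide)]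
      exact e_3_0
    · show T.picMatrix (τ 3) (τ 1) = 0
      rw [hfix 3 (by decide), hfix 1 (by decide)]
      exact e_3_1
    · show T.picMatrix (τ 3) (τ 2) = 0
      rw [hfix 3 (by decide), hfix 2 (by decide)]
      exact e_3_2

theorem ex_310 (T : Models.NumericalType 5)
    (hG : NTGood T)
    (hmax : ∀ j, T.m j ≤ T.m 0)
    (e_0_1 : T.picMatrix 0 1 = 2)
    (e_0_2 : T.picMatrix 0 2 = 1)
    (e_0_3 : T.picMatrix 0 3 = 1)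
    (e_1_0 : T.picMatrix 1 0 = 1)
    (e_1_2 : T.picMatrix 1 2 = 0)
    (e_1_3 : T.picMatrix 1 3 = 0)
    (e_2_0 : T.picMatrix 2 0 = 1)
    (e_2_1 : T.picMatrix 2 1 = 0)
    (e_2_3 : T.picMatrix 2 3 = 0)
    (e_3_0 : T.picMatrix 3 0 = 1)
    (e_3_1 : T.picMatrix 3 1 = 0)
    (e_3_2 : T.picMatrix 3 2 = 0)
    (cl : ∀ a b : Fin 5, a.val < 0 → 5 ≤ b.val → T.picMatrix a b = 0)
    (z : ∀ a : Fin 5, a.val < 0 → T.picMatrix a 4 = 0)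
    (hne : T.picMatrix 0 4 ≠ 0) :
    Goal T := by
  obtain ⟨hg0, hdA, hdP, hnn, hrow, hsym, hpair⟩ := ntgood_data T (by norm_num) hG
  have hm_0 := T.m_pos 0
  have hw_0 := T.w_pos 0
  have hm_1 := T.m_pos 1
  have hw_1 := T.w_pos 1
  have hm_2 := T.m_pos 2
  have hw_2 := T.w_pos 2
  have hm_3 := T.m_pos 3
  have hw_3 := T.w_pos 3
  have hm_4 := T.m_pos 4
  have hw_4 := T.w_pos 4
  have hx_1 := hmax 1
  have hx_2 := hmax 2
  have hx_3 := hmax 3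
  have hx_4 := hmax 4
  have N_0_4 := mul_nonneg (hnn 0 4 (by decide)) (T.m_pos 4).le
  have N_4_0 := mul_nonneg (hnn 4 0 (by decide)) (T.m_pos 0).le
  have N_1_4 := mul_nonneg (hnn 1 4 (by decide)) (T.m_pos 4).le
  have N_4_1 := mul_nonneg (hnn 4 1 (by decide)) (T.m_pos 1).le
  have N_2_4 := mul_nonneg (hnn 2 4 (by decide)) (T.m_pos 4).le
  have N_4_2 := mul_nonneg (hnn 4 2 (by decide)) (T.m_pos 2).le
  have N_3_4 := mul_nonneg (hnn 3 4 (by decide)) (T.m_pos 4).le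
  have N_4_3 := mul_nonneg (hnn 4 3 (by decide)) (T.m_pos 3).le
  have R_0 := hrow 0
  rw [Fin.sum_univ_five, hdP 0, e_0_1, e_0_2, e_0_3] at R_0
  have R_1 := hrow 1
  rw [Fin.sum_univ_five, hdP 1, e_1_0, e_1_2, e_1_3] at R_1
  have R_2 := hrow 2
  rw [Fin.sum_univ_five, hdP 2, e_2_0, e_2_1, e_2_3] at R_2
  have R_3 := hrow 3
  rw [Fin.sum_univ_five, hdP 3, e_3_0, e_3_1, e_3_2] at R_3
  have R_4 := hrow 4
  rw [Fin.sum_univ_five, hdP 4] at R_4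
  have S_0_1 := hsym 0 1
  rw [e_0_1, e_1_0] at S_0_1
  have S_0_2 := hsym 0 2
  rw [e_0_2, e_2_0] at S_0_2
  have S_0_3 := hsym 0 3
  rw [e_0_3, e_3_0] at S_0_3
  have S_0_4 := hsym 0 4
  have S_1_2 := hsym 1 2
  rw [e_1_2, e_2_1] at S_1_2
  have S_1_3 := hsym 1 3
  rw [e_1_3, e_3_1] at S_1_3
  have S_1_4 := hsym 1 4
  have S_2_3 := hsym 2 3
  rw [e_2_3, e_3_2] at S_2_3
  have S_2_4 := hsym 2 4
  have S_3_4 := hsym 3 4
  have Q_0 := hpair 0 4 (by decide)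
  have Q_1 := hpair 1 4 (by decide)
  have Q_2 := hpair 2 4 (by decide)
  have Q_3 := hpair 3 4 (by decide)
  generalize e_0_4 : T.picMatrix 0 4 = x_0 at *
  generalize e_4_0 : T.picMatrix 4 0 = y_0 at *
  generalize e_1_4 : T.picMatrix 1 4 = x_1 at *
  generalize e_4_1 : T.picMatrix 4 1 = y_1 at *
  generalize e_2_4 : T.picMatrix 2 4 = x_2 at *
  generalize e_4_2 : T.picMatrix 4 2 = y_2 at *
  generalize e_3_4 : T.picMatrix 3 4 = x_3 at *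
  generalize e_4_3 : T.picMatrix 4 3 = y_3 at *
  rcases Q_0 with ⟨rfl, rfl⟩ | ⟨rfl, rfl⟩ | ⟨rfl, rfl⟩ | ⟨rfl, rfl⟩ | ⟨rfl, rfl⟩ | ⟨rfl, rfl⟩ | ⟨rfl, rfl⟩ | ⟨rfl, rfl⟩ | ⟨rfl, rfl⟩
  · exact absurd rfl hne
  · omega
  · omega
  · omega
  · omega
  · omega
  · omega
  · omega
  · omega

theorem nd_302 (T : Models.NumericalType 5)
    (hG : NTGood T)
    (hmax : ∀ j, T.m j ≤ T.m 0)
    (e_0_1 : T.picMatrix 0 1 = 2)
    (e_0_2 : T.picMatrix 0 2 = 1)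
    (e_0_3 : T.picMatrix 0 3 = 1)
    (e_1_0 : T.picMatrix 1 0 = 1)
    (e_1_2 : T.picMatrix 1 2 = 0)
    (e_1_3 : T.picMatrix 1 3 = 0)
    (e_2_0 : T.picMatrix 2 0 = 1)
    (e_2_1 : T.picMatrix 2 1 = 0)
    (e_2_3 : T.picMatrix 2 3 = 0)
    (e_3_0 : T.picMatrix 3 0 = 1)
    (e_3_1 : T.picMatrix 3 1 = 0)
    (e_3_2 : T.picMatrix 3 2 = 0)
    (cl : ∀ a b : Fin 5, a.val < 0 → 4 ≤ b.val → T.picMatrix a b = 0) :
    Goal T := by
  by_cases hc : ∀ b : Fin 5, 4 ≤ b.val → T.picMatrix 0 b = 0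
  · exact nd_303 T hG hmax e_0_1 e_0_2 e_0_3 e_1_0 e_1_2 e_1_3 e_2_0 e_2_1 e_2_3 e_3_0 e_3_1 e_3_2 (nt_cl_succ T 4 0 0 rfl cl hc)
  · obtain ⟨τ, hfix, cl', z, hne⟩ := nt_wlog_step T 4 (by norm_num) 0 (by norm_num) 0 (by decide) cl hc
    apply goal_relabel T τ
    refine ex_310 (ntRelabel T τ) (hG.relabel τ) ?_ ?_ ?_ ?_ ?_ ?_ ?_ ?_ ?_ ?_ ?_ ?_ ?_ cl' z hne
    · intro j
      show T.m (τ j) ≤ T.m (τ 0)
      rw [hfix 0 (by decide)]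
      exact hmax _
    · show T.picMatrix (τ 0) (τ 1) = 2
      rw [hfix 0 (by decide), hfix 1 (by decide)]
      exact e_0_1
    · show T.picMatrix (τ 0) (τ 2) = 1
      rw [hfix 0 (by decide), hfix 2 (by decide)]
      exact e_0_2
    · show T.picMatrix (τ 0) (τ 3) = 1
      rw [hfix 0 (by decide), hfix 3 (by decide)]
      exact e_0_3
    · show T.picMatrix (τ 1) (τ 0) = 1
      rw [hfix 1 (by decide), hfix 0 (by decide)]
      exact e_1_0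
    · show T.picMatrix (τ 1) (τ 2) = 0
      rw [hfix 1 (by decide), hfix 2 (by decide)]
      exact e_1_2
    · show T.picMatrix (τ 1) (τ 3) = 0
      rw [hfix 1 (by decide), hfix 3 (by decide)]
      exact e_1_3
    · show T.picMatrix (τ 2) (τ 0) = 1
      rw [hfix 2 (by decide), hfix 0 (by decide)]
      exact e_2_0
    · show T.picMatrix (τ 2) (τ 1) = 0
      rw [hfix 2 (by decide), hfix 1 (by decide)]
      exact e_2_1
    · show T.picMatrix (τ 2) (τ 3) = 0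
      rw [hfix 2 (by decide), hfix 3 (by decide)]
      exact e_2_3
    · show T.picMatrix (τ 3) (τ 0) = 1
      rw [hfix 3 (by decide), hfix 0 (by decide)]
      exact e_3_0
    · show T.picMatrix (τ 3) (τ 1) = 0
      rw [hfix 3 (by decide), hfix 1 (by decide)]
      exact e_3_1
    · show T.picMatrix (τ 3) (τ 2) = 0
      rw [hfix 3 (by decide), hfix 2 (by decide)]
      exact e_3_2

theorem ex_301 (T : Models.NumericalType 5)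
    (hG : NTGood T)
    (hmax : ∀ j, T.m j ≤ T.m 0)
    (e_0_1 : T.picMatrix 0 1 = 2)
    (e_0_2 : T.picMatrix 0 2 = 1)
    (e_1_0 : T.picMatrix 1 0 = 1)
    (e_1_2 : T.picMatrix 1 2 = 0)
    (e_2_0 : T.picMatrix 2 0 = 1)
    (e_2_1 : T.picMatrix 2 1 = 0)
    (cl : ∀ a b : Fin 5, a.val < 0 → 4 ≤ b.val → T.picMatrix a b = 0)
    (z : ∀ a : Fin 5, a.val < 0 → T.picMatrix a 3 = 0)
    (hne : T.picMatrix 0 3 ≠ 0) :
    Goal T := by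
  obtain ⟨hg0, hdA, hdP, hnn, hrow, hsym, hpair⟩ := ntgood_data T (by norm_num) hG
  have hm_0 := T.m_pos 0
  have hw_0 := T.w_pos 0
  have hm_1 := T.m_pos 1
  have hw_1 := T.w_pos 1
  have hm_2 := T.m_pos 2
  have hw_2 := T.w_pos 2
  have hm_3 := T.m_pos 3
  have hw_3 := T.w_pos 3
  have hx_1 := hmax 1
  have hx_2 := hmax 2
  have hx_3 := hmax 3
  have N_0_4 := mul_nonneg (hnn 0 4 (by decide)) (T.m_pos 4).le
  have N_1_4 := mul_nonneg (hnn 1 4 (by decide)) (T.m_pos 4).le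
  have N_2_4 := mul_nonneg (hnn 2 4 (by decide)) (T.m_pos 4).le
  have N_3_4 := mul_nonneg (hnn 3 4 (by decide)) (T.m_pos 4).le
  have N_0_3 := mul_nonneg (hnn 0 3 (by decide)) (T.m_pos 3).le
  have N_3_0 := mul_nonneg (hnn 3 0 (by decide)) (T.m_pos 0).le
  have N_1_3 := mul_nonneg (hnn 1 3 (by decide)) (T.m_pos 3).le
  have N_3_1 := mul_nonneg (hnn 3 1 (by decide)) (T.m_pos 1).le
  have N_2_3 := mul_nonneg (hnn 2 3 (by decide)) (T.m_pos 3).le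
  have N_3_2 := mul_nonneg (hnn 3 2 (by decide)) (T.m_pos 2).le
  have R_0 := hrow 0
  rw [Fin.sum_univ_five, hdP 0, e_0_1, e_0_2] at R_0
  have R_1 := hrow 1
  rw [Fin.sum_univ_five, hdP 1, e_1_0, e_1_2] at R_1
  have R_2 := hrow 2
  rw [Fin.sum_univ_five, hdP 2, e_2_0, e_2_1] at R_2
  have R_3 := hrow 3
  rw [Fin.sum_univ_five, hdP 3] at R_3
  have S_0_1 := hsym 0 1
  rw [e_0_1, e_1_0] at S_0_1
  have S_0_2 := hsym 0 2
  rw [e_0_2, e_2_0] at S_0_2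
  have S_0_3 := hsym 0 3
  have S_1_2 := hsym 1 2
  rw [e_1_2, e_2_1] at S_1_2
  have S_1_3 := hsym 1 3
  have S_2_3 := hsym 2 3
  have Q_0 := hpair 0 3 (by decide)
  have Q_1 := hpair 1 3 (by decide)
  have Q_2 := hpair 2 3 (by decide)
  generalize e_0_3 : T.picMatrix 0 3 = x_0 at *
  generalize e_3_0 : T.picMatrix 3 0 = y_0 at *
  generalize e_1_3 : T.picMatrix 1 3 = x_1 at *
  generalize e_3_1 : T.picMatrix 3 1 = y_1 at *
  generalize e_2_3 : T.picMatrix 2 3 = x_2 at *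
  generalize e_3_2 : T.picMatrix 3 2 = y_2 at *
  rcases Q_0 with ⟨rfl, rfl⟩ | ⟨rfl, rfl⟩ | ⟨rfl, rfl⟩ | ⟨rfl, rfl⟩ | ⟨rfl, rfl⟩ | ⟨rfl, rfl⟩ | ⟨rfl, rfl⟩ | ⟨rfl, rfl⟩ | ⟨rfl, rfl⟩
  · exact absurd rfl hne
  · -- (0,3) = (1,1)
    rcases Q_1 with ⟨rfl, rfl⟩ | ⟨rfl, rfl⟩ | ⟨rfl, rfl⟩ | ⟨rfl, rfl⟩ | ⟨rfl, rfl⟩ | ⟨rfl, rfl⟩ | ⟨rfl, rfl⟩ | ⟨rfl, rfl⟩ | ⟨rfl, rfl⟩
    · -- (1,3) = (0,0)
      rcases Q_2 with ⟨rfl, rfl⟩ | ⟨rfl, rfl⟩ | ⟨rfl, rfl⟩ | ⟨rfl, rfl⟩ | ⟨rfl, rfl⟩ | ⟨rfl, rfl⟩ | ⟨rfl, rfl⟩ | ⟨rfl, rfl⟩ | ⟨rfl, rfl⟩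
      · -- (2,3) = (0,0)
        exact nd_302 T hG hmax e_0_1 e_0_2 e_0_3 e_1_0 e_1_2 e_1_3 e_2_0 e_2_1 e_2_3 e_3_0 e_3_1 e_3_2 cl
      · -- (2,3) = (1,1)
        omega
      · -- (2,3) = (1,2)
        omega
      · -- (2,3) = (2,1)
        omega
      · -- (2,3) = (1,3)
        omega
      · -- (2,3) = (3,1)
        omega
      · -- (2,3) = (1,4)
        omega
      · -- (2,3) = (4,1)
        omega
      · -- (2,3) = (2,2)
        omega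
    · omega
    · omega
    · omega
    · omega
    · omega
    · omega
    · omega
    · omega
  · omega
  · omega
  · omega
  · omega
  · omega
  · omega
  · omega

theorem nd_268 (T : Models.NumericalType 5)
    (hG : NTGood T)
    (hmax : ∀ j, T.m j ≤ T.m 0)
    (e_0_1 : T.picMatrix 0 1 = 2)
    (e_0_2 : T.picMatrix 0 2 = 1)
    (e_1_0 : T.picMatrix 1 0 = 1)
    (e_1_2 : T.picMatrix 1 2 = 0)
    (e_2_0 : T.picMatrix 2 0 = 1)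
    (e_2_1 : T.picMatrix 2 1 = 0)
    (cl : ∀ a b : Fin 5, a.val < 0 → 3 ≤ b.val → T.picMatrix a b = 0) :
    Goal T := by
  by_cases hc : ∀ b : Fin 5, 3 ≤ b.val → T.picMatrix 0 b = 0
  · exact nd_269 T hG hmax e_0_1 e_0_2 e_1_0 e_1_2 e_2_0 e_2_1 (nt_cl_succ T 3 0 0 rfl cl hc)
  · obtain ⟨τ, hfix, cl', z, hne⟩ := nt_wlog_step T 3 (by norm_num) 0 (by norm_num) 0 (by decide) cl hc
    apply goal_relabel T τ
    refine ex_301 (ntRelabel T τ) (hG.relabel τ) ?_ ?_ ?_ ?_ ?_ ?_ ?_ cl' z hne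
    · intro j
      show T.m (τ j) ≤ T.m (τ 0)
      rw [hfix 0 (by decide)]
      exact hmax _
    · show T.picMatrix (τ 0) (τ 1) = 2
      rw [hfix 0 (by decide), hfix 1 (by decide)]
      exact e_0_1
    · show T.picMatrix (τ 0) (τ 2) = 1
      rw [hfix 0 (by decide), hfix 2 (by decide)]
      exact e_0_2
    · show T.picMatrix (τ 1) (τ 0) = 1
      rw [hfix 1 (by decide), hfix 0 (by decide)]
      exact e_1_0
    · show T.picMatrix (τ 1) (τ 2) = 0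
      rw [hfix 1 (by decide), hfix 2 (by decide)]
      exact e_1_2
    · show T.picMatrix (τ 2) (τ 0) = 1
      rw [hfix 2 (by decide), hfix 0 (by decide)]
      exact e_2_0
    · show T.picMatrix (τ 2) (τ 1) = 0
      rw [hfix 2 (by decide), hfix 1 (by decide)]
      exact e_2_1

end Groth.Agent.Lib.helper4.G5
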