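import Groth.Agent.Lib.helper4.G5.Defs

/-!
# Genus one classification on 5 indices: generated case analysis, part 3 (helper4)
-/

set_option autoImplicit false
set_option maxHeartbeats 1000000
set_option linter.unusedVariables false

namespace Groth.Agent.Lib.helper4.G5

open Groth.Agent.Lib.helper4

theorem nd_82 (T : Models.NumericalType 5)
    (hG : NTGood T)
    (hmax : ∀ j, T.m j ≤ T.m 0)
    (e_0_1 : T.picMatrix 0 1 = 1)
    (e_0_2 : T.picMatrix 0 2 = 1)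
    (e_1_0 : T.picMatrix 1 0 = 1)
    (e_1_2 : T.picMatrix 1 2 = 0)
    (e_2_0 : T.picMatrix 2 0 = 2)
    (e_2_1 : T.picMatrix 2 1 = 0)
    (cl : ∀ a b : Fin 5, a.val < 2 → 3 ≤ b.val → T.picMatrix a b = 0) :
    Goal T := by
  obtain ⟨hg0, hdA, hdP, hnn, hrow, hsym, hpair⟩ := ntgood_data T (by norm_num) hG
  have hm_0 := T.m_pos 0
  have hw_0 := T.w_pos 0
  have hm_1 := T.m_pos 1
  have hw_1 := T.w_pos 1
  have hm_2 := T.m_pos 2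
  have hw_2 := T.w_pos 2
  have hx_1 := hmax 1
  have hx_2 := hmax 2
  have Z_0_3 := cl 0 3 (by decide) (by decide)
  have Z_0_4 := cl 0 4 (by decide) (by decide)
  have Z_1_3 := cl 1 3 (by decide) (by decide)
  have Z_1_4 := cl 1 4 (by decide) (by decide)
  have N_2_3 := mul_nonneg (hnn 2 3 (by decide)) (T.m_pos 3).le
  have N_2_4 := mul_nonneg (hnn 2 4 (by decide)) (T.m_pos 4).le
  have R_0 := hrow 0
  rw [Fin.sum_univ_five, hdP 0, e_0_1, e_0_2, Z_0_3, Z_0_4] at R_0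
  have R_1 := hrow 1
  rw [Fin.sum_univ_five, hdP 1, e_1_0, e_1_2, Z_1_3, Z_1_4] at R_1
  have R_2 := hrow 2
  rw [Fin.sum_univ_five, hdP 2, e_2_0, e_2_1] at R_2
  have S_0_1 := hsym 0 1
  rw [e_0_1, e_1_0] at S_0_1
  have S_0_2 := hsym 0 2
  rw [e_0_2, e_2_0] at S_0_2
  have S_1_2 := hsym 1 2
  rw [e_1_2, e_2_1] at S_1_2
  exfalso
  omega

theorem nd_87 (T : Models.NumericalType 5)
    (hG : NTGood T)
    (hmax : ∀ j, T.m j ≤ T.m 0)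
    (e_0_1 : T.picMatrix 0 1 = 1)
    (e_0_2 : T.picMatrix 0 2 = 1)
    (e_0_3 : T.picMatrix 0 3 = 0)
    (e_1_0 : T.picMatrix 1 0 = 1)
    (e_1_2 : T.picMatrix 1 2 = 0)
    (e_1_3 : T.picMatrix 1 3 = 1)
    (e_2_0 : T.picMatrix 2 0 = 2)
    (e_2_1 : T.picMatrix 2 1 = 0)
    (e_2_3 : T.picMatrix 2 3 = 0)
    (e_3_0 : T.picMatrix 3 0 = 0)
    (e_3_1 : T.picMatrix 3 1 = 1)
    (e_3_2 : T.picMatrix 3 2 = 0)
    (cl : ∀ a b : Fin 5, a.val < 4 → 4 ≤ b.val → T.picMatrix a b = 0) :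
    Goal T := by
  obtain ⟨hg0, hdA, hdP, hnn, hrow, hsym, hpair⟩ := ntgood_data T (by norm_num) hG
  have hm_0 := T.m_pos 0
  have hw_0 := T.w_pos 0
  have hm_1 := T.m_pos 1
  have hw_1 := T.w_pos 1
  have hm_2 := T.m_pos 2
  have hw_2 := T.w_pos 2
  have hm_3 := T.m_pos 3
  have hw_3 := T.w_pos 3
  have hx_1 := hmax 1
  have hx_2 := hmax 2
  have hx_3 := hmax 3
  have Z_0_4 := cl 0 4 (by decide) (by decide)
  have Z_1_4 := cl 1 4 (by decide) (by decide)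
  have Z_2_4 := cl 2 4 (by decide) (by decide)
  have Z_3_4 := cl 3 4 (by decide) (by decide)
  have R_0 := hrow 0
  rw [Fin.sum_univ_five, hdP 0, e_0_1, e_0_2, e_0_3, Z_0_4] at R_0
  have R_1 := hrow 1
  rw [Fin.sum_univ_five, hdP 1, e_1_0, e_1_2, e_1_3, Z_1_4] at R_1
  have R_2 := hrow 2
  rw [Fin.sum_univ_five, hdP 2, e_2_0, e_2_1, e_2_3, Z_2_4] at R_2
  have R_3 := hrow 3
  rw [Fin.sum_univ_five, hdP 3, e_3_0, e_3_1, e_3_2, Z_3_4] at R_3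
  have S_0_1 := hsym 0 1
  rw [e_0_1, e_1_0] at S_0_1
  have S_0_2 := hsym 0 2
  rw [e_0_2, e_2_0] at S_0_2
  have S_0_3 := hsym 0 3
  rw [e_0_3, e_3_0] at S_0_3
  have S_1_2 := hsym 1 2
  rw [e_1_2, e_2_1] at S_1_2
  have S_1_3 := hsym 1 3
  rw [e_1_3, e_3_1] at S_1_3
  have S_2_3 := hsym 2 3
  rw [e_2_3, e_3_2] at S_2_3
  exfalso
  omega

theorem nd_89 (T : Models.NumericalType 5)
    (hG : NTGood T)
    (hmax : ∀ j, T.m j ≤ T.m 0)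
    (e_0_1 : T.picMatrix 0 1 = 1)
    (e_0_2 : T.picMatrix 0 2 = 1)
    (e_0_3 : T.picMatrix 0 3 = 0)
    (e_0_4 : T.picMatrix 0 4 = 0)
    (e_1_0 : T.picMatrix 1 0 = 1)
    (e_1_2 : T.picMatrix 1 2 = 0)
    (e_1_3 : T.picMatrix 1 3 = 1)
    (e_1_4 : T.picMatrix 1 4 = 0)
    (e_2_0 : T.picMatrix 2 0 = 2)
    (e_2_1 : T.picMatrix 2 1 = 0)
    (e_2_3 : T.picMatrix 2 3 = 0)
    (e_2_4 : T.picMatrix 2 4 = 0)
    (e_3_0 : T.picMatrix 3 0 = 0)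
    (e_3_1 : T.picMatrix 3 1 = 1)
    (e_3_2 : T.picMatrix 3 2 = 0)
    (e_3_4 : T.picMatrix 3 4 = 1)
    (e_4_0 : T.picMatrix 4 0 = 0)
    (e_4_1 : T.picMatrix 4 1 = 0)
    (e_4_2 : T.picMatrix 4 2 = 0)
    (e_4_3 : T.picMatrix 4 3 = 2)
    (cl : ∀ a b : Fin 5, a.val < 3 → 5 ≤ b.val → T.picMatrix a b = 0) :
    Goal T := by
  obtain ⟨hg0, hdA, hdP, hnn, hrow, hsym, hpair⟩ := ntgood_data T (by norm_num) hG
  have hm_0 := T.m_pos 0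
  have hw_0 := T.w_pos 0
  have hm_1 := T.m_pos 1
  have hw_1 := T.w_pos 1
  have hm_2 := T.m_pos 2
  have hw_2 := T.w_pos 2
  have hm_3 := T.m_pos 3
  have hw_3 := T.w_pos 3
  have hm_4 := T.m_pos 4
  have hw_4 := T.w_pos 4
  have hx_1 := hmax 1
  have hx_2 := hmax 2
  have hx_3 := hmax 3
  have hx_4 := hmax 4
  have R_0 := hrow 0
  rw [Fin.sum_univ_five, hdP 0, e_0_1, e_0_2, e_0_3, e_0_4] at R_0
  have R_1 := hrow 1
  rw [Fin.sum_univ_five, hdP 1, e_1_0, e_1_2, e_1_3, e_1_4] at R_1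
  have R_2 := hrow 2
  rw [Fin.sum_univ_five, hdP 2, e_2_0, e_2_1, e_2_3, e_2_4] at R_2
  have R_3 := hrow 3
  rw [Fin.sum_univ_five, hdP 3, e_3_0, e_3_1, e_3_2, e_3_4] at R_3
  have R_4 := hrow 4
  rw [Fin.sum_univ_five, hdP 4, e_4_0, e_4_1, e_4_2, e_4_3] at R_4
  have S_0_1 := hsym 0 1
  rw [e_0_1, e_1_0] at S_0_1
  have S_0_2 := hsym 0 2
  rw [e_0_2, e_2_0] at S_0_2
  have S_0_3 := hsym 0 3
  rw [e_0_3, e_3_0] at S_0_3
  have S_0_4 := hsym 0 4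
  rw [e_0_4, e_4_0] at S_0_4
  have S_1_2 := hsym 1 2
  rw [e_1_2, e_2_1] at S_1_2
  have S_1_3 := hsym 1 3
  rw [e_1_3, e_3_1] at S_1_3
  have S_1_4 := hsym 1 4
  rw [e_1_4, e_4_1] at S_1_4
  have S_2_3 := hsym 2 3
  rw [e_2_3, e_3_2] at S_2_3
  have S_2_4 := hsym 2 4
  rw [e_2_4, e_4_2] at S_2_4
  have S_3_4 := hsym 3 4
  rw [e_3_4, e_4_3] at S_3_4
  have D_0 := hdA 0
  have A_0_1 := nt_a_eq T 0 1
  rw [e_0_1] at A_0_1
  have A_0_2 := nt_a_eq T 0 2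
  rw [e_0_2] at A_0_2
  have A_0_3 := nt_a_eq T 0 3
  rw [e_0_3] at A_0_3
  have A_0_4 := nt_a_eq T 0 4
  rw [e_0_4] at A_0_4
  have D_1 := hdA 1
  have A_1_0 := nt_a_eq T 1 0
  rw [e_1_0] at A_1_0
  have A_1_2 := nt_a_eq T 1 2
  rw [e_1_2] at A_1_2
  have A_1_3 := nt_a_eq T 1 3
  rw [e_1_3] at A_1_3
  have A_1_4 := nt_a_eq T 1 4
  rw [e_1_4] at A_1_4
  have D_2 := hdA 2
  have A_2_0 := nt_a_eq T 2 0
  rw [e_2_0] at A_2_0
  have A_2_1 := nt_a_eq T 2 1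
  rw [e_2_1] at A_2_1
  have A_2_3 := nt_a_eq T 2 3
  rw [e_2_3] at A_2_3
  have A_2_4 := nt_a_eq T 2 4
  rw [e_2_4] at A_2_4
  have D_3 := hdA 3
  have A_3_0 := nt_a_eq T 3 0
  rw [e_3_0] at A_3_0
  have A_3_1 := nt_a_eq T 3 1
  rw [e_3_1] at A_3_1
  have A_3_2 := nt_a_eq T 3 2
  rw [e_3_2] at A_3_2
  have A_3_4 := nt_a_eq T 3 4
  rw [e_3_4] at A_3_4
  have D_4 := hdA 4
  have A_4_0 := nt_a_eq T 4 0
  rw [e_4_0] at A_4_0
  have A_4_1 := nt_a_eq T 4 1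
  rw [e_4_1] at A_4_1
  have A_4_2 := nt_a_eq T 4 2
  rw [e_4_2] at A_4_2
  have A_4_3 := nt_a_eq T 4 3
  rw [e_4_3] at A_4_3
  refine goal_of_indices T hg0 2 0 1 3 4 (by decide) (T.m 2) (T.w 2) ?_
  unfold Goali
  exact Or.inr (Or.inr (Or.inr (Or.inr (Or.inl ⟨by omega, by omega, by omega, by omega, by omega, by omega, by omega, by omega, by omega, by omega, by omega, by omega, by omega, by omega, by omega, by omega, by omega, by omega, by omega, by omega, by omega, by omega, by omega, by omega, by omega⟩))))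

theorem nd_90 (T : Models.NumericalType 5)
    (hG : NTGood T)
    (hmax : ∀ j, T.m j ≤ T.m 0)
    (e_0_1 : T.picMatrix 0 1 = 1)
    (e_0_2 : T.picMatrix 0 2 = 1)
    (e_0_3 : T.picMatrix 0 3 = 0)
    (e_0_4 : T.picMatrix 0 4 = 0)
    (e_1_0 : T.picMatrix 1 0 = 1)
    (e_1_2 : T.picMatrix 1 2 = 0)
    (e_1_3 : T.picMatrix 1 3 = 1)
    (e_1_4 : T.picMatrix 1 4 = 0)
    (e_2_0 : T.picMatrix 2 0 = 2)
    (e_2_1 : T.picMatrix 2 1 = 0)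
    (e_2_3 : T.picMatrix 2 3 = 0)
    (e_2_4 : T.picMatrix 2 4 = 0)
    (e_3_0 : T.picMatrix 3 0 = 0)
    (e_3_1 : T.picMatrix 3 1 = 1)
    (e_3_2 : T.picMatrix 3 2 = 0)
    (e_3_4 : T.picMatrix 3 4 = 2)
    (e_4_0 : T.picMatrix 4 0 = 0)
    (e_4_1 : T.picMatrix 4 1 = 0)
    (e_4_2 : T.picMatrix 4 2 = 0)
    (e_4_3 : T.picMatrix 4 3 = 1)
    (cl : ∀ a b : Fin 5, a.val < 3 → 5 ≤ b.val → T.picMatrix a b = 0) :
    Goal T := by
  obtain ⟨hg0, hdA, hdP, hnn, hrow, hsym, hpair⟩ := ntgood_data T (by norm_num) hG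
  have hm_0 := T.m_pos 0
  have hw_0 := T.w_pos 0
  have hm_1 := T.m_pos 1
  have hw_1 := T.w_pos 1
  have hm_2 := T.m_pos 2
  have hw_2 := T.w_pos 2
  have hm_3 := T.m_pos 3
  have hw_3 := T.w_pos 3
  have hm_4 := T.m_pos 4
  have hw_4 := T.w_pos 4
  have hx_1 := hmax 1
  have hx_2 := hmax 2
  have hx_3 := hmax 3
  have hx_4 := hmax 4
  have R_0 := hrow 0
  rw [Fin.sum_univ_five, hdP 0, e_0_1, e_0_2, e_0_3, e_0_4] at R_0
  have R_1 := hrow 1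
  rw [Fin.sum_univ_five, hdP 1, e_1_0, e_1_2, e_1_3, e_1_4] at R_1
  have R_2 := hrow 2
  rw [Fin.sum_univ_five, hdP 2, e_2_0, e_2_1, e_2_3, e_2_4] at R_2
  have R_3 := hrow 3
  rw [Fin.sum_univ_five, hdP 3, e_3_0, e_3_1, e_3_2, e_3_4] at R_3
  have R_4 := hrow 4
  rw [Fin.sum_univ_five, hdP 4, e_4_0, e_4_1, e_4_2, e_4_3] at R_4
  have S_0_1 := hsym 0 1
  rw [e_0_1, e_1_0] at S_0_1
  have S_0_2 := hsym 0 2
  rw [e_0_2, e_2_0] at S_0_2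
  have S_0_3 := hsym 0 3
  rw [e_0_3, e_3_0] at S_0_3
  have S_0_4 := hsym 0 4
  rw [e_0_4, e_4_0] at S_0_4
  have S_1_2 := hsym 1 2
  rw [e_1_2, e_2_1] at S_1_2
  have S_1_3 := hsym 1 3
  rw [e_1_3, e_3_1] at S_1_3
  have S_1_4 := hsym 1 4
  rw [e_1_4, e_4_1] at S_1_4
  have S_2_3 := hsym 2 3
  rw [e_2_3, e_3_2] at S_2_3
  have S_2_4 := hsym 2 4
  rw [e_2_4, e_4_2] at S_2_4
  have S_3_4 := hsym 3 4
  rw [e_3_4, e_4_3] at S_3_4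
  have D_0 := hdA 0
  have A_0_1 := nt_a_eq T 0 1
  rw [e_0_1] at A_0_1
  have A_0_2 := nt_a_eq T 0 2
  rw [e_0_2] at A_0_2
  have A_0_3 := nt_a_eq T 0 3
  rw [e_0_3] at A_0_3
  have A_0_4 := nt_a_eq T 0 4
  rw [e_0_4] at A_0_4
  have D_1 := hdA 1
  have A_1_0 := nt_a_eq T 1 0
  rw [e_1_0] at A_1_0
  have A_1_2 := nt_a_eq T 1 2
  rw [e_1_2] at A_1_2
  have A_1_3 := nt_a_eq T 1 3
  rw [e_1_3] at A_1_3
  have A_1_4 := nt_a_eq T 1 4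
  rw [e_1_4] at A_1_4
  have D_2 := hdA 2
  have A_2_0 := nt_a_eq T 2 0
  rw [e_2_0] at A_2_0
  have A_2_1 := nt_a_eq T 2 1
  rw [e_2_1] at A_2_1
  have A_2_3 := nt_a_eq T 2 3
  rw [e_2_3] at A_2_3
  have A_2_4 := nt_a_eq T 2 4
  rw [e_2_4] at A_2_4
  have D_3 := hdA 3
  have A_3_0 := nt_a_eq T 3 0
  rw [e_3_0] at A_3_0
  have A_3_1 := nt_a_eq T 3 1
  rw [e_3_1] at A_3_1
  have A_3_2 := nt_a_eq T 3 2
  rw [e_3_2] at A_3_2
  have A_3_4 := nt_a_eq T 3 4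
  rw [e_3_4] at A_3_4
  have D_4 := hdA 4
  have A_4_0 := nt_a_eq T 4 0
  rw [e_4_0] at A_4_0
  have A_4_1 := nt_a_eq T 4 1
  rw [e_4_1] at A_4_1
  have A_4_2 := nt_a_eq T 4 2
  rw [e_4_2] at A_4_2
  have A_4_3 := nt_a_eq T 4 3
  rw [e_4_3] at A_4_3
  refine goal_of_indices T hg0 2 0 1 3 4 (by decide) (T.m 4) (T.w 2) ?_
  unfold Goali
  exact Or.inr (Or.inr (Or.inr (Or.inl ⟨by omega, by omega, by omega, by omega, by omega, by omega, by omega, by omega, by omega, by omega, by omega, by omega, by omega, by omega, by omega, by omega, by omega, by omega, by omega, by omega, by omega, by omega, by omega, by omega, by omega⟩)))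

theorem ex_88 (T : Models.NumericalType 5)
    (hG : NTGood T)
    (hmax : ∀ j, T.m j ≤ T.m 0)
    (e_0_1 : T.picMatrix 0 1 = 1)
    (e_0_2 : T.picMatrix 0 2 = 1)
    (e_0_3 : T.picMatrix 0 3 = 0)
    (e_1_0 : T.picMatrix 1 0 = 1)
    (e_1_2 : T.picMatrix 1 2 = 0)
    (e_1_3 : T.picMatrix 1 3 = 1)
    (e_2_0 : T.picMatrix 2 0 = 2)
    (e_2_1 : T.picMatrix 2 1 = 0)
    (e_2_3 : T.picMatrix 2 3 = 0)
    (e_3_0 : T.picMatrix 3 0 = 0)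
    (e_3_1 : T.picMatrix 3 1 = 1)
    (e_3_2 : T.picMatrix 3 2 = 0)
    (cl : ∀ a b : Fin 5, a.val < 3 → 5 ≤ b.val → T.picMatrix a b = 0)
    (z : ∀ a : Fin 5, a.val < 3 → T.picMatrix a 4 = 0)
    (hne : T.picMatrix 3 4 ≠ 0) :
    Goal T := by
  have e_0_4 : T.picMatrix 0 4 = 0 := z 0 (by decide)
  have e_4_0 : T.picMatrix 4 0 = 0 := nt_pic_zero_symm T 0 4 e_0_4
  have e_1_4 : T.picMatrix 1 4 = 0 := z 1 (by decide)
  have e_4_1 : T.picMatrix 4 1 = 0 := nt_pic_zero_symm T 1 4 e_1_4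
  have e_2_4 : T.picMatrix 2 4 = 0 := z 2 (by decide)
  have e_4_2 : T.picMatrix 4 2 = 0 := nt_pic_zero_symm T 2 4 e_2_4
  obtain ⟨hg0, hdA, hdP, hnn, hrow, hsym, hpair⟩ := ntgood_data T (by norm_num) hG
  have hm_0 := T.m_pos 0
  have hw_0 := T.w_pos 0
  have hm_1 := T.m_pos 1
  have hw_1 := T.w_pos 1
  have hm_2 := T.m_pos 2
  have hw_2 := T.w_pos 2
  have hm_3 := T.m_pos 3
  have hw_3 := T.w_pos 3
  have hm_4 := T.m_pos 4
  have hw_4 := T.w_pos 4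
  have hx_1 := hmax 1
  have hx_2 := hmax 2
  have hx_3 := hmax 3
  have hx_4 := hmax 4
  have N_3_4 := mul_nonneg (hnn 3 4 (by decide)) (T.m_pos 4).le
  have N_4_3 := mul_nonneg (hnn 4 3 (by decide)) (T.m_pos 3).le
  have R_0 := hrow 0
  rw [Fin.sum_univ_five, hdP 0, e_0_1, e_0_2, e_0_3, e_0_4] at R_0
  have R_1 := hrow 1
  rw [Fin.sum_univ_five, hdP 1, e_1_0, e_1_2, e_1_3, e_1_4] at R_1
  have R_2 := hrow 2
  rw [Fin.sum_univ_five, hdP 2, e_2_0, e_2_1, e_2_3, e_2_4] at R_2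
  have R_3 := hrow 3
  rw [Fin.sum_univ_five, hdP 3, e_3_0, e_3_1, e_3_2] at R_3
  have R_4 := hrow 4
  rw [Fin.sum_univ_five, hdP 4, e_4_0, e_4_1, e_4_2] at R_4
  have S_0_1 := hsym 0 1
  rw [e_0_1, e_1_0] at S_0_1
  have S_0_2 := hsym 0 2
  rw [e_0_2, e_2_0] at S_0_2
  have S_0_3 := hsym 0 3
  rw [e_0_3, e_3_0] at S_0_3
  have S_0_4 := hsym 0 4
  rw [e_0_4, e_4_0] at S_0_4
  have S_1_2 := hsym 1 2
  rw [e_1_2, e_2_1] at S_1_2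
  have S_1_3 := hsym 1 3
  rw [e_1_3, e_3_1] at S_1_3
  have S_1_4 := hsym 1 4
  rw [e_1_4, e_4_1] at S_1_4
  have S_2_3 := hsym 2 3
  rw [e_2_3, e_3_2] at S_2_3
  have S_2_4 := hsym 2 4
  rw [e_2_4, e_4_2] at S_2_4
  have S_3_4 := hsym 3 4
  have Q_3 := hpair 3 4 (by decide)
  generalize e_3_4 : T.picMatrix 3 4 = x_3 at *
  generalize e_4_3 : T.picMatrix 4 3 = y_3 at *
  rcases Q_3 with ⟨rfl, rfl⟩ | ⟨rfl, rfl⟩ | ⟨rfl, rfl⟩ | ⟨rfl, rfl⟩ | ⟨rfl, rfl⟩ | ⟨rfl, rfl⟩ | ⟨rfl, rfl⟩ | ⟨rfl, rfl⟩ | ⟨rfl, rfl⟩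
  · exact absurd rfl hne
  · -- (3,4) = (1,1)
    omega
  · -- (3,4) = (1,2)
    exact nd_89 T hG hmax e_0_1 e_0_2 e_0_3 e_0_4 e_1_0 e_1_2 e_1_3 e_1_4 e_2_0 e_2_1 e_2_3 e_2_4 e_3_0 e_3_1 e_3_2 e_3_4 e_4_0 e_4_1 e_4_2 e_4_3 cl
  · -- (3,4) = (2,1)
    exact nd_90 T hG hmax e_0_1 e_0_2 e_0_3 e_0_4 e_1_0 e_1_2 e_1_3 e_1_4 e_2_0 e_2_1 e_2_3 e_2_4 e_3_0 e_3_1 e_3_2 e_3_4 e_4_0 e_4_1 e_4_2 e_4_3 cl
  · -- (3,4) = (1,3)
    omega
  · -- (3,4) = (3,1)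
    omega
  · -- (3,4) = (1,4)
    omega
  · -- (3,4) = (4,1)
    omega
  · -- (3,4) = (2,2)
    omega

theorem nd_86 (T : Models.NumericalType 5)
    (hG : NTGood T)
    (hmax : ∀ j, T.m j ≤ T.m 0)
    (e_0_1 : T.picMatrix 0 1 = 1)
    (e_0_2 : T.picMatrix 0 2 = 1)
    (e_0_3 : T.picMatrix 0 3 = 0)
    (e_1_0 : T.picMatrix 1 0 = 1)
    (e_1_2 : T.picMatrix 1 2 = 0)
    (e_1_3 : T.picMatrix 1 3 = 1)
    (e_2_0 : T.picMatrix 2 0 = 2)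
    (e_2_1 : T.picMatrix 2 1 = 0)
    (e_2_3 : T.picMatrix 2 3 = 0)
    (e_3_0 : T.picMatrix 3 0 = 0)
    (e_3_1 : T.picMatrix 3 1 = 1)
    (e_3_2 : T.picMatrix 3 2 = 0)
    (cl : ∀ a b : Fin 5, a.val < 3 → 4 ≤ b.val → T.picMatrix a b = 0) :
    Goal T := by
  by_cases hc : ∀ b : Fin 5, 4 ≤ b.val → T.picMatrix 3 b = 0
  · exact nd_87 T hG hmax e_0_1 e_0_2 e_0_3 e_1_0 e_1_2 e_1_3 e_2_0 e_2_1 e_2_3 e_3_0 e_3_1 e_3_2 (nt_cl_succ T 4 3 3 rfl cl hc)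
  · obtain ⟨τ, hfix, cl', z, hne⟩ := nt_wlog_step T 4 (by norm_num) 3 (by norm_num) 3 (by decide) cl hc
    apply goal_relabel T τ
    refine ex_88 (ntRelabel T τ) (hG.relabel τ) ?_ ?_ ?_ ?_ ?_ ?_ ?_ ?_ ?_ ?_ ?_ ?_ ?_ cl' z hne
    · intro j
      show T.m (τ j) ≤ T.m (τ 0)
      rw [hfix 0 (by decide)]
      exact hmax _
    · show T.picMatrix (τ 0) (τ 1) = 1
      rw [hfix 0 (by decide), hfix 1 (by decide)]
      exact e_0_1
    · show T.picMatrix (τ 0) (τ 2) = 1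
      rw [hfix 0 (by decide), hfix 2 (by decide)]
      exact e_0_2
    · show T.picMatrix (τ 0) (τ 3) = 0
      rw [hfix 0 (by decide), hfix 3 (by decide)]
      exact e_0_3
    · show T.picMatrix (τ 1) (τ 0) = 1
      rw [hfix 1 (by decide), hfix 0 (by decide)]
      exact e_1_0
    · show T.picMatrix (τ 1) (τ 2) = 0
      rw [hfix 1 (by decide), hfix 2 (by decide)]
      exact e_1_2
    · show T.picMatrix (τ 1) (τ 3) = 1
      rw [hfix 1 (by decide), hfix 3 (by decide)]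
      exact e_1_3
    · show T.picMatrix (τ 2) (τ 0) = 2
      rw [hfix 2 (by decide), hfix 0 (by decide)]
      exact e_2_0
    · show T.picMatrix (τ 2) (τ 1) = 0
      rw [hfix 2 (by decide), hfix 1 (by decide)]
      exact e_2_1
    · show T.picMatrix (τ 2) (τ 3) = 0
      rw [hfix 2 (by decide), hfix 3 (by decide)]
      exact e_2_3
    · show T.picMatrix (τ 3) (τ 0) = 0
      rw [hfix 3 (by decide), hfix 0 (by decide)]
      exact e_3_0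
    · show T.picMatrix (τ 3) (τ 1) = 1
      rw [hfix 3 (by decide), hfix 1 (by decide)]
      exact e_3_1
    · show T.picMatrix (τ 3) (τ 2) = 0
      rw [hfix 3 (by decide), hfix 2 (by decide)]
      exact e_3_2

theorem ex_91 (T : Models.NumericalType 5)
    (hG : NTGood T)
    (hmax : ∀ j, T.m j ≤ T.m 0)
    (e_0_1 : T.picMatrix 0 1 = 1)
    (e_0_2 : T.picMatrix 0 2 = 1)
    (e_0_3 : T.picMatrix 0 3 = 0)
    (e_1_0 : T.picMatrix 1 0 = 1)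
    (e_1_2 : T.picMatrix 1 2 = 0)
    (e_1_3 : T.picMatrix 1 3 = 1)
    (e_2_0 : T.picMatrix 2 0 = 2)
    (e_2_1 : T.picMatrix 2 1 = 0)
    (e_2_3 : T.picMatrix 2 3 = 0)
    (e_3_0 : T.picMatrix 3 0 = 0)
    (e_3_1 : T.picMatrix 3 1 = 1)
    (e_3_2 : T.picMatrix 3 2 = 0)
    (cl : ∀ a b : Fin 5, a.val < 2 → 5 ≤ b.val → T.picMatrix a b = 0)
    (z : ∀ a : Fin 5, a.val < 2 → T.picMatrix a 4 = 0)
    (hne : T.picMatrix 2 4 ≠ 0) :
    Goal T := by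
  have e_0_4 : T.picMatrix 0 4 = 0 := z 0 (by decide)
  have e_4_0 : T.picMatrix 4 0 = 0 := nt_pic_zero_symm T 0 4 e_0_4
  have e_1_4 : T.picMatrix 1 4 = 0 := z 1 (by decide)
  have e_4_1 : T.picMatrix 4 1 = 0 := nt_pic_zero_symm T 1 4 e_1_4
  obtain ⟨hg0, hdA, hdP, hnn, hrow, hsym, hpair⟩ := ntgood_data T (by norm_num) hG
  have hm_0 := T.m_pos 0
  have hw_0 := T.w_pos 0
  have hm_1 := T.m_pos 1
  have hw_1 := T.w_pos 1
  have hm_2 := T.m_pos 2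
  have hw_2 := T.w_pos 2
  have hm_3 := T.m_pos 3
  have hw_3 := T.w_pos 3
  have hm_4 := T.m_pos 4
  have hw_4 := T.w_pos 4
  have hx_1 := hmax 1
  have hx_2 := hmax 2
  have hx_3 := hmax 3
  have hx_4 := hmax 4
  have N_2_4 := mul_nonneg (hnn 2 4 (by decide)) (T.m_pos 4).le
  have N_4_2 := mul_nonneg (hnn 4 2 (by decide)) (T.m_pos 2).le
  have N_3_4 := mul_nonneg (hnn 3 4 (by decide)) (T.m_pos 4).le
  have N_4_3 := mul_nonneg (hnn 4 3 (by decide)) (T.m_pos 3).le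
  have R_0 := hrow 0
  rw [Fin.sum_univ_five, hdP 0, e_0_1, e_0_2, e_0_3, e_0_4] at R_0
  have R_1 := hrow 1
  rw [Fin.sum_univ_five, hdP 1, e_1_0, e_1_2, e_1_3, e_1_4] at R_1
  have R_2 := hrow 2
  rw [Fin.sum_univ_five, hdP 2, e_2_0, e_2_1, e_2_3] at R_2
  have R_3 := hrow 3
  rw [Fin.sum_univ_five, hdP 3, e_3_0, e_3_1, e_3_2] at R_3
  have R_4 := hrow 4
  rw [Fin.sum_univ_five, hdP 4, e_4_0, e_4_1] at R_4
  have S_0_1 := hsym 0 1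
  rw [e_0_1, e_1_0] at S_0_1
  have S_0_2 := hsym 0 2
  rw [e_0_2, e_2_0] at S_0_2
  have S_0_3 := hsym 0 3
  rw [e_0_3, e_3_0] at S_0_3
  have S_0_4 := hsym 0 4
  rw [e_0_4, e_4_0] at S_0_4
  have S_1_2 := hsym 1 2
  rw [e_1_2, e_2_1] at S_1_2
  have S_1_3 := hsym 1 3
  rw [e_1_3, e_3_1] at S_1_3
  have S_1_4 := hsym 1 4
  rw [e_1_4, e_4_1] at S_1_4
  have S_2_3 := hsym 2 3
  rw [e_2_3, e_3_2] at S_2_3
  have S_2_4 := hsym 2 4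
  have S_3_4 := hsym 3 4
  have Q_2 := hpair 2 4 (by decide)
  have Q_3 := hpair 3 4 (by decide)
  generalize e_2_4 : T.picMatrix 2 4 = x_2 at *
  generalize e_4_2 : T.picMatrix 4 2 = y_2 at *
  generalize e_3_4 : T.picMatrix 3 4 = x_3 at *
  generalize e_4_3 : T.picMatrix 4 3 = y_3 at *
  rcases Q_2 with ⟨rfl, rfl⟩ | ⟨rfl, rfl⟩ | ⟨rfl, rfl⟩ | ⟨rfl, rfl⟩ | ⟨rfl, rfl⟩ | ⟨rfl, rfl⟩ | ⟨rfl, rfl⟩ | ⟨rfl, rfl⟩ | ⟨rfl, rfl⟩
  · exact absurd rfl hne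
  · omega
  · omega
  · omega
  · omega
  · omega
  · omega
  · omega
  · omega

theorem nd_85 (T : Models.NumericalType 5)
    (hG : NTGood T)
    (hmax : ∀ j, T.m j ≤ T.m 0)
    (e_0_1 : T.picMatrix 0 1 = 1)
    (e_0_2 : T.picMatrix 0 2 = 1)
    (e_0_3 : T.picMatrix 0 3 = 0)
    (e_1_0 : T.picMatrix 1 0 = 1)
    (e_1_2 : T.picMatrix 1 2 = 0)
    (e_1_3 : T.picMatrix 1 3 = 1)
    (e_2_0 : T.picMatrix 2 0 = 2)
    (e_2_1 : T.picMatrix 2 1 = 0)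
    (e_2_3 : T.picMatrix 2 3 = 0)
    (e_3_0 : T.picMatrix 3 0 = 0)
    (e_3_1 : T.picMatrix 3 1 = 1)
    (e_3_2 : T.picMatrix 3 2 = 0)
    (cl : ∀ a b : Fin 5, a.val < 2 → 4 ≤ b.val → T.picMatrix a b = 0) :
    Goal T := by
  by_cases hc : ∀ b : Fin 5, 4 ≤ b.val → T.picMatrix 2 b = 0
  · exact nd_86 T hG hmax e_0_1 e_0_2 e_0_3 e_1_0 e_1_2 e_1_3 e_2_0 e_2_1 e_2_3 e_3_0 e_3_1 e_3_2 (nt_cl_succ T 4 2 2 rfl cl hc)
  · obtain ⟨τ, hfix, cl', z, hne⟩ := nt_wlog_step T 4 (by norm_num) 2 (by norm_num) 2 (by decide) cl hc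
    apply goal_relabel T τ
    refine ex_91 (ntRelabel T τ) (hG.relabel τ) ?_ ?_ ?_ ?_ ?_ ?_ ?_ ?_ ?_ ?_ ?_ ?_ ?_ cl' z hne
    · intro j
      show T.m (τ j) ≤ T.m (τ 0)
      rw [hfix 0 (by decide)]
      exact hmax _
    · show T.picMatrix (τ 0) (τ 1) = 1
      rw [hfix 0 (by decide), hfix 1 (by decide)]
      exact e_0_1
    · show T.picMatrix (τ 0) (τ 2) = 1
      rw [hfix 0 (by decide), hfix 2 (by decide)]
      exact e_0_2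
    · show T.picMatrix (τ 0) (τ 3) = 0
      rw [hfix 0 (by decide), hfix 3 (by decide)]
      exact e_0_3
    · show T.picMatrix (τ 1) (τ 0) = 1
      rw [hfix 1 (by decide), hfix 0 (by decide)]
      exact e_1_0
    · show T.picMatrix (τ 1) (τ 2) = 0
      rw [hfix 1 (by decide), hfix 2 (by decide)]
      exact e_1_2
    · show T.picMatrix (τ 1) (τ 3) = 1
      rw [hfix 1 (by decide), hfix 3 (by decide)]
      exact e_1_3
    · show T.picMatrix (τ 2) (τ 0) = 2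
      rw [hfix 2 (by decide), hfix 0 (by decide)]
      exact e_2_0
    · show T.picMatrix (τ 2) (τ 1) = 0
      rw [hfix 2 (by decide), hfix 1 (by decide)]
      exact e_2_1
    · show T.picMatrix (τ 2) (τ 3) = 0
      rw [hfix 2 (by decide), hfix 3 (by decide)]
      exact e_2_3
    · show T.picMatrix (τ 3) (τ 0) = 0
      rw [hfix 3 (by decide), hfix 0 (by decide)]
      exact e_3_0
    · show T.picMatrix (τ 3) (τ 1) = 1
      rw [hfix 3 (by decide), hfix 1 (by decide)]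
      exact e_3_1
    · show T.picMatrix (τ 3) (τ 2) = 0
      rw [hfix 3 (by decide), hfix 2 (by decide)]
      exact e_3_2

theorem nd_93 (T : Models.NumericalType 5)
    (hG : NTGood T)
    (hmax : ∀ j, T.m j ≤ T.m 0)
    (e_0_1 : T.picMatrix 0 1 = 1)
    (e_0_2 : T.picMatrix 0 2 = 1)
    (e_0_3 : T.picMatrix 0 3 = 0)
    (e_0_4 : T.picMatrix 0 4 = 0)
    (e_1_0 : T.picMatrix 1 0 = 1)
    (e_1_2 : T.picMatrix 1 2 = 0)
    (e_1_3 : T.picMatrix 1 3 = 1)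
    (e_1_4 : T.picMatrix 1 4 = 1)
    (e_2_0 : T.picMatrix 2 0 = 2)
    (e_2_1 : T.picMatrix 2 1 = 0)
    (e_2_3 : T.picMatrix 2 3 = 0)
    (e_2_4 : T.picMatrix 2 4 = 0)
    (e_3_0 : T.picMatrix 3 0 = 0)
    (e_3_1 : T.picMatrix 3 1 = 1)
    (e_3_2 : T.picMatrix 3 2 = 0)
    (e_3_4 : T.picMatrix 3 4 = 0)
    (e_4_0 : T.picMatrix 4 0 = 0)
    (e_4_1 : T.picMatrix 4 1 = 1)
    (e_4_2 : T.picMatrix 4 2 = 0)
    (e_4_3 : T.picMatrix 4 3 = 0)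
    (cl : ∀ a b : Fin 5, a.val < 1 → 5 ≤ b.val → T.picMatrix a b = 0) :
    Goal T := by
  obtain ⟨hg0, hdA, hdP, hnn, hrow, hsym, hpair⟩ := ntgood_data T (by norm_num) hG
  have hm_0 := T.m_pos 0
  have hw_0 := T.w_pos 0
  have hm_1 := T.m_pos 1
  have hw_1 := T.w_pos 1
  have hm_2 := T.m_pos 2
  have hw_2 := T.w_pos 2
  have hm_3 := T.m_pos 3
  have hw_3 := T.w_pos 3
  have hm_4 := T.m_pos 4
  have hw_4 := T.w_pos 4
  have hx_1 := hmax 1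
  have hx_2 := hmax 2
  have hx_3 := hmax 3
  have hx_4 := hmax 4
  have R_0 := hrow 0
  rw [Fin.sum_univ_five, hdP 0, e_0_1, e_0_2, e_0_3, e_0_4] at R_0
  have R_1 := hrow 1
  rw [Fin.sum_univ_five, hdP 1, e_1_0, e_1_2, e_1_3, e_1_4] at R_1
  have R_2 := hrow 2
  rw [Fin.sum_univ_five, hdP 2, e_2_0, e_2_1, e_2_3, e_2_4] at R_2
  have R_3 := hrow 3
  rw [Fin.sum_univ_five, hdP 3, e_3_0, e_3_1, e_3_2, e_3_4] at R_3
  have R_4 := hrow 4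
  rw [Fin.sum_univ_five, hdP 4, e_4_0, e_4_1, e_4_2, e_4_3] at R_4
  have S_0_1 := hsym 0 1
  rw [e_0_1, e_1_0] at S_0_1
  have S_0_2 := hsym 0 2
  rw [e_0_2, e_2_0] at S_0_2
  have S_0_3 := hsym 0 3
  rw [e_0_3, e_3_0] at S_0_3
  have S_0_4 := hsym 0 4
  rw [e_0_4, e_4_0] at S_0_4
  have S_1_2 := hsym 1 2
  rw [e_1_2, e_2_1] at S_1_2
  have S_1_3 := hsym 1 3
  rw [e_1_3, e_3_1] at S_1_3
  have S_1_4 := hsym 1 4
  rw [e_1_4, e_4_1] at S_1_4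
  have S_2_3 := hsym 2 3
  rw [e_2_3, e_3_2] at S_2_3
  have S_2_4 := hsym 2 4
  rw [e_2_4, e_4_2] at S_2_4
  have S_3_4 := hsym 3 4
  rw [e_3_4, e_4_3] at S_3_4
  have D_0 := hdA 0
  have A_0_1 := nt_a_eq T 0 1
  rw [e_0_1] at A_0_1
  have A_0_2 := nt_a_eq T 0 2
  rw [e_0_2] at A_0_2
  have A_0_3 := nt_a_eq T 0 3
  rw [e_0_3] at A_0_3
  have A_0_4 := nt_a_eq T 0 4
  rw [e_0_4] at A_0_4
  have D_1 := hdA 1
  have A_1_0 := nt_a_eq T 1 0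
  rw [e_1_0] at A_1_0
  have A_1_2 := nt_a_eq T 1 2
  rw [e_1_2] at A_1_2
  have A_1_3 := nt_a_eq T 1 3
  rw [e_1_3] at A_1_3
  have A_1_4 := nt_a_eq T 1 4
  rw [e_1_4] at A_1_4
  have D_2 := hdA 2
  have A_2_0 := nt_a_eq T 2 0
  rw [e_2_0] at A_2_0
  have A_2_1 := nt_a_eq T 2 1
  rw [e_2_1] at A_2_1
  have A_2_3 := nt_a_eq T 2 3
  rw [e_2_3] at A_2_3
  have A_2_4 := nt_a_eq T 2 4
  rw [e_2_4] at A_2_4
  have D_3 := hdA 3
  have A_3_0 := nt_a_eq T 3 0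
  rw [e_3_0] at A_3_0
  have A_3_1 := nt_a_eq T 3 1
  rw [e_3_1] at A_3_1
  have A_3_2 := nt_a_eq T 3 2
  rw [e_3_2] at A_3_2
  have A_3_4 := nt_a_eq T 3 4
  rw [e_3_4] at A_3_4
  have D_4 := hdA 4
  have A_4_0 := nt_a_eq T 4 0
  rw [e_4_0] at A_4_0
  have A_4_1 := nt_a_eq T 4 1
  rw [e_4_1] at A_4_1
  have A_4_2 := nt_a_eq T 4 2
  rw [e_4_2] at A_4_2
  have A_4_3 := nt_a_eq T 4 3
  rw [e_4_3] at A_4_3
  refine goal_of_indices T hg0 2 0 1 3 4 (by decide) (T.m 3) (T.w 2) ?_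
  unfold Goali
  exact Or.inr (Or.inr (Or.inr (Or.inr (Or.inr (Or.inr (Or.inr (Or.inr (⟨by omega, by omega, by omega, by omega, by omega, by omega, by omega, by omega, by omega, by omega, by omega, by omega, by omega, by omega, by omega, by omega, by omega, by omega, by omega, by omega, by omega, by omega, by omega, by omega, by omega⟩))))))))

theorem ex_92 (T : Models.NumericalType 5)
    (hG : NTGood T)
    (hmax : ∀ j, T.m j ≤ T.m 0)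
    (e_0_1 : T.picMatrix 0 1 = 1)
    (e_0_2 : T.picMatrix 0 2 = 1)
    (e_0_3 : T.picMatrix 0 3 = 0)
    (e_1_0 : T.picMatrix 1 0 = 1)
    (e_1_2 : T.picMatrix 1 2 = 0)
    (e_1_3 : T.picMatrix 1 3 = 1)
    (e_2_0 : T.picMatrix 2 0 = 2)
    (e_2_1 : T.picMatrix 2 1 = 0)
    (e_2_3 : T.picMatrix 2 3 = 0)
    (e_3_0 : T.picMatrix 3 0 = 0)
    (e_3_1 : T.picMatrix 3 1 = 1)
    (e_3_2 : T.picMatrix 3 2 = 0)
    (cl : ∀ a b : Fin 5, a.val < 1 → 5 ≤ b.val → T.picMatrix a b = 0)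
    (z : ∀ a : Fin 5, a.val < 1 → T.picMatrix a 4 = 0)
    (hne : T.picMatrix 1 4 ≠ 0) :
    Goal T := by
  have e_0_4 : T.picMatrix 0 4 = 0 := z 0 (by decide)
  have e_4_0 : T.picMatrix 4 0 = 0 := nt_pic_zero_symm T 0 4 e_0_4
  obtain ⟨hg0, hdA, hdP, hnn, hrow, hsym, hpair⟩ := ntgood_data T (by norm_num) hG
  have hm_0 := T.m_pos 0
  have hw_0 := T.w_pos 0
  have hm_1 := T.m_pos 1
  have hw_1 := T.w_pos 1
  have hm_2 := T.m_pos 2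
  have hw_2 := T.w_pos 2
  have hm_3 := T.m_pos 3
  have hw_3 := T.w_pos 3
  have hm_4 := T.m_pos 4
  have hw_4 := T.w_pos 4
  have hx_1 := hmax 1
  have hx_2 := hmax 2
  have hx_3 := hmax 3
  have hx_4 := hmax 4
  have N_1_4 := mul_nonneg (hnn 1 4 (by decide)) (T.m_pos 4).le
  have N_4_1 := mul_nonneg (hnn 4 1 (by decide)) (T.m_pos 1).le
  have N_2_4 := mul_nonneg (hnn 2 4 (by decide)) (T.m_pos 4).le
  have N_4_2 := mul_nonneg (hnn 4 2 (by decide)) (T.m_pos 2).le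
  have N_3_4 := mul_nonneg (hnn 3 4 (by decide)) (T.m_pos 4).le
  have N_4_3 := mul_nonneg (hnn 4 3 (by decide)) (T.m_pos 3).le
  have R_0 := hrow 0
  rw [Fin.sum_univ_five, hdP 0, e_0_1, e_0_2, e_0_3, e_0_4] at R_0
  have R_1 := hrow 1
  rw [Fin.sum_univ_five, hdP 1, e_1_0, e_1_2, e_1_3] at R_1
  have R_2 := hrow 2
  rw [Fin.sum_univ_five, hdP 2, e_2_0, e_2_1, e_2_3] at R_2
  have R_3 := hrow 3
  rw [Fin.sum_univ_five, hdP 3, e_3_0, e_3_1, e_3_2] at R_3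
  have R_4 := hrow 4
  rw [Fin.sum_univ_five, hdP 4, e_4_0] at R_4
  have S_0_1 := hsym 0 1
  rw [e_0_1, e_1_0] at S_0_1
  have S_0_2 := hsym 0 2
  rw [e_0_2, e_2_0] at S_0_2
  have S_0_3 := hsym 0 3
  rw [e_0_3, e_3_0] at S_0_3
  have S_0_4 := hsym 0 4
  rw [e_0_4, e_4_0] at S_0_4
  have S_1_2 := hsym 1 2
  rw [e_1_2, e_2_1] at S_1_2
  have S_1_3 := hsym 1 3
  rw [e_1_3, e_3_1] at S_1_3
  have S_1_4 := hsym 1 4
  have S_2_3 := hsym 2 3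
  rw [e_2_3, e_3_2] at S_2_3
  have S_2_4 := hsym 2 4
  have S_3_4 := hsym 3 4
  have Q_1 := hpair 1 4 (by decide)
  have Q_2 := hpair 2 4 (by decide)
  have Q_3 := hpair 3 4 (by decide)
  generalize e_1_4 : T.picMatrix 1 4 = x_1 at *
  generalize e_4_1 : T.picMatrix 4 1 = y_1 at *
  generalize e_2_4 : T.picMatrix 2 4 = x_2 at *
  generalize e_4_2 : T.picMatrix 4 2 = y_2 at *
  generalize e_3_4 : T.picMatrix 3 4 = x_3 at *
  generalize e_4_3 : T.picMatrix 4 3 = y_3 at *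
  rcases Q_1 with ⟨rfl, rfl⟩ | ⟨rfl, rfl⟩ | ⟨rfl, rfl⟩ | ⟨rfl, rfl⟩ | ⟨rfl, rfl⟩ | ⟨rfl, rfl⟩ | ⟨rfl, rfl⟩ | ⟨rfl, rfl⟩ | ⟨rfl, rfl⟩
  · exact absurd rfl hne
  · -- (1,4) = (1,1)
    rcases Q_2 with ⟨rfl, rfl⟩ | ⟨rfl, rfl⟩ | ⟨rfl, rfl⟩ | ⟨rfl, rfl⟩ | ⟨rfl, rfl⟩ | ⟨rfl, rfl⟩ | ⟨rfl, rfl⟩ | ⟨rfl, rfl⟩ | ⟨rfl, rfl⟩
    · -- (2,4) = (0,0)
      rcases Q_3 with ⟨rfl, rfl⟩ | ⟨rfl, rfl⟩ | ⟨rfl, rfl⟩ | ⟨rfl, rfl⟩ | ⟨rfl, rfl⟩ | ⟨rfl, rfl⟩ | ⟨rfl, rfl⟩ | ⟨rfl, rfl⟩ | ⟨rfl, rfl⟩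
      · -- (3,4) = (0,0)
        exact nd_93 T hG hmax e_0_1 e_0_2 e_0_3 e_0_4 e_1_0 e_1_2 e_1_3 e_1_4 e_2_0 e_2_1 e_2_3 e_2_4 e_3_0 e_3_1 e_3_2 e_3_4 e_4_0 e_4_1 e_4_2 e_4_3 cl
      · -- (3,4) = (1,1)
        omega
      · -- (3,4) = (1,2)
        omega
      · -- (3,4) = (2,1)
        omega
      · -- (3,4) = (1,3)
        omega
      · -- (3,4) = (3,1)
        omega
      · -- (3,4) = (1,4)
        omega
      · -- (3,4) = (4,1)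
        omega
      · -- (3,4) = (2,2)
        omega
    · omega
    · omega
    · omega
    · omega
    · omega
    · omega
    · omega
    · omega
  · omega
  · omega
  · omega
  · omega
  · omega
  · omega
  · omega

theorem nd_84 (T : Models.NumericalType 5)
    (hG : NTGood T)
    (hmax : ∀ j, T.m j ≤ T.m 0)
    (e_0_1 : T.picMatrix 0 1 = 1)
    (e_0_2 : T.picMatrix 0 2 = 1)
    (e_0_3 : T.picMatrix 0 3 = 0)
    (e_1_0 : T.picMatrix 1 0 = 1)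
    (e_1_2 : T.picMatrix 1 2 = 0)
    (e_1_3 : T.picMatrix 1 3 = 1)
    (e_2_0 : T.picMatrix 2 0 = 2)
    (e_2_1 : T.picMatrix 2 1 = 0)
    (e_2_3 : T.picMatrix 2 3 = 0)
    (e_3_0 : T.picMatrix 3 0 = 0)
    (e_3_1 : T.picMatrix 3 1 = 1)
    (e_3_2 : T.picMatrix 3 2 = 0)
    (cl : ∀ a b : Fin 5, a.val < 1 → 4 ≤ b.val → T.picMatrix a b = 0) :
    Goal T := by
  by_cases hc : ∀ b : Fin 5, 4 ≤ b.val → T.picMatrix 1 b = 0
  · exact nd_85 T hG hmax e_0_1 e_0_2 e_0_3 e_1_0 e_1_2 e_1_3 e_2_0 e_2_1 e_2_3 e_3_0 e_3_1 e_3_2 (nt_cl_succ T 4 1 1 rfl cl hc)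
  · obtain ⟨τ, hfix, cl', z, hne⟩ := nt_wlog_step T 4 (by norm_num) 1 (by norm_num) 1 (by decide) cl hc
    apply goal_relabel T τ
    refine ex_92 (ntRelabel T τ) (hG.relabel τ) ?_ ?_ ?_ ?_ ?_ ?_ ?_ ?_ ?_ ?_ ?_ ?_ ?_ cl' z hne
    · intro j
      show T.m (τ j) ≤ T.m (τ 0)
      rw [hfix 0 (by decide)]
      exact hmax _
    · show T.picMatrix (τ 0) (τ 1) = 1
      rw [hfix 0 (by decide), hfix 1 (by decide)]
      exact e_0_1
    · show T.picMatrix (τ 0) (τ 2) = 1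
      rw [hfix 0 (by decide), hfix 2 (by decide)]
      exact e_0_2
    · show T.picMatrix (τ 0) (τ 3) = 0
      rw [hfix 0 (by decide), hfix 3 (by decide)]
      exact e_0_3
    · show T.picMatrix (τ 1) (τ 0) = 1
      rw [hfix 1 (by decide), hfix 0 (by decide)]
      exact e_1_0
    · show T.picMatrix (τ 1) (τ 2) = 0
      rw [hfix 1 (by decide), hfix 2 (by decide)]
      exact e_1_2
    · show T.picMatrix (τ 1) (τ 3) = 1
      rw [hfix 1 (by decide), hfix 3 (by decide)]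
      exact e_1_3
    · show T.picMatrix (τ 2) (τ 0) = 2
      rw [hfix 2 (by decide), hfix 0 (by decide)]
      exact e_2_0
    · show T.picMatrix (τ 2) (τ 1) = 0
      rw [hfix 2 (by decide), hfix 1 (by decide)]
      exact e_2_1
    · show T.picMatrix (τ 2) (τ 3) = 0
      rw [hfix 2 (by decide), hfix 3 (by decide)]
      exact e_2_3
    · show T.picMatrix (τ 3) (τ 0) = 0
      rw [hfix 3 (by decide), hfix 0 (by decide)]
      exact e_3_0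
    · show T.picMatrix (τ 3) (τ 1) = 1
      rw [hfix 3 (by decide), hfix 1 (by decide)]
      exact e_3_1
    · show T.picMatrix (τ 3) (τ 2) = 0
      rw [hfix 3 (by decide), hfix 2 (by decide)]
      exact e_3_2

theorem nd_97 (T : Models.NumericalType 5)
    (hG : NTGood T)
    (hmax : ∀ j, T.m j ≤ T.m 0)
    (e_0_1 : T.picMatrix 0 1 = 1)
    (e_0_2 : T.picMatrix 0 2 = 1)
    (e_0_3 : T.picMatrix 0 3 = 0)
    (e_1_0 : T.picMatrix 1 0 = 1)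
    (e_1_2 : T.picMatrix 1 2 = 0)
    (e_1_3 : T.picMatrix 1 3 = 1)
    (e_2_0 : T.picMatrix 2 0 = 2)
    (e_2_1 : T.picMatrix 2 1 = 0)
    (e_2_3 : T.picMatrix 2 3 = 0)
    (e_3_0 : T.picMatrix 3 0 = 0)
    (e_3_1 : T.picMatrix 3 1 = 2)
    (e_3_2 : T.picMatrix 3 2 = 0)
    (cl : ∀ a b : Fin 5, a.val < 4 → 4 ≤ b.val → T.picMatrix a b = 0) :
    Goal T := by
  exact (nt_closed_false T 4 (by norm_num) (by norm_num) cl).elim

theorem ex_98 (T : Models.NumericalType 5)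
    (hG : NTGood T)
    (hmax : ∀ j, T.m j ≤ T.m 0)
    (e_0_1 : T.picMatrix 0 1 = 1)
    (e_0_2 : T.picMatrix 0 2 = 1)
    (e_0_3 : T.picMatrix 0 3 = 0)
    (e_1_0 : T.picMatrix 1 0 = 1)
    (e_1_2 : T.picMatrix 1 2 = 0)
    (e_1_3 : T.picMatrix 1 3 = 1)
    (e_2_0 : T.picMatrix 2 0 = 2)
    (e_2_1 : T.picMatrix 2 1 = 0)
    (e_2_3 : T.picMatrix 2 3 = 0)
    (e_3_0 : T.picMatrix 3 0 = 0)
    (e_3_1 : T.picMatrix 3 1 = 2)
    (e_3_2 : T.picMatrix 3 2 = 0)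
    (cl : ∀ a b : Fin 5, a.val < 3 → 5 ≤ b.val → T.picMatrix a b = 0)
    (z : ∀ a : Fin 5, a.val < 3 → T.picMatrix a 4 = 0)
    (hne : T.picMatrix 3 4 ≠ 0) :
    Goal T := by
  have e_0_4 : T.picMatrix 0 4 = 0 := z 0 (by decide)
  have e_4_0 : T.picMatrix 4 0 = 0 := nt_pic_zero_symm T 0 4 e_0_4
  have e_1_4 : T.picMatrix 1 4 = 0 := z 1 (by decide)
  have e_4_1 : T.picMatrix 4 1 = 0 := nt_pic_zero_symm T 1 4 e_1_4
  have e_2_4 : T.picMatrix 2 4 = 0 := z 2 (by decide)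
  have e_4_2 : T.picMatrix 4 2 = 0 := nt_pic_zero_symm T 2 4 e_2_4
  obtain ⟨hg0, hdA, hdP, hnn, hrow, hsym, hpair⟩ := ntgood_data T (by norm_num) hG
  have hm_0 := T.m_pos 0
  have hw_0 := T.w_pos 0
  have hm_1 := T.m_pos 1
  have hw_1 := T.w_pos 1
  have hm_2 := T.m_pos 2
  have hw_2 := T.w_pos 2
  have hm_3 := T.m_pos 3
  have hw_3 := T.w_pos 3
  have hm_4 := T.m_pos 4
  have hw_4 := T.w_pos 4
  have hx_1 := hmax 1
  have hx_2 := hmax 2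
  have hx_3 := hmax 3
  have hx_4 := hmax 4
  have N_3_4 := mul_nonneg (hnn 3 4 (by decide)) (T.m_pos 4).le
  have N_4_3 := mul_nonneg (hnn 4 3 (by decide)) (T.m_pos 3).le
  have R_0 := hrow 0
  rw [Fin.sum_univ_five, hdP 0, e_0_1, e_0_2, e_0_3, e_0_4] at R_0
  have R_1 := hrow 1
  rw [Fin.sum_univ_five, hdP 1, e_1_0, e_1_2, e_1_3, e_1_4] at R_1
  have R_2 := hrow 2
  rw [Fin.sum_univ_five, hdP 2, e_2_0, e_2_1, e_2_3, e_2_4] at R_2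
  have R_3 := hrow 3
  rw [Fin.sum_univ_five, hdP 3, e_3_0, e_3_1, e_3_2] at R_3
  have R_4 := hrow 4
  rw [Fin.sum_univ_five, hdP 4, e_4_0, e_4_1, e_4_2] at R_4
  have S_0_1 := hsym 0 1
  rw [e_0_1, e_1_0] at S_0_1
  have S_0_2 := hsym 0 2
  rw [e_0_2, e_2_0] at S_0_2
  have S_0_3 := hsym 0 3
  rw [e_0_3, e_3_0] at S_0_3
  have S_0_4 := hsym 0 4
  rw [e_0_4, e_4_0] at S_0_4
  have S_1_2 := hsym 1 2
  rw [e_1_2, e_2_1] at S_1_2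
  have S_1_3 := hsym 1 3
  rw [e_1_3, e_3_1] at S_1_3
  have S_1_4 := hsym 1 4
  rw [e_1_4, e_4_1] at S_1_4
  have S_2_3 := hsym 2 3
  rw [e_2_3, e_3_2] at S_2_3
  have S_2_4 := hsym 2 4
  rw [e_2_4, e_4_2] at S_2_4
  have S_3_4 := hsym 3 4
  have Q_3 := hpair 3 4 (by decide)
  generalize e_3_4 : T.picMatrix 3 4 = x_3 at *
  generalize e_4_3 : T.picMatrix 4 3 = y_3 at *
  rcases Q_3 with ⟨rfl, rfl⟩ | ⟨rfl, rfl⟩ | ⟨rfl, rfl⟩ | ⟨rfl, rfl⟩ | ⟨rfl, rfl⟩ | ⟨rfl, rfl⟩ | ⟨rfl, rfl⟩ | ⟨rfl, rfl⟩ | ⟨rfl, rfl⟩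
  · exact absurd rfl hne
  · -- (3,4) = (1,1)
    omega
  · -- (3,4) = (1,2)
    omega
  · -- (3,4) = (2,1)
    omega
  · -- (3,4) = (1,3)
    omega
  · -- (3,4) = (3,1)
    omega
  · -- (3,4) = (1,4)
    omega
  · -- (3,4) = (4,1)
    omega
  · -- (3,4) = (2,2)
    omega

theorem nd_96 (T : Models.NumericalType 5)
    (hG : NTGood T)
    (hmax : ∀ j, T.m j ≤ T.m 0)
    (e_0_1 : T.picMatrix 0 1 = 1)
    (e_0_2 : T.picMatrix 0 2 = 1)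
    (e_0_3 : T.picMatrix 0 3 = 0)
    (e_1_0 : T.picMatrix 1 0 = 1)
    (e_1_2 : T.picMatrix 1 2 = 0)
    (e_1_3 : T.picMatrix 1 3 = 1)
    (e_2_0 : T.picMatrix 2 0 = 2)
    (e_2_1 : T.picMatrix 2 1 = 0)
    (e_2_3 : T.picMatrix 2 3 = 0)
    (e_3_0 : T.picMatrix 3 0 = 0)
    (e_3_1 : T.picMatrix 3 1 = 2)
    (e_3_2 : T.picMatrix 3 2 = 0)
    (cl : ∀ a b : Fin 5, a.val < 3 → 4 ≤ b.val → T.picMatrix a b = 0) :
    Goal T := by
  by_cases hc : ∀ b : Fin 5, 4 ≤ b.val → T.picMatrix 3 b = 0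
  · exact nd_97 T hG hmax e_0_1 e_0_2 e_0_3 e_1_0 e_1_2 e_1_3 e_2_0 e_2_1 e_2_3 e_3_0 e_3_1 e_3_2 (nt_cl_succ T 4 3 3 rfl cl hc)
  · obtain ⟨τ, hfix, cl', z, hne⟩ := nt_wlog_step T 4 (by norm_num) 3 (by norm_num) 3 (by decide) cl hc
    apply goal_relabel T τ
    refine ex_98 (ntRelabel T τ) (hG.relabel τ) ?_ ?_ ?_ ?_ ?_ ?_ ?_ ?_ ?_ ?_ ?_ ?_ ?_ cl' z hne
    · intro j
      show T.m (τ j) ≤ T.m (τ 0)
      rw [hfix 0 (by decide)]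
      exact hmax _
    · show T.picMatrix (τ 0) (τ 1) = 1
      rw [hfix 0 (by decide), hfix 1 (by decide)]
      exact e_0_1
    · show T.picMatrix (τ 0) (τ 2) = 1
      rw [hfix 0 (by decide), hfix 2 (by decide)]
      exact e_0_2
    · show T.picMatrix (τ 0) (τ 3) = 0
      rw [hfix 0 (by decide), hfix 3 (by decide)]
      exact e_0_3
    · show T.picMatrix (τ 1) (τ 0) = 1
      rw [hfix 1 (by decide), hfix 0 (by decide)]
      exact e_1_0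
    · show T.picMatrix (τ 1) (τ 2) = 0
      rw [hfix 1 (by decide), hfix 2 (by decide)]
      exact e_1_2
    · show T.picMatrix (τ 1) (τ 3) = 1
      rw [hfix 1 (by decide), hfix 3 (by decide)]
      exact e_1_3
    · show T.picMatrix (τ 2) (τ 0) = 2
      rw [hfix 2 (by decide), hfix 0 (by decide)]
      exact e_2_0
    · show T.picMatrix (τ 2) (τ 1) = 0
      rw [hfix 2 (by decide), hfix 1 (by decide)]
      exact e_2_1
    · show T.picMatrix (τ 2) (τ 3) = 0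
      rw [hfix 2 (by decide), hfix 3 (by decide)]
      exact e_2_3
    · show T.picMatrix (τ 3) (τ 0) = 0
      rw [hfix 3 (by decide), hfix 0 (by decide)]
      exact e_3_0
    · show T.picMatrix (τ 3) (τ 1) = 2
      rw [hfix 3 (by decide), hfix 1 (by decide)]
      exact e_3_1
    · show T.picMatrix (τ 3) (τ 2) = 0
      rw [hfix 3 (by decide), hfix 2 (by decide)]
      exact e_3_2

theorem ex_99 (T : Models.NumericalType 5)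
    (hG : NTGood T)
    (hmax : ∀ j, T.m j ≤ T.m 0)
    (e_0_1 : T.picMatrix 0 1 = 1)
    (e_0_2 : T.picMatrix 0 2 = 1)
    (e_0_3 : T.picMatrix 0 3 = 0)
    (e_1_0 : T.picMatrix 1 0 = 1)
    (e_1_2 : T.picMatrix 1 2 = 0)
    (e_1_3 : T.picMatrix 1 3 = 1)
    (e_2_0 : T.picMatrix 2 0 = 2)
    (e_2_1 : T.picMatrix 2 1 = 0)
    (e_2_3 : T.picMatrix 2 3 = 0)
    (e_3_0 : T.picMatrix 3 0 = 0)
    (e_3_1 : T.picMatrix 3 1 = 2)
    (e_3_2 : T.picMatrix 3 2 = 0)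
    (cl : ∀ a b : Fin 5, a.val < 2 → 5 ≤ b.val → T.picMatrix a b = 0)
    (z : ∀ a : Fin 5, a.val < 2 → T.picMatrix a 4 = 0)
    (hne : T.picMatrix 2 4 ≠ 0) :
    Goal T := by
  have e_0_4 : T.picMatrix 0 4 = 0 := z 0 (by decide)
  have e_4_0 : T.picMatrix 4 0 = 0 := nt_pic_zero_symm T 0 4 e_0_4
  have e_1_4 : T.picMatrix 1 4 = 0 := z 1 (by decide)
  have e_4_1 : T.picMatrix 4 1 = 0 := nt_pic_zero_symm T 1 4 e_1_4
  obtain ⟨hg0, hdA, hdP, hnn, hrow, hsym, hpair⟩ := ntgood_data T (by norm_num) hG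
  have hm_0 := T.m_pos 0
  have hw_0 := T.w_pos 0
  have hm_1 := T.m_pos 1
  have hw_1 := T.w_pos 1
  have hm_2 := T.m_pos 2
  have hw_2 := T.w_pos 2
  have hm_3 := T.m_pos 3
  have hw_3 := T.w_pos 3
  have hm_4 := T.m_pos 4
  have hw_4 := T.w_pos 4
  have hx_1 := hmax 1
  have hx_2 := hmax 2
  have hx_3 := hmax 3
  have hx_4 := hmax 4
  have N_2_4 := mul_nonneg (hnn 2 4 (by decide)) (T.m_pos 4).le
  have N_4_2 := mul_nonneg (hnn 4 2 (by decide)) (T.m_pos 2).le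
  have N_3_4 := mul_nonneg (hnn 3 4 (by decide)) (T.m_pos 4).le
  have N_4_3 := mul_nonneg (hnn 4 3 (by decide)) (T.m_pos 3).le
  have R_0 := hrow 0
  rw [Fin.sum_univ_five, hdP 0, e_0_1, e_0_2, e_0_3, e_0_4] at R_0
  have R_1 := hrow 1
  rw [Fin.sum_univ_five, hdP 1, e_1_0, e_1_2, e_1_3, e_1_4] at R_1
  have R_2 := hrow 2
  rw [Fin.sum_univ_five, hdP 2, e_2_0, e_2_1, e_2_3] at R_2
  have R_3 := hrow 3
  rw [Fin.sum_univ_five, hdP 3, e_3_0, e_3_1, e_3_2] at R_3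
  have R_4 := hrow 4
  rw [Fin.sum_univ_five, hdP 4, e_4_0, e_4_1] at R_4
  have S_0_1 := hsym 0 1
  rw [e_0_1, e_1_0] at S_0_1
  have S_0_2 := hsym 0 2
  rw [e_0_2, e_2_0] at S_0_2
  have S_0_3 := hsym 0 3
  rw [e_0_3, e_3_0] at S_0_3
  have S_0_4 := hsym 0 4
  rw [e_0_4, e_4_0] at S_0_4
  have S_1_2 := hsym 1 2
  rw [e_1_2, e_2_1] at S_1_2
  have S_1_3 := hsym 1 3
  rw [e_1_3, e_3_1] at S_1_3
  have S_1_4 := hsym 1 4
  rw [e_1_4, e_4_1] at S_1_4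
  have S_2_3 := hsym 2 3
  rw [e_2_3, e_3_2] at S_2_3
  have S_2_4 := hsym 2 4
  have S_3_4 := hsym 3 4
  have Q_2 := hpair 2 4 (by decide)
  have Q_3 := hpair 3 4 (by decide)
  generalize e_2_4 : T.picMatrix 2 4 = x_2 at *
  generalize e_4_2 : T.picMatrix 4 2 = y_2 at *
  generalize e_3_4 : T.picMatrix 3 4 = x_3 at *
  generalize e_4_3 : T.picMatrix 4 3 = y_3 at *
  rcases Q_2 with ⟨rfl, rfl⟩ | ⟨rfl, rfl⟩ | ⟨rfl, rfl⟩ | ⟨rfl, rfl⟩ | ⟨rfl, rfl⟩ | ⟨rfl, rfl⟩ | ⟨rfl, rfl⟩ | ⟨rfl, rfl⟩ | ⟨rfl, rfl⟩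
  · exact absurd rfl hne
  · omega
  · omega
  · omega
  · omega
  · omega
  · omega
  · omega
  · omega

theorem nd_95 (T : Models.NumericalType 5)
    (hG : NTGood T)
    (hmax : ∀ j, T.m j ≤ T.m 0)
    (e_0_1 : T.picMatrix 0 1 = 1)
    (e_0_2 : T.picMatrix 0 2 = 1)
    (e_0_3 : T.picMatrix 0 3 = 0)
    (e_1_0 : T.picMatrix 1 0 = 1)
    (e_1_2 : T.picMatrix 1 2 = 0)
    (e_1_3 : T.picMatrix 1 3 = 1)
    (e_2_0 : T.picMatrix 2 0 = 2)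
    (e_2_1 : T.picMatrix 2 1 = 0)
    (e_2_3 : T.picMatrix 2 3 = 0)
    (e_3_0 : T.picMatrix 3 0 = 0)
    (e_3_1 : T.picMatrix 3 1 = 2)
    (e_3_2 : T.picMatrix 3 2 = 0)
    (cl : ∀ a b : Fin 5, a.val < 2 → 4 ≤ b.val → T.picMatrix a b = 0) :
    Goal T := by
  by_cases hc : ∀ b : Fin 5, 4 ≤ b.val → T.picMatrix 2 b = 0
  · exact nd_96 T hG hmax e_0_1 e_0_2 e_0_3 e_1_0 e_1_2 e_1_3 e_2_0 e_2_1 e_2_3 e_3_0 e_3_1 e_3_2 (nt_cl_succ T 4 2 2 rfl cl hc)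
  · obtain ⟨τ, hfix, cl', z, hne⟩ := nt_wlog_step T 4 (by norm_num) 2 (by norm_num) 2 (by decide) cl hc
    apply goal_relabel T τ
    refine ex_99 (ntRelabel T τ) (hG.relabel τ) ?_ ?_ ?_ ?_ ?_ ?_ ?_ ?_ ?_ ?_ ?_ ?_ ?_ cl' z hne
    · intro j
      show T.m (τ j) ≤ T.m (τ 0)
      rw [hfix 0 (by decide)]
      exact hmax _
    · show T.picMatrix (τ 0) (τ 1) = 1
      rw [hfix 0 (by decide), hfix 1 (by decide)]
      exact e_0_1
    · show T.picMatrix (τ 0) (τ 2) = 1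
      rw [hfix 0 (by decide), hfix 2 (by decide)]
      exact e_0_2
    · show T.picMatrix (τ 0) (τ 3) = 0
      rw [hfix 0 (by decide), hfix 3 (by decide)]
      exact e_0_3
    · show T.picMatrix (τ 1) (τ 0) = 1
      rw [hfix 1 (by decide), hfix 0 (by decide)]
      exact e_1_0
    · show T.picMatrix (τ 1) (τ 2) = 0
      rw [hfix 1 (by decide), hfix 2 (by decide)]
      exact e_1_2
    · show T.picMatrix (τ 1) (τ 3) = 1
      rw [hfix 1 (by decide), hfix 3 (by decide)]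
      exact e_1_3
    · show T.picMatrix (τ 2) (τ 0) = 2
      rw [hfix 2 (by decide), hfix 0 (by decide)]
      exact e_2_0
    · show T.picMatrix (τ 2) (τ 1) = 0
      rw [hfix 2 (by decide), hfix 1 (by decide)]
      exact e_2_1
    · show T.picMatrix (τ 2) (τ 3) = 0
      rw [hfix 2 (by decide), hfix 3 (by decide)]
      exact e_2_3
    · show T.picMatrix (τ 3) (τ 0) = 0
      rw [hfix 3 (by decide), hfix 0 (by decide)]
      exact e_3_0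
    · show T.picMatrix (τ 3) (τ 1) = 2
      rw [hfix 3 (by decide), hfix 1 (by decide)]
      exact e_3_1
    · show T.picMatrix (τ 3) (τ 2) = 0
      rw [hfix 3 (by decide), hfix 2 (by decide)]
      exact e_3_2

theorem ex_100 (T : Models.NumericalType 5)
    (hG : NTGood T)
    (hmax : ∀ j, T.m j ≤ T.m 0)
    (e_0_1 : T.picMatrix 0 1 = 1)
    (e_0_2 : T.picMatrix 0 2 = 1)
    (e_0_3 : T.picMatrix 0 3 = 0)
    (e_1_0 : T.picMatrix 1 0 = 1)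
    (e_1_2 : T.picMatrix 1 2 = 0)
    (e_1_3 : T.picMatrix 1 3 = 1)
    (e_2_0 : T.picMatrix 2 0 = 2)
    (e_2_1 : T.picMatrix 2 1 = 0)
    (e_2_3 : T.picMatrix 2 3 = 0)
    (e_3_0 : T.picMatrix 3 0 = 0)
    (e_3_1 : T.picMatrix 3 1 = 2)
    (e_3_2 : T.picMatrix 3 2 = 0)
    (cl : ∀ a b : Fin 5, a.val < 1 → 5 ≤ b.val → T.picMatrix a b = 0)
    (z : ∀ a : Fin 5, a.val < 1 → T.picMatrix a 4 = 0)
    (hne : T.picMatrix 1 4 ≠ 0) :
    Goal T := by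
  have e_0_4 : T.picMatrix 0 4 = 0 := z 0 (by decide)
  have e_4_0 : T.picMatrix 4 0 = 0 := nt_pic_zero_symm T 0 4 e_0_4
  obtain ⟨hg0, hdA, hdP, hnn, hrow, hsym, hpair⟩ := ntgood_data T (by norm_num) hG
  have hm_0 := T.m_pos 0
  have hw_0 := T.w_pos 0
  have hm_1 := T.m_pos 1
  have hw_1 := T.w_pos 1
  have hm_2 := T.m_pos 2
  have hw_2 := T.w_pos 2
  have hm_3 := T.m_pos 3
  have hw_3 := T.w_pos 3
  have hm_4 := T.m_pos 4
  have hw_4 := T.w_pos 4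
  have hx_1 := hmax 1
  have hx_2 := hmax 2
  have hx_3 := hmax 3
  have hx_4 := hmax 4
  have N_1_4 := mul_nonneg (hnn 1 4 (by decide)) (T.m_pos 4).le
  have N_4_1 := mul_nonneg (hnn 4 1 (by decide)) (T.m_pos 1).le
  have N_2_4 := mul_nonneg (hnn 2 4 (by decide)) (T.m_pos 4).le
  have N_4_2 := mul_nonneg (hnn 4 2 (by decide)) (T.m_pos 2).le
  have N_3_4 := mul_nonneg (hnn 3 4 (by decide)) (T.m_pos 4).le
  have N_4_3 := mul_nonneg (hnn 4 3 (by decide)) (T.m_pos 3).le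
  have R_0 := hrow 0
  rw [Fin.sum_univ_five, hdP 0, e_0_1, e_0_2, e_0_3, e_0_4] at R_0
  have R_1 := hrow 1
  rw [Fin.sum_univ_five, hdP 1, e_1_0, e_1_2, e_1_3] at R_1
  have R_2 := hrow 2
  rw [Fin.sum_univ_five, hdP 2, e_2_0, e_2_1, e_2_3] at R_2
  have R_3 := hrow 3
  rw [Fin.sum_univ_five, hdP 3, e_3_0, e_3_1, e_3_2] at R_3
  have R_4 := hrow 4
  rw [Fin.sum_univ_five, hdP 4, e_4_0] at R_4
  have S_0_1 := hsym 0 1
  rw [e_0_1, e_1_0] at S_0_1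
  have S_0_2 := hsym 0 2
  rw [e_0_2, e_2_0] at S_0_2
  have S_0_3 := hsym 0 3
  rw [e_0_3, e_3_0] at S_0_3
  have S_0_4 := hsym 0 4
  rw [e_0_4, e_4_0] at S_0_4
  have S_1_2 := hsym 1 2
  rw [e_1_2, e_2_1] at S_1_2
  have S_1_3 := hsym 1 3
  rw [e_1_3, e_3_1] at S_1_3
  have S_1_4 := hsym 1 4
  have S_2_3 := hsym 2 3
  rw [e_2_3, e_3_2] at S_2_3
  have S_2_4 := hsym 2 4
  have S_3_4 := hsym 3 4
  have Q_1 := hpair 1 4 (by decide)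
  have Q_2 := hpair 2 4 (by decide)
  have Q_3 := hpair 3 4 (by decide)
  generalize e_1_4 : T.picMatrix 1 4 = x_1 at *
  generalize e_4_1 : T.picMatrix 4 1 = y_1 at *
  generalize e_2_4 : T.picMatrix 2 4 = x_2 at *
  generalize e_4_2 : T.picMatrix 4 2 = y_2 at *
  generalize e_3_4 : T.picMatrix 3 4 = x_3 at *
  generalize e_4_3 : T.picMatrix 4 3 = y_3 at *
  rcases Q_1 with ⟨rfl, rfl⟩ | ⟨rfl, rfl⟩ | ⟨rfl, rfl⟩ | ⟨rfl, rfl⟩ | ⟨rfl, rfl⟩ | ⟨rfl, rfl⟩ | ⟨rfl, rfl⟩ | ⟨rfl, rfl⟩ | ⟨rfl, rfl⟩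
  · exact absurd rfl hne
  · omega
  · omega
  · omega
  · omega
  · omega
  · omega
  · omega
  · omega

theorem nd_94 (T : Models.NumericalType 5)
    (hG : NTGood T)
    (hmax : ∀ j, T.m j ≤ T.m 0)
    (e_0_1 : T.picMatrix 0 1 = 1)
    (e_0_2 : T.picMatrix 0 2 = 1)
    (e_0_3 : T.picMatrix 0 3 = 0)
    (e_1_0 : T.picMatrix 1 0 = 1)
    (e_1_2 : T.picMatrix 1 2 = 0)
    (e_1_3 : T.picMatrix 1 3 = 1)
    (e_2_0 : T.picMatrix 2 0 = 2)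
    (e_2_1 : T.picMatrix 2 1 = 0)
    (e_2_3 : T.picMatrix 2 3 = 0)
    (e_3_0 : T.picMatrix 3 0 = 0)
    (e_3_1 : T.picMatrix 3 1 = 2)
    (e_3_2 : T.picMatrix 3 2 = 0)
    (cl : ∀ a b : Fin 5, a.val < 1 → 4 ≤ b.val → T.picMatrix a b = 0) :
    Goal T := by
  by_cases hc : ∀ b : Fin 5, 4 ≤ b.val → T.picMatrix 1 b = 0
  · exact nd_95 T hG hmax e_0_1 e_0_2 e_0_3 e_1_0 e_1_2 e_1_3 e_2_0 e_2_1 e_2_3 e_3_0 e_3_1 e_3_2 (nt_cl_succ T 4 1 1 rfl cl hc)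
  · obtain ⟨τ, hfix, cl', z, hne⟩ := nt_wlog_step T 4 (by norm_num) 1 (by norm_num) 1 (by decide) cl hc
    apply goal_relabel T τ
    refine ex_100 (ntRelabel T τ) (hG.relabel τ) ?_ ?_ ?_ ?_ ?_ ?_ ?_ ?_ ?_ ?_ ?_ ?_ ?_ cl' z hne
    · intro j
      show T.m (τ j) ≤ T.m (τ 0)
      rw [hfix 0 (by decide)]
      exact hmax _
    · show T.picMatrix (τ 0) (τ 1) = 1
      rw [hfix 0 (by decide), hfix 1 (by decide)]
      exact e_0_1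
    · show T.picMatrix (τ 0) (τ 2) = 1
      rw [hfix 0 (by decide), hfix 2 (by decide)]
      exact e_0_2
    · show T.picMatrix (τ 0) (τ 3) = 0
      rw [hfix 0 (by decide), hfix 3 (by decide)]
      exact e_0_3
    · show T.picMatrix (τ 1) (τ 0) = 1
      rw [hfix 1 (by decide), hfix 0 (by decide)]
      exact e_1_0
    · show T.picMatrix (τ 1) (τ 2) = 0
      rw [hfix 1 (by decide), hfix 2 (by decide)]
      exact e_1_2
    · show T.picMatrix (τ 1) (τ 3) = 1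
      rw [hfix 1 (by decide), hfix 3 (by decide)]
      exact e_1_3
    · show T.picMatrix (τ 2) (τ 0) = 2
      rw [hfix 2 (by decide), hfix 0 (by decide)]
      exact e_2_0
    · show T.picMatrix (τ 2) (τ 1) = 0
      rw [hfix 2 (by decide), hfix 1 (by decide)]
      exact e_2_1
    · show T.picMatrix (τ 2) (τ 3) = 0
      rw [hfix 2 (by decide), hfix 3 (by decide)]
      exact e_2_3
    · show T.picMatrix (τ 3) (τ 0) = 0
      rw [hfix 3 (by decide), hfix 0 (by decide)]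
      exact e_3_0
    · show T.picMatrix (τ 3) (τ 1) = 2
      rw [hfix 3 (by decide), hfix 1 (by decide)]
      exact e_3_1
    · show T.picMatrix (τ 3) (τ 2) = 0
      rw [hfix 3 (by decide), hfix 2 (by decide)]
      exact e_3_2

theorem nd_104 (T : Models.NumericalType 5)
    (hG : NTGood T)
    (hmax : ∀ j, T.m j ≤ T.m 0)
    (e_0_1 : T.picMatrix 0 1 = 1)
    (e_0_2 : T.picMatrix 0 2 = 1)
    (e_0_3 : T.picMatrix 0 3 = 0)
    (e_1_0 : T.picMatrix 1 0 = 1)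
    (e_1_2 : T.picMatrix 1 2 = 0)
    (e_1_3 : T.picMatrix 1 3 = 2)
    (e_2_0 : T.picMatrix 2 0 = 2)
    (e_2_1 : T.picMatrix 2 1 = 0)
    (e_2_3 : T.picMatrix 2 3 = 0)
    (e_3_0 : T.picMatrix 3 0 = 0)
    (e_3_1 : T.picMatrix 3 1 = 1)
    (e_3_2 : T.picMatrix 3 2 = 0)
    (cl : ∀ a b : Fin 5, a.val < 4 → 4 ≤ b.val → T.picMatrix a b = 0) :
    Goal T := by
  exact (nt_closed_false T 4 (by norm_num) (by norm_num) cl).elim

theorem ex_105 (T : Models.NumericalType 5)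
    (hG : NTGood T)
    (hmax : ∀ j, T.m j ≤ T.m 0)
    (e_0_1 : T.picMatrix 0 1 = 1)
    (e_0_2 : T.picMatrix 0 2 = 1)
    (e_0_3 : T.picMatrix 0 3 = 0)
    (e_1_0 : T.picMatrix 1 0 = 1)
    (e_1_2 : T.picMatrix 1 2 = 0)
    (e_1_3 : T.picMatrix 1 3 = 2)
    (e_2_0 : T.picMatrix 2 0 = 2)
    (e_2_1 : T.picMatrix 2 1 = 0)
    (e_2_3 : T.picMatrix 2 3 = 0)
    (e_3_0 : T.picMatrix 3 0 = 0)
    (e_3_1 : T.picMatrix 3 1 = 1)
    (e_3_2 : T.picMatrix 3 2 = 0)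
    (cl : ∀ a b : Fin 5, a.val < 3 → 5 ≤ b.val → T.picMatrix a b = 0)
    (z : ∀ a : Fin 5, a.val < 3 → T.picMatrix a 4 = 0)
    (hne : T.picMatrix 3 4 ≠ 0) :
    Goal T := by
  have e_0_4 : T.picMatrix 0 4 = 0 := z 0 (by decide)
  have e_4_0 : T.picMatrix 4 0 = 0 := nt_pic_zero_symm T 0 4 e_0_4
  have e_1_4 : T.picMatrix 1 4 = 0 := z 1 (by decide)
  have e_4_1 : T.picMatrix 4 1 = 0 := nt_pic_zero_symm T 1 4 e_1_4
  have e_2_4 : T.picMatrix 2 4 = 0 := z 2 (by decide)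
  have e_4_2 : T.picMatrix 4 2 = 0 := nt_pic_zero_symm T 2 4 e_2_4
  obtain ⟨hg0, hdA, hdP, hnn, hrow, hsym, hpair⟩ := ntgood_data T (by norm_num) hG
  have hm_0 := T.m_pos 0
  have hw_0 := T.w_pos 0
  have hm_1 := T.m_pos 1
  have hw_1 := T.w_pos 1
  have hm_2 := T.m_pos 2
  have hw_2 := T.w_pos 2
  have hm_3 := T.m_pos 3
  have hw_3 := T.w_pos 3
  have hm_4 := T.m_pos 4
  have hw_4 := T.w_pos 4
  have hx_1 := hmax 1
  have hx_2 := hmax 2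
  have hx_3 := hmax 3
  have hx_4 := hmax 4
  have N_3_4 := mul_nonneg (hnn 3 4 (by decide)) (T.m_pos 4).le
  have N_4_3 := mul_nonneg (hnn 4 3 (by decide)) (T.m_pos 3).le
  have R_0 := hrow 0
  rw [Fin.sum_univ_five, hdP 0, e_0_1, e_0_2, e_0_3, e_0_4] at R_0
  have R_1 := hrow 1
  rw [Fin.sum_univ_five, hdP 1, e_1_0, e_1_2, e_1_3, e_1_4] at R_1
  have R_2 := hrow 2
  rw [Fin.sum_univ_five, hdP 2, e_2_0, e_2_1, e_2_3, e_2_4] at R_2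
  have R_3 := hrow 3
  rw [Fin.sum_univ_five, hdP 3, e_3_0, e_3_1, e_3_2] at R_3
  have R_4 := hrow 4
  rw [Fin.sum_univ_five, hdP 4, e_4_0, e_4_1, e_4_2] at R_4
  have S_0_1 := hsym 0 1
  rw [e_0_1, e_1_0] at S_0_1
  have S_0_2 := hsym 0 2
  rw [e_0_2, e_2_0] at S_0_2
  have S_0_3 := hsym 0 3
  rw [e_0_3, e_3_0] at S_0_3
  have S_0_4 := hsym 0 4
  rw [e_0_4, e_4_0] at S_0_4
  have S_1_2 := hsym 1 2
  rw [e_1_2, e_2_1] at S_1_2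
  have S_1_3 := hsym 1 3
  rw [e_1_3, e_3_1] at S_1_3
  have S_1_4 := hsym 1 4
  rw [e_1_4, e_4_1] at S_1_4
  have S_2_3 := hsym 2 3
  rw [e_2_3, e_3_2] at S_2_3
  have S_2_4 := hsym 2 4
  rw [e_2_4, e_4_2] at S_2_4
  have S_3_4 := hsym 3 4
  have Q_3 := hpair 3 4 (by decide)
  generalize e_3_4 : T.picMatrix 3 4 = x_3 at *
  generalize e_4_3 : T.picMatrix 4 3 = y_3 at *
  rcases Q_3 with ⟨rfl, rfl⟩ | ⟨rfl, rfl⟩ | ⟨rfl, rfl⟩ | ⟨rfl, rfl⟩ | ⟨rfl, rfl⟩ | ⟨rfl, rfl⟩ | ⟨rfl, rfl⟩ | ⟨rfl, rfl⟩ | ⟨rfl, rfl⟩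
  · exact absurd rfl hne
  · -- (3,4) = (1,1)
    omega
  · -- (3,4) = (1,2)
    omega
  · -- (3,4) = (2,1)
    omega
  · -- (3,4) = (1,3)
    omega
  · -- (3,4) = (3,1)
    omega
  · -- (3,4) = (1,4)
    omega
  · -- (3,4) = (4,1)
    omega
  · -- (3,4) = (2,2)
    omega

theorem nd_103 (T : Models.NumericalType 5)
    (hG : NTGood T)
    (hmax : ∀ j, T.m j ≤ T.m 0)
    (e_0_1 : T.picMatrix 0 1 = 1)
    (e_0_2 : T.picMatrix 0 2 = 1)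
    (e_0_3 : T.picMatrix 0 3 = 0)
    (e_1_0 : T.picMatrix 1 0 = 1)
    (e_1_2 : T.picMatrix 1 2 = 0)
    (e_1_3 : T.picMatrix 1 3 = 2)
    (e_2_0 : T.picMatrix 2 0 = 2)
    (e_2_1 : T.picMatrix 2 1 = 0)
    (e_2_3 : T.picMatrix 2 3 = 0)
    (e_3_0 : T.picMatrix 3 0 = 0)
    (e_3_1 : T.picMatrix 3 1 = 1)
    (e_3_2 : T.picMatrix 3 2 = 0)
    (cl : ∀ a b : Fin 5, a.val < 3 → 4 ≤ b.val → T.picMatrix a b = 0) :
    Goal T := by
  by_cases hc : ∀ b : Fin 5, 4 ≤ b.val → T.picMatrix 3 b = 0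
  · exact nd_104 T hG hmax e_0_1 e_0_2 e_0_3 e_1_0 e_1_2 e_1_3 e_2_0 e_2_1 e_2_3 e_3_0 e_3_1 e_3_2 (nt_cl_succ T 4 3 3 rfl cl hc)
  · obtain ⟨τ, hfix, cl', z, hne⟩ := nt_wlog_step T 4 (by norm_num) 3 (by norm_num) 3 (by decide) cl hc
    apply goal_relabel T τ
    refine ex_105 (ntRelabel T τ) (hG.relabel τ) ?_ ?_ ?_ ?_ ?_ ?_ ?_ ?_ ?_ ?_ ?_ ?_ ?_ cl' z hne
    · intro j
      show T.m (τ j) ≤ T.m (τ 0)
      rw [hfix 0 (by decide)]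
      exact hmax _
    · show T.picMatrix (τ 0) (τ 1) = 1
      rw [hfix 0 (by decide), hfix 1 (by decide)]
      exact e_0_1
    · show T.picMatrix (τ 0) (τ 2) = 1
      rw [hfix 0 (by decide), hfix 2 (by decide)]
      exact e_0_2
    · show T.picMatrix (τ 0) (τ 3) = 0
      rw [hfix 0 (by decide), hfix 3 (by decide)]
      exact e_0_3
    · show T.picMatrix (τ 1) (τ 0) = 1
      rw [hfix 1 (by decide), hfix 0 (by decide)]
      exact e_1_0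
    · show T.picMatrix (τ 1) (τ 2) = 0
      rw [hfix 1 (by decide), hfix 2 (by decide)]
      exact e_1_2
    · show T.picMatrix (τ 1) (τ 3) = 2
      rw [hfix 1 (by decide), hfix 3 (by decide)]
      exact e_1_3
    · show T.picMatrix (τ 2) (τ 0) = 2
      rw [hfix 2 (by decide), hfix 0 (by decide)]
      exact e_2_0
    · show T.picMatrix (τ 2) (τ 1) = 0
      rw [hfix 2 (by decide), hfix 1 (by decide)]
      exact e_2_1
    · show T.picMatrix (τ 2) (τ 3) = 0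
      rw [hfix 2 (by decide), hfix 3 (by decide)]
      exact e_2_3
    · show T.picMatrix (τ 3) (τ 0) = 0
      rw [hfix 3 (by decide), hfix 0 (by decide)]
      exact e_3_0
    · show T.picMatrix (τ 3) (τ 1) = 1
      rw [hfix 3 (by decide), hfix 1 (by decide)]
      exact e_3_1
    · show T.picMatrix (τ 3) (τ 2) = 0
      rw [hfix 3 (by decide), hfix 2 (by decide)]
      exact e_3_2

theorem ex_106 (T : Models.NumericalType 5)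
    (hG : NTGood T)
    (hmax : ∀ j, T.m j ≤ T.m 0)
    (e_0_1 : T.picMatrix 0 1 = 1)
    (e_0_2 : T.picMatrix 0 2 = 1)
    (e_0_3 : T.picMatrix 0 3 = 0)
    (e_1_0 : T.picMatrix 1 0 = 1)
    (e_1_2 : T.picMatrix 1 2 = 0)
    (e_1_3 : T.picMatrix 1 3 = 2)
    (e_2_0 : T.picMatrix 2 0 = 2)
    (e_2_1 : T.picMatrix 2 1 = 0)
    (e_2_3 : T.picMatrix 2 3 = 0)
    (e_3_0 : T.picMatrix 3 0 = 0)
    (e_3_1 : T.picMatrix 3 1 = 1)
    (e_3_2 : T.picMatrix 3 2 = 0)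
    (cl : ∀ a b : Fin 5, a.val < 2 → 5 ≤ b.val → T.picMatrix a b = 0)
    (z : ∀ a : Fin 5, a.val < 2 → T.picMatrix a 4 = 0)
    (hne : T.picMatrix 2 4 ≠ 0) :
    Goal T := by
  have e_0_4 : T.picMatrix 0 4 = 0 := z 0 (by decide)
  have e_4_0 : T.picMatrix 4 0 = 0 := nt_pic_zero_symm T 0 4 e_0_4
  have e_1_4 : T.picMatrix 1 4 = 0 := z 1 (by decide)
  have e_4_1 : T.picMatrix 4 1 = 0 := nt_pic_zero_symm T 1 4 e_1_4
  obtain ⟨hg0, hdA, hdP, hnn, hrow, hsym, hpair⟩ := ntgood_data T (by norm_num) hG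
  have hm_0 := T.m_pos 0
  have hw_0 := T.w_pos 0
  have hm_1 := T.m_pos 1
  have hw_1 := T.w_pos 1
  have hm_2 := T.m_pos 2
  have hw_2 := T.w_pos 2
  have hm_3 := T.m_pos 3
  have hw_3 := T.w_pos 3
  have hm_4 := T.m_pos 4
  have hw_4 := T.w_pos 4
  have hx_1 := hmax 1
  have hx_2 := hmax 2
  have hx_3 := hmax 3
  have hx_4 := hmax 4
  have N_2_4 := mul_nonneg (hnn 2 4 (by decide)) (T.m_pos 4).le
  have N_4_2 := mul_nonneg (hnn 4 2 (by decide)) (T.m_pos 2).le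
  have N_3_4 := mul_nonneg (hnn 3 4 (by decide)) (T.m_pos 4).le
  have N_4_3 := mul_nonneg (hnn 4 3 (by decide)) (T.m_pos 3).le
  have R_0 := hrow 0
  rw [Fin.sum_univ_five, hdP 0, e_0_1, e_0_2, e_0_3, e_0_4] at R_0
  have R_1 := hrow 1
  rw [Fin.sum_univ_five, hdP 1, e_1_0, e_1_2, e_1_3, e_1_4] at R_1
  have R_2 := hrow 2
  rw [Fin.sum_univ_five, hdP 2, e_2_0, e_2_1, e_2_3] at R_2
  have R_3 := hrow 3
  rw [Fin.sum_univ_five, hdP 3, e_3_0, e_3_1, e_3_2] at R_3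
  have R_4 := hrow 4
  rw [Fin.sum_univ_five, hdP 4, e_4_0, e_4_1] at R_4
  have S_0_1 := hsym 0 1
  rw [e_0_1, e_1_0] at S_0_1
  have S_0_2 := hsym 0 2
  rw [e_0_2, e_2_0] at S_0_2
  have S_0_3 := hsym 0 3
  rw [e_0_3, e_3_0] at S_0_3
  have S_0_4 := hsym 0 4
  rw [e_0_4, e_4_0] at S_0_4
  have S_1_2 := hsym 1 2
  rw [e_1_2, e_2_1] at S_1_2
  have S_1_3 := hsym 1 3
  rw [e_1_3, e_3_1] at S_1_3
  have S_1_4 := hsym 1 4
  rw [e_1_4, e_4_1] at S_1_4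
  have S_2_3 := hsym 2 3
  rw [e_2_3, e_3_2] at S_2_3
  have S_2_4 := hsym 2 4
  have S_3_4 := hsym 3 4
  have Q_2 := hpair 2 4 (by decide)
  have Q_3 := hpair 3 4 (by decide)
  generalize e_2_4 : T.picMatrix 2 4 = x_2 at *
  generalize e_4_2 : T.picMatrix 4 2 = y_2 at *
  generalize e_3_4 : T.picMatrix 3 4 = x_3 at *
  generalize e_4_3 : T.picMatrix 4 3 = y_3 at *
  rcases Q_2 with ⟨rfl, rfl⟩ | ⟨rfl, rfl⟩ | ⟨rfl, rfl⟩ | ⟨rfl, rfl⟩ | ⟨rfl, rfl⟩ | ⟨rfl, rfl⟩ | ⟨rfl, rfl⟩ | ⟨rfl, rfl⟩ | ⟨rfl, rfl⟩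
  · exact absurd rfl hne
  · omega
  · omega
  · omega
  · omega
  · omega
  · omega
  · omega
  · omega

theorem nd_102 (T : Models.NumericalType 5)
    (hG : NTGood T)
    (hmax : ∀ j, T.m j ≤ T.m 0)
    (e_0_1 : T.picMatrix 0 1 = 1)
    (e_0_2 : T.picMatrix 0 2 = 1)
    (e_0_3 : T.picMatrix 0 3 = 0)
    (e_1_0 : T.picMatrix 1 0 = 1)
    (e_1_2 : T.picMatrix 1 2 = 0)
    (e_1_3 : T.picMatrix 1 3 = 2)
    (e_2_0 : T.picMatrix 2 0 = 2)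
    (e_2_1 : T.picMatrix 2 1 = 0)
    (e_2_3 : T.picMatrix 2 3 = 0)
    (e_3_0 : T.picMatrix 3 0 = 0)
    (e_3_1 : T.picMatrix 3 1 = 1)
    (e_3_2 : T.picMatrix 3 2 = 0)
    (cl : ∀ a b : Fin 5, a.val < 2 → 4 ≤ b.val → T.picMatrix a b = 0) :
    Goal T := by
  by_cases hc : ∀ b : Fin 5, 4 ≤ b.val → T.picMatrix 2 b = 0
  · exact nd_103 T hG hmax e_0_1 e_0_2 e_0_3 e_1_0 e_1_2 e_1_3 e_2_0 e_2_1 e_2_3 e_3_0 e_3_1 e_3_2 (nt_cl_succ T 4 2 2 rfl cl hc)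
  · obtain ⟨τ, hfix, cl', z, hne⟩ := nt_wlog_step T 4 (by norm_num) 2 (by norm_num) 2 (by decide) cl hc
    apply goal_relabel T τ
    refine ex_106 (ntRelabel T τ) (hG.relabel τ) ?_ ?_ ?_ ?_ ?_ ?_ ?_ ?_ ?_ ?_ ?_ ?_ ?_ cl' z hne
    · intro j
      show T.m (τ j) ≤ T.m (τ 0)
      rw [hfix 0 (by decide)]
      exact hmax _
    · show T.picMatrix (τ 0) (τ 1) = 1
      rw [hfix 0 (by decide), hfix 1 (by decide)]
      exact e_0_1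
    · show T.picMatrix (τ 0) (τ 2) = 1
      rw [hfix 0 (by decide), hfix 2 (by decide)]
      exact e_0_2
    · show T.picMatrix (τ 0) (τ 3) = 0
      rw [hfix 0 (by decide), hfix 3 (by decide)]
      exact e_0_3
    · show T.picMatrix (τ 1) (τ 0) = 1
      rw [hfix 1 (by decide), hfix 0 (by decide)]
      exact e_1_0
    · show T.picMatrix (τ 1) (τ 2) = 0
      rw [hfix 1 (by decide), hfix 2 (by decide)]
      exact e_1_2
    · show T.picMatrix (τ 1) (τ 3) = 2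
      rw [hfix 1 (by decide), hfix 3 (by decide)]
      exact e_1_3
    · show T.picMatrix (τ 2) (τ 0) = 2
      rw [hfix 2 (by decide), hfix 0 (by decide)]
      exact e_2_0
    · show T.picMatrix (τ 2) (τ 1) = 0
      rw [hfix 2 (by decide), hfix 1 (by decide)]
      exact e_2_1
    · show T.picMatrix (τ 2) (τ 3) = 0
      rw [hfix 2 (by decide), hfix 3 (by decide)]
      exact e_2_3
    · show T.picMatrix (τ 3) (τ 0) = 0
      rw [hfix 3 (by decide), hfix 0 (by decide)]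
      exact e_3_0
    · show T.picMatrix (τ 3) (τ 1) = 1
      rw [hfix 3 (by decide), hfix 1 (by decide)]
      exact e_3_1
    · show T.picMatrix (τ 3) (τ 2) = 0
      rw [hfix 3 (by decide), hfix 2 (by decide)]
      exact e_3_2

theorem ex_107 (T : Models.NumericalType 5)
    (hG : NTGood T)
    (hmax : ∀ j, T.m j ≤ T.m 0)
    (e_0_1 : T.picMatrix 0 1 = 1)
    (e_0_2 : T.picMatrix 0 2 = 1)
    (e_0_3 : T.picMatrix 0 3 = 0)
    (e_1_0 : T.picMatrix 1 0 = 1)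
    (e_1_2 : T.picMatrix 1 2 = 0)
    (e_1_3 : T.picMatrix 1 3 = 2)
    (e_2_0 : T.picMatrix 2 0 = 2)
    (e_2_1 : T.picMatrix 2 1 = 0)
    (e_2_3 : T.picMatrix 2 3 = 0)
    (e_3_0 : T.picMatrix 3 0 = 0)
    (e_3_1 : T.picMatrix 3 1 = 1)
    (e_3_2 : T.picMatrix 3 2 = 0)
    (cl : ∀ a b : Fin 5, a.val < 1 → 5 ≤ b.val → T.picMatrix a b = 0)
    (z : ∀ a : Fin 5, a.val < 1 → T.picMatrix a 4 = 0)
    (hne : T.picMatrix 1 4 ≠ 0) :
    Goal T := by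
  have e_0_4 : T.picMatrix 0 4 = 0 := z 0 (by decide)
  have e_4_0 : T.picMatrix 4 0 = 0 := nt_pic_zero_symm T 0 4 e_0_4
  obtain ⟨hg0, hdA, hdP, hnn, hrow, hsym, hpair⟩ := ntgood_data T (by norm_num) hG
  have hm_0 := T.m_pos 0
  have hw_0 := T.w_pos 0
  have hm_1 := T.m_pos 1
  have hw_1 := T.w_pos 1
  have hm_2 := T.m_pos 2
  have hw_2 := T.w_pos 2
  have hm_3 := T.m_pos 3
  have hw_3 := T.w_pos 3
  have hm_4 := T.m_pos 4
  have hw_4 := T.w_pos 4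
  have hx_1 := hmax 1
  have hx_2 := hmax 2
  have hx_3 := hmax 3
  have hx_4 := hmax 4
  have N_1_4 := mul_nonneg (hnn 1 4 (by decide)) (T.m_pos 4).le
  have N_4_1 := mul_nonneg (hnn 4 1 (by decide)) (T.m_pos 1).le
  have N_2_4 := mul_nonneg (hnn 2 4 (by decide)) (T.m_pos 4).le
  have N_4_2 := mul_nonneg (hnn 4 2 (by decide)) (T.m_pos 2).le
  have N_3_4 := mul_nonneg (hnn 3 4 (by decide)) (T.m_pos 4).le
  have N_4_3 := mul_nonneg (hnn 4 3 (by decide)) (T.m_pos 3).le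
  have R_0 := hrow 0
  rw [Fin.sum_univ_five, hdP 0, e_0_1, e_0_2, e_0_3, e_0_4] at R_0
  have R_1 := hrow 1
  rw [Fin.sum_univ_five, hdP 1, e_1_0, e_1_2, e_1_3] at R_1
  have R_2 := hrow 2
  rw [Fin.sum_univ_five, hdP 2, e_2_0, e_2_1, e_2_3] at R_2
  have R_3 := hrow 3
  rw [Fin.sum_univ_five, hdP 3, e_3_0, e_3_1, e_3_2] at R_3
  have R_4 := hrow 4
  rw [Fin.sum_univ_five, hdP 4, e_4_0] at R_4
  have S_0_1 := hsym 0 1
  rw [e_0_1, e_1_0] at S_0_1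
  have S_0_2 := hsym 0 2
  rw [e_0_2, e_2_0] at S_0_2
  have S_0_3 := hsym 0 3
  rw [e_0_3, e_3_0] at S_0_3
  have S_0_4 := hsym 0 4
  rw [e_0_4, e_4_0] at S_0_4
  have S_1_2 := hsym 1 2
  rw [e_1_2, e_2_1] at S_1_2
  have S_1_3 := hsym 1 3
  rw [e_1_3, e_3_1] at S_1_3
  have S_1_4 := hsym 1 4
  have S_2_3 := hsym 2 3
  rw [e_2_3, e_3_2] at S_2_3
  have S_2_4 := hsym 2 4
  have S_3_4 := hsym 3 4
  have Q_1 := hpair 1 4 (by decide)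
  have Q_2 := hpair 2 4 (by decide)
  have Q_3 := hpair 3 4 (by decide)
  generalize e_1_4 : T.picMatrix 1 4 = x_1 at *
  generalize e_4_1 : T.picMatrix 4 1 = y_1 at *
  generalize e_2_4 : T.picMatrix 2 4 = x_2 at *
  generalize e_4_2 : T.picMatrix 4 2 = y_2 at *
  generalize e_3_4 : T.picMatrix 3 4 = x_3 at *
  generalize e_4_3 : T.picMatrix 4 3 = y_3 at *
  rcases Q_1 with ⟨rfl, rfl⟩ | ⟨rfl, rfl⟩ | ⟨rfl, rfl⟩ | ⟨rfl, rfl⟩ | ⟨rfl, rfl⟩ | ⟨rfl, rfl⟩ | ⟨rfl, rfl⟩ | ⟨rfl, rfl⟩ | ⟨rfl, rfl⟩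
  · exact absurd rfl hne
  · omega
  · omega
  · omega
  · omega
  · omega
  · omega
  · omega
  · omega

theorem nd_101 (T : Models.NumericalType 5)
    (hG : NTGood T)
    (hmax : ∀ j, T.m j ≤ T.m 0)
    (e_0_1 : T.picMatrix 0 1 = 1)
    (e_0_2 : T.picMatrix 0 2 = 1)
    (e_0_3 : T.picMatrix 0 3 = 0)
    (e_1_0 : T.picMatrix 1 0 = 1)
    (e_1_2 : T.picMatrix 1 2 = 0)
    (e_1_3 : T.picMatrix 1 3 = 2)
    (e_2_0 : T.picMatrix 2 0 = 2)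
    (e_2_1 : T.picMatrix 2 1 = 0)
    (e_2_3 : T.picMatrix 2 3 = 0)
    (e_3_0 : T.picMatrix 3 0 = 0)
    (e_3_1 : T.picMatrix 3 1 = 1)
    (e_3_2 : T.picMatrix 3 2 = 0)
    (cl : ∀ a b : Fin 5, a.val < 1 → 4 ≤ b.val → T.picMatrix a b = 0) :
    Goal T := by
  by_cases hc : ∀ b : Fin 5, 4 ≤ b.val → T.picMatrix 1 b = 0
  · exact nd_102 T hG hmax e_0_1 e_0_2 e_0_3 e_1_0 e_1_2 e_1_3 e_2_0 e_2_1 e_2_3 e_3_0 e_3_1 e_3_2 (nt_cl_succ T 4 1 1 rfl cl hc)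
  · obtain ⟨τ, hfix, cl', z, hne⟩ := nt_wlog_step T 4 (by norm_num) 1 (by norm_num) 1 (by decide) cl hc
    apply goal_relabel T τ
    refine ex_107 (ntRelabel T τ) (hG.relabel τ) ?_ ?_ ?_ ?_ ?_ ?_ ?_ ?_ ?_ ?_ ?_ ?_ ?_ cl' z hne
    · intro j
      show T.m (τ j) ≤ T.m (τ 0)
      rw [hfix 0 (by decide)]
      exact hmax _
    · show T.picMatrix (τ 0) (τ 1) = 1
      rw [hfix 0 (by decide), hfix 1 (by decide)]
      exact e_0_1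
    · show T.picMatrix (τ 0) (τ 2) = 1
      rw [hfix 0 (by decide), hfix 2 (by decide)]
      exact e_0_2
    · show T.picMatrix (τ 0) (τ 3) = 0
      rw [hfix 0 (by decide), hfix 3 (by decide)]
      exact e_0_3
    · show T.picMatrix (τ 1) (τ 0) = 1
      rw [hfix 1 (by decide), hfix 0 (by decide)]
      exact e_1_0
    · show T.picMatrix (τ 1) (τ 2) = 0
      rw [hfix 1 (by decide), hfix 2 (by decide)]
      exact e_1_2
    · show T.picMatrix (τ 1) (τ 3) = 2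
      rw [hfix 1 (by decide), hfix 3 (by decide)]
      exact e_1_3
    · show T.picMatrix (τ 2) (τ 0) = 2
      rw [hfix 2 (by decide), hfix 0 (by decide)]
      exact e_2_0
    · show T.picMatrix (τ 2) (τ 1) = 0
      rw [hfix 2 (by decide), hfix 1 (by decide)]
      exact e_2_1
    · show T.picMatrix (τ 2) (τ 3) = 0
      rw [hfix 2 (by decide), hfix 3 (by decide)]
      exact e_2_3
    · show T.picMatrix (τ 3) (τ 0) = 0
      rw [hfix 3 (by decide), hfix 0 (by decide)]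
      exact e_3_0
    · show T.picMatrix (τ 3) (τ 1) = 1
      rw [hfix 3 (by decide), hfix 1 (by decide)]
      exact e_3_1
    · show T.picMatrix (τ 3) (τ 2) = 0
      rw [hfix 3 (by decide), hfix 2 (by decide)]
      exact e_3_2

theorem ex_83 (T : Models.NumericalType 5)
    (hG : NTGood T)
    (hmax : ∀ j, T.m j ≤ T.m 0)
    (e_0_1 : T.picMatrix 0 1 = 1)
    (e_0_2 : T.picMatrix 0 2 = 1)
    (e_1_0 : T.picMatrix 1 0 = 1)
    (e_1_2 : T.picMatrix 1 2 = 0)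
    (e_2_0 : T.picMatrix 2 0 = 2)
    (e_2_1 : T.picMatrix 2 1 = 0)
    (cl : ∀ a b : Fin 5, a.val < 1 → 4 ≤ b.val → T.picMatrix a b = 0)
    (z : ∀ a : Fin 5, a.val < 1 → T.picMatrix a 3 = 0)
    (hne : T.picMatrix 1 3 ≠ 0) :
    Goal T := by
  have e_0_3 : T.picMatrix 0 3 = 0 := z 0 (by decide)
  have e_3_0 : T.picMatrix 3 0 = 0 := nt_pic_zero_symm T 0 3 e_0_3
  obtain ⟨hg0, hdA, hdP, hnn, hrow, hsym, hpair⟩ := ntgood_data T (by norm_num) hG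
  have hm_0 := T.m_pos 0
  have hw_0 := T.w_pos 0
  have hm_1 := T.m_pos 1
  have hw_1 := T.w_pos 1
  have hm_2 := T.m_pos 2
  have hw_2 := T.w_pos 2
  have hm_3 := T.m_pos 3
  have hw_3 := T.w_pos 3
  have hx_1 := hmax 1
  have hx_2 := hmax 2
  have hx_3 := hmax 3
  have Z_0_4 := cl 0 4 (by decide) (by decide)
  have N_1_4 := mul_nonneg (hnn 1 4 (by decide)) (T.m_pos 4).le
  have N_2_4 := mul_nonneg (hnn 2 4 (by decide)) (T.m_pos 4).le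
  have N_3_4 := mul_nonneg (hnn 3 4 (by decide)) (T.m_pos 4).le
  have N_1_3 := mul_nonneg (hnn 1 3 (by decide)) (T.m_pos 3).le
  have N_3_1 := mul_nonneg (hnn 3 1 (by decide)) (T.m_pos 1).le
  have N_2_3 := mul_nonneg (hnn 2 3 (by decide)) (T.m_pos 3).le
  have N_3_2 := mul_nonneg (hnn 3 2 (by decide)) (T.m_pos 2).le
  have R_0 := hrow 0
  rw [Fin.sum_univ_five, hdP 0, e_0_1, e_0_2, e_0_3, Z_0_4] at R_0
  have R_1 := hrow 1
  rw [Fin.sum_univ_five, hdP 1, e_1_0, e_1_2] at R_1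
  have R_2 := hrow 2
  rw [Fin.sum_univ_five, hdP 2, e_2_0, e_2_1] at R_2
  have R_3 := hrow 3
  rw [Fin.sum_univ_five, hdP 3, e_3_0] at R_3
  have S_0_1 := hsym 0 1
  rw [e_0_1, e_1_0] at S_0_1
  have S_0_2 := hsym 0 2
  rw [e_0_2, e_2_0] at S_0_2
  have S_0_3 := hsym 0 3
  rw [e_0_3, e_3_0] at S_0_3
  have S_1_2 := hsym 1 2
  rw [e_1_2, e_2_1] at S_1_2
  have S_1_3 := hsym 1 3
  have S_2_3 := hsym 2 3
  have Q_1 := hpair 1 3 (by decide)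
  have Q_2 := hpair 2 3 (by decide)
  generalize e_1_3 : T.picMatrix 1 3 = x_1 at *
  generalize e_3_1 : T.picMatrix 3 1 = y_1 at *
  generalize e_2_3 : T.picMatrix 2 3 = x_2 at *
  generalize e_3_2 : T.picMatrix 3 2 = y_2 at *
  rcases Q_1 with ⟨rfl, rfl⟩ | ⟨rfl, rfl⟩ | ⟨rfl, rfl⟩ | ⟨rfl, rfl⟩ | ⟨rfl, rfl⟩ | ⟨rfl, rfl⟩ | ⟨rfl, rfl⟩ | ⟨rfl, rfl⟩ | ⟨rfl, rfl⟩
  · exact absurd rfl hne
  · -- (1,3) = (1,1)
    rcases Q_2 with ⟨rfl, rfl⟩ | ⟨rfl, rfl⟩ | ⟨rfl, rfl⟩ | ⟨rfl, rfl⟩ | ⟨rfl, rfl⟩ | ⟨rfl, rfl⟩ | ⟨rfl, rfl⟩ | ⟨rfl, rfl⟩ | ⟨rfl, rfl⟩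
    · -- (2,3) = (0,0)
      exact nd_84 T hG hmax e_0_1 e_0_2 e_0_3 e_1_0 e_1_2 e_1_3 e_2_0 e_2_1 e_2_3 e_3_0 e_3_1 e_3_2 cl
    · -- (2,3) = (1,1)
      omega
    · -- (2,3) = (1,2)
      omega
    · -- (2,3) = (2,1)
      omega
    · -- (2,3) = (1,3)
      omega
    · -- (2,3) = (3,1)
      omega
    · -- (2,3) = (1,4)
      omega
    · -- (2,3) = (4,1)
      omega
    · -- (2,3) = (2,2)
      omega
  · -- (1,3) = (1,2)
    rcases Q_2 with ⟨rfl, rfl⟩ | ⟨rfl, rfl⟩ | ⟨rfl, rfl⟩ | ⟨rfl, rfl⟩ | ⟨rfl, rfl⟩ | ⟨rfl, rfl⟩ | ⟨rfl, rfl⟩ | ⟨rfl, rfl⟩ | ⟨rfl, rfl⟩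
    · -- (2,3) = (0,0)
      exact nd_94 T hG hmax e_0_1 e_0_2 e_0_3 e_1_0 e_1_2 e_1_3 e_2_0 e_2_1 e_2_3 e_3_0 e_3_1 e_3_2 cl
    · -- (2,3) = (1,1)
      omega
    · -- (2,3) = (1,2)
      omega
    · -- (2,3) = (2,1)
      omega
    · -- (2,3) = (1,3)
      omega
    · -- (2,3) = (3,1)
      omega
    · -- (2,3) = (1,4)
      omega
    · -- (2,3) = (4,1)
      omega
    · -- (2,3) = (2,2)
      omega
  · -- (1,3) = (2,1)
    rcases Q_2 with ⟨rfl, rfl⟩ | ⟨rfl, rfl⟩ | ⟨rfl, rfl⟩ | ⟨rfl, rfl⟩ | ⟨rfl, rfl⟩ | ⟨rfl, rfl⟩ | ⟨rfl, rfl⟩ | ⟨rfl, rfl⟩ | ⟨rfl, rfl⟩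
    · -- (2,3) = (0,0)
      exact nd_101 T hG hmax e_0_1 e_0_2 e_0_3 e_1_0 e_1_2 e_1_3 e_2_0 e_2_1 e_2_3 e_3_0 e_3_1 e_3_2 cl
    · -- (2,3) = (1,1)
      omega
    · -- (2,3) = (1,2)
      omega
    · -- (2,3) = (2,1)
      omega
    · -- (2,3) = (1,3)
      omega
    · -- (2,3) = (3,1)
      omega
    · -- (2,3) = (1,4)
      omega
    · -- (2,3) = (4,1)
      omega
    · -- (2,3) = (2,2)
      omega
  · omega
  · omega
  · omega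
  · omega
  · omega

theorem nd_81 (T : Models.NumericalType 5)
    (hG : NTGood T)
    (hmax : ∀ j, T.m j ≤ T.m 0)
    (e_0_1 : T.picMatrix 0 1 = 1)
    (e_0_2 : T.picMatrix 0 2 = 1)
    (e_1_0 : T.picMatrix 1 0 = 1)
    (e_1_2 : T.picMatrix 1 2 = 0)
    (e_2_0 : T.picMatrix 2 0 = 2)
    (e_2_1 : T.picMatrix 2 1 = 0)
    (cl : ∀ a b : Fin 5, a.val < 1 → 3 ≤ b.val → T.picMatrix a b = 0) :
    Goal T := by
  by_cases hc : ∀ b : Fin 5, 3 ≤ b.val → T.picMatrix 1 b = 0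
  · exact nd_82 T hG hmax e_0_1 e_0_2 e_1_0 e_1_2 e_2_0 e_2_1 (nt_cl_succ T 3 1 1 rfl cl hc)
  · obtain ⟨τ, hfix, cl', z, hne⟩ := nt_wlog_step T 3 (by norm_num) 1 (by norm_num) 1 (by decide) cl hc
    apply goal_relabel T τ
    refine ex_83 (ntRelabel T τ) (hG.relabel τ) ?_ ?_ ?_ ?_ ?_ ?_ ?_ cl' z hne
    · intro j
      show T.m (τ j) ≤ T.m (τ 0)
      rw [hfix 0 (by decide)]
      exact hmax _
    · show T.picMatrix (τ 0) (τ 1) = 1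
      rw [hfix 0 (by decide), hfix 1 (by decide)]
      exact e_0_1
    · show T.picMatrix (τ 0) (τ 2) = 1
      rw [hfix 0 (by decide), hfix 2 (by decide)]
      exact e_0_2
    · show T.picMatrix (τ 1) (τ 0) = 1
      rw [hfix 1 (by decide), hfix 0 (by decide)]
      exact e_1_0
    · show T.picMatrix (τ 1) (τ 2) = 0
      rw [hfix 1 (by decide), hfix 2 (by decide)]
      exact e_1_2
    · show T.picMatrix (τ 2) (τ 0) = 2
      rw [hfix 2 (by decide), hfix 0 (by decide)]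
      exact e_2_0
    · show T.picMatrix (τ 2) (τ 1) = 0
      rw [hfix 2 (by decide), hfix 1 (by decide)]
      exact e_2_1

theorem nd_113 (T : Models.NumericalType 5)
    (hG : NTGood T)
    (hmax : ∀ j, T.m j ≤ T.m 0)
    (e_0_1 : T.picMatrix 0 1 = 1)
    (e_0_2 : T.picMatrix 0 2 = 1)
    (e_0_3 : T.picMatrix 0 3 = 1)
    (e_1_0 : T.picMatrix 1 0 = 1)
    (e_1_2 : T.picMatrix 1 2 = 0)
    (e_1_3 : T.picMatrix 1 3 = 0)
    (e_2_0 : T.picMatrix 2 0 = 2)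
    (e_2_1 : T.picMatrix 2 1 = 0)
    (e_2_3 : T.picMatrix 2 3 = 0)
    (e_3_0 : T.picMatrix 3 0 = 1)
    (e_3_1 : T.picMatrix 3 1 = 0)
    (e_3_2 : T.picMatrix 3 2 = 0)
    (cl : ∀ a b : Fin 5, a.val < 4 → 4 ≤ b.val → T.picMatrix a b = 0) :
    Goal T := by
  exact (nt_closed_false T 4 (by norm_num) (by norm_num) cl).elim

theorem ex_114 (T : Models.NumericalType 5)
    (hG : NTGood T)
    (hmax : ∀ j, T.m j ≤ T.m 0)
    (e_0_1 : T.picMatrix 0 1 = 1)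
    (e_0_2 : T.picMatrix 0 2 = 1)
    (e_0_3 : T.picMatrix 0 3 = 1)
    (e_1_0 : T.picMatrix 1 0 = 1)
    (e_1_2 : T.picMatrix 1 2 = 0)
    (e_1_3 : T.picMatrix 1 3 = 0)
    (e_2_0 : T.picMatrix 2 0 = 2)
    (e_2_1 : T.picMatrix 2 1 = 0)
    (e_2_3 : T.picMatrix 2 3 = 0)
    (e_3_0 : T.picMatrix 3 0 = 1)
    (e_3_1 : T.picMatrix 3 1 = 0)
    (e_3_2 : T.picMatrix 3 2 = 0)
    (cl : ∀ a b : Fin 5, a.val < 3 → 5 ≤ b.val → T.picMatrix a b = 0)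
    (z : ∀ a : Fin 5, a.val < 3 → T.picMatrix a 4 = 0)
    (hne : T.picMatrix 3 4 ≠ 0) :
    Goal T := by
  have e_0_4 : T.picMatrix 0 4 = 0 := z 0 (by decide)
  have e_4_0 : T.picMatrix 4 0 = 0 := nt_pic_zero_symm T 0 4 e_0_4
  have e_1_4 : T.picMatrix 1 4 = 0 := z 1 (by decide)
  have e_4_1 : T.picMatrix 4 1 = 0 := nt_pic_zero_symm T 1 4 e_1_4
  have e_2_4 : T.picMatrix 2 4 = 0 := z 2 (by decide)
  have e_4_2 : T.picMatrix 4 2 = 0 := nt_pic_zero_symm T 2 4 e_2_4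
  obtain ⟨hg0, hdA, hdP, hnn, hrow, hsym, hpair⟩ := ntgood_data T (by norm_num) hG
  have hm_0 := T.m_pos 0
  have hw_0 := T.w_pos 0
  have hm_1 := T.m_pos 1
  have hw_1 := T.w_pos 1
  have hm_2 := T.m_pos 2
  have hw_2 := T.w_pos 2
  have hm_3 := T.m_pos 3
  have hw_3 := T.w_pos 3
  have hm_4 := T.m_pos 4
  have hw_4 := T.w_pos 4
  have hx_1 := hmax 1
  have hx_2 := hmax 2
  have hx_3 := hmax 3
  have hx_4 := hmax 4
  have N_3_4 := mul_nonneg (hnn 3 4 (by decide)) (T.m_pos 4).le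
  have N_4_3 := mul_nonneg (hnn 4 3 (by decide)) (T.m_pos 3).le
  have R_0 := hrow 0
  rw [Fin.sum_univ_five, hdP 0, e_0_1, e_0_2, e_0_3, e_0_4] at R_0
  have R_1 := hrow 1
  rw [Fin.sum_univ_five, hdP 1, e_1_0, e_1_2, e_1_3, e_1_4] at R_1
  have R_2 := hrow 2
  rw [Fin.sum_univ_five, hdP 2, e_2_0, e_2_1, e_2_3, e_2_4] at R_2
  have R_3 := hrow 3
  rw [Fin.sum_univ_five, hdP 3, e_3_0, e_3_1, e_3_2] at R_3
  have R_4 := hrow 4
  rw [Fin.sum_univ_five, hdP 4, e_4_0, e_4_1, e_4_2] at R_4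
  have S_0_1 := hsym 0 1
  rw [e_0_1, e_1_0] at S_0_1
  have S_0_2 := hsym 0 2
  rw [e_0_2, e_2_0] at S_0_2
  have S_0_3 := hsym 0 3
  rw [e_0_3, e_3_0] at S_0_3
  have S_0_4 := hsym 0 4
  rw [e_0_4, e_4_0] at S_0_4
  have S_1_2 := hsym 1 2
  rw [e_1_2, e_2_1] at S_1_2
  have S_1_3 := hsym 1 3
  rw [e_1_3, e_3_1] at S_1_3
  have S_1_4 := hsym 1 4
  rw [e_1_4, e_4_1] at S_1_4
  have S_2_3 := hsym 2 3
  rw [e_2_3, e_3_2] at S_2_3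
  have S_2_4 := hsym 2 4
  rw [e_2_4, e_4_2] at S_2_4
  have S_3_4 := hsym 3 4
  have Q_3 := hpair 3 4 (by decide)
  generalize e_3_4 : T.picMatrix 3 4 = x_3 at *
  generalize e_4_3 : T.picMatrix 4 3 = y_3 at *
  rcases Q_3 with ⟨rfl, rfl⟩ | ⟨rfl, rfl⟩ | ⟨rfl, rfl⟩ | ⟨rfl, rfl⟩ | ⟨rfl, rfl⟩ | ⟨rfl, rfl⟩ | ⟨rfl, rfl⟩ | ⟨rfl, rfl⟩ | ⟨rfl, rfl⟩
  · exact absurd rfl hne
  · -- (3,4) = (1,1)
    omega
  · -- (3,4) = (1,2)
    omega
  · -- (3,4) = (2,1)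
    omega
  · -- (3,4) = (1,3)
    omega
  · -- (3,4) = (3,1)
    omega
  · -- (3,4) = (1,4)
    omega
  · -- (3,4) = (4,1)
    omega
  · -- (3,4) = (2,2)
    omega

theorem nd_112 (T : Models.NumericalType 5)
    (hG : NTGood T)
    (hmax : ∀ j, T.m j ≤ T.m 0)
    (e_0_1 : T.picMatrix 0 1 = 1)
    (e_0_2 : T.picMatrix 0 2 = 1)
    (e_0_3 : T.picMatrix 0 3 = 1)
    (e_1_0 : T.picMatrix 1 0 = 1)
    (e_1_2 : T.picMatrix 1 2 = 0)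
    (e_1_3 : T.picMatrix 1 3 = 0)
    (e_2_0 : T.picMatrix 2 0 = 2)
    (e_2_1 : T.picMatrix 2 1 = 0)
    (e_2_3 : T.picMatrix 2 3 = 0)
    (e_3_0 : T.picMatrix 3 0 = 1)
    (e_3_1 : T.picMatrix 3 1 = 0)
    (e_3_2 : T.picMatrix 3 2 = 0)
    (cl : ∀ a b : Fin 5, a.val < 3 → 4 ≤ b.val → T.picMatrix a b = 0) :
    Goal T := by
  by_cases hc : ∀ b : Fin 5, 4 ≤ b.val → T.picMatrix 3 b = 0
  · exact nd_113 T hG hmax e_0_1 e_0_2 e_0_3 e_1_0 e_1_2 e_1_3 e_2_0 e_2_1 e_2_3 e_3_0 e_3_1 e_3_2 (nt_cl_succ T 4 3 3 rfl cl hc)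
  · obtain ⟨τ, hfix, cl', z, hne⟩ := nt_wlog_step T 4 (by norm_num) 3 (by norm_num) 3 (by decide) cl hc
    apply goal_relabel T τ
    refine ex_114 (ntRelabel T τ) (hG.relabel τ) ?_ ?_ ?_ ?_ ?_ ?_ ?_ ?_ ?_ ?_ ?_ ?_ ?_ cl' z hne
    · intro j
      show T.m (τ j) ≤ T.m (τ 0)
      rw [hfix 0 (by decide)]
      exact hmax _
    · show T.picMatrix (τ 0) (τ 1) = 1
      rw [hfix 0 (by decide), hfix 1 (by decide)]
      exact e_0_1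
    · show T.picMatrix (τ 0) (τ 2) = 1
      rw [hfix 0 (by decide), hfix 2 (by decide)]
      exact e_0_2
    · show T.picMatrix (τ 0) (τ 3) = 1
      rw [hfix 0 (by decide), hfix 3 (by decide)]
      exact e_0_3
    · show T.picMatrix (τ 1) (τ 0) = 1
      rw [hfix 1 (by decide), hfix 0 (by decide)]
      exact e_1_0
    · show T.picMatrix (τ 1) (τ 2) = 0
      rw [hfix 1 (by decide), hfix 2 (by decide)]
      exact e_1_2
    · show T.picMatrix (τ 1) (τ 3) = 0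
      rw [hfix 1 (by decide), hfix 3 (by decide)]
      exact e_1_3
    · show T.picMatrix (τ 2) (τ 0) = 2
      rw [hfix 2 (by decide), hfix 0 (by decide)]
      exact e_2_0
    · show T.picMatrix (τ 2) (τ 1) = 0
      rw [hfix 2 (by decide), hfix 1 (by decide)]
      exact e_2_1
    · show T.picMatrix (τ 2) (τ 3) = 0
      rw [hfix 2 (by decide), hfix 3 (by decide)]
      exact e_2_3
    · show T.picMatrix (τ 3) (τ 0) = 1
      rw [hfix 3 (by decide), hfix 0 (by decide)]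
      exact e_3_0
    · show T.picMatrix (τ 3) (τ 1) = 0
      rw [hfix 3 (by decide), hfix 1 (by decide)]
      exact e_3_1
    · show T.picMatrix (τ 3) (τ 2) = 0
      rw [hfix 3 (by decide), hfix 2 (by decide)]
      exact e_3_2

theorem ex_115 (T : Models.NumericalType 5)
    (hG : NTGood T)
    (hmax : ∀ j, T.m j ≤ T.m 0)
    (e_0_1 : T.picMatrix 0 1 = 1)
    (e_0_2 : T.picMatrix 0 2 = 1)
    (e_0_3 : T.picMatrix 0 3 = 1)
    (e_1_0 : T.picMatrix 1 0 = 1)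
    (e_1_2 : T.picMatrix 1 2 = 0)
    (e_1_3 : T.picMatrix 1 3 = 0)
    (e_2_0 : T.picMatrix 2 0 = 2)
    (e_2_1 : T.picMatrix 2 1 = 0)
    (e_2_3 : T.picMatrix 2 3 = 0)
    (e_3_0 : T.picMatrix 3 0 = 1)
    (e_3_1 : T.picMatrix 3 1 = 0)
    (e_3_2 : T.picMatrix 3 2 = 0)
    (cl : ∀ a b : Fin 5, a.val < 2 → 5 ≤ b.val → T.picMatrix a b = 0)
    (z : ∀ a : Fin 5, a.val < 2 → T.picMatrix a 4 = 0)
    (hne : T.picMatrix 2 4 ≠ 0) :
    Goal T := by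
  have e_0_4 : T.picMatrix 0 4 = 0 := z 0 (by decide)
  have e_4_0 : T.picMatrix 4 0 = 0 := nt_pic_zero_symm T 0 4 e_0_4
  have e_1_4 : T.picMatrix 1 4 = 0 := z 1 (by decide)
  have e_4_1 : T.picMatrix 4 1 = 0 := nt_pic_zero_symm T 1 4 e_1_4
  obtain ⟨hg0, hdA, hdP, hnn, hrow, hsym, hpair⟩ := ntgood_data T (by norm_num) hG
  have hm_0 := T.m_pos 0
  have hw_0 := T.w_pos 0
  have hm_1 := T.m_pos 1
  have hw_1 := T.w_pos 1
  have hm_2 := T.m_pos 2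
  have hw_2 := T.w_pos 2
  have hm_3 := T.m_pos 3
  have hw_3 := T.w_pos 3
  have hm_4 := T.m_pos 4
  have hw_4 := T.w_pos 4
  have hx_1 := hmax 1
  have hx_2 := hmax 2
  have hx_3 := hmax 3
  have hx_4 := hmax 4
  have N_2_4 := mul_nonneg (hnn 2 4 (by decide)) (T.m_pos 4).le
  have N_4_2 := mul_nonneg (hnn 4 2 (by decide)) (T.m_pos 2).le
  have N_3_4 := mul_nonneg (hnn 3 4 (by decide)) (T.m_pos 4).le
  have N_4_3 := mul_nonneg (hnn 4 3 (by decide)) (T.m_pos 3).le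
  have R_0 := hrow 0
  rw [Fin.sum_univ_five, hdP 0, e_0_1, e_0_2, e_0_3, e_0_4] at R_0
  have R_1 := hrow 1
  rw [Fin.sum_univ_five, hdP 1, e_1_0, e_1_2, e_1_3, e_1_4] at R_1
  have R_2 := hrow 2
  rw [Fin.sum_univ_five, hdP 2, e_2_0, e_2_1, e_2_3] at R_2
  have R_3 := hrow 3
  rw [Fin.sum_univ_five, hdP 3, e_3_0, e_3_1, e_3_2] at R_3
  have R_4 := hrow 4
  rw [Fin.sum_univ_five, hdP 4, e_4_0, e_4_1] at R_4
  have S_0_1 := hsym 0 1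
  rw [e_0_1, e_1_0] at S_0_1
  have S_0_2 := hsym 0 2
  rw [e_0_2, e_2_0] at S_0_2
  have S_0_3 := hsym 0 3
  rw [e_0_3, e_3_0] at S_0_3
  have S_0_4 := hsym 0 4
  rw [e_0_4, e_4_0] at S_0_4
  have S_1_2 := hsym 1 2
  rw [e_1_2, e_2_1] at S_1_2
  have S_1_3 := hsym 1 3
  rw [e_1_3, e_3_1] at S_1_3
  have S_1_4 := hsym 1 4
  rw [e_1_4, e_4_1] at S_1_4
  have S_2_3 := hsym 2 3
  rw [e_2_3, e_3_2] at S_2_3
  have S_2_4 := hsym 2 4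
  have S_3_4 := hsym 3 4
  have Q_2 := hpair 2 4 (by decide)
  have Q_3 := hpair 3 4 (by decide)
  generalize e_2_4 : T.picMatrix 2 4 = x_2 at *
  generalize e_4_2 : T.picMatrix 4 2 = y_2 at *
  generalize e_3_4 : T.picMatrix 3 4 = x_3 at *
  generalize e_4_3 : T.picMatrix 4 3 = y_3 at *
  rcases Q_2 with ⟨rfl, rfl⟩ | ⟨rfl, rfl⟩ | ⟨rfl, rfl⟩ | ⟨rfl, rfl⟩ | ⟨rfl, rfl⟩ | ⟨rfl, rfl⟩ | ⟨rfl, rfl⟩ | ⟨rfl, rfl⟩ | ⟨rfl, rfl⟩
  · exact absurd rfl hne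
  · omega
  · omega
  · omega
  · omega
  · omega
  · omega
  · omega
  · omega

theorem nd_111 (T : Models.NumericalType 5)
    (hG : NTGood T)
    (hmax : ∀ j, T.m j ≤ T.m 0)
    (e_0_1 : T.picMatrix 0 1 = 1)
    (e_0_2 : T.picMatrix 0 2 = 1)
    (e_0_3 : T.picMatrix 0 3 = 1)
    (e_1_0 : T.picMatrix 1 0 = 1)
    (e_1_2 : T.picMatrix 1 2 = 0)
    (e_1_3 : T.picMatrix 1 3 = 0)
    (e_2_0 : T.picMatrix 2 0 = 2)
    (e_2_1 : T.picMatrix 2 1 = 0)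
    (e_2_3 : T.picMatrix 2 3 = 0)
    (e_3_0 : T.picMatrix 3 0 = 1)
    (e_3_1 : T.picMatrix 3 1 = 0)
    (e_3_2 : T.picMatrix 3 2 = 0)
    (cl : ∀ a b : Fin 5, a.val < 2 → 4 ≤ b.val → T.picMatrix a b = 0) :
    Goal T := by
  by_cases hc : ∀ b : Fin 5, 4 ≤ b.val → T.picMatrix 2 b = 0
  · exact nd_112 T hG hmax e_0_1 e_0_2 e_0_3 e_1_0 e_1_2 e_1_3 e_2_0 e_2_1 e_2_3 e_3_0 e_3_1 e_3_2 (nt_cl_succ T 4 2 2 rfl cl hc)
  · obtain ⟨τ, hfix, cl', z, hne⟩ := nt_wlog_step T 4 (by norm_num) 2 (by norm_num) 2 (by decide) cl hc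
    apply goal_relabel T τ
    refine ex_115 (ntRelabel T τ) (hG.relabel τ) ?_ ?_ ?_ ?_ ?_ ?_ ?_ ?_ ?_ ?_ ?_ ?_ ?_ cl' z hne
    · intro j
      show T.m (τ j) ≤ T.m (τ 0)
      rw [hfix 0 (by decide)]
      exact hmax _
    · show T.picMatrix (τ 0) (τ 1) = 1
      rw [hfix 0 (by decide), hfix 1 (by decide)]
      exact e_0_1
    · show T.picMatrix (τ 0) (τ 2) = 1
      rw [hfix 0 (by decide), hfix 2 (by decide)]
      exact e_0_2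
    · show T.picMatrix (τ 0) (τ 3) = 1
      rw [hfix 0 (by decide), hfix 3 (by decide)]
      exact e_0_3
    · show T.picMatrix (τ 1) (τ 0) = 1
      rw [hfix 1 (by decide), hfix 0 (by decide)]
      exact e_1_0
    · show T.picMatrix (τ 1) (τ 2) = 0
      rw [hfix 1 (by decide), hfix 2 (by decide)]
      exact e_1_2
    · show T.picMatrix (τ 1) (τ 3) = 0
      rw [hfix 1 (by decide), hfix 3 (by decide)]
      exact e_1_3
    · show T.picMatrix (τ 2) (τ 0) = 2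
      rw [hfix 2 (by decide), hfix 0 (by decide)]
      exact e_2_0
    · show T.picMatrix (τ 2) (τ 1) = 0
      rw [hfix 2 (by decide), hfix 1 (by decide)]
      exact e_2_1
    · show T.picMatrix (τ 2) (τ 3) = 0
      rw [hfix 2 (by decide), hfix 3 (by decide)]
      exact e_2_3
    · show T.picMatrix (τ 3) (τ 0) = 1
      rw [hfix 3 (by decide), hfix 0 (by decide)]
      exact e_3_0
    · show T.picMatrix (τ 3) (τ 1) = 0
      rw [hfix 3 (by decide), hfix 1 (by decide)]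
      exact e_3_1
    · show T.picMatrix (τ 3) (τ 2) = 0
      rw [hfix 3 (by decide), hfix 2 (by decide)]
      exact e_3_2

theorem ex_116 (T : Models.NumericalType 5)
    (hG : NTGood T)
    (hmax : ∀ j, T.m j ≤ T.m 0)
    (e_0_1 : T.picMatrix 0 1 = 1)
    (e_0_2 : T.picMatrix 0 2 = 1)
    (e_0_3 : T.picMatrix 0 3 = 1)
    (e_1_0 : T.picMatrix 1 0 = 1)
    (e_1_2 : T.picMatrix 1 2 = 0)
    (e_1_3 : T.picMatrix 1 3 = 0)
    (e_2_0 : T.picMatrix 2 0 = 2)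
    (e_2_1 : T.picMatrix 2 1 = 0)
    (e_2_3 : T.picMatrix 2 3 = 0)
    (e_3_0 : T.picMatrix 3 0 = 1)
    (e_3_1 : T.picMatrix 3 1 = 0)
    (e_3_2 : T.picMatrix 3 2 = 0)
    (cl : ∀ a b : Fin 5, a.val < 1 → 5 ≤ b.val → T.picMatrix a b = 0)
    (z : ∀ a : Fin 5, a.val < 1 → T.picMatrix a 4 = 0)
    (hne : T.picMatrix 1 4 ≠ 0) :
    Goal T := by
  have e_0_4 : T.picMatrix 0 4 = 0 := z 0 (by decide)
  have e_4_0 : T.picMatrix 4 0 = 0 := nt_pic_zero_symm T 0 4 e_0_4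
  obtain ⟨hg0, hdA, hdP, hnn, hrow, hsym, hpair⟩ := ntgood_data T (by norm_num) hG
  have hm_0 := T.m_pos 0
  have hw_0 := T.w_pos 0
  have hm_1 := T.m_pos 1
  have hw_1 := T.w_pos 1
  have hm_2 := T.m_pos 2
  have hw_2 := T.w_pos 2
  have hm_3 := T.m_pos 3
  have hw_3 := T.w_pos 3
  have hm_4 := T.m_pos 4
  have hw_4 := T.w_pos 4
  have hx_1 := hmax 1
  have hx_2 := hmax 2
  have hx_3 := hmax 3
  have hx_4 := hmax 4
  have N_1_4 := mul_nonneg (hnn 1 4 (by decide)) (T.m_pos 4).le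
  have N_4_1 := mul_nonneg (hnn 4 1 (by decide)) (T.m_pos 1).le
  have N_2_4 := mul_nonneg (hnn 2 4 (by decide)) (T.m_pos 4).le
  have N_4_2 := mul_nonneg (hnn 4 2 (by decide)) (T.m_pos 2).le
  have N_3_4 := mul_nonneg (hnn 3 4 (by decide)) (T.m_pos 4).le
  have N_4_3 := mul_nonneg (hnn 4 3 (by decide)) (T.m_pos 3).le
  have R_0 := hrow 0
  rw [Fin.sum_univ_five, hdP 0, e_0_1, e_0_2, e_0_3, e_0_4] at R_0
  have R_1 := hrow 1
  rw [Fin.sum_univ_five, hdP 1, e_1_0, e_1_2, e_1_3] at R_1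
  have R_2 := hrow 2
  rw [Fin.sum_univ_five, hdP 2, e_2_0, e_2_1, e_2_3] at R_2
  have R_3 := hrow 3
  rw [Fin.sum_univ_five, hdP 3, e_3_0, e_3_1, e_3_2] at R_3
  have R_4 := hrow 4
  rw [Fin.sum_univ_five, hdP 4, e_4_0] at R_4
  have S_0_1 := hsym 0 1
  rw [e_0_1, e_1_0] at S_0_1
  have S_0_2 := hsym 0 2
  rw [e_0_2, e_2_0] at S_0_2
  have S_0_3 := hsym 0 3
  rw [e_0_3, e_3_0] at S_0_3
  have S_0_4 := hsym 0 4
  rw [e_0_4, e_4_0] at S_0_4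
  have S_1_2 := hsym 1 2
  rw [e_1_2, e_2_1] at S_1_2
  have S_1_3 := hsym 1 3
  rw [e_1_3, e_3_1] at S_1_3
  have S_1_4 := hsym 1 4
  have S_2_3 := hsym 2 3
  rw [e_2_3, e_3_2] at S_2_3
  have S_2_4 := hsym 2 4
  have S_3_4 := hsym 3 4
  have Q_1 := hpair 1 4 (by decide)
  have Q_2 := hpair 2 4 (by decide)
  have Q_3 := hpair 3 4 (by decide)
  generalize e_1_4 : T.picMatrix 1 4 = x_1 at *
  generalize e_4_1 : T.picMatrix 4 1 = y_1 at *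
  generalize e_2_4 : T.picMatrix 2 4 = x_2 at *
  generalize e_4_2 : T.picMatrix 4 2 = y_2 at *
  generalize e_3_4 : T.picMatrix 3 4 = x_3 at *
  generalize e_4_3 : T.picMatrix 4 3 = y_3 at *
  rcases Q_1 with ⟨rfl, rfl⟩ | ⟨rfl, rfl⟩ | ⟨rfl, rfl⟩ | ⟨rfl, rfl⟩ | ⟨rfl, rfl⟩ | ⟨rfl, rfl⟩ | ⟨rfl, rfl⟩ | ⟨rfl, rfl⟩ | ⟨rfl, rfl⟩
  · exact absurd rfl hne
  · omega
  · omega
  · omega
  · omega
  · omega
  · omega
  · omega
  · omega

theorem nd_110 (T : Models.NumericalType 5)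
    (hG : NTGood T)
    (hmax : ∀ j, T.m j ≤ T.m 0)
    (e_0_1 : T.picMatrix 0 1 = 1)
    (e_0_2 : T.picMatrix 0 2 = 1)
    (e_0_3 : T.picMatrix 0 3 = 1)
    (e_1_0 : T.picMatrix 1 0 = 1)
    (e_1_2 : T.picMatrix 1 2 = 0)
    (e_1_3 : T.picMatrix 1 3 = 0)
    (e_2_0 : T.picMatrix 2 0 = 2)
    (e_2_1 : T.picMatrix 2 1 = 0)
    (e_2_3 : T.picMatrix 2 3 = 0)
    (e_3_0 : T.picMatrix 3 0 = 1)
    (e_3_1 : T.picMatrix 3 1 = 0)
    (e_3_2 : T.picMatrix 3 2 = 0)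
    (cl : ∀ a b : Fin 5, a.val < 1 → 4 ≤ b.val → T.picMatrix a b = 0) :
    Goal T := by
  by_cases hc : ∀ b : Fin 5, 4 ≤ b.val → T.picMatrix 1 b = 0
  · exact nd_111 T hG hmax e_0_1 e_0_2 e_0_3 e_1_0 e_1_2 e_1_3 e_2_0 e_2_1 e_2_3 e_3_0 e_3_1 e_3_2 (nt_cl_succ T 4 1 1 rfl cl hc)
  · obtain ⟨τ, hfix, cl', z, hne⟩ := nt_wlog_step T 4 (by norm_num) 1 (by norm_num) 1 (by decide) cl hc
    apply goal_relabel T τ
    refine ex_116 (ntRelabel T τ) (hG.relabel τ) ?_ ?_ ?_ ?_ ?_ ?_ ?_ ?_ ?_ ?_ ?_ ?_ ?_ cl' z hne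
    · intro j
      show T.m (τ j) ≤ T.m (τ 0)
      rw [hfix 0 (by decide)]
      exact hmax _
    · show T.picMatrix (τ 0) (τ 1) = 1
      rw [hfix 0 (by decide), hfix 1 (by decide)]
      exact e_0_1
    · show T.picMatrix (τ 0) (τ 2) = 1
      rw [hfix 0 (by decide), hfix 2 (by decide)]
      exact e_0_2
    · show T.picMatrix (τ 0) (τ 3) = 1
      rw [hfix 0 (by decide), hfix 3 (by decide)]
      exact e_0_3
    · show T.picMatrix (τ 1) (τ 0) = 1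
      rw [hfix 1 (by decide), hfix 0 (by decide)]
      exact e_1_0
    · show T.picMatrix (τ 1) (τ 2) = 0
      rw [hfix 1 (by decide), hfix 2 (by decide)]
      exact e_1_2
    · show T.picMatrix (τ 1) (τ 3) = 0
      rw [hfix 1 (by decide), hfix 3 (by decide)]
      exact e_1_3
    · show T.picMatrix (τ 2) (τ 0) = 2
      rw [hfix 2 (by decide), hfix 0 (by decide)]
      exact e_2_0
    · show T.picMatrix (τ 2) (τ 1) = 0
      rw [hfix 2 (by decide), hfix 1 (by decide)]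
      exact e_2_1
    · show T.picMatrix (τ 2) (τ 3) = 0
      rw [hfix 2 (by decide), hfix 3 (by decide)]
      exact e_2_3
    · show T.picMatrix (τ 3) (τ 0) = 1
      rw [hfix 3 (by decide), hfix 0 (by decide)]
      exact e_3_0
    · show T.picMatrix (τ 3) (τ 1) = 0
      rw [hfix 3 (by decide), hfix 1 (by decide)]
      exact e_3_1
    · show T.picMatrix (τ 3) (τ 2) = 0
      rw [hfix 3 (by decide), hfix 2 (by decide)]
      exact e_3_2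

theorem ex_117 (T : Models.NumericalType 5)
    (hG : NTGood T)
    (hmax : ∀ j, T.m j ≤ T.m 0)
    (e_0_1 : T.picMatrix 0 1 = 1)
    (e_0_2 : T.picMatrix 0 2 = 1)
    (e_0_3 : T.picMatrix 0 3 = 1)
    (e_1_0 : T.picMatrix 1 0 = 1)
    (e_1_2 : T.picMatrix 1 2 = 0)
    (e_1_3 : T.picMatrix 1 3 = 0)
    (e_2_0 : T.picMatrix 2 0 = 2)
    (e_2_1 : T.picMatrix 2 1 = 0)
    (e_2_3 : T.picMatrix 2 3 = 0)
    (e_3_0 : T.picMatrix 3 0 = 1)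
    (e_3_1 : T.picMatrix 3 1 = 0)
    (e_3_2 : T.picMatrix 3 2 = 0)
    (cl : ∀ a b : Fin 5, a.val < 0 → 5 ≤ b.val → T.picMatrix a b = 0)
    (z : ∀ a : Fin 5, a.val < 0 → T.picMatrix a 4 = 0)
    (hne : T.picMatrix 0 4 ≠ 0) :
    Goal T := by
  obtain ⟨hg0, hdA, hdP, hnn, hrow, hsym, hpair⟩ := ntgood_data T (by norm_num) hG
  have hm_0 := T.m_pos 0
  have hw_0 := T.w_pos 0
  have hm_1 := T.m_pos 1
  have hw_1 := T.w_pos 1
  have hm_2 := T.m_pos 2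
  have hw_2 := T.w_pos 2
  have hm_3 := T.m_pos 3
  have hw_3 := T.w_pos 3
  have hm_4 := T.m_pos 4
  have hw_4 := T.w_pos 4
  have hx_1 := hmax 1
  have hx_2 := hmax 2
  have hx_3 := hmax 3
  have hx_4 := hmax 4
  have N_0_4 := mul_nonneg (hnn 0 4 (by decide)) (T.m_pos 4).le
  have N_4_0 := mul_nonneg (hnn 4 0 (by decide)) (T.m_pos 0).le
  have N_1_4 := mul_nonneg (hnn 1 4 (by decide)) (T.m_pos 4).le
  have N_4_1 := mul_nonneg (hnn 4 1 (by decide)) (T.m_pos 1).le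
  have N_2_4 := mul_nonneg (hnn 2 4 (by decide)) (T.m_pos 4).le
  have N_4_2 := mul_nonneg (hnn 4 2 (by decide)) (T.m_pos 2).le
  have N_3_4 := mul_nonneg (hnn 3 4 (by decide)) (T.m_pos 4).le
  have N_4_3 := mul_nonneg (hnn 4 3 (by decide)) (T.m_pos 3).le
  have R_0 := hrow 0
  rw [Fin.sum_univ_five, hdP 0, e_0_1, e_0_2, e_0_3] at R_0
  have R_1 := hrow 1
  rw [Fin.sum_univ_five, hdP 1, e_1_0, e_1_2, e_1_3] at R_1
  have R_2 := hrow 2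
  rw [Fin.sum_univ_five, hdP 2, e_2_0, e_2_1, e_2_3] at R_2
  have R_3 := hrow 3
  rw [Fin.sum_univ_five, hdP 3, e_3_0, e_3_1, e_3_2] at R_3
  have R_4 := hrow 4
  rw [Fin.sum_univ_five, hdP 4] at R_4
  have S_0_1 := hsym 0 1
  rw [e_0_1, e_1_0] at S_0_1
  have S_0_2 := hsym 0 2
  rw [e_0_2, e_2_0] at S_0_2
  have S_0_3 := hsym 0 3
  rw [e_0_3, e_3_0] at S_0_3
  have S_0_4 := hsym 0 4
  have S_1_2 := hsym 1 2
  rw [e_1_2, e_2_1] at S_1_2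
  have S_1_3 := hsym 1 3
  rw [e_1_3, e_3_1] at S_1_3
  have S_1_4 := hsym 1 4
  have S_2_3 := hsym 2 3
  rw [e_2_3, e_3_2] at S_2_3
  have S_2_4 := hsym 2 4
  have S_3_4 := hsym 3 4
  have Q_0 := hpair 0 4 (by decide)
  have Q_1 := hpair 1 4 (by decide)
  have Q_2 := hpair 2 4 (by decide)
  have Q_3 := hpair 3 4 (by decide)
  generalize e_0_4 : T.picMatrix 0 4 = x_0 at *
  generalize e_4_0 : T.picMatrix 4 0 = y_0 at *
  generalize e_1_4 : T.picMatrix 1 4 = x_1 at *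
  generalize e_4_1 : T.picMatrix 4 1 = y_1 at *
  generalize e_2_4 : T.picMatrix 2 4 = x_2 at *
  generalize e_4_2 : T.picMatrix 4 2 = y_2 at *
  generalize e_3_4 : T.picMatrix 3 4 = x_3 at *
  generalize e_4_3 : T.picMatrix 4 3 = y_3 at *
  rcases Q_0 with ⟨rfl, rfl⟩ | ⟨rfl, rfl⟩ | ⟨rfl, rfl⟩ | ⟨rfl, rfl⟩ | ⟨rfl, rfl⟩ | ⟨rfl, rfl⟩ | ⟨rfl, rfl⟩ | ⟨rfl, rfl⟩ | ⟨rfl, rfl⟩
  · exact absurd rfl hne
  · omega
  · omega
  · omega
  · omega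
  · omega
  · omega
  · omega
  · omega

theorem nd_109 (T : Models.NumericalType 5)
    (hG : NTGood T)
    (hmax : ∀ j, T.m j ≤ T.m 0)
    (e_0_1 : T.picMatrix 0 1 = 1)
    (e_0_2 : T.picMatrix 0 2 = 1)
    (e_0_3 : T.picMatrix 0 3 = 1)
    (e_1_0 : T.picMatrix 1 0 = 1)
    (e_1_2 : T.picMatrix 1 2 = 0)
    (e_1_3 : T.picMatrix 1 3 = 0)
    (e_2_0 : T.picMatrix 2 0 = 2)
    (e_2_1 : T.picMatrix 2 1 = 0)
    (e_2_3 : T.picMatrix 2 3 = 0)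
    (e_3_0 : T.picMatrix 3 0 = 1)
    (e_3_1 : T.picMatrix 3 1 = 0)
    (e_3_2 : T.picMatrix 3 2 = 0)
    (cl : ∀ a b : Fin 5, a.val < 0 → 4 ≤ b.val → T.picMatrix a b = 0) :
    Goal T := by
  by_cases hc : ∀ b : Fin 5, 4 ≤ b.val → T.picMatrix 0 b = 0
  · exact nd_110 T hG hmax e_0_1 e_0_2 e_0_3 e_1_0 e_1_2 e_1_3 e_2_0 e_2_1 e_2_3 e_3_0 e_3_1 e_3_2 (nt_cl_succ T 4 0 0 rfl cl hc)
  · obtain ⟨τ, hfix, cl', z, hne⟩ := nt_wlog_step T 4 (by norm_num) 0 (by norm_num) 0 (by decide) cl hc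
    apply goal_relabel T τ
    refine ex_117 (ntRelabel T τ) (hG.relabel τ) ?_ ?_ ?_ ?_ ?_ ?_ ?_ ?_ ?_ ?_ ?_ ?_ ?_ cl' z hne
    · intro j
      show T.m (τ j) ≤ T.m (τ 0)
      rw [hfix 0 (by decide)]
      exact hmax _
    · show T.picMatrix (τ 0) (τ 1) = 1
      rw [hfix 0 (by decide), hfix 1 (by decide)]
      exact e_0_1
    · show T.picMatrix (τ 0) (τ 2) = 1
      rw [hfix 0 (by decide), hfix 2 (by decide)]
      exact e_0_2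
    · show T.picMatrix (τ 0) (τ 3) = 1
      rw [hfix 0 (by decide), hfix 3 (by decide)]
      exact e_0_3
    · show T.picMatrix (τ 1) (τ 0) = 1
      rw [hfix 1 (by decide), hfix 0 (by decide)]
      exact e_1_0
    · show T.picMatrix (τ 1) (τ 2) = 0
      rw [hfix 1 (by decide), hfix 2 (by decide)]
      exact e_1_2
    · show T.picMatrix (τ 1) (τ 3) = 0
      rw [hfix 1 (by decide), hfix 3 (by decide)]
      exact e_1_3
    · show T.picMatrix (τ 2) (τ 0) = 2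
      rw [hfix 2 (by decide), hfix 0 (by decide)]
      exact e_2_0
    · show T.picMatrix (τ 2) (τ 1) = 0
      rw [hfix 2 (by decide), hfix 1 (by decide)]
      exact e_2_1
    · show T.picMatrix (τ 2) (τ 3) = 0
      rw [hfix 2 (by decide), hfix 3 (by decide)]
      exact e_2_3
    · show T.picMatrix (τ 3) (τ 0) = 1
      rw [hfix 3 (by decide), hfix 0 (by decide)]
      exact e_3_0
    · show T.picMatrix (τ 3) (τ 1) = 0
      rw [hfix 3 (by decide), hfix 1 (by decide)]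
      exact e_3_1
    · show T.picMatrix (τ 3) (τ 2) = 0
      rw [hfix 3 (by decide), hfix 2 (by decide)]
      exact e_3_2

theorem ex_108 (T : Models.NumericalType 5)
    (hG : NTGood T)
    (hmax : ∀ j, T.m j ≤ T.m 0)
    (e_0_1 : T.picMatrix 0 1 = 1)
    (e_0_2 : T.picMatrix 0 2 = 1)
    (e_1_0 : T.picMatrix 1 0 = 1)
    (e_1_2 : T.picMatrix 1 2 = 0)
    (e_2_0 : T.picMatrix 2 0 = 2)
    (e_2_1 : T.picMatrix 2 1 = 0)
    (cl : ∀ a b : Fin 5, a.val < 0 → 4 ≤ b.val → T.picMatrix a b = 0)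
    (z : ∀ a : Fin 5, a.val < 0 → T.picMatrix a 3 = 0)
    (hne : T.picMatrix 0 3 ≠ 0) :
    Goal T := by
  obtain ⟨hg0, hdA, hdP, hnn, hrow, hsym, hpair⟩ := ntgood_data T (by norm_num) hG
  have hm_0 := T.m_pos 0
  have hw_0 := T.w_pos 0
  have hm_1 := T.m_pos 1
  have hw_1 := T.w_pos 1
  have hm_2 := T.m_pos 2
  have hw_2 := T.w_pos 2
  have hm_3 := T.m_pos 3
  have hw_3 := T.w_pos 3
  have hx_1 := hmax 1
  have hx_2 := hmax 2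
  have hx_3 := hmax 3
  have N_0_4 := mul_nonneg (hnn 0 4 (by decide)) (T.m_pos 4).le
  have N_1_4 := mul_nonneg (hnn 1 4 (by decide)) (T.m_pos 4).le
  have N_2_4 := mul_nonneg (hnn 2 4 (by decide)) (T.m_pos 4).le
  have N_3_4 := mul_nonneg (hnn 3 4 (by decide)) (T.m_pos 4).le
  have N_0_3 := mul_nonneg (hnn 0 3 (by decide)) (T.m_pos 3).le
  have N_3_0 := mul_nonneg (hnn 3 0 (by decide)) (T.m_pos 0).le
  have N_1_3 := mul_nonneg (hnn 1 3 (by decide)) (T.m_pos 3).le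
  have N_3_1 := mul_nonneg (hnn 3 1 (by decide)) (T.m_pos 1).le
  have N_2_3 := mul_nonneg (hnn 2 3 (by decide)) (T.m_pos 3).le
  have N_3_2 := mul_nonneg (hnn 3 2 (by decide)) (T.m_pos 2).le
  have R_0 := hrow 0
  rw [Fin.sum_univ_five, hdP 0, e_0_1, e_0_2] at R_0
  have R_1 := hrow 1
  rw [Fin.sum_univ_five, hdP 1, e_1_0, e_1_2] at R_1
  have R_2 := hrow 2
  rw [Fin.sum_univ_five, hdP 2, e_2_0, e_2_1] at R_2
  have R_3 := hrow 3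
  rw [Fin.sum_univ_five, hdP 3] at R_3
  have S_0_1 := hsym 0 1
  rw [e_0_1, e_1_0] at S_0_1
  have S_0_2 := hsym 0 2
  rw [e_0_2, e_2_0] at S_0_2
  have S_0_3 := hsym 0 3
  have S_1_2 := hsym 1 2
  rw [e_1_2, e_2_1] at S_1_2
  have S_1_3 := hsym 1 3
  have S_2_3 := hsym 2 3
  have Q_0 := hpair 0 3 (by decide)
  have Q_1 := hpair 1 3 (by decide)
  have Q_2 := hpair 2 3 (by decide)
  generalize e_0_3 : T.picMatrix 0 3 = x_0 at *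
  generalize e_3_0 : T.picMatrix 3 0 = y_0 at *
  generalize e_1_3 : T.picMatrix 1 3 = x_1 at *
  generalize e_3_1 : T.picMatrix 3 1 = y_1 at *
  generalize e_2_3 : T.picMatrix 2 3 = x_2 at *
  generalize e_3_2 : T.picMatrix 3 2 = y_2 at *
  rcases Q_0 with ⟨rfl, rfl⟩ | ⟨rfl, rfl⟩ | ⟨rfl, rfl⟩ | ⟨rfl, rfl⟩ | ⟨rfl, rfl⟩ | ⟨rfl, rfl⟩ | ⟨rfl, rfl⟩ | ⟨rfl, rfl⟩ | ⟨rfl, rfl⟩
  · exact absurd rfl hne
  · -- (0,3) = (1,1)
    rcases Q_1 with ⟨rfl, rfl⟩ | ⟨rfl, rfl⟩ | ⟨rfl, rfl⟩ | ⟨rfl, rfl⟩ | ⟨rfl, rfl⟩ | ⟨rfl, rfl⟩ | ⟨rfl, rfl⟩ | ⟨rfl, rfl⟩ | ⟨rfl, rfl⟩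
    · -- (1,3) = (0,0)
      rcases Q_2 with ⟨rfl, rfl⟩ | ⟨rfl, rfl⟩ | ⟨rfl, rfl⟩ | ⟨rfl, rfl⟩ | ⟨rfl, rfl⟩ | ⟨rfl, rfl⟩ | ⟨rfl, rfl⟩ | ⟨rfl, rfl⟩ | ⟨rfl, rfl⟩
      · -- (2,3) = (0,0)
        exact nd_109 T hG hmax e_0_1 e_0_2 e_0_3 e_1_0 e_1_2 e_1_3 e_2_0 e_2_1 e_2_3 e_3_0 e_3_1 e_3_2 cl
      · -- (2,3) = (1,1)
        omega
      · -- (2,3) = (1,2)
        omega
      · -- (2,3) = (2,1)
        omega
      · -- (2,3) = (1,3)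
        omega
      · -- (2,3) = (3,1)
        omega
      · -- (2,3) = (1,4)
        omega
      · -- (2,3) = (4,1)
        omega
      · -- (2,3) = (2,2)
        omega
    · omega
    · omega
    · omega
    · omega
    · omega
    · omega
    · omega
    · omega
  · omega
  · omega
  · omega
  · omega
  · omega
  · omega
  · omega

theorem nd_80 (T : Models.NumericalType 5)
    (hG : NTGood T)
    (hmax : ∀ j, T.m j ≤ T.m 0)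
    (e_0_1 : T.picMatrix 0 1 = 1)
    (e_0_2 : T.picMatrix 0 2 = 1)
    (e_1_0 : T.picMatrix 1 0 = 1)
    (e_1_2 : T.picMatrix 1 2 = 0)
    (e_2_0 : T.picMatrix 2 0 = 2)
    (e_2_1 : T.picMatrix 2 1 = 0)
    (cl : ∀ a b : Fin 5, a.val < 0 → 3 ≤ b.val → T.picMatrix a b = 0) :
    Goal T := by
  by_cases hc : ∀ b : Fin 5, 3 ≤ b.val → T.picMatrix 0 b = 0
  · exact nd_81 T hG hmax e_0_1 e_0_2 e_1_0 e_1_2 e_2_0 e_2_1 (nt_cl_succ T 3 0 0 rfl cl hc)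
  · obtain ⟨τ, hfix, cl', z, hne⟩ := nt_wlog_step T 3 (by norm_num) 0 (by norm_num) 0 (by decide) cl hc
    apply goal_relabel T τ
    refine ex_108 (ntRelabel T τ) (hG.relabel τ) ?_ ?_ ?_ ?_ ?_ ?_ ?_ cl' z hne
    · intro j
      show T.m (τ j) ≤ T.m (τ 0)
      rw [hfix 0 (by decide)]
      exact hmax _
    · show T.picMatrix (τ 0) (τ 1) = 1
      rw [hfix 0 (by decide), hfix 1 (by decide)]
      exact e_0_1
    · show T.picMatrix (τ 0) (τ 2) = 1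
      rw [hfix 0 (by decide), hfix 2 (by decide)]
      exact e_0_2
    · show T.picMatrix (τ 1) (τ 0) = 1
      rw [hfix 1 (by decide), hfix 0 (by decide)]
      exact e_1_0
    · show T.picMatrix (τ 1) (τ 2) = 0
      rw [hfix 1 (by decide), hfix 2 (by decide)]
      exact e_1_2
    · show T.picMatrix (τ 2) (τ 0) = 2
      rw [hfix 2 (by decide), hfix 0 (by decide)]
      exact e_2_0
    · show T.picMatrix (τ 2) (τ 1) = 0
      rw [hfix 2 (by decide), hfix 1 (by decide)]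
      exact e_2_1

theorem nd_178 (T : Models.NumericalType 5)
    (hG : NTGood T)
    (hmax : ∀ j, T.m j ≤ T.m 0)
    (e_0_1 : T.picMatrix 0 1 = 1)
    (e_0_2 : T.picMatrix 0 2 = 1)
    (e_1_0 : T.picMatrix 1 0 = 2)
    (e_1_2 : T.picMatrix 1 2 = 0)
    (e_2_0 : T.picMatrix 2 0 = 1)
    (e_2_1 : T.picMatrix 2 1 = 0)
    (cl : ∀ a b : Fin 5, a.val < 3 → 3 ≤ b.val → T.picMatrix a b = 0) :
    Goal T := by
  obtain ⟨hg0, hdA, hdP, hnn, hrow, hsym, hpair⟩ := ntgood_data T (by norm_num) hG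
  have hm_0 := T.m_pos 0
  have hw_0 := T.w_pos 0
  have hm_1 := T.m_pos 1
  have hw_1 := T.w_pos 1
  have hm_2 := T.m_pos 2
  have hw_2 := T.w_pos 2
  have hx_1 := hmax 1
  have hx_2 := hmax 2
  have Z_0_3 := cl 0 3 (by decide) (by decide)
  have Z_0_4 := cl 0 4 (by decide) (by decide)
  have Z_1_3 := cl 1 3 (by decide) (by decide)
  have Z_1_4 := cl 1 4 (by decide) (by decide)
  have Z_2_3 := cl 2 3 (by decide) (by decide)
  have Z_2_4 := cl 2 4 (by decide) (by decide)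
  have R_0 := hrow 0
  rw [Fin.sum_univ_five, hdP 0, e_0_1, e_0_2, Z_0_3, Z_0_4] at R_0
  have R_1 := hrow 1
  rw [Fin.sum_univ_five, hdP 1, e_1_0, e_1_2, Z_1_3, Z_1_4] at R_1
  have R_2 := hrow 2
  rw [Fin.sum_univ_five, hdP 2, e_2_0, e_2_1, Z_2_3, Z_2_4] at R_2
  have S_0_1 := hsym 0 1
  rw [e_0_1, e_1_0] at S_0_1
  have S_0_2 := hsym 0 2
  rw [e_0_2, e_2_0] at S_0_2
  have S_1_2 := hsym 1 2
  rw [e_1_2, e_2_1] at S_1_2
  exfalso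
  omega

theorem nd_182 (T : Models.NumericalType 5)
    (hG : NTGood T)
    (hmax : ∀ j, T.m j ≤ T.m 0)
    (e_0_1 : T.picMatrix 0 1 = 1)
    (e_0_2 : T.picMatrix 0 2 = 1)
    (e_0_3 : T.picMatrix 0 3 = 0)
    (e_1_0 : T.picMatrix 1 0 = 2)
    (e_1_2 : T.picMatrix 1 2 = 0)
    (e_1_3 : T.picMatrix 1 3 = 0)
    (e_2_0 : T.picMatrix 2 0 = 1)
    (e_2_1 : T.picMatrix 2 1 = 0)
    (e_2_3 : T.picMatrix 2 3 = 1)
    (e_3_0 : T.picMatrix 3 0 = 0)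
    (e_3_1 : T.picMatrix 3 1 = 0)
    (e_3_2 : T.picMatrix 3 2 = 1)
    (cl : ∀ a b : Fin 5, a.val < 4 → 4 ≤ b.val → T.picMatrix a b = 0) :
    Goal T := by
  obtain ⟨hg0, hdA, hdP, hnn, hrow, hsym, hpair⟩ := ntgood_data T (by norm_num) hG
  have hm_0 := T.m_pos 0
  have hw_0 := T.w_pos 0
  have hm_1 := T.m_pos 1
  have hw_1 := T.w_pos 1
  have hm_2 := T.m_pos 2
  have hw_2 := T.w_pos 2
  have hm_3 := T.m_pos 3
  have hw_3 := T.w_pos 3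
  have hx_1 := hmax 1
  have hx_2 := hmax 2
  have hx_3 := hmax 3
  have Z_0_4 := cl 0 4 (by decide) (by decide)
  have Z_1_4 := cl 1 4 (by decide) (by decide)
  have Z_2_4 := cl 2 4 (by decide) (by decide)
  have Z_3_4 := cl 3 4 (by decide) (by decide)
  have R_0 := hrow 0
  rw [Fin.sum_univ_five, hdP 0, e_0_1, e_0_2, e_0_3, Z_0_4] at R_0
  have R_1 := hrow 1
  rw [Fin.sum_univ_five, hdP 1, e_1_0, e_1_2, e_1_3, Z_1_4] at R_1
  have R_2 := hrow 2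
  rw [Fin.sum_univ_five, hdP 2, e_2_0, e_2_1, e_2_3, Z_2_4] at R_2
  have R_3 := hrow 3
  rw [Fin.sum_univ_five, hdP 3, e_3_0, e_3_1, e_3_2, Z_3_4] at R_3
  have S_0_1 := hsym 0 1
  rw [e_0_1, e_1_0] at S_0_1
  have S_0_2 := hsym 0 2
  rw [e_0_2, e_2_0] at S_0_2
  have S_0_3 := hsym 0 3
  rw [e_0_3, e_3_0] at S_0_3
  have S_1_2 := hsym 1 2
  rw [e_1_2, e_2_1] at S_1_2
  have S_1_3 := hsym 1 3
  rw [e_1_3, e_3_1] at S_1_3
  have S_2_3 := hsym 2 3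
  rw [e_2_3, e_3_2] at S_2_3
  exfalso
  omega

theorem nd_184 (T : Models.NumericalType 5)
    (hG : NTGood T)
    (hmax : ∀ j, T.m j ≤ T.m 0)
    (e_0_1 : T.picMatrix 0 1 = 1)
    (e_0_2 : T.picMatrix 0 2 = 1)
    (e_0_3 : T.picMatrix 0 3 = 0)
    (e_0_4 : T.picMatrix 0 4 = 0)
    (e_1_0 : T.picMatrix 1 0 = 2)
    (e_1_2 : T.picMatrix 1 2 = 0)
    (e_1_3 : T.picMatrix 1 3 = 0)
    (e_1_4 : T.picMatrix 1 4 = 0)
    (e_2_0 : T.picMatrix 2 0 = 1)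
    (e_2_1 : T.picMatrix 2 1 = 0)
    (e_2_3 : T.picMatrix 2 3 = 1)
    (e_2_4 : T.picMatrix 2 4 = 0)
    (e_3_0 : T.picMatrix 3 0 = 0)
    (e_3_1 : T.picMatrix 3 1 = 0)
    (e_3_2 : T.picMatrix 3 2 = 1)
    (e_3_4 : T.picMatrix 3 4 = 1)
    (e_4_0 : T.picMatrix 4 0 = 0)
    (e_4_1 : T.picMatrix 4 1 = 0)
    (e_4_2 : T.picMatrix 4 2 = 0)
    (e_4_3 : T.picMatrix 4 3 = 2)
    (cl : ∀ a b : Fin 5, a.val < 3 → 5 ≤ b.val → T.picMatrix a b = 0) :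
    Goal T := by
  obtain ⟨hg0, hdA, hdP, hnn, hrow, hsym, hpair⟩ := ntgood_data T (by norm_num) hG
  have hm_0 := T.m_pos 0
  have hw_0 := T.w_pos 0
  have hm_1 := T.m_pos 1
  have hw_1 := T.w_pos 1
  have hm_2 := T.m_pos 2
  have hw_2 := T.w_pos 2
  have hm_3 := T.m_pos 3
  have hw_3 := T.w_pos 3
  have hm_4 := T.m_pos 4
  have hw_4 := T.w_pos 4
  have hx_1 := hmax 1
  have hx_2 := hmax 2
  have hx_3 := hmax 3
  have hx_4 := hmax 4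
  have R_0 := hrow 0
  rw [Fin.sum_univ_five, hdP 0, e_0_1, e_0_2, e_0_3, e_0_4] at R_0
  have R_1 := hrow 1
  rw [Fin.sum_univ_five, hdP 1, e_1_0, e_1_2, e_1_3, e_1_4] at R_1
  have R_2 := hrow 2
  rw [Fin.sum_univ_five, hdP 2, e_2_0, e_2_1, e_2_3, e_2_4] at R_2
  have R_3 := hrow 3
  rw [Fin.sum_univ_five, hdP 3, e_3_0, e_3_1, e_3_2, e_3_4] at R_3
  have R_4 := hrow 4
  rw [Fin.sum_univ_five, hdP 4, e_4_0, e_4_1, e_4_2, e_4_3] at R_4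
  have S_0_1 := hsym 0 1
  rw [e_0_1, e_1_0] at S_0_1
  have S_0_2 := hsym 0 2
  rw [e_0_2, e_2_0] at S_0_2
  have S_0_3 := hsym 0 3
  rw [e_0_3, e_3_0] at S_0_3
  have S_0_4 := hsym 0 4
  rw [e_0_4, e_4_0] at S_0_4
  have S_1_2 := hsym 1 2
  rw [e_1_2, e_2_1] at S_1_2
  have S_1_3 := hsym 1 3
  rw [e_1_3, e_3_1] at S_1_3
  have S_1_4 := hsym 1 4
  rw [e_1_4, e_4_1] at S_1_4
  have S_2_3 := hsym 2 3
  rw [e_2_3, e_3_2] at S_2_3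
  have S_2_4 := hsym 2 4
  rw [e_2_4, e_4_2] at S_2_4
  have S_3_4 := hsym 3 4
  rw [e_3_4, e_4_3] at S_3_4
  have D_0 := hdA 0
  have A_0_1 := nt_a_eq T 0 1
  rw [e_0_1] at A_0_1
  have A_0_2 := nt_a_eq T 0 2
  rw [e_0_2] at A_0_2
  have A_0_3 := nt_a_eq T 0 3
  rw [e_0_3] at A_0_3
  have A_0_4 := nt_a_eq T 0 4
  rw [e_0_4] at A_0_4
  have D_1 := hdA 1
  have A_1_0 := nt_a_eq T 1 0
  rw [e_1_0] at A_1_0
  have A_1_2 := nt_a_eq T 1 2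
  rw [e_1_2] at A_1_2
  have A_1_3 := nt_a_eq T 1 3
  rw [e_1_3] at A_1_3
  have A_1_4 := nt_a_eq T 1 4
  rw [e_1_4] at A_1_4
  have D_2 := hdA 2
  have A_2_0 := nt_a_eq T 2 0
  rw [e_2_0] at A_2_0
  have A_2_1 := nt_a_eq T 2 1
  rw [e_2_1] at A_2_1
  have A_2_3 := nt_a_eq T 2 3
  rw [e_2_3] at A_2_3
  have A_2_4 := nt_a_eq T 2 4
  rw [e_2_4] at A_2_4
  have D_3 := hdA 3
  have A_3_0 := nt_a_eq T 3 0
  rw [e_3_0] at A_3_0
  have A_3_1 := nt_a_eq T 3 1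
  rw [e_3_1] at A_3_1
  have A_3_2 := nt_a_eq T 3 2
  rw [e_3_2] at A_3_2
  have A_3_4 := nt_a_eq T 3 4
  rw [e_3_4] at A_3_4
  have D_4 := hdA 4
  have A_4_0 := nt_a_eq T 4 0
  rw [e_4_0] at A_4_0
  have A_4_1 := nt_a_eq T 4 1
  rw [e_4_1] at A_4_1
  have A_4_2 := nt_a_eq T 4 2
  rw [e_4_2] at A_4_2
  have A_4_3 := nt_a_eq T 4 3
  rw [e_4_3] at A_4_3
  refine goal_of_indices T hg0 1 0 2 3 4 (by decide) (T.m 1) (T.w 1) ?_
  unfold Goali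
  exact Or.inr (Or.inr (Or.inr (Or.inr (Or.inl ⟨by omega, by omega, by omega, by omega, by omega, by omega, by omega, by omega, by omega, by omega, by omega, by omega, by omega, by omega, by omega, by omega, by omega, by omega, by omega, by omega, by omega, by omega, by omega, by omega, by omega⟩))))

theorem nd_185 (T : Models.NumericalType 5)
    (hG : NTGood T)
    (hmax : ∀ j, T.m j ≤ T.m 0)
    (e_0_1 : T.picMatrix 0 1 = 1)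
    (e_0_2 : T.picMatrix 0 2 = 1)
    (e_0_3 : T.picMatrix 0 3 = 0)
    (e_0_4 : T.picMatrix 0 4 = 0)
    (e_1_0 : T.picMatrix 1 0 = 2)
    (e_1_2 : T.picMatrix 1 2 = 0)
    (e_1_3 : T.picMatrix 1 3 = 0)
    (e_1_4 : T.picMatrix 1 4 = 0)
    (e_2_0 : T.picMatrix 2 0 = 1)
    (e_2_1 : T.picMatrix 2 1 = 0)
    (e_2_3 : T.picMatrix 2 3 = 1)
    (e_2_4 : T.picMatrix 2 4 = 0)
    (e_3_0 : T.picMatrix 3 0 = 0)
    (e_3_1 : T.picMatrix 3 1 = 0)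
    (e_3_2 : T.picMatrix 3 2 = 1)
    (e_3_4 : T.picMatrix 3 4 = 2)
    (e_4_0 : T.picMatrix 4 0 = 0)
    (e_4_1 : T.picMatrix 4 1 = 0)
    (e_4_2 : T.picMatrix 4 2 = 0)
    (e_4_3 : T.picMatrix 4 3 = 1)
    (cl : ∀ a b : Fin 5, a.val < 3 → 5 ≤ b.val → T.picMatrix a b = 0) :
    Goal T := by
  obtain ⟨hg0, hdA, hdP, hnn, hrow, hsym, hpair⟩ := ntgood_data T (by norm_num) hG
  have hm_0 := T.m_pos 0
  have hw_0 := T.w_pos 0
  have hm_1 := T.m_pos 1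
  have hw_1 := T.w_pos 1
  have hm_2 := T.m_pos 2
  have hw_2 := T.w_pos 2
  have hm_3 := T.m_pos 3
  have hw_3 := T.w_pos 3
  have hm_4 := T.m_pos 4
  have hw_4 := T.w_pos 4
  have hx_1 := hmax 1
  have hx_2 := hmax 2
  have hx_3 := hmax 3
  have hx_4 := hmax 4
  have R_0 := hrow 0
  rw [Fin.sum_univ_five, hdP 0, e_0_1, e_0_2, e_0_3, e_0_4] at R_0
  have R_1 := hrow 1
  rw [Fin.sum_univ_five, hdP 1, e_1_0, e_1_2, e_1_3, e_1_4] at R_1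
  have R_2 := hrow 2
  rw [Fin.sum_univ_five, hdP 2, e_2_0, e_2_1, e_2_3, e_2_4] at R_2
  have R_3 := hrow 3
  rw [Fin.sum_univ_five, hdP 3, e_3_0, e_3_1, e_3_2, e_3_4] at R_3
  have R_4 := hrow 4
  rw [Fin.sum_univ_five, hdP 4, e_4_0, e_4_1, e_4_2, e_4_3] at R_4
  have S_0_1 := hsym 0 1
  rw [e_0_1, e_1_0] at S_0_1
  have S_0_2 := hsym 0 2
  rw [e_0_2, e_2_0] at S_0_2
  have S_0_3 := hsym 0 3
  rw [e_0_3, e_3_0] at S_0_3
  have S_0_4 := hsym 0 4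
  rw [e_0_4, e_4_0] at S_0_4
  have S_1_2 := hsym 1 2
  rw [e_1_2, e_2_1] at S_1_2
  have S_1_3 := hsym 1 3
  rw [e_1_3, e_3_1] at S_1_3
  have S_1_4 := hsym 1 4
  rw [e_1_4, e_4_1] at S_1_4
  have S_2_3 := hsym 2 3
  rw [e_2_3, e_3_2] at S_2_3
  have S_2_4 := hsym 2 4
  rw [e_2_4, e_4_2] at S_2_4
  have S_3_4 := hsym 3 4
  rw [e_3_4, e_4_3] at S_3_4
  have D_0 := hdA 0
  have A_0_1 := nt_a_eq T 0 1
  rw [e_0_1] at A_0_1
  have A_0_2 := nt_a_eq T 0 2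
  rw [e_0_2] at A_0_2
  have A_0_3 := nt_a_eq T 0 3
  rw [e_0_3] at A_0_3
  have A_0_4 := nt_a_eq T 0 4
  rw [e_0_4] at A_0_4
  have D_1 := hdA 1
  have A_1_0 := nt_a_eq T 1 0
  rw [e_1_0] at A_1_0
  have A_1_2 := nt_a_eq T 1 2
  rw [e_1_2] at A_1_2
  have A_1_3 := nt_a_eq T 1 3
  rw [e_1_3] at A_1_3
  have A_1_4 := nt_a_eq T 1 4
  rw [e_1_4] at A_1_4
  have D_2 := hdA 2
  have A_2_0 := nt_a_eq T 2 0
  rw [e_2_0] at A_2_0
  have A_2_1 := nt_a_eq T 2 1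
  rw [e_2_1] at A_2_1
  have A_2_3 := nt_a_eq T 2 3
  rw [e_2_3] at A_2_3
  have A_2_4 := nt_a_eq T 2 4
  rw [e_2_4] at A_2_4
  have D_3 := hdA 3
  have A_3_0 := nt_a_eq T 3 0
  rw [e_3_0] at A_3_0
  have A_3_1 := nt_a_eq T 3 1
  rw [e_3_1] at A_3_1
  have A_3_2 := nt_a_eq T 3 2
  rw [e_3_2] at A_3_2
  have A_3_4 := nt_a_eq T 3 4
  rw [e_3_4] at A_3_4
  have D_4 := hdA 4
  have A_4_0 := nt_a_eq T 4 0
  rw [e_4_0] at A_4_0
  have A_4_1 := nt_a_eq T 4 1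
  rw [e_4_1] at A_4_1
  have A_4_2 := nt_a_eq T 4 2
  rw [e_4_2] at A_4_2
  have A_4_3 := nt_a_eq T 4 3
  rw [e_4_3] at A_4_3
  refine goal_of_indices T hg0 1 0 2 3 4 (by decide) (T.m 4) (T.w 1) ?_
  unfold Goali
  exact Or.inr (Or.inr (Or.inr (Or.inl ⟨by omega, by omega, by omega, by omega, by omega, by omega, by omega, by omega, by omega, by omega, by omega, by omega, by omega, by omega, by omega, by omega, by omega, by omega, by omega, by omega, by omega, by omega, by omega, by omega, by omega⟩)))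

theorem ex_183 (T : Models.NumericalType 5)
    (hG : NTGood T)
    (hmax : ∀ j, T.m j ≤ T.m 0)
    (e_0_1 : T.picMatrix 0 1 = 1)
    (e_0_2 : T.picMatrix 0 2 = 1)
    (e_0_3 : T.picMatrix 0 3 = 0)
    (e_1_0 : T.picMatrix 1 0 = 2)
    (e_1_2 : T.picMatrix 1 2 = 0)
    (e_1_3 : T.picMatrix 1 3 = 0)
    (e_2_0 : T.picMatrix 2 0 = 1)
    (e_2_1 : T.picMatrix 2 1 = 0)
    (e_2_3 : T.picMatrix 2 3 = 1)
    (e_3_0 : T.picMatrix 3 0 = 0)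
    (e_3_1 : T.picMatrix 3 1 = 0)
    (e_3_2 : T.picMatrix 3 2 = 1)
    (cl : ∀ a b : Fin 5, a.val < 3 → 5 ≤ b.val → T.picMatrix a b = 0)
    (z : ∀ a : Fin 5, a.val < 3 → T.picMatrix a 4 = 0)
    (hne : T.picMatrix 3 4 ≠ 0) :
    Goal T := by
  have e_0_4 : T.picMatrix 0 4 = 0 := z 0 (by decide)
  have e_4_0 : T.picMatrix 4 0 = 0 := nt_pic_zero_symm T 0 4 e_0_4
  have e_1_4 : T.picMatrix 1 4 = 0 := z 1 (by decide)
  have e_4_1 : T.picMatrix 4 1 = 0 := nt_pic_zero_symm T 1 4 e_1_4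
  have e_2_4 : T.picMatrix 2 4 = 0 := z 2 (by decide)
  have e_4_2 : T.picMatrix 4 2 = 0 := nt_pic_zero_symm T 2 4 e_2_4
  obtain ⟨hg0, hdA, hdP, hnn, hrow, hsym, hpair⟩ := ntgood_data T (by norm_num) hG
  have hm_0 := T.m_pos 0
  have hw_0 := T.w_pos 0
  have hm_1 := T.m_pos 1
  have hw_1 := T.w_pos 1
  have hm_2 := T.m_pos 2
  have hw_2 := T.w_pos 2
  have hm_3 := T.m_pos 3
  have hw_3 := T.w_pos 3
  have hm_4 := T.m_pos 4
  have hw_4 := T.w_pos 4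
  have hx_1 := hmax 1
  have hx_2 := hmax 2
  have hx_3 := hmax 3
  have hx_4 := hmax 4
  have N_3_4 := mul_nonneg (hnn 3 4 (by decide)) (T.m_pos 4).le
  have N_4_3 := mul_nonneg (hnn 4 3 (by decide)) (T.m_pos 3).le
  have R_0 := hrow 0
  rw [Fin.sum_univ_five, hdP 0, e_0_1, e_0_2, e_0_3, e_0_4] at R_0
  have R_1 := hrow 1
  rw [Fin.sum_univ_five, hdP 1, e_1_0, e_1_2, e_1_3, e_1_4] at R_1
  have R_2 := hrow 2
  rw [Fin.sum_univ_five, hdP 2, e_2_0, e_2_1, e_2_3, e_2_4] at R_2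
  have R_3 := hrow 3
  rw [Fin.sum_univ_five, hdP 3, e_3_0, e_3_1, e_3_2] at R_3
  have R_4 := hrow 4
  rw [Fin.sum_univ_five, hdP 4, e_4_0, e_4_1, e_4_2] at R_4
  have S_0_1 := hsym 0 1
  rw [e_0_1, e_1_0] at S_0_1
  have S_0_2 := hsym 0 2
  rw [e_0_2, e_2_0] at S_0_2
  have S_0_3 := hsym 0 3
  rw [e_0_3, e_3_0] at S_0_3
  have S_0_4 := hsym 0 4
  rw [e_0_4, e_4_0] at S_0_4
  have S_1_2 := hsym 1 2
  rw [e_1_2, e_2_1] at S_1_2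
  have S_1_3 := hsym 1 3
  rw [e_1_3, e_3_1] at S_1_3
  have S_1_4 := hsym 1 4
  rw [e_1_4, e_4_1] at S_1_4
  have S_2_3 := hsym 2 3
  rw [e_2_3, e_3_2] at S_2_3
  have S_2_4 := hsym 2 4
  rw [e_2_4, e_4_2] at S_2_4
  have S_3_4 := hsym 3 4
  have Q_3 := hpair 3 4 (by decide)
  generalize e_3_4 : T.picMatrix 3 4 = x_3 at *
  generalize e_4_3 : T.picMatrix 4 3 = y_3 at *
  rcases Q_3 with ⟨rfl, rfl⟩ | ⟨rfl, rfl⟩ | ⟨rfl, rfl⟩ | ⟨rfl, rfl⟩ | ⟨rfl, rfl⟩ | ⟨rfl, rfl⟩ | ⟨rfl, rfl⟩ | ⟨rfl, rfl⟩ | ⟨rfl, rfl⟩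
  · exact absurd rfl hne
  · -- (3,4) = (1,1)
    omega
  · -- (3,4) = (1,2)
    exact nd_184 T hG hmax e_0_1 e_0_2 e_0_3 e_0_4 e_1_0 e_1_2 e_1_3 e_1_4 e_2_0 e_2_1 e_2_3 e_2_4 e_3_0 e_3_1 e_3_2 e_3_4 e_4_0 e_4_1 e_4_2 e_4_3 cl
  · -- (3,4) = (2,1)
    exact nd_185 T hG hmax e_0_1 e_0_2 e_0_3 e_0_4 e_1_0 e_1_2 e_1_3 e_1_4 e_2_0 e_2_1 e_2_3 e_2_4 e_3_0 e_3_1 e_3_2 e_3_4 e_4_0 e_4_1 e_4_2 e_4_3 cl
  · -- (3,4) = (1,3)
    omega
  · -- (3,4) = (3,1)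
    omega
  · -- (3,4) = (1,4)
    omega
  · -- (3,4) = (4,1)
    omega
  · -- (3,4) = (2,2)
    omega

theorem nd_181 (T : Models.NumericalType 5)
    (hG : NTGood T)
    (hmax : ∀ j, T.m j ≤ T.m 0)
    (e_0_1 : T.picMatrix 0 1 = 1)
    (e_0_2 : T.picMatrix 0 2 = 1)
    (e_0_3 : T.picMatrix 0 3 = 0)
    (e_1_0 : T.picMatrix 1 0 = 2)
    (e_1_2 : T.picMatrix 1 2 = 0)
    (e_1_3 : T.picMatrix 1 3 = 0)
    (e_2_0 : T.picMatrix 2 0 = 1)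
    (e_2_1 : T.picMatrix 2 1 = 0)
    (e_2_3 : T.picMatrix 2 3 = 1)
    (e_3_0 : T.picMatrix 3 0 = 0)
    (e_3_1 : T.picMatrix 3 1 = 0)
    (e_3_2 : T.picMatrix 3 2 = 1)
    (cl : ∀ a b : Fin 5, a.val < 3 → 4 ≤ b.val → T.picMatrix a b = 0) :
    Goal T := by
  by_cases hc : ∀ b : Fin 5, 4 ≤ b.val → T.picMatrix 3 b = 0
  · exact nd_182 T hG hmax e_0_1 e_0_2 e_0_3 e_1_0 e_1_2 e_1_3 e_2_0 e_2_1 e_2_3 e_3_0 e_3_1 e_3_2 (nt_cl_succ T 4 3 3 rfl cl hc)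
  · obtain ⟨τ, hfix, cl', z, hne⟩ := nt_wlog_step T 4 (by norm_num) 3 (by norm_num) 3 (by decide) cl hc
    apply goal_relabel T τ
    refine ex_183 (ntRelabel T τ) (hG.relabel τ) ?_ ?_ ?_ ?_ ?_ ?_ ?_ ?_ ?_ ?_ ?_ ?_ ?_ cl' z hne
    · intro j
      show T.m (τ j) ≤ T.m (τ 0)
      rw [hfix 0 (by decide)]
      exact hmax _
    · show T.picMatrix (τ 0) (τ 1) = 1
      rw [hfix 0 (by decide), hfix 1 (by decide)]
      exact e_0_1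
    · show T.picMatrix (τ 0) (τ 2) = 1
      rw [hfix 0 (by decide), hfix 2 (by decide)]
      exact e_0_2
    · show T.picMatrix (τ 0) (τ 3) = 0
      rw [hfix 0 (by decide), hfix 3 (by decide)]
      exact e_0_3
    · show T.picMatrix (τ 1) (τ 0) = 2
      rw [hfix 1 (by decide), hfix 0 (by decide)]
      exact e_1_0
    · show T.picMatrix (τ 1) (τ 2) = 0
      rw [hfix 1 (by decide), hfix 2 (by decide)]
      exact e_1_2
    · show T.picMatrix (τ 1) (τ 3) = 0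
      rw [hfix 1 (by decide), hfix 3 (by decide)]
      exact e_1_3
    · show T.picMatrix (τ 2) (τ 0) = 1
      rw [hfix 2 (by decide), hfix 0 (by decide)]
      exact e_2_0
    · show T.picMatrix (τ 2) (τ 1) = 0
      rw [hfix 2 (by decide), hfix 1 (by decide)]
      exact e_2_1
    · show T.picMatrix (τ 2) (τ 3) = 1
      rw [hfix 2 (by decide), hfix 3 (by decide)]
      exact e_2_3
    · show T.picMatrix (τ 3) (τ 0) = 0
      rw [hfix 3 (by decide), hfix 0 (by decide)]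
      exact e_3_0
    · show T.picMatrix (τ 3) (τ 1) = 0
      rw [hfix 3 (by decide), hfix 1 (by decide)]
      exact e_3_1
    · show T.picMatrix (τ 3) (τ 2) = 1
      rw [hfix 3 (by decide), hfix 2 (by decide)]
      exact e_3_2

theorem nd_187 (T : Models.NumericalType 5)
    (hG : NTGood T)
    (hmax : ∀ j, T.m j ≤ T.m 0)
    (e_0_1 : T.picMatrix 0 1 = 1)
    (e_0_2 : T.picMatrix 0 2 = 1)
    (e_0_3 : T.picMatrix 0 3 = 0)
    (e_0_4 : T.picMatrix 0 4 = 0)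
    (e_1_0 : T.picMatrix 1 0 = 2)
    (e_1_2 : T.picMatrix 1 2 = 0)
    (e_1_3 : T.picMatrix 1 3 = 0)
    (e_1_4 : T.picMatrix 1 4 = 0)
    (e_2_0 : T.picMatrix 2 0 = 1)
    (e_2_1 : T.picMatrix 2 1 = 0)
    (e_2_3 : T.picMatrix 2 3 = 1)
    (e_2_4 : T.picMatrix 2 4 = 1)
    (e_3_0 : T.picMatrix 3 0 = 0)
    (e_3_1 : T.picMatrix 3 1 = 0)
    (e_3_2 : T.picMatrix 3 2 = 1)
    (e_3_4 : T.picMatrix 3 4 = 0)
    (e_4_0 : T.picMatrix 4 0 = 0)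
    (e_4_1 : T.picMatrix 4 1 = 0)
    (e_4_2 : T.picMatrix 4 2 = 1)
    (e_4_3 : T.picMatrix 4 3 = 0)
    (cl : ∀ a b : Fin 5, a.val < 2 → 5 ≤ b.val → T.picMatrix a b = 0) :
    Goal T := by
  obtain ⟨hg0, hdA, hdP, hnn, hrow, hsym, hpair⟩ := ntgood_data T (by norm_num) hG
  have hm_0 := T.m_pos 0
  have hw_0 := T.w_pos 0
  have hm_1 := T.m_pos 1
  have hw_1 := T.w_pos 1
  have hm_2 := T.m_pos 2
  have hw_2 := T.w_pos 2
  have hm_3 := T.m_pos 3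
  have hw_3 := T.w_pos 3
  have hm_4 := T.m_pos 4
  have hw_4 := T.w_pos 4
  have hx_1 := hmax 1
  have hx_2 := hmax 2
  have hx_3 := hmax 3
  have hx_4 := hmax 4
  have R_0 := hrow 0
  rw [Fin.sum_univ_five, hdP 0, e_0_1, e_0_2, e_0_3, e_0_4] at R_0
  have R_1 := hrow 1
  rw [Fin.sum_univ_five, hdP 1, e_1_0, e_1_2, e_1_3, e_1_4] at R_1
  have R_2 := hrow 2
  rw [Fin.sum_univ_five, hdP 2, e_2_0, e_2_1, e_2_3, e_2_4] at R_2
  have R_3 := hrow 3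
  rw [Fin.sum_univ_five, hdP 3, e_3_0, e_3_1, e_3_2, e_3_4] at R_3
  have R_4 := hrow 4
  rw [Fin.sum_univ_five, hdP 4, e_4_0, e_4_1, e_4_2, e_4_3] at R_4
  have S_0_1 := hsym 0 1
  rw [e_0_1, e_1_0] at S_0_1
  have S_0_2 := hsym 0 2
  rw [e_0_2, e_2_0] at S_0_2
  have S_0_3 := hsym 0 3
  rw [e_0_3, e_3_0] at S_0_3
  have S_0_4 := hsym 0 4
  rw [e_0_4, e_4_0] at S_0_4
  have S_1_2 := hsym 1 2
  rw [e_1_2, e_2_1] at S_1_2
  have S_1_3 := hsym 1 3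
  rw [e_1_3, e_3_1] at S_1_3
  have S_1_4 := hsym 1 4
  rw [e_1_4, e_4_1] at S_1_4
  have S_2_3 := hsym 2 3
  rw [e_2_3, e_3_2] at S_2_3
  have S_2_4 := hsym 2 4
  rw [e_2_4, e_4_2] at S_2_4
  have S_3_4 := hsym 3 4
  rw [e_3_4, e_4_3] at S_3_4
  have D_0 := hdA 0
  have A_0_1 := nt_a_eq T 0 1
  rw [e_0_1] at A_0_1
  have A_0_2 := nt_a_eq T 0 2
  rw [e_0_2] at A_0_2
  have A_0_3 := nt_a_eq T 0 3
  rw [e_0_3] at A_0_3
  have A_0_4 := nt_a_eq T 0 4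
  rw [e_0_4] at A_0_4
  have D_1 := hdA 1
  have A_1_0 := nt_a_eq T 1 0
  rw [e_1_0] at A_1_0
  have A_1_2 := nt_a_eq T 1 2
  rw [e_1_2] at A_1_2
  have A_1_3 := nt_a_eq T 1 3
  rw [e_1_3] at A_1_3
  have A_1_4 := nt_a_eq T 1 4
  rw [e_1_4] at A_1_4
  have D_2 := hdA 2
  have A_2_0 := nt_a_eq T 2 0
  rw [e_2_0] at A_2_0
  have A_2_1 := nt_a_eq T 2 1
  rw [e_2_1] at A_2_1
  have A_2_3 := nt_a_eq T 2 3
  rw [e_2_3] at A_2_3
  have A_2_4 := nt_a_eq T 2 4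
  rw [e_2_4] at A_2_4
  have D_3 := hdA 3
  have A_3_0 := nt_a_eq T 3 0
  rw [e_3_0] at A_3_0
  have A_3_1 := nt_a_eq T 3 1
  rw [e_3_1] at A_3_1
  have A_3_2 := nt_a_eq T 3 2
  rw [e_3_2] at A_3_2
  have A_3_4 := nt_a_eq T 3 4
  rw [e_3_4] at A_3_4
  have D_4 := hdA 4
  have A_4_0 := nt_a_eq T 4 0
  rw [e_4_0] at A_4_0
  have A_4_1 := nt_a_eq T 4 1
  rw [e_4_1] at A_4_1
  have A_4_2 := nt_a_eq T 4 2
  rw [e_4_2] at A_4_2
  have A_4_3 := nt_a_eq T 4 3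
  rw [e_4_3] at A_4_3
  refine goal_of_indices T hg0 1 0 2 3 4 (by decide) (T.m 3) (T.w 1) ?_
  unfold Goali
  exact Or.inr (Or.inr (Or.inr (Or.inr (Or.inr (Or.inr (Or.inr (Or.inr (⟨by omega, by omega, by omega, by omega, by omega, by omega, by omega, by omega, by omega, by omega, by omega, by omega, by omega, by omega, by omega, by omega, by omega, by omega, by omega, by omega, by omega, by omega, by omega, by omega, by omega⟩))))))))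

theorem ex_186 (T : Models.NumericalType 5)
    (hG : NTGood T)
    (hmax : ∀ j, T.m j ≤ T.m 0)
    (e_0_1 : T.picMatrix 0 1 = 1)
    (e_0_2 : T.picMatrix 0 2 = 1)
    (e_0_3 : T.picMatrix 0 3 = 0)
    (e_1_0 : T.picMatrix 1 0 = 2)
    (e_1_2 : T.picMatrix 1 2 = 0)
    (e_1_3 : T.picMatrix 1 3 = 0)
    (e_2_0 : T.picMatrix 2 0 = 1)
    (e_2_1 : T.picMatrix 2 1 = 0)
    (e_2_3 : T.picMatrix 2 3 = 1)
    (e_3_0 : T.picMatrix 3 0 = 0)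
    (e_3_1 : T.picMatrix 3 1 = 0)
    (e_3_2 : T.picMatrix 3 2 = 1)
    (cl : ∀ a b : Fin 5, a.val < 2 → 5 ≤ b.val → T.picMatrix a b = 0)
    (z : ∀ a : Fin 5, a.val < 2 → T.picMatrix a 4 = 0)
    (hne : T.picMatrix 2 4 ≠ 0) :
    Goal T := by
  have e_0_4 : T.picMatrix 0 4 = 0 := z 0 (by decide)
  have e_4_0 : T.picMatrix 4 0 = 0 := nt_pic_zero_symm T 0 4 e_0_4
  have e_1_4 : T.picMatrix 1 4 = 0 := z 1 (by decide)
  have e_4_1 : T.picMatrix 4 1 = 0 := nt_pic_zero_symm T 1 4 e_1_4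
  obtain ⟨hg0, hdA, hdP, hnn, hrow, hsym, hpair⟩ := ntgood_data T (by norm_num) hG
  have hm_0 := T.m_pos 0
  have hw_0 := T.w_pos 0
  have hm_1 := T.m_pos 1
  have hw_1 := T.w_pos 1
  have hm_2 := T.m_pos 2
  have hw_2 := T.w_pos 2
  have hm_3 := T.m_pos 3
  have hw_3 := T.w_pos 3
  have hm_4 := T.m_pos 4
  have hw_4 := T.w_pos 4
  have hx_1 := hmax 1
  have hx_2 := hmax 2
  have hx_3 := hmax 3
  have hx_4 := hmax 4
  have N_2_4 := mul_nonneg (hnn 2 4 (by decide)) (T.m_pos 4).le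
  have N_4_2 := mul_nonneg (hnn 4 2 (by decide)) (T.m_pos 2).le
  have N_3_4 := mul_nonneg (hnn 3 4 (by decide)) (T.m_pos 4).le
  have N_4_3 := mul_nonneg (hnn 4 3 (by decide)) (T.m_pos 3).le
  have R_0 := hrow 0
  rw [Fin.sum_univ_five, hdP 0, e_0_1, e_0_2, e_0_3, e_0_4] at R_0
  have R_1 := hrow 1
  rw [Fin.sum_univ_five, hdP 1, e_1_0, e_1_2, e_1_3, e_1_4] at R_1
  have R_2 := hrow 2
  rw [Fin.sum_univ_five, hdP 2, e_2_0, e_2_1, e_2_3] at R_2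
  have R_3 := hrow 3
  rw [Fin.sum_univ_five, hdP 3, e_3_0, e_3_1, e_3_2] at R_3
  have R_4 := hrow 4
  rw [Fin.sum_univ_five, hdP 4, e_4_0, e_4_1] at R_4
  have S_0_1 := hsym 0 1
  rw [e_0_1, e_1_0] at S_0_1
  have S_0_2 := hsym 0 2
  rw [e_0_2, e_2_0] at S_0_2
  have S_0_3 := hsym 0 3
  rw [e_0_3, e_3_0] at S_0_3
  have S_0_4 := hsym 0 4
  rw [e_0_4, e_4_0] at S_0_4
  have S_1_2 := hsym 1 2
  rw [e_1_2, e_2_1] at S_1_2
  have S_1_3 := hsym 1 3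
  rw [e_1_3, e_3_1] at S_1_3
  have S_1_4 := hsym 1 4
  rw [e_1_4, e_4_1] at S_1_4
  have S_2_3 := hsym 2 3
  rw [e_2_3, e_3_2] at S_2_3
  have S_2_4 := hsym 2 4
  have S_3_4 := hsym 3 4
  have Q_2 := hpair 2 4 (by decide)
  have Q_3 := hpair 3 4 (by decide)
  generalize e_2_4 : T.picMatrix 2 4 = x_2 at *
  generalize e_4_2 : T.picMatrix 4 2 = y_2 at *
  generalize e_3_4 : T.picMatrix 3 4 = x_3 at *
  generalize e_4_3 : T.picMatrix 4 3 = y_3 at *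
  rcases Q_2 with ⟨rfl, rfl⟩ | ⟨rfl, rfl⟩ | ⟨rfl, rfl⟩ | ⟨rfl, rfl⟩ | ⟨rfl, rfl⟩ | ⟨rfl, rfl⟩ | ⟨rfl, rfl⟩ | ⟨rfl, rfl⟩ | ⟨rfl, rfl⟩
  · exact absurd rfl hne
  · -- (2,4) = (1,1)
    rcases Q_3 with ⟨rfl, rfl⟩ | ⟨rfl, rfl⟩ | ⟨rfl, rfl⟩ | ⟨rfl, rfl⟩ | ⟨rfl, rfl⟩ | ⟨rfl, rfl⟩ | ⟨rfl, rfl⟩ | ⟨rfl, rfl⟩ | ⟨rfl, rfl⟩
    · -- (3,4) = (0,0)
      exact nd_187 T hG hmax e_0_1 e_0_2 e_0_3 e_0_4 e_1_0 e_1_2 e_1_3 e_1_4 e_2_0 e_2_1 e_2_3 e_2_4 e_3_0 e_3_1 e_3_2 e_3_4 e_4_0 e_4_1 e_4_2 e_4_3 cl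
    · -- (3,4) = (1,1)
      omega
    · -- (3,4) = (1,2)
      omega
    · -- (3,4) = (2,1)
      omega
    · -- (3,4) = (1,3)
      omega
    · -- (3,4) = (3,1)
      omega
    · -- (3,4) = (1,4)
      omega
    · -- (3,4) = (4,1)
      omega
    · -- (3,4) = (2,2)
      omega
  · omega
  · omega
  · omega
  · omega
  · omega
  · omega
  · omega

theorem nd_180 (T : Models.NumericalType 5)
    (hG : NTGood T)
    (hmax : ∀ j, T.m j ≤ T.m 0)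
    (e_0_1 : T.picMatrix 0 1 = 1)
    (e_0_2 : T.picMatrix 0 2 = 1)
    (e_0_3 : T.picMatrix 0 3 = 0)
    (e_1_0 : T.picMatrix 1 0 = 2)
    (e_1_2 : T.picMatrix 1 2 = 0)
    (e_1_3 : T.picMatrix 1 3 = 0)
    (e_2_0 : T.picMatrix 2 0 = 1)
    (e_2_1 : T.picMatrix 2 1 = 0)
    (e_2_3 : T.picMatrix 2 3 = 1)
    (e_3_0 : T.picMatrix 3 0 = 0)
    (e_3_1 : T.picMatrix 3 1 = 0)
    (e_3_2 : T.picMatrix 3 2 = 1)
    (cl : ∀ a b : Fin 5, a.val < 2 → 4 ≤ b.val → T.picMatrix a b = 0) :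
    Goal T := by
  by_cases hc : ∀ b : Fin 5, 4 ≤ b.val → T.picMatrix 2 b = 0
  · exact nd_181 T hG hmax e_0_1 e_0_2 e_0_3 e_1_0 e_1_2 e_1_3 e_2_0 e_2_1 e_2_3 e_3_0 e_3_1 e_3_2 (nt_cl_succ T 4 2 2 rfl cl hc)
  · obtain ⟨τ, hfix, cl', z, hne⟩ := nt_wlog_step T 4 (by norm_num) 2 (by norm_num) 2 (by decide) cl hc
    apply goal_relabel T τ
    refine ex_186 (ntRelabel T τ) (hG.relabel τ) ?_ ?_ ?_ ?_ ?_ ?_ ?_ ?_ ?_ ?_ ?_ ?_ ?_ cl' z hne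
    · intro j
      show T.m (τ j) ≤ T.m (τ 0)
      rw [hfix 0 (by decide)]
      exact hmax _
    · show T.picMatrix (τ 0) (τ 1) = 1
      rw [hfix 0 (by decide), hfix 1 (by decide)]
      exact e_0_1
    · show T.picMatrix (τ 0) (τ 2) = 1
      rw [hfix 0 (by decide), hfix 2 (by decide)]
      exact e_0_2
    · show T.picMatrix (τ 0) (τ 3) = 0
      rw [hfix 0 (by decide), hfix 3 (by decide)]
      exact e_0_3
    · show T.picMatrix (τ 1) (τ 0) = 2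
      rw [hfix 1 (by decide), hfix 0 (by decide)]
      exact e_1_0
    · show T.picMatrix (τ 1) (τ 2) = 0
      rw [hfix 1 (by decide), hfix 2 (by decide)]
      exact e_1_2
    · show T.picMatrix (τ 1) (τ 3) = 0
      rw [hfix 1 (by decide), hfix 3 (by decide)]
      exact e_1_3
    · show T.picMatrix (τ 2) (τ 0) = 1
      rw [hfix 2 (by decide), hfix 0 (by decide)]
      exact e_2_0
    · show T.picMatrix (τ 2) (τ 1) = 0
      rw [hfix 2 (by decide), hfix 1 (by decide)]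
      exact e_2_1
    · show T.picMatrix (τ 2) (τ 3) = 1
      rw [hfix 2 (by decide), hfix 3 (by decide)]
      exact e_2_3
    · show T.picMatrix (τ 3) (τ 0) = 0
      rw [hfix 3 (by decide), hfix 0 (by decide)]
      exact e_3_0
    · show T.picMatrix (τ 3) (τ 1) = 0
      rw [hfix 3 (by decide), hfix 1 (by decide)]
      exact e_3_1
    · show T.picMatrix (τ 3) (τ 2) = 1
      rw [hfix 3 (by decide), hfix 2 (by decide)]
      exact e_3_2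

theorem nd_190 (T : Models.NumericalType 5)
    (hG : NTGood T)
    (hmax : ∀ j, T.m j ≤ T.m 0)
    (e_0_1 : T.picMatrix 0 1 = 1)
    (e_0_2 : T.picMatrix 0 2 = 1)
    (e_0_3 : T.picMatrix 0 3 = 0)
    (e_1_0 : T.picMatrix 1 0 = 2)
    (e_1_2 : T.picMatrix 1 2 = 0)
    (e_1_3 : T.picMatrix 1 3 = 0)
    (e_2_0 : T.picMatrix 2 0 = 1)
    (e_2_1 : T.picMatrix 2 1 = 0)
    (e_2_3 : T.picMatrix 2 3 = 1)
    (e_3_0 : T.picMatrix 3 0 = 0)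
    (e_3_1 : T.picMatrix 3 1 = 0)
    (e_3_2 : T.picMatrix 3 2 = 2)
    (cl : ∀ a b : Fin 5, a.val < 4 → 4 ≤ b.val → T.picMatrix a b = 0) :
    Goal T := by
  exact (nt_closed_false T 4 (by norm_num) (by norm_num) cl).elim

theorem ex_191 (T : Models.NumericalType 5)
    (hG : NTGood T)
    (hmax : ∀ j, T.m j ≤ T.m 0)
    (e_0_1 : T.picMatrix 0 1 = 1)
    (e_0_2 : T.picMatrix 0 2 = 1)
    (e_0_3 : T.picMatrix 0 3 = 0)
    (e_1_0 : T.picMatrix 1 0 = 2)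
    (e_1_2 : T.picMatrix 1 2 = 0)
    (e_1_3 : T.picMatrix 1 3 = 0)
    (e_2_0 : T.picMatrix 2 0 = 1)
    (e_2_1 : T.picMatrix 2 1 = 0)
    (e_2_3 : T.picMatrix 2 3 = 1)
    (e_3_0 : T.picMatrix 3 0 = 0)
    (e_3_1 : T.picMatrix 3 1 = 0)
    (e_3_2 : T.picMatrix 3 2 = 2)
    (cl : ∀ a b : Fin 5, a.val < 3 → 5 ≤ b.val → T.picMatrix a b = 0)
    (z : ∀ a : Fin 5, a.val < 3 → T.picMatrix a 4 = 0)
    (hne : T.picMatrix 3 4 ≠ 0) :
    Goal T := by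
  have e_0_4 : T.picMatrix 0 4 = 0 := z 0 (by decide)
  have e_4_0 : T.picMatrix 4 0 = 0 := nt_pic_zero_symm T 0 4 e_0_4
  have e_1_4 : T.picMatrix 1 4 = 0 := z 1 (by decide)
  have e_4_1 : T.picMatrix 4 1 = 0 := nt_pic_zero_symm T 1 4 e_1_4
  have e_2_4 : T.picMatrix 2 4 = 0 := z 2 (by decide)
  have e_4_2 : T.picMatrix 4 2 = 0 := nt_pic_zero_symm T 2 4 e_2_4
  obtain ⟨hg0, hdA, hdP, hnn, hrow, hsym, hpair⟩ := ntgood_data T (by norm_num) hG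
  have hm_0 := T.m_pos 0
  have hw_0 := T.w_pos 0
  have hm_1 := T.m_pos 1
  have hw_1 := T.w_pos 1
  have hm_2 := T.m_pos 2
  have hw_2 := T.w_pos 2
  have hm_3 := T.m_pos 3
  have hw_3 := T.w_pos 3
  have hm_4 := T.m_pos 4
  have hw_4 := T.w_pos 4
  have hx_1 := hmax 1
  have hx_2 := hmax 2
  have hx_3 := hmax 3
  have hx_4 := hmax 4
  have N_3_4 := mul_nonneg (hnn 3 4 (by decide)) (T.m_pos 4).le
  have N_4_3 := mul_nonneg (hnn 4 3 (by decide)) (T.m_pos 3).le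
  have R_0 := hrow 0
  rw [Fin.sum_univ_five, hdP 0, e_0_1, e_0_2, e_0_3, e_0_4] at R_0
  have R_1 := hrow 1
  rw [Fin.sum_univ_five, hdP 1, e_1_0, e_1_2, e_1_3, e_1_4] at R_1
  have R_2 := hrow 2
  rw [Fin.sum_univ_five, hdP 2, e_2_0, e_2_1, e_2_3, e_2_4] at R_2
  have R_3 := hrow 3
  rw [Fin.sum_univ_five, hdP 3, e_3_0, e_3_1, e_3_2] at R_3
  have R_4 := hrow 4
  rw [Fin.sum_univ_five, hdP 4, e_4_0, e_4_1, e_4_2] at R_4
  have S_0_1 := hsym 0 1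
  rw [e_0_1, e_1_0] at S_0_1
  have S_0_2 := hsym 0 2
  rw [e_0_2, e_2_0] at S_0_2
  have S_0_3 := hsym 0 3
  rw [e_0_3, e_3_0] at S_0_3
  have S_0_4 := hsym 0 4
  rw [e_0_4, e_4_0] at S_0_4
  have S_1_2 := hsym 1 2
  rw [e_1_2, e_2_1] at S_1_2
  have S_1_3 := hsym 1 3
  rw [e_1_3, e_3_1] at S_1_3
  have S_1_4 := hsym 1 4
  rw [e_1_4, e_4_1] at S_1_4
  have S_2_3 := hsym 2 3
  rw [e_2_3, e_3_2] at S_2_3
  have S_2_4 := hsym 2 4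
  rw [e_2_4, e_4_2] at S_2_4
  have S_3_4 := hsym 3 4
  have Q_3 := hpair 3 4 (by decide)
  generalize e_3_4 : T.picMatrix 3 4 = x_3 at *
  generalize e_4_3 : T.picMatrix 4 3 = y_3 at *
  rcases Q_3 with ⟨rfl, rfl⟩ | ⟨rfl, rfl⟩ | ⟨rfl, rfl⟩ | ⟨rfl, rfl⟩ | ⟨rfl, rfl⟩ | ⟨rfl, rfl⟩ | ⟨rfl, rfl⟩ | ⟨rfl, rfl⟩ | ⟨rfl, rfl⟩
  · exact absurd rfl hne
  · -- (3,4) = (1,1)
    omega
  · -- (3,4) = (1,2)
    omega
  · -- (3,4) = (2,1)
    omega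
  · -- (3,4) = (1,3)
    omega
  · -- (3,4) = (3,1)
    omega
  · -- (3,4) = (1,4)
    omega
  · -- (3,4) = (4,1)
    omega
  · -- (3,4) = (2,2)
    omega

theorem nd_189 (T : Models.NumericalType 5)
    (hG : NTGood T)
    (hmax : ∀ j, T.m j ≤ T.m 0)
    (e_0_1 : T.picMatrix 0 1 = 1)
    (e_0_2 : T.picMatrix 0 2 = 1)
    (e_0_3 : T.picMatrix 0 3 = 0)
    (e_1_0 : T.picMatrix 1 0 = 2)
    (e_1_2 : T.picMatrix 1 2 = 0)
    (e_1_3 : T.picMatrix 1 3 = 0)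
    (e_2_0 : T.picMatrix 2 0 = 1)
    (e_2_1 : T.picMatrix 2 1 = 0)
    (e_2_3 : T.picMatrix 2 3 = 1)
    (e_3_0 : T.picMatrix 3 0 = 0)
    (e_3_1 : T.picMatrix 3 1 = 0)
    (e_3_2 : T.picMatrix 3 2 = 2)
    (cl : ∀ a b : Fin 5, a.val < 3 → 4 ≤ b.val → T.picMatrix a b = 0) :
    Goal T := by
  by_cases hc : ∀ b : Fin 5, 4 ≤ b.val → T.picMatrix 3 b = 0
  · exact nd_190 T hG hmax e_0_1 e_0_2 e_0_3 e_1_0 e_1_2 e_1_3 e_2_0 e_2_1 e_2_3 e_3_0 e_3_1 e_3_2 (nt_cl_succ T 4 3 3 rfl cl hc)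
  · obtain ⟨τ, hfix, cl', z, hne⟩ := nt_wlog_step T 4 (by norm_num) 3 (by norm_num) 3 (by decide) cl hc
    apply goal_relabel T τ
    refine ex_191 (ntRelabel T τ) (hG.relabel τ) ?_ ?_ ?_ ?_ ?_ ?_ ?_ ?_ ?_ ?_ ?_ ?_ ?_ cl' z hne
    · intro j
      show T.m (τ j) ≤ T.m (τ 0)
      rw [hfix 0 (by decide)]
      exact hmax _
    · show T.picMatrix (τ 0) (τ 1) = 1
      rw [hfix 0 (by decide), hfix 1 (by decide)]
      exact e_0_1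
    · show T.picMatrix (τ 0) (τ 2) = 1
      rw [hfix 0 (by decide), hfix 2 (by decide)]
      exact e_0_2
    · show T.picMatrix (τ 0) (τ 3) = 0
      rw [hfix 0 (by decide), hfix 3 (by decide)]
      exact e_0_3
    · show T.picMatrix (τ 1) (τ 0) = 2
      rw [hfix 1 (by decide), hfix 0 (by decide)]
      exact e_1_0
    · show T.picMatrix (τ 1) (τ 2) = 0
      rw [hfix 1 (by decide), hfix 2 (by decide)]
      exact e_1_2
    · show T.picMatrix (τ 1) (τ 3) = 0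
      rw [hfix 1 (by decide), hfix 3 (by decide)]
      exact e_1_3
    · show T.picMatrix (τ 2) (τ 0) = 1
      rw [hfix 2 (by decide), hfix 0 (by decide)]
      exact e_2_0
    · show T.picMatrix (τ 2) (τ 1) = 0
      rw [hfix 2 (by decide), hfix 1 (by decide)]
      exact e_2_1
    · show T.picMatrix (τ 2) (τ 3) = 1
      rw [hfix 2 (by decide), hfix 3 (by decide)]
      exact e_2_3
    · show T.picMatrix (τ 3) (τ 0) = 0
      rw [hfix 3 (by decide), hfix 0 (by decide)]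
      exact e_3_0
    · show T.picMatrix (τ 3) (τ 1) = 0
      rw [hfix 3 (by decide), hfix 1 (by decide)]
      exact e_3_1
    · show T.picMatrix (τ 3) (τ 2) = 2
      rw [hfix 3 (by decide), hfix 2 (by decide)]
      exact e_3_2

theorem ex_192 (T : Models.NumericalType 5)
    (hG : NTGood T)
    (hmax : ∀ j, T.m j ≤ T.m 0)
    (e_0_1 : T.picMatrix 0 1 = 1)
    (e_0_2 : T.picMatrix 0 2 = 1)
    (e_0_3 : T.picMatrix 0 3 = 0)
    (e_1_0 : T.picMatrix 1 0 = 2)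
    (e_1_2 : T.picMatrix 1 2 = 0)
    (e_1_3 : T.picMatrix 1 3 = 0)
    (e_2_0 : T.picMatrix 2 0 = 1)
    (e_2_1 : T.picMatrix 2 1 = 0)
    (e_2_3 : T.picMatrix 2 3 = 1)
    (e_3_0 : T.picMatrix 3 0 = 0)
    (e_3_1 : T.picMatrix 3 1 = 0)
    (e_3_2 : T.picMatrix 3 2 = 2)
    (cl : ∀ a b : Fin 5, a.val < 2 → 5 ≤ b.val → T.picMatrix a b = 0)
    (z : ∀ a : Fin 5, a.val < 2 → T.picMatrix a 4 = 0)
    (hne : T.picMatrix 2 4 ≠ 0) :
    Goal T := by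
  have e_0_4 : T.picMatrix 0 4 = 0 := z 0 (by decide)
  have e_4_0 : T.picMatrix 4 0 = 0 := nt_pic_zero_symm T 0 4 e_0_4
  have e_1_4 : T.picMatrix 1 4 = 0 := z 1 (by decide)
  have e_4_1 : T.picMatrix 4 1 = 0 := nt_pic_zero_symm T 1 4 e_1_4
  obtain ⟨hg0, hdA, hdP, hnn, hrow, hsym, hpair⟩ := ntgood_data T (by norm_num) hG
  have hm_0 := T.m_pos 0
  have hw_0 := T.w_pos 0
  have hm_1 := T.m_pos 1
  have hw_1 := T.w_pos 1
  have hm_2 := T.m_pos 2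
  have hw_2 := T.w_pos 2
  have hm_3 := T.m_pos 3
  have hw_3 := T.w_pos 3
  have hm_4 := T.m_pos 4
  have hw_4 := T.w_pos 4
  have hx_1 := hmax 1
  have hx_2 := hmax 2
  have hx_3 := hmax 3
  have hx_4 := hmax 4
  have N_2_4 := mul_nonneg (hnn 2 4 (by decide)) (T.m_pos 4).le
  have N_4_2 := mul_nonneg (hnn 4 2 (by decide)) (T.m_pos 2).le
  have N_3_4 := mul_nonneg (hnn 3 4 (by decide)) (T.m_pos 4).le
  have N_4_3 := mul_nonneg (hnn 4 3 (by decide)) (T.m_pos 3).le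
  have R_0 := hrow 0
  rw [Fin.sum_univ_five, hdP 0, e_0_1, e_0_2, e_0_3, e_0_4] at R_0
  have R_1 := hrow 1
  rw [Fin.sum_univ_five, hdP 1, e_1_0, e_1_2, e_1_3, e_1_4] at R_1
  have R_2 := hrow 2
  rw [Fin.sum_univ_five, hdP 2, e_2_0, e_2_1, e_2_3] at R_2
  have R_3 := hrow 3
  rw [Fin.sum_univ_five, hdP 3, e_3_0, e_3_1, e_3_2] at R_3
  have R_4 := hrow 4
  rw [Fin.sum_univ_five, hdP 4, e_4_0, e_4_1] at R_4
  have S_0_1 := hsym 0 1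
  rw [e_0_1, e_1_0] at S_0_1
  have S_0_2 := hsym 0 2
  rw [e_0_2, e_2_0] at S_0_2
  have S_0_3 := hsym 0 3
  rw [e_0_3, e_3_0] at S_0_3
  have S_0_4 := hsym 0 4
  rw [e_0_4, e_4_0] at S_0_4
  have S_1_2 := hsym 1 2
  rw [e_1_2, e_2_1] at S_1_2
  have S_1_3 := hsym 1 3
  rw [e_1_3, e_3_1] at S_1_3
  have S_1_4 := hsym 1 4
  rw [e_1_4, e_4_1] at S_1_4
  have S_2_3 := hsym 2 3
  rw [e_2_3, e_3_2] at S_2_3
  have S_2_4 := hsym 2 4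
  have S_3_4 := hsym 3 4
  have Q_2 := hpair 2 4 (by decide)
  have Q_3 := hpair 3 4 (by decide)
  generalize e_2_4 : T.picMatrix 2 4 = x_2 at *
  generalize e_4_2 : T.picMatrix 4 2 = y_2 at *
  generalize e_3_4 : T.picMatrix 3 4 = x_3 at *
  generalize e_4_3 : T.picMatrix 4 3 = y_3 at *
  rcases Q_2 with ⟨rfl, rfl⟩ | ⟨rfl, rfl⟩ | ⟨rfl, rfl⟩ | ⟨rfl, rfl⟩ | ⟨rfl, rfl⟩ | ⟨rfl, rfl⟩ | ⟨rfl, rfl⟩ | ⟨rfl, rfl⟩ | ⟨rfl, rfl⟩
  · exact absurd rfl hne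
  · omega
  · omega
  · omega
  · omega
  · omega
  · omega
  · omega
  · omega

theorem nd_188 (T : Models.NumericalType 5)
    (hG : NTGood T)
    (hmax : ∀ j, T.m j ≤ T.m 0)
    (e_0_1 : T.picMatrix 0 1 = 1)
    (e_0_2 : T.picMatrix 0 2 = 1)
    (e_0_3 : T.picMatrix 0 3 = 0)
    (e_1_0 : T.picMatrix 1 0 = 2)
    (e_1_2 : T.picMatrix 1 2 = 0)
    (e_1_3 : T.picMatrix 1 3 = 0)
    (e_2_0 : T.picMatrix 2 0 = 1)
    (e_2_1 : T.picMatrix 2 1 = 0)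
    (e_2_3 : T.picMatrix 2 3 = 1)
    (e_3_0 : T.picMatrix 3 0 = 0)
    (e_3_1 : T.picMatrix 3 1 = 0)
    (e_3_2 : T.picMatrix 3 2 = 2)
    (cl : ∀ a b : Fin 5, a.val < 2 → 4 ≤ b.val → T.picMatrix a b = 0) :
    Goal T := by
  by_cases hc : ∀ b : Fin 5, 4 ≤ b.val → T.picMatrix 2 b = 0
  · exact nd_189 T hG hmax e_0_1 e_0_2 e_0_3 e_1_0 e_1_2 e_1_3 e_2_0 e_2_1 e_2_3 e_3_0 e_3_1 e_3_2 (nt_cl_succ T 4 2 2 rfl cl hc)
  · obtain ⟨τ, hfix, cl', z, hne⟩ := nt_wlog_step T 4 (by norm_num) 2 (by norm_num) 2 (by decide) cl hc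
    apply goal_relabel T τ
    refine ex_192 (ntRelabel T τ) (hG.relabel τ) ?_ ?_ ?_ ?_ ?_ ?_ ?_ ?_ ?_ ?_ ?_ ?_ ?_ cl' z hne
    · intro j
      show T.m (τ j) ≤ T.m (τ 0)
      rw [hfix 0 (by decide)]
      exact hmax _
    · show T.picMatrix (τ 0) (τ 1) = 1
      rw [hfix 0 (by decide), hfix 1 (by decide)]
      exact e_0_1
    · show T.picMatrix (τ 0) (τ 2) = 1
      rw [hfix 0 (by decide), hfix 2 (by decide)]
      exact e_0_2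
    · show T.picMatrix (τ 0) (τ 3) = 0
      rw [hfix 0 (by decide), hfix 3 (by decide)]
      exact e_0_3
    · show T.picMatrix (τ 1) (τ 0) = 2
      rw [hfix 1 (by decide), hfix 0 (by decide)]
      exact e_1_0
    · show T.picMatrix (τ 1) (τ 2) = 0
      rw [hfix 1 (by decide), hfix 2 (by decide)]
      exact e_1_2
    · show T.picMatrix (τ 1) (τ 3) = 0
      rw [hfix 1 (by decide), hfix 3 (by decide)]
      exact e_1_3
    · show T.picMatrix (τ 2) (τ 0) = 1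
      rw [hfix 2 (by decide), hfix 0 (by decide)]
      exact e_2_0
    · show T.picMatrix (τ 2) (τ 1) = 0
      rw [hfix 2 (by decide), hfix 1 (by decide)]
      exact e_2_1
    · show T.picMatrix (τ 2) (τ 3) = 1
      rw [hfix 2 (by decide), hfix 3 (by decide)]
      exact e_2_3
    · show T.picMatrix (τ 3) (τ 0) = 0
      rw [hfix 3 (by decide), hfix 0 (by decide)]
      exact e_3_0
    · show T.picMatrix (τ 3) (τ 1) = 0
      rw [hfix 3 (by decide), hfix 1 (by decide)]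
      exact e_3_1
    · show T.picMatrix (τ 3) (τ 2) = 2
      rw [hfix 3 (by decide), hfix 2 (by decide)]
      exact e_3_2

theorem nd_195 (T : Models.NumericalType 5)
    (hG : NTGood T)
    (hmax : ∀ j, T.m j ≤ T.m 0)
    (e_0_1 : T.picMatrix 0 1 = 1)
    (e_0_2 : T.picMatrix 0 2 = 1)
    (e_0_3 : T.picMatrix 0 3 = 0)
    (e_1_0 : T.picMatrix 1 0 = 2)
    (e_1_2 : T.picMatrix 1 2 = 0)
    (e_1_3 : T.picMatrix 1 3 = 0)
    (e_2_0 : T.picMatrix 2 0 = 1)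
    (e_2_1 : T.picMatrix 2 1 = 0)
    (e_2_3 : T.picMatrix 2 3 = 2)
    (e_3_0 : T.picMatrix 3 0 = 0)
    (e_3_1 : T.picMatrix 3 1 = 0)
    (e_3_2 : T.picMatrix 3 2 = 1)
    (cl : ∀ a b : Fin 5, a.val < 4 → 4 ≤ b.val → T.picMatrix a b = 0) :
    Goal T := by
  exact (nt_closed_false T 4 (by norm_num) (by norm_num) cl).elim

theorem ex_196 (T : Models.NumericalType 5)
    (hG : NTGood T)
    (hmax : ∀ j, T.m j ≤ T.m 0)
    (e_0_1 : T.picMatrix 0 1 = 1)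
    (e_0_2 : T.picMatrix 0 2 = 1)
    (e_0_3 : T.picMatrix 0 3 = 0)
    (e_1_0 : T.picMatrix 1 0 = 2)
    (e_1_2 : T.picMatrix 1 2 = 0)
    (e_1_3 : T.picMatrix 1 3 = 0)
    (e_2_0 : T.picMatrix 2 0 = 1)
    (e_2_1 : T.picMatrix 2 1 = 0)
    (e_2_3 : T.picMatrix 2 3 = 2)
    (e_3_0 : T.picMatrix 3 0 = 0)
    (e_3_1 : T.picMatrix 3 1 = 0)
    (e_3_2 : T.picMatrix 3 2 = 1)
    (cl : ∀ a b : Fin 5, a.val < 3 → 5 ≤ b.val → T.picMatrix a b = 0)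
    (z : ∀ a : Fin 5, a.val < 3 → T.picMatrix a 4 = 0)
    (hne : T.picMatrix 3 4 ≠ 0) :
    Goal T := by
  have e_0_4 : T.picMatrix 0 4 = 0 := z 0 (by decide)
  have e_4_0 : T.picMatrix 4 0 = 0 := nt_pic_zero_symm T 0 4 e_0_4
  have e_1_4 : T.picMatrix 1 4 = 0 := z 1 (by decide)
  have e_4_1 : T.picMatrix 4 1 = 0 := nt_pic_zero_symm T 1 4 e_1_4
  have e_2_4 : T.picMatrix 2 4 = 0 := z 2 (by decide)
  have e_4_2 : T.picMatrix 4 2 = 0 := nt_pic_zero_symm T 2 4 e_2_4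
  obtain ⟨hg0, hdA, hdP, hnn, hrow, hsym, hpair⟩ := ntgood_data T (by norm_num) hG
  have hm_0 := T.m_pos 0
  have hw_0 := T.w_pos 0
  have hm_1 := T.m_pos 1
  have hw_1 := T.w_pos 1
  have hm_2 := T.m_pos 2
  have hw_2 := T.w_pos 2
  have hm_3 := T.m_pos 3
  have hw_3 := T.w_pos 3
  have hm_4 := T.m_pos 4
  have hw_4 := T.w_pos 4
  have hx_1 := hmax 1
  have hx_2 := hmax 2
  have hx_3 := hmax 3
  have hx_4 := hmax 4
  have N_3_4 := mul_nonneg (hnn 3 4 (by decide)) (T.m_pos 4).le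
  have N_4_3 := mul_nonneg (hnn 4 3 (by decide)) (T.m_pos 3).le
  have R_0 := hrow 0
  rw [Fin.sum_univ_five, hdP 0, e_0_1, e_0_2, e_0_3, e_0_4] at R_0
  have R_1 := hrow 1
  rw [Fin.sum_univ_five, hdP 1, e_1_0, e_1_2, e_1_3, e_1_4] at R_1
  have R_2 := hrow 2
  rw [Fin.sum_univ_five, hdP 2, e_2_0, e_2_1, e_2_3, e_2_4] at R_2
  have R_3 := hrow 3
  rw [Fin.sum_univ_five, hdP 3, e_3_0, e_3_1, e_3_2] at R_3
  have R_4 := hrow 4
  rw [Fin.sum_univ_five, hdP 4, e_4_0, e_4_1, e_4_2] at R_4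
  have S_0_1 := hsym 0 1
  rw [e_0_1, e_1_0] at S_0_1
  have S_0_2 := hsym 0 2
  rw [e_0_2, e_2_0] at S_0_2
  have S_0_3 := hsym 0 3
  rw [e_0_3, e_3_0] at S_0_3
  have S_0_4 := hsym 0 4
  rw [e_0_4, e_4_0] at S_0_4
  have S_1_2 := hsym 1 2
  rw [e_1_2, e_2_1] at S_1_2
  have S_1_3 := hsym 1 3
  rw [e_1_3, e_3_1] at S_1_3
  have S_1_4 := hsym 1 4
  rw [e_1_4, e_4_1] at S_1_4
  have S_2_3 := hsym 2 3
  rw [e_2_3, e_3_2] at S_2_3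
  have S_2_4 := hsym 2 4
  rw [e_2_4, e_4_2] at S_2_4
  have S_3_4 := hsym 3 4
  have Q_3 := hpair 3 4 (by decide)
  generalize e_3_4 : T.picMatrix 3 4 = x_3 at *
  generalize e_4_3 : T.picMatrix 4 3 = y_3 at *
  rcases Q_3 with ⟨rfl, rfl⟩ | ⟨rfl, rfl⟩ | ⟨rfl, rfl⟩ | ⟨rfl, rfl⟩ | ⟨rfl, rfl⟩ | ⟨rfl, rfl⟩ | ⟨rfl, rfl⟩ | ⟨rfl, rfl⟩ | ⟨rfl, rfl⟩
  · exact absurd rfl hne
  · -- (3,4) = (1,1)
    omega
  · -- (3,4) = (1,2)
    omega
  · -- (3,4) = (2,1)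
    omega
  · -- (3,4) = (1,3)
    omega
  · -- (3,4) = (3,1)
    omega
  · -- (3,4) = (1,4)
    omega
  · -- (3,4) = (4,1)
    omega
  · -- (3,4) = (2,2)
    omega

theorem nd_194 (T : Models.NumericalType 5)
    (hG : NTGood T)
    (hmax : ∀ j, T.m j ≤ T.m 0)
    (e_0_1 : T.picMatrix 0 1 = 1)
    (e_0_2 : T.picMatrix 0 2 = 1)
    (e_0_3 : T.picMatrix 0 3 = 0)
    (e_1_0 : T.picMatrix 1 0 = 2)
    (e_1_2 : T.picMatrix 1 2 = 0)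
    (e_1_3 : T.picMatrix 1 3 = 0)
    (e_2_0 : T.picMatrix 2 0 = 1)
    (e_2_1 : T.picMatrix 2 1 = 0)
    (e_2_3 : T.picMatrix 2 3 = 2)
    (e_3_0 : T.picMatrix 3 0 = 0)
    (e_3_1 : T.picMatrix 3 1 = 0)
    (e_3_2 : T.picMatrix 3 2 = 1)
    (cl : ∀ a b : Fin 5, a.val < 3 → 4 ≤ b.val → T.picMatrix a b = 0) :
    Goal T := by
  by_cases hc : ∀ b : Fin 5, 4 ≤ b.val → T.picMatrix 3 b = 0
  · exact nd_195 T hG hmax e_0_1 e_0_2 e_0_3 e_1_0 e_1_2 e_1_3 e_2_0 e_2_1 e_2_3 e_3_0 e_3_1 e_3_2 (nt_cl_succ T 4 3 3 rfl cl hc)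
  · obtain ⟨τ, hfix, cl', z, hne⟩ := nt_wlog_step T 4 (by norm_num) 3 (by norm_num) 3 (by decide) cl hc
    apply goal_relabel T τ
    refine ex_196 (ntRelabel T τ) (hG.relabel τ) ?_ ?_ ?_ ?_ ?_ ?_ ?_ ?_ ?_ ?_ ?_ ?_ ?_ cl' z hne
    · intro j
      show T.m (τ j) ≤ T.m (τ 0)
      rw [hfix 0 (by decide)]
      exact hmax _
    · show T.picMatrix (τ 0) (τ 1) = 1
      rw [hfix 0 (by decide), hfix 1 (by decide)]
      exact e_0_1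
    · show T.picMatrix (τ 0) (τ 2) = 1
      rw [hfix 0 (by decide), hfix 2 (by decide)]
      exact e_0_2
    · show T.picMatrix (τ 0) (τ 3) = 0
      rw [hfix 0 (by decide), hfix 3 (by decide)]
      exact e_0_3
    · show T.picMatrix (τ 1) (τ 0) = 2
      rw [hfix 1 (by decide), hfix 0 (by decide)]
      exact e_1_0
    · show T.picMatrix (τ 1) (τ 2) = 0
      rw [hfix 1 (by decide), hfix 2 (by decide)]
      exact e_1_2
    · show T.picMatrix (τ 1) (τ 3) = 0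
      rw [hfix 1 (by decide), hfix 3 (by decide)]
      exact e_1_3
    · show T.picMatrix (τ 2) (τ 0) = 1
      rw [hfix 2 (by decide), hfix 0 (by decide)]
      exact e_2_0
    · show T.picMatrix (τ 2) (τ 1) = 0
      rw [hfix 2 (by decide), hfix 1 (by decide)]
      exact e_2_1
    · show T.picMatrix (τ 2) (τ 3) = 2
      rw [hfix 2 (by decide), hfix 3 (by decide)]
      exact e_2_3
    · show T.picMatrix (τ 3) (τ 0) = 0
      rw [hfix 3 (by decide), hfix 0 (by decide)]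
      exact e_3_0
    · show T.picMatrix (τ 3) (τ 1) = 0
      rw [hfix 3 (by decide), hfix 1 (by decide)]
      exact e_3_1
    · show T.picMatrix (τ 3) (τ 2) = 1
      rw [hfix 3 (by decide), hfix 2 (by decide)]
      exact e_3_2

theorem ex_197 (T : Models.NumericalType 5)
    (hG : NTGood T)
    (hmax : ∀ j, T.m j ≤ T.m 0)
    (e_0_1 : T.picMatrix 0 1 = 1)
    (e_0_2 : T.picMatrix 0 2 = 1)
    (e_0_3 : T.picMatrix 0 3 = 0)
    (e_1_0 : T.picMatrix 1 0 = 2)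
    (e_1_2 : T.picMatrix 1 2 = 0)
    (e_1_3 : T.picMatrix 1 3 = 0)
    (e_2_0 : T.picMatrix 2 0 = 1)
    (e_2_1 : T.picMatrix 2 1 = 0)
    (e_2_3 : T.picMatrix 2 3 = 2)
    (e_3_0 : T.picMatrix 3 0 = 0)
    (e_3_1 : T.picMatrix 3 1 = 0)
    (e_3_2 : T.picMatrix 3 2 = 1)
    (cl : ∀ a b : Fin 5, a.val < 2 → 5 ≤ b.val → T.picMatrix a b = 0)
    (z : ∀ a : Fin 5, a.val < 2 → T.picMatrix a 4 = 0)
    (hne : T.picMatrix 2 4 ≠ 0) :
    Goal T := by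
  have e_0_4 : T.picMatrix 0 4 = 0 := z 0 (by decide)
  have e_4_0 : T.picMatrix 4 0 = 0 := nt_pic_zero_symm T 0 4 e_0_4
  have e_1_4 : T.picMatrix 1 4 = 0 := z 1 (by decide)
  have e_4_1 : T.picMatrix 4 1 = 0 := nt_pic_zero_symm T 1 4 e_1_4
  obtain ⟨hg0, hdA, hdP, hnn, hrow, hsym, hpair⟩ := ntgood_data T (by norm_num) hG
  have hm_0 := T.m_pos 0
  have hw_0 := T.w_pos 0
  have hm_1 := T.m_pos 1
  have hw_1 := T.w_pos 1
  have hm_2 := T.m_pos 2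
  have hw_2 := T.w_pos 2
  have hm_3 := T.m_pos 3
  have hw_3 := T.w_pos 3
  have hm_4 := T.m_pos 4
  have hw_4 := T.w_pos 4
  have hx_1 := hmax 1
  have hx_2 := hmax 2
  have hx_3 := hmax 3
  have hx_4 := hmax 4
  have N_2_4 := mul_nonneg (hnn 2 4 (by decide)) (T.m_pos 4).le
  have N_4_2 := mul_nonneg (hnn 4 2 (by decide)) (T.m_pos 2).le
  have N_3_4 := mul_nonneg (hnn 3 4 (by decide)) (T.m_pos 4).le
  have N_4_3 := mul_nonneg (hnn 4 3 (by decide)) (T.m_pos 3).le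
  have R_0 := hrow 0
  rw [Fin.sum_univ_five, hdP 0, e_0_1, e_0_2, e_0_3, e_0_4] at R_0
  have R_1 := hrow 1
  rw [Fin.sum_univ_five, hdP 1, e_1_0, e_1_2, e_1_3, e_1_4] at R_1
  have R_2 := hrow 2
  rw [Fin.sum_univ_five, hdP 2, e_2_0, e_2_1, e_2_3] at R_2
  have R_3 := hrow 3
  rw [Fin.sum_univ_five, hdP 3, e_3_0, e_3_1, e_3_2] at R_3
  have R_4 := hrow 4
  rw [Fin.sum_univ_five, hdP 4, e_4_0, e_4_1] at R_4
  have S_0_1 := hsym 0 1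
  rw [e_0_1, e_1_0] at S_0_1
  have S_0_2 := hsym 0 2
  rw [e_0_2, e_2_0] at S_0_2
  have S_0_3 := hsym 0 3
  rw [e_0_3, e_3_0] at S_0_3
  have S_0_4 := hsym 0 4
  rw [e_0_4, e_4_0] at S_0_4
  have S_1_2 := hsym 1 2
  rw [e_1_2, e_2_1] at S_1_2
  have S_1_3 := hsym 1 3
  rw [e_1_3, e_3_1] at S_1_3
  have S_1_4 := hsym 1 4
  rw [e_1_4, e_4_1] at S_1_4
  have S_2_3 := hsym 2 3
  rw [e_2_3, e_3_2] at S_2_3
  have S_2_4 := hsym 2 4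
  have S_3_4 := hsym 3 4
  have Q_2 := hpair 2 4 (by decide)
  have Q_3 := hpair 3 4 (by decide)
  generalize e_2_4 : T.picMatrix 2 4 = x_2 at *
  generalize e_4_2 : T.picMatrix 4 2 = y_2 at *
  generalize e_3_4 : T.picMatrix 3 4 = x_3 at *
  generalize e_4_3 : T.picMatrix 4 3 = y_3 at *
  rcases Q_2 with ⟨rfl, rfl⟩ | ⟨rfl, rfl⟩ | ⟨rfl, rfl⟩ | ⟨rfl, rfl⟩ | ⟨rfl, rfl⟩ | ⟨rfl, rfl⟩ | ⟨rfl, rfl⟩ | ⟨rfl, rfl⟩ | ⟨rfl, rfl⟩
  · exact absurd rfl hne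
  · omega
  · omega
  · omega
  · omega
  · omega
  · omega
  · omega
  · omega

theorem nd_193 (T : Models.NumericalType 5)
    (hG : NTGood T)
    (hmax : ∀ j, T.m j ≤ T.m 0)
    (e_0_1 : T.picMatrix 0 1 = 1)
    (e_0_2 : T.picMatrix 0 2 = 1)
    (e_0_3 : T.picMatrix 0 3 = 0)
    (e_1_0 : T.picMatrix 1 0 = 2)
    (e_1_2 : T.picMatrix 1 2 = 0)
    (e_1_3 : T.picMatrix 1 3 = 0)
    (e_2_0 : T.picMatrix 2 0 = 1)
    (e_2_1 : T.picMatrix 2 1 = 0)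
    (e_2_3 : T.picMatrix 2 3 = 2)
    (e_3_0 : T.picMatrix 3 0 = 0)
    (e_3_1 : T.picMatrix 3 1 = 0)
    (e_3_2 : T.picMatrix 3 2 = 1)
    (cl : ∀ a b : Fin 5, a.val < 2 → 4 ≤ b.val → T.picMatrix a b = 0) :
    Goal T := by
  by_cases hc : ∀ b : Fin 5, 4 ≤ b.val → T.picMatrix 2 b = 0
  · exact nd_194 T hG hmax e_0_1 e_0_2 e_0_3 e_1_0 e_1_2 e_1_3 e_2_0 e_2_1 e_2_3 e_3_0 e_3_1 e_3_2 (nt_cl_succ T 4 2 2 rfl cl hc)
  · obtain ⟨τ, hfix, cl', z, hne⟩ := nt_wlog_step T 4 (by norm_num) 2 (by norm_num) 2 (by decide) cl hc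
    apply goal_relabel T τ
    refine ex_197 (ntRelabel T τ) (hG.relabel τ) ?_ ?_ ?_ ?_ ?_ ?_ ?_ ?_ ?_ ?_ ?_ ?_ ?_ cl' z hne
    · intro j
      show T.m (τ j) ≤ T.m (τ 0)
      rw [hfix 0 (by decide)]
      exact hmax _
    · show T.picMatrix (τ 0) (τ 1) = 1
      rw [hfix 0 (by decide), hfix 1 (by decide)]
      exact e_0_1
    · show T.picMatrix (τ 0) (τ 2) = 1
      rw [hfix 0 (by decide), hfix 2 (by decide)]
      exact e_0_2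
    · show T.picMatrix (τ 0) (τ 3) = 0
      rw [hfix 0 (by decide), hfix 3 (by decide)]
      exact e_0_3
    · show T.picMatrix (τ 1) (τ 0) = 2
      rw [hfix 1 (by decide), hfix 0 (by decide)]
      exact e_1_0
    · show T.picMatrix (τ 1) (τ 2) = 0
      rw [hfix 1 (by decide), hfix 2 (by decide)]
      exact e_1_2
    · show T.picMatrix (τ 1) (τ 3) = 0
      rw [hfix 1 (by decide), hfix 3 (by decide)]
      exact e_1_3
    · show T.picMatrix (τ 2) (τ 0) = 1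
      rw [hfix 2 (by decide), hfix 0 (by decide)]
      exact e_2_0
    · show T.picMatrix (τ 2) (τ 1) = 0
      rw [hfix 2 (by decide), hfix 1 (by decide)]
      exact e_2_1
    · show T.picMatrix (τ 2) (τ 3) = 2
      rw [hfix 2 (by decide), hfix 3 (by decide)]
      exact e_2_3
    · show T.picMatrix (τ 3) (τ 0) = 0
      rw [hfix 3 (by decide), hfix 0 (by decide)]
      exact e_3_0
    · show T.picMatrix (τ 3) (τ 1) = 0
      rw [hfix 3 (by decide), hfix 1 (by decide)]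
      exact e_3_1
    · show T.picMatrix (τ 3) (τ 2) = 1
      rw [hfix 3 (by decide), hfix 2 (by decide)]
      exact e_3_2

theorem ex_179 (T : Models.NumericalType 5)
    (hG : NTGood T)
    (hmax : ∀ j, T.m j ≤ T.m 0)
    (e_0_1 : T.picMatrix 0 1 = 1)
    (e_0_2 : T.picMatrix 0 2 = 1)
    (e_1_0 : T.picMatrix 1 0 = 2)
    (e_1_2 : T.picMatrix 1 2 = 0)
    (e_2_0 : T.picMatrix 2 0 = 1)
    (e_2_1 : T.picMatrix 2 1 = 0)
    (cl : ∀ a b : Fin 5, a.val < 2 → 4 ≤ b.val → T.picMatrix a b = 0)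
    (z : ∀ a : Fin 5, a.val < 2 → T.picMatrix a 3 = 0)
    (hne : T.picMatrix 2 3 ≠ 0) :
    Goal T := by
  have e_0_3 : T.picMatrix 0 3 = 0 := z 0 (by decide)
  have e_3_0 : T.picMatrix 3 0 = 0 := nt_pic_zero_symm T 0 3 e_0_3
  have e_1_3 : T.picMatrix 1 3 = 0 := z 1 (by decide)
  have e_3_1 : T.picMatrix 3 1 = 0 := nt_pic_zero_symm T 1 3 e_1_3
  obtain ⟨hg0, hdA, hdP, hnn, hrow, hsym, hpair⟩ := ntgood_data T (by norm_num) hG
  have hm_0 := T.m_pos 0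
  have hw_0 := T.w_pos 0
  have hm_1 := T.m_pos 1
  have hw_1 := T.w_pos 1
  have hm_2 := T.m_pos 2
  have hw_2 := T.w_pos 2
  have hm_3 := T.m_pos 3
  have hw_3 := T.w_pos 3
  have hx_1 := hmax 1
  have hx_2 := hmax 2
  have hx_3 := hmax 3
  have Z_0_4 := cl 0 4 (by decide) (by decide)
  have Z_1_4 := cl 1 4 (by decide) (by decide)
  have N_2_4 := mul_nonneg (hnn 2 4 (by decide)) (T.m_pos 4).le
  have N_3_4 := mul_nonneg (hnn 3 4 (by decide)) (T.m_pos 4).le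
  have N_2_3 := mul_nonneg (hnn 2 3 (by decide)) (T.m_pos 3).le
  have N_3_2 := mul_nonneg (hnn 3 2 (by decide)) (T.m_pos 2).le
  have R_0 := hrow 0
  rw [Fin.sum_univ_five, hdP 0, e_0_1, e_0_2, e_0_3, Z_0_4] at R_0
  have R_1 := hrow 1
  rw [Fin.sum_univ_five, hdP 1, e_1_0, e_1_2, e_1_3, Z_1_4] at R_1
  have R_2 := hrow 2
  rw [Fin.sum_univ_five, hdP 2, e_2_0, e_2_1] at R_2
  have R_3 := hrow 3
  rw [Fin.sum_univ_five, hdP 3, e_3_0, e_3_1] at R_3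
  have S_0_1 := hsym 0 1
  rw [e_0_1, e_1_0] at S_0_1
  have S_0_2 := hsym 0 2
  rw [e_0_2, e_2_0] at S_0_2
  have S_0_3 := hsym 0 3
  rw [e_0_3, e_3_0] at S_0_3
  have S_1_2 := hsym 1 2
  rw [e_1_2, e_2_1] at S_1_2
  have S_1_3 := hsym 1 3
  rw [e_1_3, e_3_1] at S_1_3
  have S_2_3 := hsym 2 3
  have Q_2 := hpair 2 3 (by decide)
  generalize e_2_3 : T.picMatrix 2 3 = x_2 at *
  generalize e_3_2 : T.picMatrix 3 2 = y_2 at *
  rcases Q_2 with ⟨rfl, rfl⟩ | ⟨rfl, rfl⟩ | ⟨rfl, rfl⟩ | ⟨rfl, rfl⟩ | ⟨rfl, rfl⟩ | ⟨rfl, rfl⟩ | ⟨rfl, rfl⟩ | ⟨rfl, rfl⟩ | ⟨rfl, rfl⟩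
  · exact absurd rfl hne
  · -- (2,3) = (1,1)
    exact nd_180 T hG hmax e_0_1 e_0_2 e_0_3 e_1_0 e_1_2 e_1_3 e_2_0 e_2_1 e_2_3 e_3_0 e_3_1 e_3_2 cl
  · -- (2,3) = (1,2)
    exact nd_188 T hG hmax e_0_1 e_0_2 e_0_3 e_1_0 e_1_2 e_1_3 e_2_0 e_2_1 e_2_3 e_3_0 e_3_1 e_3_2 cl
  · -- (2,3) = (2,1)
    exact nd_193 T hG hmax e_0_1 e_0_2 e_0_3 e_1_0 e_1_2 e_1_3 e_2_0 e_2_1 e_2_3 e_3_0 e_3_1 e_3_2 cl
  · -- (2,3) = (1,3)
    omega
  · -- (2,3) = (3,1)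
    omega
  · -- (2,3) = (1,4)
    omega
  · -- (2,3) = (4,1)
    omega
  · -- (2,3) = (2,2)
    omega

theorem nd_177 (T : Models.NumericalType 5)
    (hG : NTGood T)
    (hmax : ∀ j, T.m j ≤ T.m 0)
    (e_0_1 : T.picMatrix 0 1 = 1)
    (e_0_2 : T.picMatrix 0 2 = 1)
    (e_1_0 : T.picMatrix 1 0 = 2)
    (e_1_2 : T.picMatrix 1 2 = 0)
    (e_2_0 : T.picMatrix 2 0 = 1)
    (e_2_1 : T.picMatrix 2 1 = 0)
    (cl : ∀ a b : Fin 5, a.val < 2 → 3 ≤ b.val → T.picMatrix a b = 0) :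
    Goal T := by
  by_cases hc : ∀ b : Fin 5, 3 ≤ b.val → T.picMatrix 2 b = 0
  · exact nd_178 T hG hmax e_0_1 e_0_2 e_1_0 e_1_2 e_2_0 e_2_1 (nt_cl_succ T 3 2 2 rfl cl hc)
  · obtain ⟨τ, hfix, cl', z, hne⟩ := nt_wlog_step T 3 (by norm_num) 2 (by norm_num) 2 (by decide) cl hc
    apply goal_relabel T τ
    refine ex_179 (ntRelabel T τ) (hG.relabel τ) ?_ ?_ ?_ ?_ ?_ ?_ ?_ cl' z hne
    · intro j
      show T.m (τ j) ≤ T.m (τ 0)
      rw [hfix 0 (by decide)]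
      exact hmax _
    · show T.picMatrix (τ 0) (τ 1) = 1
      rw [hfix 0 (by decide), hfix 1 (by decide)]
      exact e_0_1
    · show T.picMatrix (τ 0) (τ 2) = 1
      rw [hfix 0 (by decide), hfix 2 (by decide)]
      exact e_0_2
    · show T.picMatrix (τ 1) (τ 0) = 2
      rw [hfix 1 (by decide), hfix 0 (by decide)]
      exact e_1_0
    · show T.picMatrix (τ 1) (τ 2) = 0
      rw [hfix 1 (by decide), hfix 2 (by decide)]
      exact e_1_2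
    · show T.picMatrix (τ 2) (τ 0) = 1
      rw [hfix 2 (by decide), hfix 0 (by decide)]
      exact e_2_0
    · show T.picMatrix (τ 2) (τ 1) = 0
      rw [hfix 2 (by decide), hfix 1 (by decide)]
      exact e_2_1

theorem ex_198 (T : Models.NumericalType 5)
    (hG : NTGood T)
    (hmax : ∀ j, T.m j ≤ T.m 0)
    (e_0_1 : T.picMatrix 0 1 = 1)
    (e_0_2 : T.picMatrix 0 2 = 1)
    (e_1_0 : T.picMatrix 1 0 = 2)
    (e_1_2 : T.picMatrix 1 2 = 0)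
    (e_2_0 : T.picMatrix 2 0 = 1)
    (e_2_1 : T.picMatrix 2 1 = 0)
    (cl : ∀ a b : Fin 5, a.val < 1 → 4 ≤ b.val → T.picMatrix a b = 0)
    (z : ∀ a : Fin 5, a.val < 1 → T.picMatrix a 3 = 0)
    (hne : T.picMatrix 1 3 ≠ 0) :
    Goal T := by
  have e_0_3 : T.picMatrix 0 3 = 0 := z 0 (by decide)
  have e_3_0 : T.picMatrix 3 0 = 0 := nt_pic_zero_symm T 0 3 e_0_3
  obtain ⟨hg0, hdA, hdP, hnn, hrow, hsym, hpair⟩ := ntgood_data T (by norm_num) hG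
  have hm_0 := T.m_pos 0
  have hw_0 := T.w_pos 0
  have hm_1 := T.m_pos 1
  have hw_1 := T.w_pos 1
  have hm_2 := T.m_pos 2
  have hw_2 := T.w_pos 2
  have hm_3 := T.m_pos 3
  have hw_3 := T.w_pos 3
  have hx_1 := hmax 1
  have hx_2 := hmax 2
  have hx_3 := hmax 3
  have Z_0_4 := cl 0 4 (by decide) (by decide)
  have N_1_4 := mul_nonneg (hnn 1 4 (by decide)) (T.m_pos 4).le
  have N_2_4 := mul_nonneg (hnn 2 4 (by decide)) (T.m_pos 4).le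
  have N_3_4 := mul_nonneg (hnn 3 4 (by decide)) (T.m_pos 4).le
  have N_1_3 := mul_nonneg (hnn 1 3 (by decide)) (T.m_pos 3).le
  have N_3_1 := mul_nonneg (hnn 3 1 (by decide)) (T.m_pos 1).le
  have N_2_3 := mul_nonneg (hnn 2 3 (by decide)) (T.m_pos 3).le
  have N_3_2 := mul_nonneg (hnn 3 2 (by decide)) (T.m_pos 2).le
  have R_0 := hrow 0
  rw [Fin.sum_univ_five, hdP 0, e_0_1, e_0_2, e_0_3, Z_0_4] at R_0
  have R_1 := hrow 1
  rw [Fin.sum_univ_five, hdP 1, e_1_0, e_1_2] at R_1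
  have R_2 := hrow 2
  rw [Fin.sum_univ_five, hdP 2, e_2_0, e_2_1] at R_2
  have R_3 := hrow 3
  rw [Fin.sum_univ_five, hdP 3, e_3_0] at R_3
  have S_0_1 := hsym 0 1
  rw [e_0_1, e_1_0] at S_0_1
  have S_0_2 := hsym 0 2
  rw [e_0_2, e_2_0] at S_0_2
  have S_0_3 := hsym 0 3
  rw [e_0_3, e_3_0] at S_0_3
  have S_1_2 := hsym 1 2
  rw [e_1_2, e_2_1] at S_1_2
  have S_1_3 := hsym 1 3
  have S_2_3 := hsym 2 3
  have Q_1 := hpair 1 3 (by decide)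
  have Q_2 := hpair 2 3 (by decide)
  generalize e_1_3 : T.picMatrix 1 3 = x_1 at *
  generalize e_3_1 : T.picMatrix 3 1 = y_1 at *
  generalize e_2_3 : T.picMatrix 2 3 = x_2 at *
  generalize e_3_2 : T.picMatrix 3 2 = y_2 at *
  rcases Q_1 with ⟨rfl, rfl⟩ | ⟨rfl, rfl⟩ | ⟨rfl, rfl⟩ | ⟨rfl, rfl⟩ | ⟨rfl, rfl⟩ | ⟨rfl, rfl⟩ | ⟨rfl, rfl⟩ | ⟨rfl, rfl⟩ | ⟨rfl, rfl⟩
  · exact absurd rfl hne
  · omega
  · omega
  · omega
  · omega
  · omega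
  · omega
  · omega
  · omega

theorem nd_176 (T : Models.NumericalType 5)
    (hG : NTGood T)
    (hmax : ∀ j, T.m j ≤ T.m 0)
    (e_0_1 : T.picMatrix 0 1 = 1)
    (e_0_2 : T.picMatrix 0 2 = 1)
    (e_1_0 : T.picMatrix 1 0 = 2)
    (e_1_2 : T.picMatrix 1 2 = 0)
    (e_2_0 : T.picMatrix 2 0 = 1)
    (e_2_1 : T.picMatrix 2 1 = 0)
    (cl : ∀ a b : Fin 5, a.val < 1 → 3 ≤ b.val → T.picMatrix a b = 0) :
    Goal T := by
  by_cases hc : ∀ b : Fin 5, 3 ≤ b.val → T.picMatrix 1 b = 0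
  · exact nd_177 T hG hmax e_0_1 e_0_2 e_1_0 e_1_2 e_2_0 e_2_1 (nt_cl_succ T 3 1 1 rfl cl hc)
  · obtain ⟨τ, hfix, cl', z, hne⟩ := nt_wlog_step T 3 (by norm_num) 1 (by norm_num) 1 (by decide) cl hc
    apply goal_relabel T τ
    refine ex_198 (ntRelabel T τ) (hG.relabel τ) ?_ ?_ ?_ ?_ ?_ ?_ ?_ cl' z hne
    · intro j
      show T.m (τ j) ≤ T.m (τ 0)
      rw [hfix 0 (by decide)]
      exact hmax _
    · show T.picMatrix (τ 0) (τ 1) = 1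
      rw [hfix 0 (by decide), hfix 1 (by decide)]
      exact e_0_1
    · show T.picMatrix (τ 0) (τ 2) = 1
      rw [hfix 0 (by decide), hfix 2 (by decide)]
      exact e_0_2
    · show T.picMatrix (τ 1) (τ 0) = 2
      rw [hfix 1 (by decide), hfix 0 (by decide)]
      exact e_1_0
    · show T.picMatrix (τ 1) (τ 2) = 0
      rw [hfix 1 (by decide), hfix 2 (by decide)]
      exact e_1_2
    · show T.picMatrix (τ 2) (τ 0) = 1
      rw [hfix 2 (by decide), hfix 0 (by decide)]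
      exact e_2_0
    · show T.picMatrix (τ 2) (τ 1) = 0
      rw [hfix 2 (by decide), hfix 1 (by decide)]
      exact e_2_1

theorem nd_204 (T : Models.NumericalType 5)
    (hG : NTGood T)
    (hmax : ∀ j, T.m j ≤ T.m 0)
    (e_0_1 : T.picMatrix 0 1 = 1)
    (e_0_2 : T.picMatrix 0 2 = 1)
    (e_0_3 : T.picMatrix 0 3 = 1)
    (e_1_0 : T.picMatrix 1 0 = 2)
    (e_1_2 : T.picMatrix 1 2 = 0)
    (e_1_3 : T.picMatrix 1 3 = 0)
    (e_2_0 : T.picMatrix 2 0 = 1)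
    (e_2_1 : T.picMatrix 2 1 = 0)
    (e_2_3 : T.picMatrix 2 3 = 0)
    (e_3_0 : T.picMatrix 3 0 = 1)
    (e_3_1 : T.picMatrix 3 1 = 0)
    (e_3_2 : T.picMatrix 3 2 = 0)
    (cl : ∀ a b : Fin 5, a.val < 4 → 4 ≤ b.val → T.picMatrix a b = 0) :
    Goal T := by
  exact (nt_closed_false T 4 (by norm_num) (by norm_num) cl).elim

theorem ex_205 (T : Models.NumericalType 5)
    (hG : NTGood T)
    (hmax : ∀ j, T.m j ≤ T.m 0)
    (e_0_1 : T.picMatrix 0 1 = 1)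
    (e_0_2 : T.picMatrix 0 2 = 1)
    (e_0_3 : T.picMatrix 0 3 = 1)
    (e_1_0 : T.picMatrix 1 0 = 2)
    (e_1_2 : T.picMatrix 1 2 = 0)
    (e_1_3 : T.picMatrix 1 3 = 0)
    (e_2_0 : T.picMatrix 2 0 = 1)
    (e_2_1 : T.picMatrix 2 1 = 0)
    (e_2_3 : T.picMatrix 2 3 = 0)
    (e_3_0 : T.picMatrix 3 0 = 1)
    (e_3_1 : T.picMatrix 3 1 = 0)
    (e_3_2 : T.picMatrix 3 2 = 0)
    (cl : ∀ a b : Fin 5, a.val < 3 → 5 ≤ b.val → T.picMatrix a b = 0)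
    (z : ∀ a : Fin 5, a.val < 3 → T.picMatrix a 4 = 0)
    (hne : T.picMatrix 3 4 ≠ 0) :
    Goal T := by
  have e_0_4 : T.picMatrix 0 4 = 0 := z 0 (by decide)
  have e_4_0 : T.picMatrix 4 0 = 0 := nt_pic_zero_symm T 0 4 e_0_4
  have e_1_4 : T.picMatrix 1 4 = 0 := z 1 (by decide)
  have e_4_1 : T.picMatrix 4 1 = 0 := nt_pic_zero_symm T 1 4 e_1_4
  have e_2_4 : T.picMatrix 2 4 = 0 := z 2 (by decide)
  have e_4_2 : T.picMatrix 4 2 = 0 := nt_pic_zero_symm T 2 4 e_2_4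
  obtain ⟨hg0, hdA, hdP, hnn, hrow, hsym, hpair⟩ := ntgood_data T (by norm_num) hG
  have hm_0 := T.m_pos 0
  have hw_0 := T.w_pos 0
  have hm_1 := T.m_pos 1
  have hw_1 := T.w_pos 1
  have hm_2 := T.m_pos 2
  have hw_2 := T.w_pos 2
  have hm_3 := T.m_pos 3
  have hw_3 := T.w_pos 3
  have hm_4 := T.m_pos 4
  have hw_4 := T.w_pos 4
  have hx_1 := hmax 1
  have hx_2 := hmax 2
  have hx_3 := hmax 3
  have hx_4 := hmax 4
  have N_3_4 := mul_nonneg (hnn 3 4 (by decide)) (T.m_pos 4).le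
  have N_4_3 := mul_nonneg (hnn 4 3 (by decide)) (T.m_pos 3).le
  have R_0 := hrow 0
  rw [Fin.sum_univ_five, hdP 0, e_0_1, e_0_2, e_0_3, e_0_4] at R_0
  have R_1 := hrow 1
  rw [Fin.sum_univ_five, hdP 1, e_1_0, e_1_2, e_1_3, e_1_4] at R_1
  have R_2 := hrow 2
  rw [Fin.sum_univ_five, hdP 2, e_2_0, e_2_1, e_2_3, e_2_4] at R_2
  have R_3 := hrow 3
  rw [Fin.sum_univ_five, hdP 3, e_3_0, e_3_1, e_3_2] at R_3
  have R_4 := hrow 4
  rw [Fin.sum_univ_five, hdP 4, e_4_0, e_4_1, e_4_2] at R_4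
  have S_0_1 := hsym 0 1
  rw [e_0_1, e_1_0] at S_0_1
  have S_0_2 := hsym 0 2
  rw [e_0_2, e_2_0] at S_0_2
  have S_0_3 := hsym 0 3
  rw [e_0_3, e_3_0] at S_0_3
  have S_0_4 := hsym 0 4
  rw [e_0_4, e_4_0] at S_0_4
  have S_1_2 := hsym 1 2
  rw [e_1_2, e_2_1] at S_1_2
  have S_1_3 := hsym 1 3
  rw [e_1_3, e_3_1] at S_1_3
  have S_1_4 := hsym 1 4
  rw [e_1_4, e_4_1] at S_1_4
  have S_2_3 := hsym 2 3
  rw [e_2_3, e_3_2] at S_2_3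
  have S_2_4 := hsym 2 4
  rw [e_2_4, e_4_2] at S_2_4
  have S_3_4 := hsym 3 4
  have Q_3 := hpair 3 4 (by decide)
  generalize e_3_4 : T.picMatrix 3 4 = x_3 at *
  generalize e_4_3 : T.picMatrix 4 3 = y_3 at *
  rcases Q_3 with ⟨rfl, rfl⟩ | ⟨rfl, rfl⟩ | ⟨rfl, rfl⟩ | ⟨rfl, rfl⟩ | ⟨rfl, rfl⟩ | ⟨rfl, rfl⟩ | ⟨rfl, rfl⟩ | ⟨rfl, rfl⟩ | ⟨rfl, rfl⟩
  · exact absurd rfl hne
  · -- (3,4) = (1,1)
    omega
  · -- (3,4) = (1,2)
    omega
  · -- (3,4) = (2,1)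
    omega
  · -- (3,4) = (1,3)
    omega
  · -- (3,4) = (3,1)
    omega
  · -- (3,4) = (1,4)
    omega
  · -- (3,4) = (4,1)
    omega
  · -- (3,4) = (2,2)
    omega

theorem nd_203 (T : Models.NumericalType 5)
    (hG : NTGood T)
    (hmax : ∀ j, T.m j ≤ T.m 0)
    (e_0_1 : T.picMatrix 0 1 = 1)
    (e_0_2 : T.picMatrix 0 2 = 1)
    (e_0_3 : T.picMatrix 0 3 = 1)
    (e_1_0 : T.picMatrix 1 0 = 2)
    (e_1_2 : T.picMatrix 1 2 = 0)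
    (e_1_3 : T.picMatrix 1 3 = 0)
    (e_2_0 : T.picMatrix 2 0 = 1)
    (e_2_1 : T.picMatrix 2 1 = 0)
    (e_2_3 : T.picMatrix 2 3 = 0)
    (e_3_0 : T.picMatrix 3 0 = 1)
    (e_3_1 : T.picMatrix 3 1 = 0)
    (e_3_2 : T.picMatrix 3 2 = 0)
    (cl : ∀ a b : Fin 5, a.val < 3 → 4 ≤ b.val → T.picMatrix a b = 0) :
    Goal T := by
  by_cases hc : ∀ b : Fin 5, 4 ≤ b.val → T.picMatrix 3 b = 0
  · exact nd_204 T hG hmax e_0_1 e_0_2 e_0_3 e_1_0 e_1_2 e_1_3 e_2_0 e_2_1 e_2_3 e_3_0 e_3_1 e_3_2 (nt_cl_succ T 4 3 3 rfl cl hc)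
  · obtain ⟨τ, hfix, cl', z, hne⟩ := nt_wlog_step T 4 (by norm_num) 3 (by norm_num) 3 (by decide) cl hc
    apply goal_relabel T τ
    refine ex_205 (ntRelabel T τ) (hG.relabel τ) ?_ ?_ ?_ ?_ ?_ ?_ ?_ ?_ ?_ ?_ ?_ ?_ ?_ cl' z hne
    · intro j
      show T.m (τ j) ≤ T.m (τ 0)
      rw [hfix 0 (by decide)]
      exact hmax _
    · show T.picMatrix (τ 0) (τ 1) = 1
      rw [hfix 0 (by decide), hfix 1 (by decide)]
      exact e_0_1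
    · show T.picMatrix (τ 0) (τ 2) = 1
      rw [hfix 0 (by decide), hfix 2 (by decide)]
      exact e_0_2
    · show T.picMatrix (τ 0) (τ 3) = 1
      rw [hfix 0 (by decide), hfix 3 (by decide)]
      exact e_0_3
    · show T.picMatrix (τ 1) (τ 0) = 2
      rw [hfix 1 (by decide), hfix 0 (by decide)]
      exact e_1_0
    · show T.picMatrix (τ 1) (τ 2) = 0
      rw [hfix 1 (by decide), hfix 2 (by decide)]
      exact e_1_2
    · show T.picMatrix (τ 1) (τ 3) = 0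
      rw [hfix 1 (by decide), hfix 3 (by decide)]
      exact e_1_3
    · show T.picMatrix (τ 2) (τ 0) = 1
      rw [hfix 2 (by decide), hfix 0 (by decide)]
      exact e_2_0
    · show T.picMatrix (τ 2) (τ 1) = 0
      rw [hfix 2 (by decide), hfix 1 (by decide)]
      exact e_2_1
    · show T.picMatrix (τ 2) (τ 3) = 0
      rw [hfix 2 (by decide), hfix 3 (by decide)]
      exact e_2_3
    · show T.picMatrix (τ 3) (τ 0) = 1
      rw [hfix 3 (by decide), hfix 0 (by decide)]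
      exact e_3_0
    · show T.picMatrix (τ 3) (τ 1) = 0
      rw [hfix 3 (by decide), hfix 1 (by decide)]
      exact e_3_1
    · show T.picMatrix (τ 3) (τ 2) = 0
      rw [hfix 3 (by decide), hfix 2 (by decide)]
      exact e_3_2

theorem ex_206 (T : Models.NumericalType 5)
    (hG : NTGood T)
    (hmax : ∀ j, T.m j ≤ T.m 0)
    (e_0_1 : T.picMatrix 0 1 = 1)
    (e_0_2 : T.picMatrix 0 2 = 1)
    (e_0_3 : T.picMatrix 0 3 = 1)
    (e_1_0 : T.picMatrix 1 0 = 2)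
    (e_1_2 : T.picMatrix 1 2 = 0)
    (e_1_3 : T.picMatrix 1 3 = 0)
    (e_2_0 : T.picMatrix 2 0 = 1)
    (e_2_1 : T.picMatrix 2 1 = 0)
    (e_2_3 : T.picMatrix 2 3 = 0)
    (e_3_0 : T.picMatrix 3 0 = 1)
    (e_3_1 : T.picMatrix 3 1 = 0)
    (e_3_2 : T.picMatrix 3 2 = 0)
    (cl : ∀ a b : Fin 5, a.val < 2 → 5 ≤ b.val → T.picMatrix a b = 0)
    (z : ∀ a : Fin 5, a.val < 2 → T.picMatrix a 4 = 0)
    (hne : T.picMatrix 2 4 ≠ 0) :
    Goal T := by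
  have e_0_4 : T.picMatrix 0 4 = 0 := z 0 (by decide)
  have e_4_0 : T.picMatrix 4 0 = 0 := nt_pic_zero_symm T 0 4 e_0_4
  have e_1_4 : T.picMatrix 1 4 = 0 := z 1 (by decide)
  have e_4_1 : T.picMatrix 4 1 = 0 := nt_pic_zero_symm T 1 4 e_1_4
  obtain ⟨hg0, hdA, hdP, hnn, hrow, hsym, hpair⟩ := ntgood_data T (by norm_num) hG
  have hm_0 := T.m_pos 0
  have hw_0 := T.w_pos 0
  have hm_1 := T.m_pos 1
  have hw_1 := T.w_pos 1
  have hm_2 := T.m_pos 2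
  have hw_2 := T.w_pos 2
  have hm_3 := T.m_pos 3
  have hw_3 := T.w_pos 3
  have hm_4 := T.m_pos 4
  have hw_4 := T.w_pos 4
  have hx_1 := hmax 1
  have hx_2 := hmax 2
  have hx_3 := hmax 3
  have hx_4 := hmax 4
  have N_2_4 := mul_nonneg (hnn 2 4 (by decide)) (T.m_pos 4).le
  have N_4_2 := mul_nonneg (hnn 4 2 (by decide)) (T.m_pos 2).le
  have N_3_4 := mul_nonneg (hnn 3 4 (by decide)) (T.m_pos 4).le
  have N_4_3 := mul_nonneg (hnn 4 3 (by decide)) (T.m_pos 3).le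
  have R_0 := hrow 0
  rw [Fin.sum_univ_five, hdP 0, e_0_1, e_0_2, e_0_3, e_0_4] at R_0
  have R_1 := hrow 1
  rw [Fin.sum_univ_five, hdP 1, e_1_0, e_1_2, e_1_3, e_1_4] at R_1
  have R_2 := hrow 2
  rw [Fin.sum_univ_five, hdP 2, e_2_0, e_2_1, e_2_3] at R_2
  have R_3 := hrow 3
  rw [Fin.sum_univ_five, hdP 3, e_3_0, e_3_1, e_3_2] at R_3
  have R_4 := hrow 4
  rw [Fin.sum_univ_five, hdP 4, e_4_0, e_4_1] at R_4
  have S_0_1 := hsym 0 1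
  rw [e_0_1, e_1_0] at S_0_1
  have S_0_2 := hsym 0 2
  rw [e_0_2, e_2_0] at S_0_2
  have S_0_3 := hsym 0 3
  rw [e_0_3, e_3_0] at S_0_3
  have S_0_4 := hsym 0 4
  rw [e_0_4, e_4_0] at S_0_4
  have S_1_2 := hsym 1 2
  rw [e_1_2, e_2_1] at S_1_2
  have S_1_3 := hsym 1 3
  rw [e_1_3, e_3_1] at S_1_3
  have S_1_4 := hsym 1 4
  rw [e_1_4, e_4_1] at S_1_4
  have S_2_3 := hsym 2 3
  rw [e_2_3, e_3_2] at S_2_3
  have S_2_4 := hsym 2 4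
  have S_3_4 := hsym 3 4
  have Q_2 := hpair 2 4 (by decide)
  have Q_3 := hpair 3 4 (by decide)
  generalize e_2_4 : T.picMatrix 2 4 = x_2 at *
  generalize e_4_2 : T.picMatrix 4 2 = y_2 at *
  generalize e_3_4 : T.picMatrix 3 4 = x_3 at *
  generalize e_4_3 : T.picMatrix 4 3 = y_3 at *
  rcases Q_2 with ⟨rfl, rfl⟩ | ⟨rfl, rfl⟩ | ⟨rfl, rfl⟩ | ⟨rfl, rfl⟩ | ⟨rfl, rfl⟩ | ⟨rfl, rfl⟩ | ⟨rfl, rfl⟩ | ⟨rfl, rfl⟩ | ⟨rfl, rfl⟩
  · exact absurd rfl hne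
  · omega
  · omega
  · omega
  · omega
  · omega
  · omega
  · omega
  · omega

theorem nd_202 (T : Models.NumericalType 5)
    (hG : NTGood T)
    (hmax : ∀ j, T.m j ≤ T.m 0)
    (e_0_1 : T.picMatrix 0 1 = 1)
    (e_0_2 : T.picMatrix 0 2 = 1)
    (e_0_3 : T.picMatrix 0 3 = 1)
    (e_1_0 : T.picMatrix 1 0 = 2)
    (e_1_2 : T.picMatrix 1 2 = 0)
    (e_1_3 : T.picMatrix 1 3 = 0)
    (e_2_0 : T.picMatrix 2 0 = 1)
    (e_2_1 : T.picMatrix 2 1 = 0)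
    (e_2_3 : T.picMatrix 2 3 = 0)
    (e_3_0 : T.picMatrix 3 0 = 1)
    (e_3_1 : T.picMatrix 3 1 = 0)
    (e_3_2 : T.picMatrix 3 2 = 0)
    (cl : ∀ a b : Fin 5, a.val < 2 → 4 ≤ b.val → T.picMatrix a b = 0) :
    Goal T := by
  by_cases hc : ∀ b : Fin 5, 4 ≤ b.val → T.picMatrix 2 b = 0
  · exact nd_203 T hG hmax e_0_1 e_0_2 e_0_3 e_1_0 e_1_2 e_1_3 e_2_0 e_2_1 e_2_3 e_3_0 e_3_1 e_3_2 (nt_cl_succ T 4 2 2 rfl cl hc)
  · obtain ⟨τ, hfix, cl', z, hne⟩ := nt_wlog_step T 4 (by norm_num) 2 (by norm_num) 2 (by decide) cl hc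
    apply goal_relabel T τ
    refine ex_206 (ntRelabel T τ) (hG.relabel τ) ?_ ?_ ?_ ?_ ?_ ?_ ?_ ?_ ?_ ?_ ?_ ?_ ?_ cl' z hne
    · intro j
      show T.m (τ j) ≤ T.m (τ 0)
      rw [hfix 0 (by decide)]
      exact hmax _
    · show T.picMatrix (τ 0) (τ 1) = 1
      rw [hfix 0 (by decide), hfix 1 (by decide)]
      exact e_0_1
    · show T.picMatrix (τ 0) (τ 2) = 1
      rw [hfix 0 (by decide), hfix 2 (by decide)]
      exact e_0_2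
    · show T.picMatrix (τ 0) (τ 3) = 1
      rw [hfix 0 (by decide), hfix 3 (by decide)]
      exact e_0_3
    · show T.picMatrix (τ 1) (τ 0) = 2
      rw [hfix 1 (by decide), hfix 0 (by decide)]
      exact e_1_0
    · show T.picMatrix (τ 1) (τ 2) = 0
      rw [hfix 1 (by decide), hfix 2 (by decide)]
      exact e_1_2
    · show T.picMatrix (τ 1) (τ 3) = 0
      rw [hfix 1 (by decide), hfix 3 (by decide)]
      exact e_1_3
    · show T.picMatrix (τ 2) (τ 0) = 1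
      rw [hfix 2 (by decide), hfix 0 (by decide)]
      exact e_2_0
    · show T.picMatrix (τ 2) (τ 1) = 0
      rw [hfix 2 (by decide), hfix 1 (by decide)]
      exact e_2_1
    · show T.picMatrix (τ 2) (τ 3) = 0
      rw [hfix 2 (by decide), hfix 3 (by decide)]
      exact e_2_3
    · show T.picMatrix (τ 3) (τ 0) = 1
      rw [hfix 3 (by decide), hfix 0 (by decide)]
      exact e_3_0
    · show T.picMatrix (τ 3) (τ 1) = 0
      rw [hfix 3 (by decide), hfix 1 (by decide)]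
      exact e_3_1
    · show T.picMatrix (τ 3) (τ 2) = 0
      rw [hfix 3 (by decide), hfix 2 (by decide)]
      exact e_3_2

theorem ex_207 (T : Models.NumericalType 5)
    (hG : NTGood T)
    (hmax : ∀ j, T.m j ≤ T.m 0)
    (e_0_1 : T.picMatrix 0 1 = 1)
    (e_0_2 : T.picMatrix 0 2 = 1)
    (e_0_3 : T.picMatrix 0 3 = 1)
    (e_1_0 : T.picMatrix 1 0 = 2)
    (e_1_2 : T.picMatrix 1 2 = 0)
    (e_1_3 : T.picMatrix 1 3 = 0)
    (e_2_0 : T.picMatrix 2 0 = 1)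
    (e_2_1 : T.picMatrix 2 1 = 0)
    (e_2_3 : T.picMatrix 2 3 = 0)
    (e_3_0 : T.picMatrix 3 0 = 1)
    (e_3_1 : T.picMatrix 3 1 = 0)
    (e_3_2 : T.picMatrix 3 2 = 0)
    (cl : ∀ a b : Fin 5, a.val < 1 → 5 ≤ b.val → T.picMatrix a b = 0)
    (z : ∀ a : Fin 5, a.val < 1 → T.picMatrix a 4 = 0)
    (hne : T.picMatrix 1 4 ≠ 0) :
    Goal T := by
  have e_0_4 : T.picMatrix 0 4 = 0 := z 0 (by decide)
  have e_4_0 : T.picMatrix 4 0 = 0 := nt_pic_zero_symm T 0 4 e_0_4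
  obtain ⟨hg0, hdA, hdP, hnn, hrow, hsym, hpair⟩ := ntgood_data T (by norm_num) hG
  have hm_0 := T.m_pos 0
  have hw_0 := T.w_pos 0
  have hm_1 := T.m_pos 1
  have hw_1 := T.w_pos 1
  have hm_2 := T.m_pos 2
  have hw_2 := T.w_pos 2
  have hm_3 := T.m_pos 3
  have hw_3 := T.w_pos 3
  have hm_4 := T.m_pos 4
  have hw_4 := T.w_pos 4
  have hx_1 := hmax 1
  have hx_2 := hmax 2
  have hx_3 := hmax 3
  have hx_4 := hmax 4
  have N_1_4 := mul_nonneg (hnn 1 4 (by decide)) (T.m_pos 4).le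
  have N_4_1 := mul_nonneg (hnn 4 1 (by decide)) (T.m_pos 1).le
  have N_2_4 := mul_nonneg (hnn 2 4 (by decide)) (T.m_pos 4).le
  have N_4_2 := mul_nonneg (hnn 4 2 (by decide)) (T.m_pos 2).le
  have N_3_4 := mul_nonneg (hnn 3 4 (by decide)) (T.m_pos 4).le
  have N_4_3 := mul_nonneg (hnn 4 3 (by decide)) (T.m_pos 3).le
  have R_0 := hrow 0
  rw [Fin.sum_univ_five, hdP 0, e_0_1, e_0_2, e_0_3, e_0_4] at R_0
  have R_1 := hrow 1
  rw [Fin.sum_univ_five, hdP 1, e_1_0, e_1_2, e_1_3] at R_1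
  have R_2 := hrow 2
  rw [Fin.sum_univ_five, hdP 2, e_2_0, e_2_1, e_2_3] at R_2
  have R_3 := hrow 3
  rw [Fin.sum_univ_five, hdP 3, e_3_0, e_3_1, e_3_2] at R_3
  have R_4 := hrow 4
  rw [Fin.sum_univ_five, hdP 4, e_4_0] at R_4
  have S_0_1 := hsym 0 1
  rw [e_0_1, e_1_0] at S_0_1
  have S_0_2 := hsym 0 2
  rw [e_0_2, e_2_0] at S_0_2
  have S_0_3 := hsym 0 3
  rw [e_0_3, e_3_0] at S_0_3
  have S_0_4 := hsym 0 4
  rw [e_0_4, e_4_0] at S_0_4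
  have S_1_2 := hsym 1 2
  rw [e_1_2, e_2_1] at S_1_2
  have S_1_3 := hsym 1 3
  rw [e_1_3, e_3_1] at S_1_3
  have S_1_4 := hsym 1 4
  have S_2_3 := hsym 2 3
  rw [e_2_3, e_3_2] at S_2_3
  have S_2_4 := hsym 2 4
  have S_3_4 := hsym 3 4
  have Q_1 := hpair 1 4 (by decide)
  have Q_2 := hpair 2 4 (by decide)
  have Q_3 := hpair 3 4 (by decide)
  generalize e_1_4 : T.picMatrix 1 4 = x_1 at *
  generalize e_4_1 : T.picMatrix 4 1 = y_1 at *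
  generalize e_2_4 : T.picMatrix 2 4 = x_2 at *
  generalize e_4_2 : T.picMatrix 4 2 = y_2 at *
  generalize e_3_4 : T.picMatrix 3 4 = x_3 at *
  generalize e_4_3 : T.picMatrix 4 3 = y_3 at *
  rcases Q_1 with ⟨rfl, rfl⟩ | ⟨rfl, rfl⟩ | ⟨rfl, rfl⟩ | ⟨rfl, rfl⟩ | ⟨rfl, rfl⟩ | ⟨rfl, rfl⟩ | ⟨rfl, rfl⟩ | ⟨rfl, rfl⟩ | ⟨rfl, rfl⟩
  · exact absurd rfl hne
  · omega
  · omega
  · omega
  · omega
  · omega
  · omega
  · omega
  · omega

theorem nd_201 (T : Models.NumericalType 5)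
    (hG : NTGood T)
    (hmax : ∀ j, T.m j ≤ T.m 0)
    (e_0_1 : T.picMatrix 0 1 = 1)
    (e_0_2 : T.picMatrix 0 2 = 1)
    (e_0_3 : T.picMatrix 0 3 = 1)
    (e_1_0 : T.picMatrix 1 0 = 2)
    (e_1_2 : T.picMatrix 1 2 = 0)
    (e_1_3 : T.picMatrix 1 3 = 0)
    (e_2_0 : T.picMatrix 2 0 = 1)
    (e_2_1 : T.picMatrix 2 1 = 0)
    (e_2_3 : T.picMatrix 2 3 = 0)
    (e_3_0 : T.picMatrix 3 0 = 1)
    (e_3_1 : T.picMatrix 3 1 = 0)
    (e_3_2 : T.picMatrix 3 2 = 0)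
    (cl : ∀ a b : Fin 5, a.val < 1 → 4 ≤ b.val → T.picMatrix a b = 0) :
    Goal T := by
  by_cases hc : ∀ b : Fin 5, 4 ≤ b.val → T.picMatrix 1 b = 0
  · exact nd_202 T hG hmax e_0_1 e_0_2 e_0_3 e_1_0 e_1_2 e_1_3 e_2_0 e_2_1 e_2_3 e_3_0 e_3_1 e_3_2 (nt_cl_succ T 4 1 1 rfl cl hc)
  · obtain ⟨τ, hfix, cl', z, hne⟩ := nt_wlog_step T 4 (by norm_num) 1 (by norm_num) 1 (by decide) cl hc
    apply goal_relabel T τ
    refine ex_207 (ntRelabel T τ) (hG.relabel τ) ?_ ?_ ?_ ?_ ?_ ?_ ?_ ?_ ?_ ?_ ?_ ?_ ?_ cl' z hne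
    · intro j
      show T.m (τ j) ≤ T.m (τ 0)
      rw [hfix 0 (by decide)]
      exact hmax _
    · show T.picMatrix (τ 0) (τ 1) = 1
      rw [hfix 0 (by decide), hfix 1 (by decide)]
      exact e_0_1
    · show T.picMatrix (τ 0) (τ 2) = 1
      rw [hfix 0 (by decide), hfix 2 (by decide)]
      exact e_0_2
    · show T.picMatrix (τ 0) (τ 3) = 1
      rw [hfix 0 (by decide), hfix 3 (by decide)]
      exact e_0_3
    · show T.picMatrix (τ 1) (τ 0) = 2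
      rw [hfix 1 (by decide), hfix 0 (by decide)]
      exact e_1_0
    · show T.picMatrix (τ 1) (τ 2) = 0
      rw [hfix 1 (by decide), hfix 2 (by decide)]
      exact e_1_2
    · show T.picMatrix (τ 1) (τ 3) = 0
      rw [hfix 1 (by decide), hfix 3 (by decide)]
      exact e_1_3
    · show T.picMatrix (τ 2) (τ 0) = 1
      rw [hfix 2 (by decide), hfix 0 (by decide)]
      exact e_2_0
    · show T.picMatrix (τ 2) (τ 1) = 0
      rw [hfix 2 (by decide), hfix 1 (by decide)]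
      exact e_2_1
    · show T.picMatrix (τ 2) (τ 3) = 0
      rw [hfix 2 (by decide), hfix 3 (by decide)]
      exact e_2_3
    · show T.picMatrix (τ 3) (τ 0) = 1
      rw [hfix 3 (by decide), hfix 0 (by decide)]
      exact e_3_0
    · show T.picMatrix (τ 3) (τ 1) = 0
      rw [hfix 3 (by decide), hfix 1 (by decide)]
      exact e_3_1
    · show T.picMatrix (τ 3) (τ 2) = 0
      rw [hfix 3 (by decide), hfix 2 (by decide)]
      exact e_3_2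

theorem ex_208 (T : Models.NumericalType 5)
    (hG : NTGood T)
    (hmax : ∀ j, T.m j ≤ T.m 0)
    (e_0_1 : T.picMatrix 0 1 = 1)
    (e_0_2 : T.picMatrix 0 2 = 1)
    (e_0_3 : T.picMatrix 0 3 = 1)
    (e_1_0 : T.picMatrix 1 0 = 2)
    (e_1_2 : T.picMatrix 1 2 = 0)
    (e_1_3 : T.picMatrix 1 3 = 0)
    (e_2_0 : T.picMatrix 2 0 = 1)
    (e_2_1 : T.picMatrix 2 1 = 0)
    (e_2_3 : T.picMatrix 2 3 = 0)
    (e_3_0 : T.picMatrix 3 0 = 1)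
    (e_3_1 : T.picMatrix 3 1 = 0)
    (e_3_2 : T.picMatrix 3 2 = 0)
    (cl : ∀ a b : Fin 5, a.val < 0 → 5 ≤ b.val → T.picMatrix a b = 0)
    (z : ∀ a : Fin 5, a.val < 0 → T.picMatrix a 4 = 0)
    (hne : T.picMatrix 0 4 ≠ 0) :
    Goal T := by
  obtain ⟨hg0, hdA, hdP, hnn, hrow, hsym, hpair⟩ := ntgood_data T (by norm_num) hG
  have hm_0 := T.m_pos 0
  have hw_0 := T.w_pos 0
  have hm_1 := T.m_pos 1
  have hw_1 := T.w_pos 1
  have hm_2 := T.m_pos 2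
  have hw_2 := T.w_pos 2
  have hm_3 := T.m_pos 3
  have hw_3 := T.w_pos 3
  have hm_4 := T.m_pos 4
  have hw_4 := T.w_pos 4
  have hx_1 := hmax 1
  have hx_2 := hmax 2
  have hx_3 := hmax 3
  have hx_4 := hmax 4
  have N_0_4 := mul_nonneg (hnn 0 4 (by decide)) (T.m_pos 4).le
  have N_4_0 := mul_nonneg (hnn 4 0 (by decide)) (T.m_pos 0).le
  have N_1_4 := mul_nonneg (hnn 1 4 (by decide)) (T.m_pos 4).le
  have N_4_1 := mul_nonneg (hnn 4 1 (by decide)) (T.m_pos 1).le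
  have N_2_4 := mul_nonneg (hnn 2 4 (by decide)) (T.m_pos 4).le
  have N_4_2 := mul_nonneg (hnn 4 2 (by decide)) (T.m_pos 2).le
  have N_3_4 := mul_nonneg (hnn 3 4 (by decide)) (T.m_pos 4).le
  have N_4_3 := mul_nonneg (hnn 4 3 (by decide)) (T.m_pos 3).le
  have R_0 := hrow 0
  rw [Fin.sum_univ_five, hdP 0, e_0_1, e_0_2, e_0_3] at R_0
  have R_1 := hrow 1
  rw [Fin.sum_univ_five, hdP 1, e_1_0, e_1_2, e_1_3] at R_1
  have R_2 := hrow 2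
  rw [Fin.sum_univ_five, hdP 2, e_2_0, e_2_1, e_2_3] at R_2
  have R_3 := hrow 3
  rw [Fin.sum_univ_five, hdP 3, e_3_0, e_3_1, e_3_2] at R_3
  have R_4 := hrow 4
  rw [Fin.sum_univ_five, hdP 4] at R_4
  have S_0_1 := hsym 0 1
  rw [e_0_1, e_1_0] at S_0_1
  have S_0_2 := hsym 0 2
  rw [e_0_2, e_2_0] at S_0_2
  have S_0_3 := hsym 0 3
  rw [e_0_3, e_3_0] at S_0_3
  have S_0_4 := hsym 0 4
  have S_1_2 := hsym 1 2
  rw [e_1_2, e_2_1] at S_1_2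
  have S_1_3 := hsym 1 3
  rw [e_1_3, e_3_1] at S_1_3
  have S_1_4 := hsym 1 4
  have S_2_3 := hsym 2 3
  rw [e_2_3, e_3_2] at S_2_3
  have S_2_4 := hsym 2 4
  have S_3_4 := hsym 3 4
  have Q_0 := hpair 0 4 (by decide)
  have Q_1 := hpair 1 4 (by decide)
  have Q_2 := hpair 2 4 (by decide)
  have Q_3 := hpair 3 4 (by decide)
  generalize e_0_4 : T.picMatrix 0 4 = x_0 at *
  generalize e_4_0 : T.picMatrix 4 0 = y_0 at *
  generalize e_1_4 : T.picMatrix 1 4 = x_1 at *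
  generalize e_4_1 : T.picMatrix 4 1 = y_1 at *
  generalize e_2_4 : T.picMatrix 2 4 = x_2 at *
  generalize e_4_2 : T.picMatrix 4 2 = y_2 at *
  generalize e_3_4 : T.picMatrix 3 4 = x_3 at *
  generalize e_4_3 : T.picMatrix 4 3 = y_3 at *
  rcases Q_0 with ⟨rfl, rfl⟩ | ⟨rfl, rfl⟩ | ⟨rfl, rfl⟩ | ⟨rfl, rfl⟩ | ⟨rfl, rfl⟩ | ⟨rfl, rfl⟩ | ⟨rfl, rfl⟩ | ⟨rfl, rfl⟩ | ⟨rfl, rfl⟩
  · exact absurd rfl hne
  · omega
  · omega
  · omega
  · omega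
  · omega
  · omega
  · omega
  · omega

theorem nd_200 (T : Models.NumericalType 5)
    (hG : NTGood T)
    (hmax : ∀ j, T.m j ≤ T.m 0)
    (e_0_1 : T.picMatrix 0 1 = 1)
    (e_0_2 : T.picMatrix 0 2 = 1)
    (e_0_3 : T.picMatrix 0 3 = 1)
    (e_1_0 : T.picMatrix 1 0 = 2)
    (e_1_2 : T.picMatrix 1 2 = 0)
    (e_1_3 : T.picMatrix 1 3 = 0)
    (e_2_0 : T.picMatrix 2 0 = 1)
    (e_2_1 : T.picMatrix 2 1 = 0)
    (e_2_3 : T.picMatrix 2 3 = 0)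
    (e_3_0 : T.picMatrix 3 0 = 1)
    (e_3_1 : T.picMatrix 3 1 = 0)
    (e_3_2 : T.picMatrix 3 2 = 0)
    (cl : ∀ a b : Fin 5, a.val < 0 → 4 ≤ b.val → T.picMatrix a b = 0) :
    Goal T := by
  by_cases hc : ∀ b : Fin 5, 4 ≤ b.val → T.picMatrix 0 b = 0
  · exact nd_201 T hG hmax e_0_1 e_0_2 e_0_3 e_1_0 e_1_2 e_1_3 e_2_0 e_2_1 e_2_3 e_3_0 e_3_1 e_3_2 (nt_cl_succ T 4 0 0 rfl cl hc)
  · obtain ⟨τ, hfix, cl', z, hne⟩ := nt_wlog_step T 4 (by norm_num) 0 (by norm_num) 0 (by decide) cl hc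
    apply goal_relabel T τ
    refine ex_208 (ntRelabel T τ) (hG.relabel τ) ?_ ?_ ?_ ?_ ?_ ?_ ?_ ?_ ?_ ?_ ?_ ?_ ?_ cl' z hne
    · intro j
      show T.m (τ j) ≤ T.m (τ 0)
      rw [hfix 0 (by decide)]
      exact hmax _
    · show T.picMatrix (τ 0) (τ 1) = 1
      rw [hfix 0 (by decide), hfix 1 (by decide)]
      exact e_0_1
    · show T.picMatrix (τ 0) (τ 2) = 1
      rw [hfix 0 (by decide), hfix 2 (by decide)]
      exact e_0_2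
    · show T.picMatrix (τ 0) (τ 3) = 1
      rw [hfix 0 (by decide), hfix 3 (by decide)]
      exact e_0_3
    · show T.picMatrix (τ 1) (τ 0) = 2
      rw [hfix 1 (by decide), hfix 0 (by decide)]
      exact e_1_0
    · show T.picMatrix (τ 1) (τ 2) = 0
      rw [hfix 1 (by decide), hfix 2 (by decide)]
      exact e_1_2
    · show T.picMatrix (τ 1) (τ 3) = 0
      rw [hfix 1 (by decide), hfix 3 (by decide)]
      exact e_1_3
    · show T.picMatrix (τ 2) (τ 0) = 1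
      rw [hfix 2 (by decide), hfix 0 (by decide)]
      exact e_2_0
    · show T.picMatrix (τ 2) (τ 1) = 0
      rw [hfix 2 (by decide), hfix 1 (by decide)]
      exact e_2_1
    · show T.picMatrix (τ 2) (τ 3) = 0
      rw [hfix 2 (by decide), hfix 3 (by decide)]
      exact e_2_3
    · show T.picMatrix (τ 3) (τ 0) = 1
      rw [hfix 3 (by decide), hfix 0 (by decide)]
      exact e_3_0
    · show T.picMatrix (τ 3) (τ 1) = 0
      rw [hfix 3 (by decide), hfix 1 (by decide)]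
      exact e_3_1
    · show T.picMatrix (τ 3) (τ 2) = 0
      rw [hfix 3 (by decide), hfix 2 (by decide)]
      exact e_3_2

theorem ex_199 (T : Models.NumericalType 5)
    (hG : NTGood T)
    (hmax : ∀ j, T.m j ≤ T.m 0)
    (e_0_1 : T.picMatrix 0 1 = 1)
    (e_0_2 : T.picMatrix 0 2 = 1)
    (e_1_0 : T.picMatrix 1 0 = 2)
    (e_1_2 : T.picMatrix 1 2 = 0)
    (e_2_0 : T.picMatrix 2 0 = 1)
    (e_2_1 : T.picMatrix 2 1 = 0)
    (cl : ∀ a b : Fin 5, a.val < 0 → 4 ≤ b.val → T.picMatrix a b = 0)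
    (z : ∀ a : Fin 5, a.val < 0 → T.picMatrix a 3 = 0)
    (hne : T.picMatrix 0 3 ≠ 0) :
    Goal T := by
  obtain ⟨hg0, hdA, hdP, hnn, hrow, hsym, hpair⟩ := ntgood_data T (by norm_num) hG
  have hm_0 := T.m_pos 0
  have hw_0 := T.w_pos 0
  have hm_1 := T.m_pos 1
  have hw_1 := T.w_pos 1
  have hm_2 := T.m_pos 2
  have hw_2 := T.w_pos 2
  have hm_3 := T.m_pos 3
  have hw_3 := T.w_pos 3
  have hx_1 := hmax 1
  have hx_2 := hmax 2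
  have hx_3 := hmax 3
  have N_0_4 := mul_nonneg (hnn 0 4 (by decide)) (T.m_pos 4).le
  have N_1_4 := mul_nonneg (hnn 1 4 (by decide)) (T.m_pos 4).le
  have N_2_4 := mul_nonneg (hnn 2 4 (by decide)) (T.m_pos 4).le
  have N_3_4 := mul_nonneg (hnn 3 4 (by decide)) (T.m_pos 4).le
  have N_0_3 := mul_nonneg (hnn 0 3 (by decide)) (T.m_pos 3).le
  have N_3_0 := mul_nonneg (hnn 3 0 (by decide)) (T.m_pos 0).le
  have N_1_3 := mul_nonneg (hnn 1 3 (by decide)) (T.m_pos 3).le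
  have N_3_1 := mul_nonneg (hnn 3 1 (by decide)) (T.m_pos 1).le
  have N_2_3 := mul_nonneg (hnn 2 3 (by decide)) (T.m_pos 3).le
  have N_3_2 := mul_nonneg (hnn 3 2 (by decide)) (T.m_pos 2).le
  have R_0 := hrow 0
  rw [Fin.sum_univ_five, hdP 0, e_0_1, e_0_2] at R_0
  have R_1 := hrow 1
  rw [Fin.sum_univ_five, hdP 1, e_1_0, e_1_2] at R_1
  have R_2 := hrow 2
  rw [Fin.sum_univ_five, hdP 2, e_2_0, e_2_1] at R_2
  have R_3 := hrow 3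
  rw [Fin.sum_univ_five, hdP 3] at R_3
  have S_0_1 := hsym 0 1
  rw [e_0_1, e_1_0] at S_0_1
  have S_0_2 := hsym 0 2
  rw [e_0_2, e_2_0] at S_0_2
  have S_0_3 := hsym 0 3
  have S_1_2 := hsym 1 2
  rw [e_1_2, e_2_1] at S_1_2
  have S_1_3 := hsym 1 3
  have S_2_3 := hsym 2 3
  have Q_0 := hpair 0 3 (by decide)
  have Q_1 := hpair 1 3 (by decide)
  have Q_2 := hpair 2 3 (by decide)
  generalize e_0_3 : T.picMatrix 0 3 = x_0 at *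
  generalize e_3_0 : T.picMatrix 3 0 = y_0 at *
  generalize e_1_3 : T.picMatrix 1 3 = x_1 at *
  generalize e_3_1 : T.picMatrix 3 1 = y_1 at *
  generalize e_2_3 : T.picMatrix 2 3 = x_2 at *
  generalize e_3_2 : T.picMatrix 3 2 = y_2 at *
  rcases Q_0 with ⟨rfl, rfl⟩ | ⟨rfl, rfl⟩ | ⟨rfl, rfl⟩ | ⟨rfl, rfl⟩ | ⟨rfl, rfl⟩ | ⟨rfl, rfl⟩ | ⟨rfl, rfl⟩ | ⟨rfl, rfl⟩ | ⟨rfl, rfl⟩
  · exact absurd rfl hne
  · -- (0,3) = (1,1)
    rcases Q_1 with ⟨rfl, rfl⟩ | ⟨rfl, rfl⟩ | ⟨rfl, rfl⟩ | ⟨rfl, rfl⟩ | ⟨rfl, rfl⟩ | ⟨rfl, rfl⟩ | ⟨rfl, rfl⟩ | ⟨rfl, rfl⟩ | ⟨rfl, rfl⟩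
    · -- (1,3) = (0,0)
      rcases Q_2 with ⟨rfl, rfl⟩ | ⟨rfl, rfl⟩ | ⟨rfl, rfl⟩ | ⟨rfl, rfl⟩ | ⟨rfl, rfl⟩ | ⟨rfl, rfl⟩ | ⟨rfl, rfl⟩ | ⟨rfl, rfl⟩ | ⟨rfl, rfl⟩
      · -- (2,3) = (0,0)
        exact nd_200 T hG hmax e_0_1 e_0_2 e_0_3 e_1_0 e_1_2 e_1_3 e_2_0 e_2_1 e_2_3 e_3_0 e_3_1 e_3_2 cl
      · -- (2,3) = (1,1)
        omega
      · -- (2,3) = (1,2)
        omega
      · -- (2,3) = (2,1)
        omega
      · -- (2,3) = (1,3)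
        omega
      · -- (2,3) = (3,1)
        omega
      · -- (2,3) = (1,4)
        omega
      · -- (2,3) = (4,1)
        omega
      · -- (2,3) = (2,2)
        omega
    · omega
    · omega
    · omega
    · omega
    · omega
    · omega
    · omega
    · omega
  · omega
  · omega
  · omega
  · omega
  · omega
  · omega
  · omega

theorem nd_175 (T : Models.NumericalType 5)
    (hG : NTGood T)
    (hmax : ∀ j, T.m j ≤ T.m 0)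
    (e_0_1 : T.picMatrix 0 1 = 1)
    (e_0_2 : T.picMatrix 0 2 = 1)
    (e_1_0 : T.picMatrix 1 0 = 2)
    (e_1_2 : T.picMatrix 1 2 = 0)
    (e_2_0 : T.picMatrix 2 0 = 1)
    (e_2_1 : T.picMatrix 2 1 = 0)
    (cl : ∀ a b : Fin 5, a.val < 0 → 3 ≤ b.val → T.picMatrix a b = 0) :
    Goal T := by
  by_cases hc : ∀ b : Fin 5, 3 ≤ b.val → T.picMatrix 0 b = 0
  · exact nd_176 T hG hmax e_0_1 e_0_2 e_1_0 e_1_2 e_2_0 e_2_1 (nt_cl_succ T 3 0 0 rfl cl hc)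
  · obtain ⟨τ, hfix, cl', z, hne⟩ := nt_wlog_step T 3 (by norm_num) 0 (by norm_num) 0 (by decide) cl hc
    apply goal_relabel T τ
    refine ex_199 (ntRelabel T τ) (hG.relabel τ) ?_ ?_ ?_ ?_ ?_ ?_ ?_ cl' z hne
    · intro j
      show T.m (τ j) ≤ T.m (τ 0)
      rw [hfix 0 (by decide)]
      exact hmax _
    · show T.picMatrix (τ 0) (τ 1) = 1
      rw [hfix 0 (by decide), hfix 1 (by decide)]
      exact e_0_1
    · show T.picMatrix (τ 0) (τ 2) = 1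
      rw [hfix 0 (by decide), hfix 2 (by decide)]
      exact e_0_2
    · show T.picMatrix (τ 1) (τ 0) = 2
      rw [hfix 1 (by decide), hfix 0 (by decide)]
      exact e_1_0
    · show T.picMatrix (τ 1) (τ 2) = 0
      rw [hfix 1 (by decide), hfix 2 (by decide)]
      exact e_1_2
    · show T.picMatrix (τ 2) (τ 0) = 1
      rw [hfix 2 (by decide), hfix 0 (by decide)]
      exact e_2_0
    · show T.picMatrix (τ 2) (τ 1) = 0
      rw [hfix 2 (by decide), hfix 1 (by decide)]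
      exact e_2_1

theorem nd_338 (T : Models.NumericalType 5)
    (hG : NTGood T)
    (hmax : ∀ j, T.m j ≤ T.m 0)
    (e_0_1 : T.picMatrix 0 1 = 3)
    (e_0_2 : T.picMatrix 0 2 = 1)
    (e_1_0 : T.picMatrix 1 0 = 1)
    (e_1_2 : T.picMatrix 1 2 = 0)
    (e_2_0 : T.picMatrix 2 0 = 1)
    (e_2_1 : T.picMatrix 2 1 = 0)
    (cl : ∀ a b : Fin 5, a.val < 3 → 3 ≤ b.val → T.picMatrix a b = 0) :
    Goal T := by
  exact (nt_closed_false T 3 (by norm_num) (by norm_num) cl).elim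

theorem ex_339 (T : Models.NumericalType 5)
    (hG : NTGood T)
    (hmax : ∀ j, T.m j ≤ T.m 0)
    (e_0_1 : T.picMatrix 0 1 = 3)
    (e_0_2 : T.picMatrix 0 2 = 1)
    (e_1_0 : T.picMatrix 1 0 = 1)
    (e_1_2 : T.picMatrix 1 2 = 0)
    (e_2_0 : T.picMatrix 2 0 = 1)
    (e_2_1 : T.picMatrix 2 1 = 0)
    (cl : ∀ a b : Fin 5, a.val < 2 → 4 ≤ b.val → T.picMatrix a b = 0)
    (z : ∀ a : Fin 5, a.val < 2 → T.picMatrix a 3 = 0)
    (hne : T.picMatrix 2 3 ≠ 0) :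
    Goal T := by
  have e_0_3 : T.picMatrix 0 3 = 0 := z 0 (by decide)
  have e_3_0 : T.picMatrix 3 0 = 0 := nt_pic_zero_symm T 0 3 e_0_3
  have e_1_3 : T.picMatrix 1 3 = 0 := z 1 (by decide)
  have e_3_1 : T.picMatrix 3 1 = 0 := nt_pic_zero_symm T 1 3 e_1_3
  obtain ⟨hg0, hdA, hdP, hnn, hrow, hsym, hpair⟩ := ntgood_data T (by norm_num) hG
  have hm_0 := T.m_pos 0
  have hw_0 := T.w_pos 0
  have hm_1 := T.m_pos 1
  have hw_1 := T.w_pos 1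
  have hm_2 := T.m_pos 2
  have hw_2 := T.w_pos 2
  have hm_3 := T.m_pos 3
  have hw_3 := T.w_pos 3
  have hx_1 := hmax 1
  have hx_2 := hmax 2
  have hx_3 := hmax 3
  have Z_0_4 := cl 0 4 (by decide) (by decide)
  have Z_1_4 := cl 1 4 (by decide) (by decide)
  have N_2_4 := mul_nonneg (hnn 2 4 (by decide)) (T.m_pos 4).le
  have N_3_4 := mul_nonneg (hnn 3 4 (by decide)) (T.m_pos 4).le
  have N_2_3 := mul_nonneg (hnn 2 3 (by decide)) (T.m_pos 3).le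
  have N_3_2 := mul_nonneg (hnn 3 2 (by decide)) (T.m_pos 2).le
  have R_0 := hrow 0
  rw [Fin.sum_univ_five, hdP 0, e_0_1, e_0_2, e_0_3, Z_0_4] at R_0
  have R_1 := hrow 1
  rw [Fin.sum_univ_five, hdP 1, e_1_0, e_1_2, e_1_3, Z_1_4] at R_1
  have R_2 := hrow 2
  rw [Fin.sum_univ_five, hdP 2, e_2_0, e_2_1] at R_2
  have R_3 := hrow 3
  rw [Fin.sum_univ_five, hdP 3, e_3_0, e_3_1] at R_3
  have S_0_1 := hsym 0 1
  rw [e_0_1, e_1_0] at S_0_1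
  have S_0_2 := hsym 0 2
  rw [e_0_2, e_2_0] at S_0_2
  have S_0_3 := hsym 0 3
  rw [e_0_3, e_3_0] at S_0_3
  have S_1_2 := hsym 1 2
  rw [e_1_2, e_2_1] at S_1_2
  have S_1_3 := hsym 1 3
  rw [e_1_3, e_3_1] at S_1_3
  have S_2_3 := hsym 2 3
  have Q_2 := hpair 2 3 (by decide)
  generalize e_2_3 : T.picMatrix 2 3 = x_2 at *
  generalize e_3_2 : T.picMatrix 3 2 = y_2 at *
  rcases Q_2 with ⟨rfl, rfl⟩ | ⟨rfl, rfl⟩ | ⟨rfl, rfl⟩ | ⟨rfl, rfl⟩ | ⟨rfl, rfl⟩ | ⟨rfl, rfl⟩ | ⟨rfl, rfl⟩ | ⟨rfl, rfl⟩ | ⟨rfl, rfl⟩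
  · exact absurd rfl hne
  · -- (2,3) = (1,1)
    omega
  · -- (2,3) = (1,2)
    omega
  · -- (2,3) = (2,1)
    omega
  · -- (2,3) = (1,3)
    omega
  · -- (2,3) = (3,1)
    omega
  · -- (2,3) = (1,4)
    omega
  · -- (2,3) = (4,1)
    omega
  · -- (2,3) = (2,2)
    omega

theorem nd_337 (T : Models.NumericalType 5)
    (hG : NTGood T)
    (hmax : ∀ j, T.m j ≤ T.m 0)
    (e_0_1 : T.picMatrix 0 1 = 3)
    (e_0_2 : T.picMatrix 0 2 = 1)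
    (e_1_0 : T.picMatrix 1 0 = 1)
    (e_1_2 : T.picMatrix 1 2 = 0)
    (e_2_0 : T.picMatrix 2 0 = 1)
    (e_2_1 : T.picMatrix 2 1 = 0)
    (cl : ∀ a b : Fin 5, a.val < 2 → 3 ≤ b.val → T.picMatrix a b = 0) :
    Goal T := by
  by_cases hc : ∀ b : Fin 5, 3 ≤ b.val → T.picMatrix 2 b = 0
  · exact nd_338 T hG hmax e_0_1 e_0_2 e_1_0 e_1_2 e_2_0 e_2_1 (nt_cl_succ T 3 2 2 rfl cl hc)
  · obtain ⟨τ, hfix, cl', z, hne⟩ := nt_wlog_step T 3 (by norm_num) 2 (by norm_num) 2 (by decide) cl hc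
    apply goal_relabel T τ
    refine ex_339 (ntRelabel T τ) (hG.relabel τ) ?_ ?_ ?_ ?_ ?_ ?_ ?_ cl' z hne
    · intro j
      show T.m (τ j) ≤ T.m (τ 0)
      rw [hfix 0 (by decide)]
      exact hmax _
    · show T.picMatrix (τ 0) (τ 1) = 3
      rw [hfix 0 (by decide), hfix 1 (by decide)]
      exact e_0_1
    · show T.picMatrix (τ 0) (τ 2) = 1
      rw [hfix 0 (by decide), hfix 2 (by decide)]
      exact e_0_2
    · show T.picMatrix (τ 1) (τ 0) = 1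
      rw [hfix 1 (by decide), hfix 0 (by decide)]
      exact e_1_0
    · show T.picMatrix (τ 1) (τ 2) = 0
      rw [hfix 1 (by decide), hfix 2 (by decide)]
      exact e_1_2
    · show T.picMatrix (τ 2) (τ 0) = 1
      rw [hfix 2 (by decide), hfix 0 (by decide)]
      exact e_2_0
    · show T.picMatrix (τ 2) (τ 1) = 0
      rw [hfix 2 (by decide), hfix 1 (by decide)]
      exact e_2_1

theorem ex_340 (T : Models.NumericalType 5)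
    (hG : NTGood T)
    (hmax : ∀ j, T.m j ≤ T.m 0)
    (e_0_1 : T.picMatrix 0 1 = 3)
    (e_0_2 : T.picMatrix 0 2 = 1)
    (e_1_0 : T.picMatrix 1 0 = 1)
    (e_1_2 : T.picMatrix 1 2 = 0)
    (e_2_0 : T.picMatrix 2 0 = 1)
    (e_2_1 : T.picMatrix 2 1 = 0)
    (cl : ∀ a b : Fin 5, a.val < 1 → 4 ≤ b.val → T.picMatrix a b = 0)
    (z : ∀ a : Fin 5, a.val < 1 → T.picMatrix a 3 = 0)
    (hne : T.picMatrix 1 3 ≠ 0) :
    Goal T := by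
  have e_0_3 : T.picMatrix 0 3 = 0 := z 0 (by decide)
  have e_3_0 : T.picMatrix 3 0 = 0 := nt_pic_zero_symm T 0 3 e_0_3
  obtain ⟨hg0, hdA, hdP, hnn, hrow, hsym, hpair⟩ := ntgood_data T (by norm_num) hG
  have hm_0 := T.m_pos 0
  have hw_0 := T.w_pos 0
  have hm_1 := T.m_pos 1
  have hw_1 := T.w_pos 1
  have hm_2 := T.m_pos 2
  have hw_2 := T.w_pos 2
  have hm_3 := T.m_pos 3
  have hw_3 := T.w_pos 3
  have hx_1 := hmax 1
  have hx_2 := hmax 2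
  have hx_3 := hmax 3
  have Z_0_4 := cl 0 4 (by decide) (by decide)
  have N_1_4 := mul_nonneg (hnn 1 4 (by decide)) (T.m_pos 4).le
  have N_2_4 := mul_nonneg (hnn 2 4 (by decide)) (T.m_pos 4).le
  have N_3_4 := mul_nonneg (hnn 3 4 (by decide)) (T.m_pos 4).le
  have N_1_3 := mul_nonneg (hnn 1 3 (by decide)) (T.m_pos 3).le
  have N_3_1 := mul_nonneg (hnn 3 1 (by decide)) (T.m_pos 1).le
  have N_2_3 := mul_nonneg (hnn 2 3 (by decide)) (T.m_pos 3).le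
  have N_3_2 := mul_nonneg (hnn 3 2 (by decide)) (T.m_pos 2).le
  have R_0 := hrow 0
  rw [Fin.sum_univ_five, hdP 0, e_0_1, e_0_2, e_0_3, Z_0_4] at R_0
  have R_1 := hrow 1
  rw [Fin.sum_univ_five, hdP 1, e_1_0, e_1_2] at R_1
  have R_2 := hrow 2
  rw [Fin.sum_univ_five, hdP 2, e_2_0, e_2_1] at R_2
  have R_3 := hrow 3
  rw [Fin.sum_univ_five, hdP 3, e_3_0] at R_3
  have S_0_1 := hsym 0 1
  rw [e_0_1, e_1_0] at S_0_1
  have S_0_2 := hsym 0 2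
  rw [e_0_2, e_2_0] at S_0_2
  have S_0_3 := hsym 0 3
  rw [e_0_3, e_3_0] at S_0_3
  have S_1_2 := hsym 1 2
  rw [e_1_2, e_2_1] at S_1_2
  have S_1_3 := hsym 1 3
  have S_2_3 := hsym 2 3
  have Q_1 := hpair 1 3 (by decide)
  have Q_2 := hpair 2 3 (by decide)
  generalize e_1_3 : T.picMatrix 1 3 = x_1 at *
  generalize e_3_1 : T.picMatrix 3 1 = y_1 at *
  generalize e_2_3 : T.picMatrix 2 3 = x_2 at *
  generalize e_3_2 : T.picMatrix 3 2 = y_2 at *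
  rcases Q_1 with ⟨rfl, rfl⟩ | ⟨rfl, rfl⟩ | ⟨rfl, rfl⟩ | ⟨rfl, rfl⟩ | ⟨rfl, rfl⟩ | ⟨rfl, rfl⟩ | ⟨rfl, rfl⟩ | ⟨rfl, rfl⟩ | ⟨rfl, rfl⟩
  · exact absurd rfl hne
  · omega
  · omega
  · omega
  · omega
  · omega
  · omega
  · omega
  · omega

theorem nd_336 (T : Models.NumericalType 5)
    (hG : NTGood T)
    (hmax : ∀ j, T.m j ≤ T.m 0)
    (e_0_1 : T.picMatrix 0 1 = 3)
    (e_0_2 : T.picMatrix 0 2 = 1)
    (e_1_0 : T.picMatrix 1 0 = 1)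
    (e_1_2 : T.picMatrix 1 2 = 0)
    (e_2_0 : T.picMatrix 2 0 = 1)
    (e_2_1 : T.picMatrix 2 1 = 0)
    (cl : ∀ a b : Fin 5, a.val < 1 → 3 ≤ b.val → T.picMatrix a b = 0) :
    Goal T := by
  by_cases hc : ∀ b : Fin 5, 3 ≤ b.val → T.picMatrix 1 b = 0
  · exact nd_337 T hG hmax e_0_1 e_0_2 e_1_0 e_1_2 e_2_0 e_2_1 (nt_cl_succ T 3 1 1 rfl cl hc)
  · obtain ⟨τ, hfix, cl', z, hne⟩ := nt_wlog_step T 3 (by norm_num) 1 (by norm_num) 1 (by decide) cl hc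
    apply goal_relabel T τ
    refine ex_340 (ntRelabel T τ) (hG.relabel τ) ?_ ?_ ?_ ?_ ?_ ?_ ?_ cl' z hne
    · intro j
      show T.m (τ j) ≤ T.m (τ 0)
      rw [hfix 0 (by decide)]
      exact hmax _
    · show T.picMatrix (τ 0) (τ 1) = 3
      rw [hfix 0 (by decide), hfix 1 (by decide)]
      exact e_0_1
    · show T.picMatrix (τ 0) (τ 2) = 1
      rw [hfix 0 (by decide), hfix 2 (by decide)]
      exact e_0_2
    · show T.picMatrix (τ 1) (τ 0) = 1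
      rw [hfix 1 (by decide), hfix 0 (by decide)]
      exact e_1_0
    · show T.picMatrix (τ 1) (τ 2) = 0
      rw [hfix 1 (by decide), hfix 2 (by decide)]
      exact e_1_2
    · show T.picMatrix (τ 2) (τ 0) = 1
      rw [hfix 2 (by decide), hfix 0 (by decide)]
      exact e_2_0
    · show T.picMatrix (τ 2) (τ 1) = 0
      rw [hfix 2 (by decide), hfix 1 (by decide)]
      exact e_2_1

theorem ex_341 (T : Models.NumericalType 5)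
    (hG : NTGood T)
    (hmax : ∀ j, T.m j ≤ T.m 0)
    (e_0_1 : T.picMatrix 0 1 = 3)
    (e_0_2 : T.picMatrix 0 2 = 1)
    (e_1_0 : T.picMatrix 1 0 = 1)
    (e_1_2 : T.picMatrix 1 2 = 0)
    (e_2_0 : T.picMatrix 2 0 = 1)
    (e_2_1 : T.picMatrix 2 1 = 0)
    (cl : ∀ a b : Fin 5, a.val < 0 → 4 ≤ b.val → T.picMatrix a b = 0)
    (z : ∀ a : Fin 5, a.val < 0 → T.picMatrix a 3 = 0)
    (hne : T.picMatrix 0 3 ≠ 0) :
    Goal T := by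
  obtain ⟨hg0, hdA, hdP, hnn, hrow, hsym, hpair⟩ := ntgood_data T (by norm_num) hG
  have hm_0 := T.m_pos 0
  have hw_0 := T.w_pos 0
  have hm_1 := T.m_pos 1
  have hw_1 := T.w_pos 1
  have hm_2 := T.m_pos 2
  have hw_2 := T.w_pos 2
  have hm_3 := T.m_pos 3
  have hw_3 := T.w_pos 3
  have hx_1 := hmax 1
  have hx_2 := hmax 2
  have hx_3 := hmax 3
  have N_0_4 := mul_nonneg (hnn 0 4 (by decide)) (T.m_pos 4).le
  have N_1_4 := mul_nonneg (hnn 1 4 (by decide)) (T.m_pos 4).le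
  have N_2_4 := mul_nonneg (hnn 2 4 (by decide)) (T.m_pos 4).le
  have N_3_4 := mul_nonneg (hnn 3 4 (by decide)) (T.m_pos 4).le
  have N_0_3 := mul_nonneg (hnn 0 3 (by decide)) (T.m_pos 3).le
  have N_3_0 := mul_nonneg (hnn 3 0 (by decide)) (T.m_pos 0).le
  have N_1_3 := mul_nonneg (hnn 1 3 (by decide)) (T.m_pos 3).le
  have N_3_1 := mul_nonneg (hnn 3 1 (by decide)) (T.m_pos 1).le
  have N_2_3 := mul_nonneg (hnn 2 3 (by decide)) (T.m_pos 3).le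
  have N_3_2 := mul_nonneg (hnn 3 2 (by decide)) (T.m_pos 2).le
  have R_0 := hrow 0
  rw [Fin.sum_univ_five, hdP 0, e_0_1, e_0_2] at R_0
  have R_1 := hrow 1
  rw [Fin.sum_univ_five, hdP 1, e_1_0, e_1_2] at R_1
  have R_2 := hrow 2
  rw [Fin.sum_univ_five, hdP 2, e_2_0, e_2_1] at R_2
  have R_3 := hrow 3
  rw [Fin.sum_univ_five, hdP 3] at R_3
  have S_0_1 := hsym 0 1
  rw [e_0_1, e_1_0] at S_0_1
  have S_0_2 := hsym 0 2
  rw [e_0_2, e_2_0] at S_0_2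
  have S_0_3 := hsym 0 3
  have S_1_2 := hsym 1 2
  rw [e_1_2, e_2_1] at S_1_2
  have S_1_3 := hsym 1 3
  have S_2_3 := hsym 2 3
  have Q_0 := hpair 0 3 (by decide)
  have Q_1 := hpair 1 3 (by decide)
  have Q_2 := hpair 2 3 (by decide)
  generalize e_0_3 : T.picMatrix 0 3 = x_0 at *
  generalize e_3_0 : T.picMatrix 3 0 = y_0 at *
  generalize e_1_3 : T.picMatrix 1 3 = x_1 at *
  generalize e_3_1 : T.picMatrix 3 1 = y_1 at *
  generalize e_2_3 : T.picMatrix 2 3 = x_2 at *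
  generalize e_3_2 : T.picMatrix 3 2 = y_2 at *
  rcases Q_0 with ⟨rfl, rfl⟩ | ⟨rfl, rfl⟩ | ⟨rfl, rfl⟩ | ⟨rfl, rfl⟩ | ⟨rfl, rfl⟩ | ⟨rfl, rfl⟩ | ⟨rfl, rfl⟩ | ⟨rfl, rfl⟩ | ⟨rfl, rfl⟩
  · exact absurd rfl hne
  · omega
  · omega
  · omega
  · omega
  · omega
  · omega
  · omega
  · omega

theorem nd_335 (T : Models.NumericalType 5)
    (hG : NTGood T)
    (hmax : ∀ j, T.m j ≤ T.m 0)
    (e_0_1 : T.picMatrix 0 1 = 3)
    (e_0_2 : T.picMatrix 0 2 = 1)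
    (e_1_0 : T.picMatrix 1 0 = 1)
    (e_1_2 : T.picMatrix 1 2 = 0)
    (e_2_0 : T.picMatrix 2 0 = 1)
    (e_2_1 : T.picMatrix 2 1 = 0)
    (cl : ∀ a b : Fin 5, a.val < 0 → 3 ≤ b.val → T.picMatrix a b = 0) :
    Goal T := by
  by_cases hc : ∀ b : Fin 5, 3 ≤ b.val → T.picMatrix 0 b = 0
  · exact nd_336 T hG hmax e_0_1 e_0_2 e_1_0 e_1_2 e_2_0 e_2_1 (nt_cl_succ T 3 0 0 rfl cl hc)
  · obtain ⟨τ, hfix, cl', z, hne⟩ := nt_wlog_step T 3 (by norm_num) 0 (by norm_num) 0 (by decide) cl hc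
    apply goal_relabel T τ
    refine ex_341 (ntRelabel T τ) (hG.relabel τ) ?_ ?_ ?_ ?_ ?_ ?_ ?_ cl' z hne
    · intro j
      show T.m (τ j) ≤ T.m (τ 0)
      rw [hfix 0 (by decide)]
      exact hmax _
    · show T.picMatrix (τ 0) (τ 1) = 3
      rw [hfix 0 (by decide), hfix 1 (by decide)]
      exact e_0_1
    · show T.picMatrix (τ 0) (τ 2) = 1
      rw [hfix 0 (by decide), hfix 2 (by decide)]
      exact e_0_2
    · show T.picMatrix (τ 1) (τ 0) = 1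
      rw [hfix 1 (by decide), hfix 0 (by decide)]
      exact e_1_0
    · show T.picMatrix (τ 1) (τ 2) = 0
      rw [hfix 1 (by decide), hfix 2 (by decide)]
      exact e_1_2
    · show T.picMatrix (τ 2) (τ 0) = 1
      rw [hfix 2 (by decide), hfix 0 (by decide)]
      exact e_2_0
    · show T.picMatrix (τ 2) (τ 1) = 0
      rw [hfix 2 (by decide), hfix 1 (by decide)]
      exact e_2_1

end Groth.Agent.Lib.helper4.G5
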