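import Groth.Agent.Lib.helper4.G5.N0
import Groth.Agent.Lib.helper4.G5.N1
import Groth.Agent.Lib.helper4.G5.N2
import Groth.Agent.Lib.helper4.G5.N3

/-!
# Genus one classification on 5 indices: generated case analysis, part top (helper4)
-/

set_option autoImplicit false
set_option maxHeartbeats 1000000
set_option linter.unusedVariables false

namespace Groth.Agent.Lib.helper4.G5

open Groth.Agent.Lib.helper4

theorem nd_2 (T : Models.NumericalType 5)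
    (hG : NTGood T)
    (hmax : ∀ j, T.m j ≤ T.m 0)
    (cl : ∀ a b : Fin 5, a.val < 1 → 1 ≤ b.val → T.picMatrix a b = 0) :
    Goal T := by
  obtain ⟨hg0, hdA, hdP, hnn, hrow, hsym, hpair⟩ := ntgood_data T (by norm_num) hG
  have hm_0 := T.m_pos 0
  have hw_0 := T.w_pos 0
  have Z_0_1 := cl 0 1 (by decide) (by decide)
  have Z_0_2 := cl 0 2 (by decide) (by decide)
  have Z_0_3 := cl 0 3 (by decide) (by decide)
  have Z_0_4 := cl 0 4 (by decide) (by decide)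
  have R_0 := hrow 0
  rw [Fin.sum_univ_five, hdP 0, Z_0_1, Z_0_2, Z_0_3, Z_0_4] at R_0
  exfalso
  omega

theorem nd_5 (T : Models.NumericalType 5)
    (hG : NTGood T)
    (hmax : ∀ j, T.m j ≤ T.m 0)
    (e_0_1 : T.picMatrix 0 1 = 1)
    (e_1_0 : T.picMatrix 1 0 = 1)
    (cl : ∀ a b : Fin 5, a.val < 1 → 2 ≤ b.val → T.picMatrix a b = 0) :
    Goal T := by
  obtain ⟨hg0, hdA, hdP, hnn, hrow, hsym, hpair⟩ := ntgood_data T (by norm_num) hG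
  have hm_0 := T.m_pos 0
  have hw_0 := T.w_pos 0
  have hm_1 := T.m_pos 1
  have hw_1 := T.w_pos 1
  have hx_1 := hmax 1
  have Z_0_2 := cl 0 2 (by decide) (by decide)
  have Z_0_3 := cl 0 3 (by decide) (by decide)
  have Z_0_4 := cl 0 4 (by decide) (by decide)
  have N_1_2 := mul_nonneg (hnn 1 2 (by decide)) (T.m_pos 2).le
  have N_1_3 := mul_nonneg (hnn 1 3 (by decide)) (T.m_pos 3).le
  have N_1_4 := mul_nonneg (hnn 1 4 (by decide)) (T.m_pos 4).le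
  have R_0 := hrow 0
  rw [Fin.sum_univ_five, hdP 0, e_0_1, Z_0_2, Z_0_3, Z_0_4] at R_0
  have R_1 := hrow 1
  rw [Fin.sum_univ_five, hdP 1, e_1_0] at R_1
  have S_0_1 := hsym 0 1
  rw [e_0_1, e_1_0] at S_0_1
  exfalso
  omega

theorem ex_6 (T : Models.NumericalType 5)
    (hG : NTGood T)
    (hmax : ∀ j, T.m j ≤ T.m 0)
    (e_0_1 : T.picMatrix 0 1 = 1)
    (e_1_0 : T.picMatrix 1 0 = 1)
    (cl : ∀ a b : Fin 5, a.val < 0 → 3 ≤ b.val → T.picMatrix a b = 0)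
    (z : ∀ a : Fin 5, a.val < 0 → T.picMatrix a 2 = 0)
    (hne : T.picMatrix 0 2 ≠ 0) :
    Goal T := by
  obtain ⟨hg0, hdA, hdP, hnn, hrow, hsym, hpair⟩ := ntgood_data T (by norm_num) hG
  have hm_0 := T.m_pos 0
  have hw_0 := T.w_pos 0
  have hm_1 := T.m_pos 1
  have hw_1 := T.w_pos 1
  have hm_2 := T.m_pos 2
  have hw_2 := T.w_pos 2
  have hx_1 := hmax 1
  have hx_2 := hmax 2
  have N_0_3 := mul_nonneg (hnn 0 3 (by decide)) (T.m_pos 3).le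
  have N_0_4 := mul_nonneg (hnn 0 4 (by decide)) (T.m_pos 4).le
  have N_1_3 := mul_nonneg (hnn 1 3 (by decide)) (T.m_pos 3).le
  have N_1_4 := mul_nonneg (hnn 1 4 (by decide)) (T.m_pos 4).le
  have N_2_3 := mul_nonneg (hnn 2 3 (by decide)) (T.m_pos 3).le
  have N_2_4 := mul_nonneg (hnn 2 4 (by decide)) (T.m_pos 4).le
  have N_0_2 := mul_nonneg (hnn 0 2 (by decide)) (T.m_pos 2).le
  have N_2_0 := mul_nonneg (hnn 2 0 (by decide)) (T.m_pos 0).le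
  have N_1_2 := mul_nonneg (hnn 1 2 (by decide)) (T.m_pos 2).le
  have N_2_1 := mul_nonneg (hnn 2 1 (by decide)) (T.m_pos 1).le
  have R_0 := hrow 0
  rw [Fin.sum_univ_five, hdP 0, e_0_1] at R_0
  have R_1 := hrow 1
  rw [Fin.sum_univ_five, hdP 1, e_1_0] at R_1
  have R_2 := hrow 2
  rw [Fin.sum_univ_five, hdP 2] at R_2
  have S_0_1 := hsym 0 1
  rw [e_0_1, e_1_0] at S_0_1
  have S_0_2 := hsym 0 2
  have S_1_2 := hsym 1 2
  have Q_0 := hpair 0 2 (by decide)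
  have Q_1 := hpair 1 2 (by decide)
  generalize e_0_2 : T.picMatrix 0 2 = x_0 at *
  generalize e_2_0 : T.picMatrix 2 0 = y_0 at *
  generalize e_1_2 : T.picMatrix 1 2 = x_1 at *
  generalize e_2_1 : T.picMatrix 2 1 = y_1 at *
  rcases Q_0 with ⟨rfl, rfl⟩ | ⟨rfl, rfl⟩ | ⟨rfl, rfl⟩ | ⟨rfl, rfl⟩ | ⟨rfl, rfl⟩ | ⟨rfl, rfl⟩ | ⟨rfl, rfl⟩ | ⟨rfl, rfl⟩ | ⟨rfl, rfl⟩
  · exact absurd rfl hne
  · -- (0,2) = (1,1)
    rcases Q_1 with ⟨rfl, rfl⟩ | ⟨rfl, rfl⟩ | ⟨rfl, rfl⟩ | ⟨rfl, rfl⟩ | ⟨rfl, rfl⟩ | ⟨rfl, rfl⟩ | ⟨rfl, rfl⟩ | ⟨rfl, rfl⟩ | ⟨rfl, rfl⟩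
    · -- (1,2) = (0,0)
      exact nd_7 T hG hmax e_0_1 e_0_2 e_1_0 e_1_2 e_2_0 e_2_1 cl
    · -- (1,2) = (1,1)
      exact nd_73 T hG hmax e_0_1 e_0_2 e_1_0 e_1_2 e_2_0 e_2_1 cl
    · -- (1,2) = (1,2)
      omega
    · -- (1,2) = (2,1)
      omega
    · -- (1,2) = (1,3)
      omega
    · -- (1,2) = (3,1)
      omega
    · -- (1,2) = (1,4)
      omega
    · -- (1,2) = (4,1)
      omega
    · -- (1,2) = (2,2)
      omega
  · -- (0,2) = (1,2)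
    rcases Q_1 with ⟨rfl, rfl⟩ | ⟨rfl, rfl⟩ | ⟨rfl, rfl⟩ | ⟨rfl, rfl⟩ | ⟨rfl, rfl⟩ | ⟨rfl, rfl⟩ | ⟨rfl, rfl⟩ | ⟨rfl, rfl⟩ | ⟨rfl, rfl⟩
    · -- (1,2) = (0,0)
      exact nd_80 T hG hmax e_0_1 e_0_2 e_1_0 e_1_2 e_2_0 e_2_1 cl
    · -- (1,2) = (1,1)
      omega
    · -- (1,2) = (1,2)
      omega
    · -- (1,2) = (2,1)
      omega
    · -- (1,2) = (1,3)
      omega
    · -- (1,2) = (3,1)
      omega
    · -- (1,2) = (1,4)
      omega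
    · -- (1,2) = (4,1)
      omega
    · -- (1,2) = (2,2)
      omega
  · -- (0,2) = (2,1)
    rcases Q_1 with ⟨rfl, rfl⟩ | ⟨rfl, rfl⟩ | ⟨rfl, rfl⟩ | ⟨rfl, rfl⟩ | ⟨rfl, rfl⟩ | ⟨rfl, rfl⟩ | ⟨rfl, rfl⟩ | ⟨rfl, rfl⟩ | ⟨rfl, rfl⟩
    · -- (1,2) = (0,0)
      exact nd_118 T hG hmax e_0_1 e_0_2 e_1_0 e_1_2 e_2_0 e_2_1 cl
    · -- (1,2) = (1,1)
      omega
    · -- (1,2) = (1,2)
      omega
    · -- (1,2) = (2,1)
      omega
    · -- (1,2) = (1,3)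
      omega
    · -- (1,2) = (3,1)
      omega
    · -- (1,2) = (1,4)
      omega
    · -- (1,2) = (4,1)
      omega
    · -- (1,2) = (2,2)
      omega
  · omega
  · -- (0,2) = (3,1)
    rcases Q_1 with ⟨rfl, rfl⟩ | ⟨rfl, rfl⟩ | ⟨rfl, rfl⟩ | ⟨rfl, rfl⟩ | ⟨rfl, rfl⟩ | ⟨rfl, rfl⟩ | ⟨rfl, rfl⟩ | ⟨rfl, rfl⟩ | ⟨rfl, rfl⟩
    · -- (1,2) = (0,0)
      exact nd_165 T hG hmax e_0_1 e_0_2 e_1_0 e_1_2 e_2_0 e_2_1 cl
    · -- (1,2) = (1,1)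
      omega
    · -- (1,2) = (1,2)
      omega
    · -- (1,2) = (2,1)
      omega
    · -- (1,2) = (1,3)
      omega
    · -- (1,2) = (3,1)
      omega
    · -- (1,2) = (1,4)
      omega
    · -- (1,2) = (4,1)
      omega
    · -- (1,2) = (2,2)
      omega
  · omega
  · omega
  · omega

theorem nd_4 (T : Models.NumericalType 5)
    (hG : NTGood T)
    (hmax : ∀ j, T.m j ≤ T.m 0)
    (e_0_1 : T.picMatrix 0 1 = 1)
    (e_1_0 : T.picMatrix 1 0 = 1)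
    (cl : ∀ a b : Fin 5, a.val < 0 → 2 ≤ b.val → T.picMatrix a b = 0) :
    Goal T := by
  by_cases hc : ∀ b : Fin 5, 2 ≤ b.val → T.picMatrix 0 b = 0
  · exact nd_5 T hG hmax e_0_1 e_1_0 (nt_cl_succ T 2 0 0 rfl cl hc)
  · obtain ⟨τ, hfix, cl', z, hne⟩ := nt_wlog_step T 2 (by norm_num) 0 (by norm_num) 0 (by decide) cl hc
    apply goal_relabel T τ
    refine ex_6 (ntRelabel T τ) (hG.relabel τ) ?_ ?_ ?_ cl' z hne
    · intro j
      show T.m (τ j) ≤ T.m (τ 0)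
      rw [hfix 0 (by decide)]
      exact hmax _
    · show T.picMatrix (τ 0) (τ 1) = 1
      rw [hfix 0 (by decide), hfix 1 (by decide)]
      exact e_0_1
    · show T.picMatrix (τ 1) (τ 0) = 1
      rw [hfix 1 (by decide), hfix 0 (by decide)]
      exact e_1_0

theorem nd_173 (T : Models.NumericalType 5)
    (hG : NTGood T)
    (hmax : ∀ j, T.m j ≤ T.m 0)
    (e_0_1 : T.picMatrix 0 1 = 1)
    (e_1_0 : T.picMatrix 1 0 = 2)
    (cl : ∀ a b : Fin 5, a.val < 1 → 2 ≤ b.val → T.picMatrix a b = 0) :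
    Goal T := by
  obtain ⟨hg0, hdA, hdP, hnn, hrow, hsym, hpair⟩ := ntgood_data T (by norm_num) hG
  have hm_0 := T.m_pos 0
  have hw_0 := T.w_pos 0
  have hm_1 := T.m_pos 1
  have hw_1 := T.w_pos 1
  have hx_1 := hmax 1
  have Z_0_2 := cl 0 2 (by decide) (by decide)
  have Z_0_3 := cl 0 3 (by decide) (by decide)
  have Z_0_4 := cl 0 4 (by decide) (by decide)
  have N_1_2 := mul_nonneg (hnn 1 2 (by decide)) (T.m_pos 2).le
  have N_1_3 := mul_nonneg (hnn 1 3 (by decide)) (T.m_pos 3).le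
  have N_1_4 := mul_nonneg (hnn 1 4 (by decide)) (T.m_pos 4).le
  have R_0 := hrow 0
  rw [Fin.sum_univ_five, hdP 0, e_0_1, Z_0_2, Z_0_3, Z_0_4] at R_0
  have R_1 := hrow 1
  rw [Fin.sum_univ_five, hdP 1, e_1_0] at R_1
  have S_0_1 := hsym 0 1
  rw [e_0_1, e_1_0] at S_0_1
  exfalso
  omega

theorem ex_174 (T : Models.NumericalType 5)
    (hG : NTGood T)
    (hmax : ∀ j, T.m j ≤ T.m 0)
    (e_0_1 : T.picMatrix 0 1 = 1)
    (e_1_0 : T.picMatrix 1 0 = 2)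
    (cl : ∀ a b : Fin 5, a.val < 0 → 3 ≤ b.val → T.picMatrix a b = 0)
    (z : ∀ a : Fin 5, a.val < 0 → T.picMatrix a 2 = 0)
    (hne : T.picMatrix 0 2 ≠ 0) :
    Goal T := by
  obtain ⟨hg0, hdA, hdP, hnn, hrow, hsym, hpair⟩ := ntgood_data T (by norm_num) hG
  have hm_0 := T.m_pos 0
  have hw_0 := T.w_pos 0
  have hm_1 := T.m_pos 1
  have hw_1 := T.w_pos 1
  have hm_2 := T.m_pos 2
  have hw_2 := T.w_pos 2
  have hx_1 := hmax 1
  have hx_2 := hmax 2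
  have N_0_3 := mul_nonneg (hnn 0 3 (by decide)) (T.m_pos 3).le
  have N_0_4 := mul_nonneg (hnn 0 4 (by decide)) (T.m_pos 4).le
  have N_1_3 := mul_nonneg (hnn 1 3 (by decide)) (T.m_pos 3).le
  have N_1_4 := mul_nonneg (hnn 1 4 (by decide)) (T.m_pos 4).le
  have N_2_3 := mul_nonneg (hnn 2 3 (by decide)) (T.m_pos 3).le
  have N_2_4 := mul_nonneg (hnn 2 4 (by decide)) (T.m_pos 4).le
  have N_0_2 := mul_nonneg (hnn 0 2 (by decide)) (T.m_pos 2).le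
  have N_2_0 := mul_nonneg (hnn 2 0 (by decide)) (T.m_pos 0).le
  have N_1_2 := mul_nonneg (hnn 1 2 (by decide)) (T.m_pos 2).le
  have N_2_1 := mul_nonneg (hnn 2 1 (by decide)) (T.m_pos 1).le
  have R_0 := hrow 0
  rw [Fin.sum_univ_five, hdP 0, e_0_1] at R_0
  have R_1 := hrow 1
  rw [Fin.sum_univ_five, hdP 1, e_1_0] at R_1
  have R_2 := hrow 2
  rw [Fin.sum_univ_five, hdP 2] at R_2
  have S_0_1 := hsym 0 1
  rw [e_0_1, e_1_0] at S_0_1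
  have S_0_2 := hsym 0 2
  have S_1_2 := hsym 1 2
  have Q_0 := hpair 0 2 (by decide)
  have Q_1 := hpair 1 2 (by decide)
  generalize e_0_2 : T.picMatrix 0 2 = x_0 at *
  generalize e_2_0 : T.picMatrix 2 0 = y_0 at *
  generalize e_1_2 : T.picMatrix 1 2 = x_1 at *
  generalize e_2_1 : T.picMatrix 2 1 = y_1 at *
  rcases Q_0 with ⟨rfl, rfl⟩ | ⟨rfl, rfl⟩ | ⟨rfl, rfl⟩ | ⟨rfl, rfl⟩ | ⟨rfl, rfl⟩ | ⟨rfl, rfl⟩ | ⟨rfl, rfl⟩ | ⟨rfl, rfl⟩ | ⟨rfl, rfl⟩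
  · exact absurd rfl hne
  · -- (0,2) = (1,1)
    rcases Q_1 with ⟨rfl, rfl⟩ | ⟨rfl, rfl⟩ | ⟨rfl, rfl⟩ | ⟨rfl, rfl⟩ | ⟨rfl, rfl⟩ | ⟨rfl, rfl⟩ | ⟨rfl, rfl⟩ | ⟨rfl, rfl⟩ | ⟨rfl, rfl⟩
    · -- (1,2) = (0,0)
      exact nd_175 T hG hmax e_0_1 e_0_2 e_1_0 e_1_2 e_2_0 e_2_1 cl
    · -- (1,2) = (1,1)
      omega
    · -- (1,2) = (1,2)
      omega
    · -- (1,2) = (2,1)
      omega
    · -- (1,2) = (1,3)
      omega
    · -- (1,2) = (3,1)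
      omega
    · -- (1,2) = (1,4)
      omega
    · -- (1,2) = (4,1)
      omega
    · -- (1,2) = (2,2)
      omega
  · -- (0,2) = (1,2)
    rcases Q_1 with ⟨rfl, rfl⟩ | ⟨rfl, rfl⟩ | ⟨rfl, rfl⟩ | ⟨rfl, rfl⟩ | ⟨rfl, rfl⟩ | ⟨rfl, rfl⟩ | ⟨rfl, rfl⟩ | ⟨rfl, rfl⟩ | ⟨rfl, rfl⟩
    · -- (1,2) = (0,0)
      exact nd_209 T hG hmax e_0_1 e_0_2 e_1_0 e_1_2 e_2_0 e_2_1 cl
    · -- (1,2) = (1,1)
      omega
    · -- (1,2) = (1,2)
      omega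
    · -- (1,2) = (2,1)
      omega
    · -- (1,2) = (1,3)
      omega
    · -- (1,2) = (3,1)
      omega
    · -- (1,2) = (1,4)
      omega
    · -- (1,2) = (4,1)
      omega
    · -- (1,2) = (2,2)
      omega
  · -- (0,2) = (2,1)
    rcases Q_1 with ⟨rfl, rfl⟩ | ⟨rfl, rfl⟩ | ⟨rfl, rfl⟩ | ⟨rfl, rfl⟩ | ⟨rfl, rfl⟩ | ⟨rfl, rfl⟩ | ⟨rfl, rfl⟩ | ⟨rfl, rfl⟩ | ⟨rfl, rfl⟩
    · -- (1,2) = (0,0)
      exact nd_216 T hG hmax e_0_1 e_0_2 e_1_0 e_1_2 e_2_0 e_2_1 cl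
    · -- (1,2) = (1,1)
      omega
    · -- (1,2) = (1,2)
      omega
    · -- (1,2) = (2,1)
      omega
    · -- (1,2) = (1,3)
      omega
    · -- (1,2) = (3,1)
      omega
    · -- (1,2) = (1,4)
      omega
    · -- (1,2) = (4,1)
      omega
    · -- (1,2) = (2,2)
      omega
  · omega
  · omega
  · omega
  · omega
  · omega

theorem nd_172 (T : Models.NumericalType 5)
    (hG : NTGood T)
    (hmax : ∀ j, T.m j ≤ T.m 0)
    (e_0_1 : T.picMatrix 0 1 = 1)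
    (e_1_0 : T.picMatrix 1 0 = 2)
    (cl : ∀ a b : Fin 5, a.val < 0 → 2 ≤ b.val → T.picMatrix a b = 0) :
    Goal T := by
  by_cases hc : ∀ b : Fin 5, 2 ≤ b.val → T.picMatrix 0 b = 0
  · exact nd_173 T hG hmax e_0_1 e_1_0 (nt_cl_succ T 2 0 0 rfl cl hc)
  · obtain ⟨τ, hfix, cl', z, hne⟩ := nt_wlog_step T 2 (by norm_num) 0 (by norm_num) 0 (by decide) cl hc
    apply goal_relabel T τ
    refine ex_174 (ntRelabel T τ) (hG.relabel τ) ?_ ?_ ?_ cl' z hne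
    · intro j
      show T.m (τ j) ≤ T.m (τ 0)
      rw [hfix 0 (by decide)]
      exact hmax _
    · show T.picMatrix (τ 0) (τ 1) = 1
      rw [hfix 0 (by decide), hfix 1 (by decide)]
      exact e_0_1
    · show T.picMatrix (τ 1) (τ 0) = 2
      rw [hfix 1 (by decide), hfix 0 (by decide)]
      exact e_1_0

theorem nd_225 (T : Models.NumericalType 5)
    (hG : NTGood T)
    (hmax : ∀ j, T.m j ≤ T.m 0)
    (e_0_1 : T.picMatrix 0 1 = 2)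
    (e_1_0 : T.picMatrix 1 0 = 1)
    (cl : ∀ a b : Fin 5, a.val < 2 → 2 ≤ b.val → T.picMatrix a b = 0) :
    Goal T := by
  obtain ⟨hg0, hdA, hdP, hnn, hrow, hsym, hpair⟩ := ntgood_data T (by norm_num) hG
  have hm_0 := T.m_pos 0
  have hw_0 := T.w_pos 0
  have hm_1 := T.m_pos 1
  have hw_1 := T.w_pos 1
  have hx_1 := hmax 1
  have Z_0_2 := cl 0 2 (by decide) (by decide)
  have Z_0_3 := cl 0 3 (by decide) (by decide)
  have Z_0_4 := cl 0 4 (by decide) (by decide)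
  have Z_1_2 := cl 1 2 (by decide) (by decide)
  have Z_1_3 := cl 1 3 (by decide) (by decide)
  have Z_1_4 := cl 1 4 (by decide) (by decide)
  have R_0 := hrow 0
  rw [Fin.sum_univ_five, hdP 0, e_0_1, Z_0_2, Z_0_3, Z_0_4] at R_0
  have R_1 := hrow 1
  rw [Fin.sum_univ_five, hdP 1, e_1_0, Z_1_2, Z_1_3, Z_1_4] at R_1
  have S_0_1 := hsym 0 1
  rw [e_0_1, e_1_0] at S_0_1
  exfalso
  omega

theorem ex_226 (T : Models.NumericalType 5)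
    (hG : NTGood T)
    (hmax : ∀ j, T.m j ≤ T.m 0)
    (e_0_1 : T.picMatrix 0 1 = 2)
    (e_1_0 : T.picMatrix 1 0 = 1)
    (cl : ∀ a b : Fin 5, a.val < 1 → 3 ≤ b.val → T.picMatrix a b = 0)
    (z : ∀ a : Fin 5, a.val < 1 → T.picMatrix a 2 = 0)
    (hne : T.picMatrix 1 2 ≠ 0) :
    Goal T := by
  have e_0_2 : T.picMatrix 0 2 = 0 := z 0 (by decide)
  have e_2_0 : T.picMatrix 2 0 = 0 := nt_pic_zero_symm T 0 2 e_0_2
  obtain ⟨hg0, hdA, hdP, hnn, hrow, hsym, hpair⟩ := ntgood_data T (by norm_num) hG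
  have hm_0 := T.m_pos 0
  have hw_0 := T.w_pos 0
  have hm_1 := T.m_pos 1
  have hw_1 := T.w_pos 1
  have hm_2 := T.m_pos 2
  have hw_2 := T.w_pos 2
  have hx_1 := hmax 1
  have hx_2 := hmax 2
  have Z_0_3 := cl 0 3 (by decide) (by decide)
  have Z_0_4 := cl 0 4 (by decide) (by decide)
  have N_1_3 := mul_nonneg (hnn 1 3 (by decide)) (T.m_pos 3).le
  have N_1_4 := mul_nonneg (hnn 1 4 (by decide)) (T.m_pos 4).le
  have N_2_3 := mul_nonneg (hnn 2 3 (by decide)) (T.m_pos 3).le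
  have N_2_4 := mul_nonneg (hnn 2 4 (by decide)) (T.m_pos 4).le
  have N_1_2 := mul_nonneg (hnn 1 2 (by decide)) (T.m_pos 2).le
  have N_2_1 := mul_nonneg (hnn 2 1 (by decide)) (T.m_pos 1).le
  have R_0 := hrow 0
  rw [Fin.sum_univ_five, hdP 0, e_0_1, e_0_2, Z_0_3, Z_0_4] at R_0
  have R_1 := hrow 1
  rw [Fin.sum_univ_five, hdP 1, e_1_0] at R_1
  have R_2 := hrow 2
  rw [Fin.sum_univ_five, hdP 2, e_2_0] at R_2
  have S_0_1 := hsym 0 1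
  rw [e_0_1, e_1_0] at S_0_1
  have S_0_2 := hsym 0 2
  rw [e_0_2, e_2_0] at S_0_2
  have S_1_2 := hsym 1 2
  have Q_1 := hpair 1 2 (by decide)
  generalize e_1_2 : T.picMatrix 1 2 = x_1 at *
  generalize e_2_1 : T.picMatrix 2 1 = y_1 at *
  rcases Q_1 with ⟨rfl, rfl⟩ | ⟨rfl, rfl⟩ | ⟨rfl, rfl⟩ | ⟨rfl, rfl⟩ | ⟨rfl, rfl⟩ | ⟨rfl, rfl⟩ | ⟨rfl, rfl⟩ | ⟨rfl, rfl⟩ | ⟨rfl, rfl⟩
  · exact absurd rfl hne
  · -- (1,2) = (1,1)
    exact nd_227 T hG hmax e_0_1 e_0_2 e_1_0 e_1_2 e_2_0 e_2_1 cl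
  · -- (1,2) = (1,2)
    exact nd_257 T hG hmax e_0_1 e_0_2 e_1_0 e_1_2 e_2_0 e_2_1 cl
  · -- (1,2) = (2,1)
    exact nd_262 T hG hmax e_0_1 e_0_2 e_1_0 e_1_2 e_2_0 e_2_1 cl
  · -- (1,2) = (1,3)
    omega
  · -- (1,2) = (3,1)
    omega
  · -- (1,2) = (1,4)
    omega
  · -- (1,2) = (4,1)
    omega
  · -- (1,2) = (2,2)
    omega

theorem nd_224 (T : Models.NumericalType 5)
    (hG : NTGood T)
    (hmax : ∀ j, T.m j ≤ T.m 0)
    (e_0_1 : T.picMatrix 0 1 = 2)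
    (e_1_0 : T.picMatrix 1 0 = 1)
    (cl : ∀ a b : Fin 5, a.val < 1 → 2 ≤ b.val → T.picMatrix a b = 0) :
    Goal T := by
  by_cases hc : ∀ b : Fin 5, 2 ≤ b.val → T.picMatrix 1 b = 0
  · exact nd_225 T hG hmax e_0_1 e_1_0 (nt_cl_succ T 2 1 1 rfl cl hc)
  · obtain ⟨τ, hfix, cl', z, hne⟩ := nt_wlog_step T 2 (by norm_num) 1 (by norm_num) 1 (by decide) cl hc
    apply goal_relabel T τ
    refine ex_226 (ntRelabel T τ) (hG.relabel τ) ?_ ?_ ?_ cl' z hne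
    · intro j
      show T.m (τ j) ≤ T.m (τ 0)
      rw [hfix 0 (by decide)]
      exact hmax _
    · show T.picMatrix (τ 0) (τ 1) = 2
      rw [hfix 0 (by decide), hfix 1 (by decide)]
      exact e_0_1
    · show T.picMatrix (τ 1) (τ 0) = 1
      rw [hfix 1 (by decide), hfix 0 (by decide)]
      exact e_1_0

theorem ex_267 (T : Models.NumericalType 5)
    (hG : NTGood T)
    (hmax : ∀ j, T.m j ≤ T.m 0)
    (e_0_1 : T.picMatrix 0 1 = 2)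
    (e_1_0 : T.picMatrix 1 0 = 1)
    (cl : ∀ a b : Fin 5, a.val < 0 → 3 ≤ b.val → T.picMatrix a b = 0)
    (z : ∀ a : Fin 5, a.val < 0 → T.picMatrix a 2 = 0)
    (hne : T.picMatrix 0 2 ≠ 0) :
    Goal T := by
  obtain ⟨hg0, hdA, hdP, hnn, hrow, hsym, hpair⟩ := ntgood_data T (by norm_num) hG
  have hm_0 := T.m_pos 0
  have hw_0 := T.w_pos 0
  have hm_1 := T.m_pos 1
  have hw_1 := T.w_pos 1
  have hm_2 := T.m_pos 2
  have hw_2 := T.w_pos 2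
  have hx_1 := hmax 1
  have hx_2 := hmax 2
  have N_0_3 := mul_nonneg (hnn 0 3 (by decide)) (T.m_pos 3).le
  have N_0_4 := mul_nonneg (hnn 0 4 (by decide)) (T.m_pos 4).le
  have N_1_3 := mul_nonneg (hnn 1 3 (by decide)) (T.m_pos 3).le
  have N_1_4 := mul_nonneg (hnn 1 4 (by decide)) (T.m_pos 4).le
  have N_2_3 := mul_nonneg (hnn 2 3 (by decide)) (T.m_pos 3).le
  have N_2_4 := mul_nonneg (hnn 2 4 (by decide)) (T.m_pos 4).le
  have N_0_2 := mul_nonneg (hnn 0 2 (by decide)) (T.m_pos 2).le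
  have N_2_0 := mul_nonneg (hnn 2 0 (by decide)) (T.m_pos 0).le
  have N_1_2 := mul_nonneg (hnn 1 2 (by decide)) (T.m_pos 2).le
  have N_2_1 := mul_nonneg (hnn 2 1 (by decide)) (T.m_pos 1).le
  have R_0 := hrow 0
  rw [Fin.sum_univ_five, hdP 0, e_0_1] at R_0
  have R_1 := hrow 1
  rw [Fin.sum_univ_five, hdP 1, e_1_0] at R_1
  have R_2 := hrow 2
  rw [Fin.sum_univ_five, hdP 2] at R_2
  have S_0_1 := hsym 0 1
  rw [e_0_1, e_1_0] at S_0_1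
  have S_0_2 := hsym 0 2
  have S_1_2 := hsym 1 2
  have Q_0 := hpair 0 2 (by decide)
  have Q_1 := hpair 1 2 (by decide)
  generalize e_0_2 : T.picMatrix 0 2 = x_0 at *
  generalize e_2_0 : T.picMatrix 2 0 = y_0 at *
  generalize e_1_2 : T.picMatrix 1 2 = x_1 at *
  generalize e_2_1 : T.picMatrix 2 1 = y_1 at *
  rcases Q_0 with ⟨rfl, rfl⟩ | ⟨rfl, rfl⟩ | ⟨rfl, rfl⟩ | ⟨rfl, rfl⟩ | ⟨rfl, rfl⟩ | ⟨rfl, rfl⟩ | ⟨rfl, rfl⟩ | ⟨rfl, rfl⟩ | ⟨rfl, rfl⟩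
  · exact absurd rfl hne
  · -- (0,2) = (1,1)
    rcases Q_1 with ⟨rfl, rfl⟩ | ⟨rfl, rfl⟩ | ⟨rfl, rfl⟩ | ⟨rfl, rfl⟩ | ⟨rfl, rfl⟩ | ⟨rfl, rfl⟩ | ⟨rfl, rfl⟩ | ⟨rfl, rfl⟩ | ⟨rfl, rfl⟩
    · -- (1,2) = (0,0)
      exact nd_268 T hG hmax e_0_1 e_0_2 e_1_0 e_1_2 e_2_0 e_2_1 cl
    · -- (1,2) = (1,1)
      omega
    · -- (1,2) = (1,2)
      omega
    · -- (1,2) = (2,1)
      omega
    · -- (1,2) = (1,3)
      omega
    · -- (1,2) = (3,1)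
      omega
    · -- (1,2) = (1,4)
      omega
    · -- (1,2) = (4,1)
      omega
    · -- (1,2) = (2,2)
      omega
  · -- (0,2) = (1,2)
    rcases Q_1 with ⟨rfl, rfl⟩ | ⟨rfl, rfl⟩ | ⟨rfl, rfl⟩ | ⟨rfl, rfl⟩ | ⟨rfl, rfl⟩ | ⟨rfl, rfl⟩ | ⟨rfl, rfl⟩ | ⟨rfl, rfl⟩ | ⟨rfl, rfl⟩
    · -- (1,2) = (0,0)
      exact nd_311 T hG hmax e_0_1 e_0_2 e_1_0 e_1_2 e_2_0 e_2_1 cl
    · -- (1,2) = (1,1)
      omega
    · -- (1,2) = (1,2)
      omega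
    · -- (1,2) = (2,1)
      omega
    · -- (1,2) = (1,3)
      omega
    · -- (1,2) = (3,1)
      omega
    · -- (1,2) = (1,4)
      omega
    · -- (1,2) = (4,1)
      omega
    · -- (1,2) = (2,2)
      omega
  · -- (0,2) = (2,1)
    rcases Q_1 with ⟨rfl, rfl⟩ | ⟨rfl, rfl⟩ | ⟨rfl, rfl⟩ | ⟨rfl, rfl⟩ | ⟨rfl, rfl⟩ | ⟨rfl, rfl⟩ | ⟨rfl, rfl⟩ | ⟨rfl, rfl⟩ | ⟨rfl, rfl⟩
    · -- (1,2) = (0,0)
      exact nd_318 T hG hmax e_0_1 e_0_2 e_1_0 e_1_2 e_2_0 e_2_1 cl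
    · -- (1,2) = (1,1)
      omega
    · -- (1,2) = (1,2)
      omega
    · -- (1,2) = (2,1)
      omega
    · -- (1,2) = (1,3)
      omega
    · -- (1,2) = (3,1)
      omega
    · -- (1,2) = (1,4)
      omega
    · -- (1,2) = (4,1)
      omega
    · -- (1,2) = (2,2)
      omega
  · omega
  · omega
  · omega
  · omega
  · omega

theorem nd_223 (T : Models.NumericalType 5)
    (hG : NTGood T)
    (hmax : ∀ j, T.m j ≤ T.m 0)
    (e_0_1 : T.picMatrix 0 1 = 2)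
    (e_1_0 : T.picMatrix 1 0 = 1)
    (cl : ∀ a b : Fin 5, a.val < 0 → 2 ≤ b.val → T.picMatrix a b = 0) :
    Goal T := by
  by_cases hc : ∀ b : Fin 5, 2 ≤ b.val → T.picMatrix 0 b = 0
  · exact nd_224 T hG hmax e_0_1 e_1_0 (nt_cl_succ T 2 0 0 rfl cl hc)
  · obtain ⟨τ, hfix, cl', z, hne⟩ := nt_wlog_step T 2 (by norm_num) 0 (by norm_num) 0 (by decide) cl hc
    apply goal_relabel T τ
    refine ex_267 (ntRelabel T τ) (hG.relabel τ) ?_ ?_ ?_ cl' z hne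
    · intro j
      show T.m (τ j) ≤ T.m (τ 0)
      rw [hfix 0 (by decide)]
      exact hmax _
    · show T.picMatrix (τ 0) (τ 1) = 2
      rw [hfix 0 (by decide), hfix 1 (by decide)]
      exact e_0_1
    · show T.picMatrix (τ 1) (τ 0) = 1
      rw [hfix 1 (by decide), hfix 0 (by decide)]
      exact e_1_0

theorem nd_327 (T : Models.NumericalType 5)
    (hG : NTGood T)
    (hmax : ∀ j, T.m j ≤ T.m 0)
    (e_0_1 : T.picMatrix 0 1 = 3)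
    (e_1_0 : T.picMatrix 1 0 = 1)
    (cl : ∀ a b : Fin 5, a.val < 2 → 2 ≤ b.val → T.picMatrix a b = 0) :
    Goal T := by
  obtain ⟨hg0, hdA, hdP, hnn, hrow, hsym, hpair⟩ := ntgood_data T (by norm_num) hG
  have hm_0 := T.m_pos 0
  have hw_0 := T.w_pos 0
  have hm_1 := T.m_pos 1
  have hw_1 := T.w_pos 1
  have hx_1 := hmax 1
  have Z_0_2 := cl 0 2 (by decide) (by decide)
  have Z_0_3 := cl 0 3 (by decide) (by decide)
  have Z_0_4 := cl 0 4 (by decide) (by decide)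
  have Z_1_2 := cl 1 2 (by decide) (by decide)
  have Z_1_3 := cl 1 3 (by decide) (by decide)
  have Z_1_4 := cl 1 4 (by decide) (by decide)
  have R_0 := hrow 0
  rw [Fin.sum_univ_five, hdP 0, e_0_1, Z_0_2, Z_0_3, Z_0_4] at R_0
  have R_1 := hrow 1
  rw [Fin.sum_univ_five, hdP 1, e_1_0, Z_1_2, Z_1_3, Z_1_4] at R_1
  have S_0_1 := hsym 0 1
  rw [e_0_1, e_1_0] at S_0_1
  exfalso
  omega

theorem ex_328 (T : Models.NumericalType 5)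
    (hG : NTGood T)
    (hmax : ∀ j, T.m j ≤ T.m 0)
    (e_0_1 : T.picMatrix 0 1 = 3)
    (e_1_0 : T.picMatrix 1 0 = 1)
    (cl : ∀ a b : Fin 5, a.val < 1 → 3 ≤ b.val → T.picMatrix a b = 0)
    (z : ∀ a : Fin 5, a.val < 1 → T.picMatrix a 2 = 0)
    (hne : T.picMatrix 1 2 ≠ 0) :
    Goal T := by
  have e_0_2 : T.picMatrix 0 2 = 0 := z 0 (by decide)
  have e_2_0 : T.picMatrix 2 0 = 0 := nt_pic_zero_symm T 0 2 e_0_2
  obtain ⟨hg0, hdA, hdP, hnn, hrow, hsym, hpair⟩ := ntgood_data T (by norm_num) hG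
  have hm_0 := T.m_pos 0
  have hw_0 := T.w_pos 0
  have hm_1 := T.m_pos 1
  have hw_1 := T.w_pos 1
  have hm_2 := T.m_pos 2
  have hw_2 := T.w_pos 2
  have hx_1 := hmax 1
  have hx_2 := hmax 2
  have Z_0_3 := cl 0 3 (by decide) (by decide)
  have Z_0_4 := cl 0 4 (by decide) (by decide)
  have N_1_3 := mul_nonneg (hnn 1 3 (by decide)) (T.m_pos 3).le
  have N_1_4 := mul_nonneg (hnn 1 4 (by decide)) (T.m_pos 4).le
  have N_2_3 := mul_nonneg (hnn 2 3 (by decide)) (T.m_pos 3).le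
  have N_2_4 := mul_nonneg (hnn 2 4 (by decide)) (T.m_pos 4).le
  have N_1_2 := mul_nonneg (hnn 1 2 (by decide)) (T.m_pos 2).le
  have N_2_1 := mul_nonneg (hnn 2 1 (by decide)) (T.m_pos 1).le
  have R_0 := hrow 0
  rw [Fin.sum_univ_five, hdP 0, e_0_1, e_0_2, Z_0_3, Z_0_4] at R_0
  have R_1 := hrow 1
  rw [Fin.sum_univ_five, hdP 1, e_1_0] at R_1
  have R_2 := hrow 2
  rw [Fin.sum_univ_five, hdP 2, e_2_0] at R_2
  have S_0_1 := hsym 0 1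
  rw [e_0_1, e_1_0] at S_0_1
  have S_0_2 := hsym 0 2
  rw [e_0_2, e_2_0] at S_0_2
  have S_1_2 := hsym 1 2
  have Q_1 := hpair 1 2 (by decide)
  generalize e_1_2 : T.picMatrix 1 2 = x_1 at *
  generalize e_2_1 : T.picMatrix 2 1 = y_1 at *
  rcases Q_1 with ⟨rfl, rfl⟩ | ⟨rfl, rfl⟩ | ⟨rfl, rfl⟩ | ⟨rfl, rfl⟩ | ⟨rfl, rfl⟩ | ⟨rfl, rfl⟩ | ⟨rfl, rfl⟩ | ⟨rfl, rfl⟩ | ⟨rfl, rfl⟩
  · exact absurd rfl hne
  · -- (1,2) = (1,1)
    exact nd_329 T hG hmax e_0_1 e_0_2 e_1_0 e_1_2 e_2_0 e_2_1 cl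
  · -- (1,2) = (1,2)
    omega
  · -- (1,2) = (2,1)
    omega
  · -- (1,2) = (1,3)
    omega
  · -- (1,2) = (3,1)
    omega
  · -- (1,2) = (1,4)
    omega
  · -- (1,2) = (4,1)
    omega
  · -- (1,2) = (2,2)
    omega

theorem nd_326 (T : Models.NumericalType 5)
    (hG : NTGood T)
    (hmax : ∀ j, T.m j ≤ T.m 0)
    (e_0_1 : T.picMatrix 0 1 = 3)
    (e_1_0 : T.picMatrix 1 0 = 1)
    (cl : ∀ a b : Fin 5, a.val < 1 → 2 ≤ b.val → T.picMatrix a b = 0) :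
    Goal T := by
  by_cases hc : ∀ b : Fin 5, 2 ≤ b.val → T.picMatrix 1 b = 0
  · exact nd_327 T hG hmax e_0_1 e_1_0 (nt_cl_succ T 2 1 1 rfl cl hc)
  · obtain ⟨τ, hfix, cl', z, hne⟩ := nt_wlog_step T 2 (by norm_num) 1 (by norm_num) 1 (by decide) cl hc
    apply goal_relabel T τ
    refine ex_328 (ntRelabel T τ) (hG.relabel τ) ?_ ?_ ?_ cl' z hne
    · intro j
      show T.m (τ j) ≤ T.m (τ 0)
      rw [hfix 0 (by decide)]
      exact hmax _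
    · show T.picMatrix (τ 0) (τ 1) = 3
      rw [hfix 0 (by decide), hfix 1 (by decide)]
      exact e_0_1
    · show T.picMatrix (τ 1) (τ 0) = 1
      rw [hfix 1 (by decide), hfix 0 (by decide)]
      exact e_1_0

theorem ex_334 (T : Models.NumericalType 5)
    (hG : NTGood T)
    (hmax : ∀ j, T.m j ≤ T.m 0)
    (e_0_1 : T.picMatrix 0 1 = 3)
    (e_1_0 : T.picMatrix 1 0 = 1)
    (cl : ∀ a b : Fin 5, a.val < 0 → 3 ≤ b.val → T.picMatrix a b = 0)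
    (z : ∀ a : Fin 5, a.val < 0 → T.picMatrix a 2 = 0)
    (hne : T.picMatrix 0 2 ≠ 0) :
    Goal T := by
  obtain ⟨hg0, hdA, hdP, hnn, hrow, hsym, hpair⟩ := ntgood_data T (by norm_num) hG
  have hm_0 := T.m_pos 0
  have hw_0 := T.w_pos 0
  have hm_1 := T.m_pos 1
  have hw_1 := T.w_pos 1
  have hm_2 := T.m_pos 2
  have hw_2 := T.w_pos 2
  have hx_1 := hmax 1
  have hx_2 := hmax 2
  have N_0_3 := mul_nonneg (hnn 0 3 (by decide)) (T.m_pos 3).le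
  have N_0_4 := mul_nonneg (hnn 0 4 (by decide)) (T.m_pos 4).le
  have N_1_3 := mul_nonneg (hnn 1 3 (by decide)) (T.m_pos 3).le
  have N_1_4 := mul_nonneg (hnn 1 4 (by decide)) (T.m_pos 4).le
  have N_2_3 := mul_nonneg (hnn 2 3 (by decide)) (T.m_pos 3).le
  have N_2_4 := mul_nonneg (hnn 2 4 (by decide)) (T.m_pos 4).le
  have N_0_2 := mul_nonneg (hnn 0 2 (by decide)) (T.m_pos 2).le
  have N_2_0 := mul_nonneg (hnn 2 0 (by decide)) (T.m_pos 0).le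
  have N_1_2 := mul_nonneg (hnn 1 2 (by decide)) (T.m_pos 2).le
  have N_2_1 := mul_nonneg (hnn 2 1 (by decide)) (T.m_pos 1).le
  have R_0 := hrow 0
  rw [Fin.sum_univ_five, hdP 0, e_0_1] at R_0
  have R_1 := hrow 1
  rw [Fin.sum_univ_five, hdP 1, e_1_0] at R_1
  have R_2 := hrow 2
  rw [Fin.sum_univ_five, hdP 2] at R_2
  have S_0_1 := hsym 0 1
  rw [e_0_1, e_1_0] at S_0_1
  have S_0_2 := hsym 0 2
  have S_1_2 := hsym 1 2
  have Q_0 := hpair 0 2 (by decide)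
  have Q_1 := hpair 1 2 (by decide)
  generalize e_0_2 : T.picMatrix 0 2 = x_0 at *
  generalize e_2_0 : T.picMatrix 2 0 = y_0 at *
  generalize e_1_2 : T.picMatrix 1 2 = x_1 at *
  generalize e_2_1 : T.picMatrix 2 1 = y_1 at *
  rcases Q_0 with ⟨rfl, rfl⟩ | ⟨rfl, rfl⟩ | ⟨rfl, rfl⟩ | ⟨rfl, rfl⟩ | ⟨rfl, rfl⟩ | ⟨rfl, rfl⟩ | ⟨rfl, rfl⟩ | ⟨rfl, rfl⟩ | ⟨rfl, rfl⟩
  · exact absurd rfl hne
  · -- (0,2) = (1,1)
    rcases Q_1 with ⟨rfl, rfl⟩ | ⟨rfl, rfl⟩ | ⟨rfl, rfl⟩ | ⟨rfl, rfl⟩ | ⟨rfl, rfl⟩ | ⟨rfl, rfl⟩ | ⟨rfl, rfl⟩ | ⟨rfl, rfl⟩ | ⟨rfl, rfl⟩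
    · -- (1,2) = (0,0)
      exact nd_335 T hG hmax e_0_1 e_0_2 e_1_0 e_1_2 e_2_0 e_2_1 cl
    · -- (1,2) = (1,1)
      omega
    · -- (1,2) = (1,2)
      omega
    · -- (1,2) = (2,1)
      omega
    · -- (1,2) = (1,3)
      omega
    · -- (1,2) = (3,1)
      omega
    · -- (1,2) = (1,4)
      omega
    · -- (1,2) = (4,1)
      omega
    · -- (1,2) = (2,2)
      omega
  · omega
  · omega
  · omega
  · omega
  · omega
  · omega
  · omega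

theorem nd_325 (T : Models.NumericalType 5)
    (hG : NTGood T)
    (hmax : ∀ j, T.m j ≤ T.m 0)
    (e_0_1 : T.picMatrix 0 1 = 3)
    (e_1_0 : T.picMatrix 1 0 = 1)
    (cl : ∀ a b : Fin 5, a.val < 0 → 2 ≤ b.val → T.picMatrix a b = 0) :
    Goal T := by
  by_cases hc : ∀ b : Fin 5, 2 ≤ b.val → T.picMatrix 0 b = 0
  · exact nd_326 T hG hmax e_0_1 e_1_0 (nt_cl_succ T 2 0 0 rfl cl hc)
  · obtain ⟨τ, hfix, cl', z, hne⟩ := nt_wlog_step T 2 (by norm_num) 0 (by norm_num) 0 (by decide) cl hc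
    apply goal_relabel T τ
    refine ex_334 (ntRelabel T τ) (hG.relabel τ) ?_ ?_ ?_ cl' z hne
    · intro j
      show T.m (τ j) ≤ T.m (τ 0)
      rw [hfix 0 (by decide)]
      exact hmax _
    · show T.picMatrix (τ 0) (τ 1) = 3
      rw [hfix 0 (by decide), hfix 1 (by decide)]
      exact e_0_1
    · show T.picMatrix (τ 1) (τ 0) = 1
      rw [hfix 1 (by decide), hfix 0 (by decide)]
      exact e_1_0

theorem nd_344 (T : Models.NumericalType 5)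
    (hG : NTGood T)
    (hmax : ∀ j, T.m j ≤ T.m 0)
    (e_0_1 : T.picMatrix 0 1 = 4)
    (e_1_0 : T.picMatrix 1 0 = 1)
    (cl : ∀ a b : Fin 5, a.val < 2 → 2 ≤ b.val → T.picMatrix a b = 0) :
    Goal T := by
  exact (nt_closed_false T 2 (by norm_num) (by norm_num) cl).elim

theorem ex_345 (T : Models.NumericalType 5)
    (hG : NTGood T)
    (hmax : ∀ j, T.m j ≤ T.m 0)
    (e_0_1 : T.picMatrix 0 1 = 4)
    (e_1_0 : T.picMatrix 1 0 = 1)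
    (cl : ∀ a b : Fin 5, a.val < 1 → 3 ≤ b.val → T.picMatrix a b = 0)
    (z : ∀ a : Fin 5, a.val < 1 → T.picMatrix a 2 = 0)
    (hne : T.picMatrix 1 2 ≠ 0) :
    Goal T := by
  have e_0_2 : T.picMatrix 0 2 = 0 := z 0 (by decide)
  have e_2_0 : T.picMatrix 2 0 = 0 := nt_pic_zero_symm T 0 2 e_0_2
  obtain ⟨hg0, hdA, hdP, hnn, hrow, hsym, hpair⟩ := ntgood_data T (by norm_num) hG
  have hm_0 := T.m_pos 0
  have hw_0 := T.w_pos 0
  have hm_1 := T.m_pos 1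
  have hw_1 := T.w_pos 1
  have hm_2 := T.m_pos 2
  have hw_2 := T.w_pos 2
  have hx_1 := hmax 1
  have hx_2 := hmax 2
  have Z_0_3 := cl 0 3 (by decide) (by decide)
  have Z_0_4 := cl 0 4 (by decide) (by decide)
  have N_1_3 := mul_nonneg (hnn 1 3 (by decide)) (T.m_pos 3).le
  have N_1_4 := mul_nonneg (hnn 1 4 (by decide)) (T.m_pos 4).le
  have N_2_3 := mul_nonneg (hnn 2 3 (by decide)) (T.m_pos 3).le
  have N_2_4 := mul_nonneg (hnn 2 4 (by decide)) (T.m_pos 4).le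
  have N_1_2 := mul_nonneg (hnn 1 2 (by decide)) (T.m_pos 2).le
  have N_2_1 := mul_nonneg (hnn 2 1 (by decide)) (T.m_pos 1).le
  have R_0 := hrow 0
  rw [Fin.sum_univ_five, hdP 0, e_0_1, e_0_2, Z_0_3, Z_0_4] at R_0
  have R_1 := hrow 1
  rw [Fin.sum_univ_five, hdP 1, e_1_0] at R_1
  have R_2 := hrow 2
  rw [Fin.sum_univ_five, hdP 2, e_2_0] at R_2
  have S_0_1 := hsym 0 1
  rw [e_0_1, e_1_0] at S_0_1
  have S_0_2 := hsym 0 2
  rw [e_0_2, e_2_0] at S_0_2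
  have S_1_2 := hsym 1 2
  have Q_1 := hpair 1 2 (by decide)
  generalize e_1_2 : T.picMatrix 1 2 = x_1 at *
  generalize e_2_1 : T.picMatrix 2 1 = y_1 at *
  rcases Q_1 with ⟨rfl, rfl⟩ | ⟨rfl, rfl⟩ | ⟨rfl, rfl⟩ | ⟨rfl, rfl⟩ | ⟨rfl, rfl⟩ | ⟨rfl, rfl⟩ | ⟨rfl, rfl⟩ | ⟨rfl, rfl⟩ | ⟨rfl, rfl⟩
  · exact absurd rfl hne
  · -- (1,2) = (1,1)
    omega
  · -- (1,2) = (1,2)
    omega
  · -- (1,2) = (2,1)
    omega
  · -- (1,2) = (1,3)
    omega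
  · -- (1,2) = (3,1)
    omega
  · -- (1,2) = (1,4)
    omega
  · -- (1,2) = (4,1)
    omega
  · -- (1,2) = (2,2)
    omega

theorem nd_343 (T : Models.NumericalType 5)
    (hG : NTGood T)
    (hmax : ∀ j, T.m j ≤ T.m 0)
    (e_0_1 : T.picMatrix 0 1 = 4)
    (e_1_0 : T.picMatrix 1 0 = 1)
    (cl : ∀ a b : Fin 5, a.val < 1 → 2 ≤ b.val → T.picMatrix a b = 0) :
    Goal T := by
  by_cases hc : ∀ b : Fin 5, 2 ≤ b.val → T.picMatrix 1 b = 0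
  · exact nd_344 T hG hmax e_0_1 e_1_0 (nt_cl_succ T 2 1 1 rfl cl hc)
  · obtain ⟨τ, hfix, cl', z, hne⟩ := nt_wlog_step T 2 (by norm_num) 1 (by norm_num) 1 (by decide) cl hc
    apply goal_relabel T τ
    refine ex_345 (ntRelabel T τ) (hG.relabel τ) ?_ ?_ ?_ cl' z hne
    · intro j
      show T.m (τ j) ≤ T.m (τ 0)
      rw [hfix 0 (by decide)]
      exact hmax _
    · show T.picMatrix (τ 0) (τ 1) = 4
      rw [hfix 0 (by decide), hfix 1 (by decide)]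
      exact e_0_1
    · show T.picMatrix (τ 1) (τ 0) = 1
      rw [hfix 1 (by decide), hfix 0 (by decide)]
      exact e_1_0

theorem ex_346 (T : Models.NumericalType 5)
    (hG : NTGood T)
    (hmax : ∀ j, T.m j ≤ T.m 0)
    (e_0_1 : T.picMatrix 0 1 = 4)
    (e_1_0 : T.picMatrix 1 0 = 1)
    (cl : ∀ a b : Fin 5, a.val < 0 → 3 ≤ b.val → T.picMatrix a b = 0)
    (z : ∀ a : Fin 5, a.val < 0 → T.picMatrix a 2 = 0)
    (hne : T.picMatrix 0 2 ≠ 0) :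
    Goal T := by
  obtain ⟨hg0, hdA, hdP, hnn, hrow, hsym, hpair⟩ := ntgood_data T (by norm_num) hG
  have hm_0 := T.m_pos 0
  have hw_0 := T.w_pos 0
  have hm_1 := T.m_pos 1
  have hw_1 := T.w_pos 1
  have hm_2 := T.m_pos 2
  have hw_2 := T.w_pos 2
  have hx_1 := hmax 1
  have hx_2 := hmax 2
  have N_0_3 := mul_nonneg (hnn 0 3 (by decide)) (T.m_pos 3).le
  have N_0_4 := mul_nonneg (hnn 0 4 (by decide)) (T.m_pos 4).le
  have N_1_3 := mul_nonneg (hnn 1 3 (by decide)) (T.m_pos 3).le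
  have N_1_4 := mul_nonneg (hnn 1 4 (by decide)) (T.m_pos 4).le
  have N_2_3 := mul_nonneg (hnn 2 3 (by decide)) (T.m_pos 3).le
  have N_2_4 := mul_nonneg (hnn 2 4 (by decide)) (T.m_pos 4).le
  have N_0_2 := mul_nonneg (hnn 0 2 (by decide)) (T.m_pos 2).le
  have N_2_0 := mul_nonneg (hnn 2 0 (by decide)) (T.m_pos 0).le
  have N_1_2 := mul_nonneg (hnn 1 2 (by decide)) (T.m_pos 2).le
  have N_2_1 := mul_nonneg (hnn 2 1 (by decide)) (T.m_pos 1).le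
  have R_0 := hrow 0
  rw [Fin.sum_univ_five, hdP 0, e_0_1] at R_0
  have R_1 := hrow 1
  rw [Fin.sum_univ_five, hdP 1, e_1_0] at R_1
  have R_2 := hrow 2
  rw [Fin.sum_univ_five, hdP 2] at R_2
  have S_0_1 := hsym 0 1
  rw [e_0_1, e_1_0] at S_0_1
  have S_0_2 := hsym 0 2
  have S_1_2 := hsym 1 2
  have Q_0 := hpair 0 2 (by decide)
  have Q_1 := hpair 1 2 (by decide)
  generalize e_0_2 : T.picMatrix 0 2 = x_0 at *
  generalize e_2_0 : T.picMatrix 2 0 = y_0 at *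
  generalize e_1_2 : T.picMatrix 1 2 = x_1 at *
  generalize e_2_1 : T.picMatrix 2 1 = y_1 at *
  rcases Q_0 with ⟨rfl, rfl⟩ | ⟨rfl, rfl⟩ | ⟨rfl, rfl⟩ | ⟨rfl, rfl⟩ | ⟨rfl, rfl⟩ | ⟨rfl, rfl⟩ | ⟨rfl, rfl⟩ | ⟨rfl, rfl⟩ | ⟨rfl, rfl⟩
  · exact absurd rfl hne
  · omega
  · omega
  · omega
  · omega
  · omega
  · omega
  · omega
  · omega

theorem nd_342 (T : Models.NumericalType 5)
    (hG : NTGood T)
    (hmax : ∀ j, T.m j ≤ T.m 0)
    (e_0_1 : T.picMatrix 0 1 = 4)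
    (e_1_0 : T.picMatrix 1 0 = 1)
    (cl : ∀ a b : Fin 5, a.val < 0 → 2 ≤ b.val → T.picMatrix a b = 0) :
    Goal T := by
  by_cases hc : ∀ b : Fin 5, 2 ≤ b.val → T.picMatrix 0 b = 0
  · exact nd_343 T hG hmax e_0_1 e_1_0 (nt_cl_succ T 2 0 0 rfl cl hc)
  · obtain ⟨τ, hfix, cl', z, hne⟩ := nt_wlog_step T 2 (by norm_num) 0 (by norm_num) 0 (by decide) cl hc
    apply goal_relabel T τ
    refine ex_346 (ntRelabel T τ) (hG.relabel τ) ?_ ?_ ?_ cl' z hne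
    · intro j
      show T.m (τ j) ≤ T.m (τ 0)
      rw [hfix 0 (by decide)]
      exact hmax _
    · show T.picMatrix (τ 0) (τ 1) = 4
      rw [hfix 0 (by decide), hfix 1 (by decide)]
      exact e_0_1
    · show T.picMatrix (τ 1) (τ 0) = 1
      rw [hfix 1 (by decide), hfix 0 (by decide)]
      exact e_1_0

theorem nd_349 (T : Models.NumericalType 5)
    (hG : NTGood T)
    (hmax : ∀ j, T.m j ≤ T.m 0)
    (e_0_1 : T.picMatrix 0 1 = 2)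
    (e_1_0 : T.picMatrix 1 0 = 2)
    (cl : ∀ a b : Fin 5, a.val < 2 → 2 ≤ b.val → T.picMatrix a b = 0) :
    Goal T := by
  exact (nt_closed_false T 2 (by norm_num) (by norm_num) cl).elim

theorem ex_350 (T : Models.NumericalType 5)
    (hG : NTGood T)
    (hmax : ∀ j, T.m j ≤ T.m 0)
    (e_0_1 : T.picMatrix 0 1 = 2)
    (e_1_0 : T.picMatrix 1 0 = 2)
    (cl : ∀ a b : Fin 5, a.val < 1 → 3 ≤ b.val → T.picMatrix a b = 0)
    (z : ∀ a : Fin 5, a.val < 1 → T.picMatrix a 2 = 0)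
    (hne : T.picMatrix 1 2 ≠ 0) :
    Goal T := by
  have e_0_2 : T.picMatrix 0 2 = 0 := z 0 (by decide)
  have e_2_0 : T.picMatrix 2 0 = 0 := nt_pic_zero_symm T 0 2 e_0_2
  obtain ⟨hg0, hdA, hdP, hnn, hrow, hsym, hpair⟩ := ntgood_data T (by norm_num) hG
  have hm_0 := T.m_pos 0
  have hw_0 := T.w_pos 0
  have hm_1 := T.m_pos 1
  have hw_1 := T.w_pos 1
  have hm_2 := T.m_pos 2
  have hw_2 := T.w_pos 2
  have hx_1 := hmax 1
  have hx_2 := hmax 2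
  have Z_0_3 := cl 0 3 (by decide) (by decide)
  have Z_0_4 := cl 0 4 (by decide) (by decide)
  have N_1_3 := mul_nonneg (hnn 1 3 (by decide)) (T.m_pos 3).le
  have N_1_4 := mul_nonneg (hnn 1 4 (by decide)) (T.m_pos 4).le
  have N_2_3 := mul_nonneg (hnn 2 3 (by decide)) (T.m_pos 3).le
  have N_2_4 := mul_nonneg (hnn 2 4 (by decide)) (T.m_pos 4).le
  have N_1_2 := mul_nonneg (hnn 1 2 (by decide)) (T.m_pos 2).le
  have N_2_1 := mul_nonneg (hnn 2 1 (by decide)) (T.m_pos 1).le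
  have R_0 := hrow 0
  rw [Fin.sum_univ_five, hdP 0, e_0_1, e_0_2, Z_0_3, Z_0_4] at R_0
  have R_1 := hrow 1
  rw [Fin.sum_univ_five, hdP 1, e_1_0] at R_1
  have R_2 := hrow 2
  rw [Fin.sum_univ_five, hdP 2, e_2_0] at R_2
  have S_0_1 := hsym 0 1
  rw [e_0_1, e_1_0] at S_0_1
  have S_0_2 := hsym 0 2
  rw [e_0_2, e_2_0] at S_0_2
  have S_1_2 := hsym 1 2
  have Q_1 := hpair 1 2 (by decide)
  generalize e_1_2 : T.picMatrix 1 2 = x_1 at *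
  generalize e_2_1 : T.picMatrix 2 1 = y_1 at *
  rcases Q_1 with ⟨rfl, rfl⟩ | ⟨rfl, rfl⟩ | ⟨rfl, rfl⟩ | ⟨rfl, rfl⟩ | ⟨rfl, rfl⟩ | ⟨rfl, rfl⟩ | ⟨rfl, rfl⟩ | ⟨rfl, rfl⟩ | ⟨rfl, rfl⟩
  · exact absurd rfl hne
  · -- (1,2) = (1,1)
    omega
  · -- (1,2) = (1,2)
    omega
  · -- (1,2) = (2,1)
    omega
  · -- (1,2) = (1,3)
    omega
  · -- (1,2) = (3,1)
    omega
  · -- (1,2) = (1,4)
    omega
  · -- (1,2) = (4,1)
    omega
  · -- (1,2) = (2,2)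
    omega

theorem nd_348 (T : Models.NumericalType 5)
    (hG : NTGood T)
    (hmax : ∀ j, T.m j ≤ T.m 0)
    (e_0_1 : T.picMatrix 0 1 = 2)
    (e_1_0 : T.picMatrix 1 0 = 2)
    (cl : ∀ a b : Fin 5, a.val < 1 → 2 ≤ b.val → T.picMatrix a b = 0) :
    Goal T := by
  by_cases hc : ∀ b : Fin 5, 2 ≤ b.val → T.picMatrix 1 b = 0
  · exact nd_349 T hG hmax e_0_1 e_1_0 (nt_cl_succ T 2 1 1 rfl cl hc)
  · obtain ⟨τ, hfix, cl', z, hne⟩ := nt_wlog_step T 2 (by norm_num) 1 (by norm_num) 1 (by decide) cl hc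
    apply goal_relabel T τ
    refine ex_350 (ntRelabel T τ) (hG.relabel τ) ?_ ?_ ?_ cl' z hne
    · intro j
      show T.m (τ j) ≤ T.m (τ 0)
      rw [hfix 0 (by decide)]
      exact hmax _
    · show T.picMatrix (τ 0) (τ 1) = 2
      rw [hfix 0 (by decide), hfix 1 (by decide)]
      exact e_0_1
    · show T.picMatrix (τ 1) (τ 0) = 2
      rw [hfix 1 (by decide), hfix 0 (by decide)]
      exact e_1_0

theorem ex_351 (T : Models.NumericalType 5)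
    (hG : NTGood T)
    (hmax : ∀ j, T.m j ≤ T.m 0)
    (e_0_1 : T.picMatrix 0 1 = 2)
    (e_1_0 : T.picMatrix 1 0 = 2)
    (cl : ∀ a b : Fin 5, a.val < 0 → 3 ≤ b.val → T.picMatrix a b = 0)
    (z : ∀ a : Fin 5, a.val < 0 → T.picMatrix a 2 = 0)
    (hne : T.picMatrix 0 2 ≠ 0) :
    Goal T := by
  obtain ⟨hg0, hdA, hdP, hnn, hrow, hsym, hpair⟩ := ntgood_data T (by norm_num) hG
  have hm_0 := T.m_pos 0
  have hw_0 := T.w_pos 0
  have hm_1 := T.m_pos 1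
  have hw_1 := T.w_pos 1
  have hm_2 := T.m_pos 2
  have hw_2 := T.w_pos 2
  have hx_1 := hmax 1
  have hx_2 := hmax 2
  have N_0_3 := mul_nonneg (hnn 0 3 (by decide)) (T.m_pos 3).le
  have N_0_4 := mul_nonneg (hnn 0 4 (by decide)) (T.m_pos 4).le
  have N_1_3 := mul_nonneg (hnn 1 3 (by decide)) (T.m_pos 3).le
  have N_1_4 := mul_nonneg (hnn 1 4 (by decide)) (T.m_pos 4).le
  have N_2_3 := mul_nonneg (hnn 2 3 (by decide)) (T.m_pos 3).le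
  have N_2_4 := mul_nonneg (hnn 2 4 (by decide)) (T.m_pos 4).le
  have N_0_2 := mul_nonneg (hnn 0 2 (by decide)) (T.m_pos 2).le
  have N_2_0 := mul_nonneg (hnn 2 0 (by decide)) (T.m_pos 0).le
  have N_1_2 := mul_nonneg (hnn 1 2 (by decide)) (T.m_pos 2).le
  have N_2_1 := mul_nonneg (hnn 2 1 (by decide)) (T.m_pos 1).le
  have R_0 := hrow 0
  rw [Fin.sum_univ_five, hdP 0, e_0_1] at R_0
  have R_1 := hrow 1
  rw [Fin.sum_univ_five, hdP 1, e_1_0] at R_1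
  have R_2 := hrow 2
  rw [Fin.sum_univ_five, hdP 2] at R_2
  have S_0_1 := hsym 0 1
  rw [e_0_1, e_1_0] at S_0_1
  have S_0_2 := hsym 0 2
  have S_1_2 := hsym 1 2
  have Q_0 := hpair 0 2 (by decide)
  have Q_1 := hpair 1 2 (by decide)
  generalize e_0_2 : T.picMatrix 0 2 = x_0 at *
  generalize e_2_0 : T.picMatrix 2 0 = y_0 at *
  generalize e_1_2 : T.picMatrix 1 2 = x_1 at *
  generalize e_2_1 : T.picMatrix 2 1 = y_1 at *
  rcases Q_0 with ⟨rfl, rfl⟩ | ⟨rfl, rfl⟩ | ⟨rfl, rfl⟩ | ⟨rfl, rfl⟩ | ⟨rfl, rfl⟩ | ⟨rfl, rfl⟩ | ⟨rfl, rfl⟩ | ⟨rfl, rfl⟩ | ⟨rfl, rfl⟩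
  · exact absurd rfl hne
  · omega
  · omega
  · omega
  · omega
  · omega
  · omega
  · omega
  · omega

theorem nd_347 (T : Models.NumericalType 5)
    (hG : NTGood T)
    (hmax : ∀ j, T.m j ≤ T.m 0)
    (e_0_1 : T.picMatrix 0 1 = 2)
    (e_1_0 : T.picMatrix 1 0 = 2)
    (cl : ∀ a b : Fin 5, a.val < 0 → 2 ≤ b.val → T.picMatrix a b = 0) :
    Goal T := by
  by_cases hc : ∀ b : Fin 5, 2 ≤ b.val → T.picMatrix 0 b = 0
  · exact nd_348 T hG hmax e_0_1 e_1_0 (nt_cl_succ T 2 0 0 rfl cl hc)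
  · obtain ⟨τ, hfix, cl', z, hne⟩ := nt_wlog_step T 2 (by norm_num) 0 (by norm_num) 0 (by decide) cl hc
    apply goal_relabel T τ
    refine ex_351 (ntRelabel T τ) (hG.relabel τ) ?_ ?_ ?_ cl' z hne
    · intro j
      show T.m (τ j) ≤ T.m (τ 0)
      rw [hfix 0 (by decide)]
      exact hmax _
    · show T.picMatrix (τ 0) (τ 1) = 2
      rw [hfix 0 (by decide), hfix 1 (by decide)]
      exact e_0_1
    · show T.picMatrix (τ 1) (τ 0) = 2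
      rw [hfix 1 (by decide), hfix 0 (by decide)]
      exact e_1_0

theorem ex_3 (T : Models.NumericalType 5)
    (hG : NTGood T)
    (hmax : ∀ j, T.m j ≤ T.m 0)
    (cl : ∀ a b : Fin 5, a.val < 0 → 2 ≤ b.val → T.picMatrix a b = 0)
    (z : ∀ a : Fin 5, a.val < 0 → T.picMatrix a 1 = 0)
    (hne : T.picMatrix 0 1 ≠ 0) :
    Goal T := by
  obtain ⟨hg0, hdA, hdP, hnn, hrow, hsym, hpair⟩ := ntgood_data T (by norm_num) hG
  have hm_0 := T.m_pos 0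
  have hw_0 := T.w_pos 0
  have hm_1 := T.m_pos 1
  have hw_1 := T.w_pos 1
  have hx_1 := hmax 1
  have N_0_2 := mul_nonneg (hnn 0 2 (by decide)) (T.m_pos 2).le
  have N_0_3 := mul_nonneg (hnn 0 3 (by decide)) (T.m_pos 3).le
  have N_0_4 := mul_nonneg (hnn 0 4 (by decide)) (T.m_pos 4).le
  have N_1_2 := mul_nonneg (hnn 1 2 (by decide)) (T.m_pos 2).le
  have N_1_3 := mul_nonneg (hnn 1 3 (by decide)) (T.m_pos 3).le
  have N_1_4 := mul_nonneg (hnn 1 4 (by decide)) (T.m_pos 4).le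
  have N_0_1 := mul_nonneg (hnn 0 1 (by decide)) (T.m_pos 1).le
  have N_1_0 := mul_nonneg (hnn 1 0 (by decide)) (T.m_pos 0).le
  have R_0 := hrow 0
  rw [Fin.sum_univ_five, hdP 0] at R_0
  have R_1 := hrow 1
  rw [Fin.sum_univ_five, hdP 1] at R_1
  have S_0_1 := hsym 0 1
  have Q_0 := hpair 0 1 (by decide)
  generalize e_0_1 : T.picMatrix 0 1 = x_0 at *
  generalize e_1_0 : T.picMatrix 1 0 = y_0 at *
  rcases Q_0 with ⟨rfl, rfl⟩ | ⟨rfl, rfl⟩ | ⟨rfl, rfl⟩ | ⟨rfl, rfl⟩ | ⟨rfl, rfl⟩ | ⟨rfl, rfl⟩ | ⟨rfl, rfl⟩ | ⟨rfl, rfl⟩ | ⟨rfl, rfl⟩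
  · exact absurd rfl hne
  · -- (0,1) = (1,1)
    exact nd_4 T hG hmax e_0_1 e_1_0 cl
  · -- (0,1) = (1,2)
    exact nd_172 T hG hmax e_0_1 e_1_0 cl
  · -- (0,1) = (2,1)
    exact nd_223 T hG hmax e_0_1 e_1_0 cl
  · -- (0,1) = (1,3)
    omega
  · -- (0,1) = (3,1)
    exact nd_325 T hG hmax e_0_1 e_1_0 cl
  · -- (0,1) = (1,4)
    omega
  · -- (0,1) = (4,1)
    exact nd_342 T hG hmax e_0_1 e_1_0 cl
  · -- (0,1) = (2,2)
    exact nd_347 T hG hmax e_0_1 e_1_0 cl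

theorem nd_1 (T : Models.NumericalType 5)
    (hG : NTGood T)
    (hmax : ∀ j, T.m j ≤ T.m 0)
    (cl : ∀ a b : Fin 5, a.val < 0 → 1 ≤ b.val → T.picMatrix a b = 0) :
    Goal T := by
  by_cases hc : ∀ b : Fin 5, 1 ≤ b.val → T.picMatrix 0 b = 0
  · exact nd_2 T hG hmax  (nt_cl_succ T 1 0 0 rfl cl hc)
  · obtain ⟨τ, hfix, cl', z, hne⟩ := nt_wlog_step T 1 (by norm_num) 0 (by norm_num) 0 (by decide) cl hc
    apply goal_relabel T τ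
    refine ex_3 (ntRelabel T τ) (hG.relabel τ) ?_  cl' z hne
    · intro j
      show T.m (τ j) ≤ T.m (τ 0)
      rw [hfix 0 (by decide)]
      exact hmax _

end Groth.Agent.Lib.helper4.G5
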